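import Cfsg.Agent.H245.DG.GTwo
import Cfsg.Agent.H487.Gen.SporRows_mg_m3
import Cfsg.Agent.SporadicB.J1.Main
import Mathlib.Algebra.CharP.CharAndCard
import Mathlib.FieldTheory.Finite.Basic
import Mathlib
import Cfsg.Agent.H137.HermOddTwo
import Cfsg.Agent.H137.Fam
import Cfsg.Agent.H291.DG.InvGen
import Cfsg.Agent.KFacts.RgdFiltClass
import Cfsg.Agent.S2413
import Cfsg.Agent.S2414
import Cfsg.Agent.S2415
import Cfsg.Agent.ClassicalGeometry.Sp4GraphAut
import Cfsg.Agent.S0765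
import Cfsg.Agent.H183.OutSp4
import Cfsg.Agent.H450.GenU.Frame
import Cfsg.Agent.H206.FieldKill
import Cfsg.Agent.H490.Der_m3
import Cfsg.Agent.H136.TwoGen
import Cfsg.Agent.H135.TwoGen
import Cfsg.Agent.H70.OutCount
import Cfsg.Agent.H136.FieldLem
import Cfsg.Agent.H70.OutE
import Cfsg.Agent.ChevalleyStructure.W0E6
import Cfsg.Agent.H137.OrthWeyl
import Cfsg.Agent.H989.OutOrth.Basic
import Cfsg.Agent.LieRecognition.FieldSemilinear
import Cfsg.Agent.H989.OutOrth.Plus
import Cfsg.Agent.H989.OutOrth.Forms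
import Cfsg.Agent.LieClassical.PomegaCard
import Cfsg.Agent.H440.TwoGen.Spor_m3
import Cfsg.Agent.KFacts.FiTF.FrameF
import Cfsg.Agent.H997.OutCard
import Cfsg.Agent.S2079
import Cfsg.Agent.S2081
import Cfsg.Agent.KFacts.RgdLieCharP
import Cfsg.Agent.H248.TitsRGD
import Cfsg.Agent.FastGrp
import Cfsg.Agent.Prune
set_option linter.all false

section
prune_inst 0x7f00000000000000000000000000000000000000000000000000000000000000000000000000000000000000000000000000000000000000000000000000000000000000000000000000000000000000003fffffffffffffffffffffffffffbeffbdffffffff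

section
prune_inst 0xfce8f8a9b829dedfff7e77a690cffc39901fffa6dff943ffe0e1ff0b9f030009c52b8d09e010fe0ed6621410b87843f9fece3fe26bdc7ffffd1ff41ffbee0fe5f7b508519488340fbc0fff03f0778e7f000000000000000000000000000000000000000000

-- part: H891/DG/Tools
section
set_option linter.all false
open scoped Cfsg.Agent.FastGrp

/-!
# TEAM GEN, S4180: tools for `Coh` (helper891)

* `coh_of_involution` : `T = ⟨c, b⟩`, `c` an involution;
* `cohAt_of_coprime_involution` : `T = ⟨A, c⟩`, `A` a `p'`-group, `c` an involution;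
* `cohAt_of_two` : `T = ⟨A, B⟩`, `p'`-groups which intersect nontrivially;
* `cohAt_of_torus`, `cohAt_of_torus'` : `T = ⟨H, u, n⟩`, `⟨H, u n⟩`, `H` a `p'`-group normalised by `n`, `u` centralised by a
  nontrivial subgroup of `H`;
* `cohAt_of_cyclic` : cyclic Sylow `p`-subgroups; `cohAt_of_not_dvd`.
-/

set_option autoImplicit false
set_option linter.unusedSectionVars false

namespace Cfsg.Agent.H891.DG.Tools

open Cfsg.Agent.H440.TwoGen Cfsg.Agent.H891.Gen Cfsg.Agent.H891.DG Cfsg.Agent.H490.Der Subgroup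

universe u v

section General

variable {H V : Type*} [Group H] [AddCommGroup V] [DistribMulAction H V]

/-- derivations `H → V` -/
abbrev Z1 (H V : Type*) [Group H] [AddCommGroup V] [DistribMulAction H V] : Type _ :=
  {z : H → V // ∀ g h : H, z (g * h) = z g + g • z h}

/-- the common kernel of a subgroup -/
def fixed (A : Subgroup H) (V : Type*) [AddCommGroup V] [DistribMulAction H V] : AddSubgroup V where
  carrier := {v | ∀ a ∈ A, a • v = v}
  add_mem' := fun {v w} hv hw a ha => by rw [smul_add, hv a ha, hw a ha]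
  zero_mem' := fun a _ => smul_zero a
  neg_mem' := fun {v} hv a ha => by rw [smul_neg, hv a ha]

/-- two derivations which agree on a subgroup and on a set which generate -/
theorem ext_of {z z' : H → V} (hz : IsDer z) (hz' : IsDer z') {A B : Subgroup H} (h : A ⊔ B = ⊤)
    (hA : ∀ a ∈ A, z a = z' a) (hB : ∀ b ∈ B, z b = z' b) : z = z' := by
  refine IsDer.ext (S := (A : Set H) ∪ B) ?_ hz hz' ?_
  · rw [← h]
    exact (Subgroup.closure_union _ _).trans (by rw [closure_eq, closure_eq])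
  · rintro s (hs | hs)
    · exact hA s hs
    · exact hB s hs

/-- agreement on the closure of a set -/
theorem eqOn_closure {z z' : H → V} (hz : IsDer z) (hz' : IsDer z') {S : Set H} (h : ∀ s ∈ S, z s = z' s) :
    ∀ g ∈ closure S, z g = z' g := by
  intro g hg
  induction hg using Subgroup.closure_induction with
  | mem x hx => exact h x hx
  | one => rw [hz.one, hz'.one]
  | mul x y hx hy ihx ihy => rw [hz, hz', ihx, ihy]
  | inv x hx ihx => rw [hz.inv, hz'.inv, ihx]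

/-- restriction to a `p'`-subgroup is inner -/
theorem exists_inner_sub [Finite H] {p : ℕ} (hp : p.Prime) (hV : ∀ v : V, p • v = 0) {A : Subgroup H}
    (hA : ¬ p ∣ Nat.card A) {z : H → V} (hz : IsDer z) : ∃ u : V, ∀ g ∈ A, z g = u - g • u := by
  obtain ⟨u, hu⟩ := exists_inner (H := ↥A) (V := V) hp hV hA (z := fun a : ↥A => z a)
    (fun g h => hz (g : H) (h : H))
  exact ⟨u, fun g hg => hu ⟨g, hg⟩⟩

theorem small_of_two [Finite H] [Finite V] {p : ℕ} (hp : p.Prime) (hV : ∀ v : V, p • v = 0) {A B : Subgroup H}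
    (hA : ¬ p ∣ Nat.card A) (hB : ¬ p ∣ Nat.card B) (h : A ⊔ B = ⊤) {g : H} (hgA : g ∈ A) (hgB : g ∈ B) {v : V}
    (hv : g • v ≠ v) : Small H V := by
  choose a ha using fun z : Z1 H V => exists_inner_sub hp hV hA z.2
  choose b hb using fun z : Z1 H V => exists_inner_sub hp hV hB z.2
  let F : Z1 H V → V × V := fun z => (a z, b z)
  have hF : Function.Injective F := by
    intro z z' hzz
    simp only [F, Prod.mk.injEq] at hzz
    refine Subtype.ext (ext_of z.2 z'.2 h ?_ ?_)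
    · intro x hx
      rw [ha z x hx, ha z' x hx, hzz.1]
    · intro x hx
      rw [hb z x hx, hb z' x hx, hzz.2]
  have hns : ¬ Function.Surjective F := by
    intro hs
    obtain ⟨z, hz⟩ := hs (v, 0)
    simp only [F, Prod.mk.injEq] at hz
    have h1 := ha z g hgA
    rw [hb z g hgB, hz.1, hz.2, smul_zero, sub_zero] at h1
    exact hv (sub_eq_zero.1 h1.symm).symm
  have h5 : Nat.card (Z1 H V) < Nat.card (V × V) := by
    refine lt_of_le_of_ne (Nat.card_le_card_of_injective F hF) fun h6 => ?_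
    exact hns ((Nat.bijective_iff_injective_and_card F).2 ⟨hF, h6⟩).2
  rw [Nat.card_prod, ← sq] at h5
  exact h5

theorem small_of_coprime_involution [Finite H] [Finite V] {p : ℕ} (hp : p.Prime) (hV : ∀ v : V, p • v = 0)
    {A : Subgroup H} (hA : ¬ p ∣ Nat.card A) {c : H} (hc : c ^ 2 = 1) (h : A ⊔ closure {c} = ⊤) {w : V}
    (hw : w + c • w ≠ 0) : Small H V := by
  choose a ha using fun z : Z1 H V => exists_inner_sub hp hV hA z.2
  let F : Z1 H V → V × V := fun z => (a z, z.1 c)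
  have hF : Function.Injective F := by
    intro z z' hzz
    simp only [F, Prod.mk.injEq] at hzz
    refine Subtype.ext (ext_of z.2 z'.2 h ?_ ?_)
    · intro x hx
      rw [ha z x hx, ha z' x hx, hzz.1]
    · refine eqOn_closure z.2 z'.2 ?_
      rintro s hs
      rw [Set.mem_singleton_iff] at hs
      rw [hs]
      exact hzz.2
  have hns : ¬ Function.Surjective F := by
    intro hs
    obtain ⟨z, hz⟩ := hs (0, w)
    simp only [F, Prod.mk.injEq] at hz
    have h1 := IsDer.norm_eq_zero z.2 hc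
    rw [Finset.sum_range_succ, Finset.sum_range_one, pow_zero, pow_one, one_smul, hz.2] at h1
    exact hw h1
  have h5 : Nat.card (Z1 H V) < Nat.card (V × V) := by
    refine lt_of_le_of_ne (Nat.card_le_card_of_injective F hF) fun h6 => ?_
    exact hns ((Nat.bijective_iff_injective_and_card F).2 ⟨hF, h6⟩).2
  rw [Nat.card_prod, ← sq] at h5
  exact h5

/-- `z` vanishes on `A`, `n` normalises `A`: `z n` is fixed by `A` -/
theorem mem_fixed_of_norm {z : H → V} (hz : IsDer z) {A : Subgroup H} (h0 : ∀ a ∈ A, z a = 0) {n : H}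
    (hn : ∀ a ∈ A, n⁻¹ * a * n ∈ A) : z n ∈ fixed A V := by
  intro a ha
  have h1 : z (a * n) = z (n * (n⁻¹ * a * n)) := by congr 1; group
  rw [hz, hz, h0 a ha, h0 _ (hn a ha), smul_zero, add_zero, zero_add] at h1
  exact h1

theorem small_of_torus [Finite H] [Finite V] {p : ℕ} (hp : p.Prime) (hV : ∀ v : V, p • v = 0)
    {A A₁ : Subgroup H} (hA : ¬ p ∣ Nat.card A) (hA₁ : A₁ ≤ A) {n u : H} (hn : ∀ a ∈ A, n⁻¹ * a * n ∈ A)
    (hu : ∀ a ∈ A₁, a * u = u * a) (h : A ⊔ closure {u, n} = ⊤) {g : H} (hg : g ∈ A₁) {v : V} (hv : g • v ≠ v) :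
    Small H V := by
  classical
  choose a ha using fun z : Z1 H V => exists_inner_sub hp hV hA z.2
  set C := fixed A V with hC
  set D := fixed A₁ V with hD
  -- a representative of the class of `a z` modulo `C`
  let v0 : Z1 H V → V := fun z => Quotient.out (QuotientAddGroup.mk (s := C) (a z))
  have hv0 : ∀ z : Z1 H V, -(a z) + v0 z ∈ C := by
    intro z
    have h1 : (QuotientAddGroup.mk (s := C) (a z)) = QuotientAddGroup.mk (v0 z) := (Quotient.out_eq _).symm
    exact QuotientAddGroup.eq.1 h1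
  have hza : ∀ (z : Z1 H V) (x : H), x ∈ A → z.1 x = v0 z - x • v0 z := by
    intro z x hx
    rw [ha z x hx]
    have h2 := hv0 z x hx
    rw [smul_add, smul_neg, neg_add_eq_sub, neg_add_eq_sub, sub_eq_sub_iff_add_eq_add] at h2
    rw [sub_eq_sub_iff_add_eq_add, add_comm]
    exact h2
  let z' : Z1 H V → H → V := fun z x => z.1 x - (v0 z - x • v0 z)
  have hz' : ∀ z, IsDer (z' z) := fun z => IsDer.sub z.2 (isDer_inner (v0 z))
  have hz0 : ∀ z, ∀ x ∈ A, z' z x = 0 := fun z x hx => sub_eq_zero.2 (hza z x hx)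
  have hn' : ∀ z, z' z n ∈ C := fun z => mem_fixed_of_norm (hz' z) (hz0 z) hn
  have hu' : ∀ z, z' z u ∈ D := fun z => mem_fixed_of_norm (hz' z) (fun x hx => hz0 z x (hA₁ hx)) (fun x hx => by
    have h1 : u⁻¹ * x * u = x := by rw [mul_assoc, hu x hx]; group
    rwa [h1])
  let F : Z1 H V → (V ⧸ C) × C × D := fun z => (QuotientAddGroup.mk (a z), ⟨z' z n, hn' z⟩, ⟨z' z u, hu' z⟩)
  have hF : Function.Injective F := by
    intro z w hzw
    simp only [F, Prod.mk.injEq, Subtype.mk.injEq] at hzw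
    have e0 : v0 z = v0 w := by
      show Quotient.out _ = Quotient.out _
      rw [hzw.1]
    have e1 : z.1 n = w.1 n := by
      have := hzw.2.1
      simp only [z', e0] at this
      exact sub_left_injective this
    have e2 : z.1 u = w.1 u := by
      have := hzw.2.2
      simp only [z', e0] at this
      exact sub_left_injective this
    refine Subtype.ext (ext_of z.2 w.2 h ?_ (eqOn_closure z.2 w.2 ?_))
    · intro x hx
      rw [hza z x hx, hza w x hx, e0]
    · rintro s (rfl | hs)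
      · exact e2
      · rw [Set.mem_singleton_iff] at hs
        rw [hs]
        exact e1
  have h5 : Nat.card (Z1 H V) ≤ Nat.card ((V ⧸ C) × C × D) := Nat.card_le_card_of_injective F hF
  rw [Nat.card_prod, Nat.card_prod, ← mul_assoc, ← AddSubgroup.card_eq_card_quotient_mul_card_addSubgroup C] at h5
  have h6 : Nat.card D < Nat.card V := by
    have h7 : Nat.card D ≤ Nat.card V := Nat.card_le_card_of_injective _ Subtype.val_injective
    refine lt_of_le_of_ne h7 fun h8 => ?_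
    have h9 : D = ⊤ := AddSubgroup.eq_top_of_card_eq D h8
    exact hv ((h9 ▸ AddSubgroup.mem_top v : v ∈ D) g hg)
  have h7 : 0 < Nat.card V := Nat.card_pos
  show Nat.card (Z1 H V) < _
  nlinarith

/-- restriction to a subgroup of index prime to `p` -/
theorem card_le_of_index [Finite H] [Finite V] {p : ℕ} (hp : p.Prime) (hV : ∀ v : V, p • v = 0) (B : Subgroup H)
    (hidx : ¬ p ∣ B.index) : Nat.card (Z1 H V) ≤ Nat.card (Z1 ↥B V) * Nat.card (fixed B V) := by
  classical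
  -- a derivation vanishing on `B` is inner, by a vector fixed by `B`
  have key : ∀ z : H → V, IsDer z → (∀ b ∈ B, z b = 0) → ∃ s : V, s ∈ fixed B V ∧ ∀ g, z g = s - g • s := by
    intro z hz hz0
    let _ := Fintype.ofFinite (H ⧸ B)
    obtain ⟨m, hm⟩ := Cfsg.Agent.H490.Aff.exists_inv_nsmul hp hV hidx
    have hc : ∀ g b : H, b ∈ B → z (g * b) = z g := by
      intro g b hb
      rw [hz, hz0 b hb, smul_zero, add_zero]
    let f : H ⧸ B → V := fun q => Quotient.liftOn' q z (by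
      intro g g' h
      rw [QuotientGroup.leftRel_apply] at h
      have := hc g _ h
      rw [mul_inv_cancel_left] at this
      exact this.symm)
    have hcard : Fintype.card (H ⧸ B) = B.index := by
      rw [← Nat.card_eq_fintype_card]
      rfl
    set S : V := ∑ q : H ⧸ B, f q with hS
    have key : ∀ g : H, g • S = S - B.index • z g := by
      intro g
      rw [hS, Finset.smul_sum]
      have h2 : ∀ q : H ⧸ B, g • f q = f (g • q) - z g := by
        intro q
        induction q using Quotient.inductionOn' with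
        | h x =>
          show g • z x = z (g * x) - z g
          rw [hz]
          abel
      rw [Finset.sum_congr rfl (fun q _ => h2 q), Finset.sum_sub_distrib, Finset.sum_const, Finset.card_univ, hcard]
      congr 1
      exact Fintype.sum_equiv (MulAction.toPerm g) _ _ (fun _ => rfl)
    have e1 : ∀ g, z g = m • S - g • (m • S) := by
      intro g
      rw [smul_comm g m, key g, nsmul_sub, hm]
      abel
    refine ⟨m • S, fun b hb => ?_, e1⟩
    have h1 := e1 b
    rw [hz0 b hb] at h1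
    exact (sub_eq_zero.1 h1.symm).symm
  -- choose a section of the restriction
  let R : Z1 H V → Z1 ↥B V := fun z => ⟨fun b => z.1 b, fun g h => z.2 g h⟩
  let sec : Z1 ↥B V → Z1 H V := fun y => if h : ∃ z, R z = y then h.choose else ⟨0, fun _ _ => by simp⟩
  have hsec : ∀ z, R (sec (R z)) = R z := by
    intro z
    have h : ∃ w, R w = R z := ⟨z, rfl⟩
    simp only [sec, dif_pos h]
    exact h.choose_spec
  have hex : ∀ z : Z1 H V, ∃ s : V, s ∈ fixed B V ∧ ∀ g, z.1 g - (sec (R z)).1 g = s - g • s := by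
    intro z
    refine key _ (IsDer.sub z.2 (sec (R z)).2) fun b hb => ?_
    have h1 := congrFun (congrArg Subtype.val (hsec z)) ⟨b, hb⟩
    exact sub_eq_zero.2 h1.symm
  choose s hs hs' using hex
  let F : Z1 H V → Z1 ↥B V × fixed B V := fun z => (R z, ⟨s z, hs z⟩)
  have hF : Function.Injective F := by
    intro z w hzw
    simp only [F, Prod.mk.injEq, Subtype.mk.injEq] at hzw
    refine Subtype.ext (funext fun g => ?_)
    have h1 := hs' z g
    have h2 := hs' w g
    rw [hzw.1, hzw.2, ← h2] at h1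
    exact sub_left_injective h1
  rw [← Nat.card_prod]
  exact Nat.card_le_card_of_injective F hF

end General

section Simple

variable {T : Type u} [Group T] [Finite T] [IsSimpleGroup T] {p : ℕ}

/-- A nontrivial module of a simple group is faithful. -/
theorem faithful {V : Type*} [AddCommGroup V] [DistribMulAction T V] (h : ∃ (g : T) (v : V), g • v ≠ v) {g : T}
    (hg : g ≠ 1) : ∃ v : V, g • v ≠ v := by
  by_contra hne
  push Not at hne
  let K : Subgroup T :=
    { carrier := {x | ∀ v : V, x • v = v}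
      mul_mem' := fun {a b} ha hb v => by rw [mul_smul, hb, ha]
      one_mem' := fun v => one_smul T v
      inv_mem' := fun {a} ha v => by rw [inv_smul_eq_iff]; exact (ha v).symm }
  have hK : K.Normal := ⟨fun x hx y v => by
    rw [mul_smul, mul_smul, hx, smul_inv_smul]⟩
  rcases hK.eq_bot_or_eq_top with h1 | h1
  · exact hg ((Subgroup.mem_bot).1 (h1 ▸ (show g ∈ K from hne)))
  · obtain ⟨x, v, hx⟩ := h
    exact hx ((h1 ▸ Subgroup.mem_top x : x ∈ K) v)

theorem cohAt_of_not_dvd (hp : p.Prime) (h : ¬ p ∣ Nat.card T) : CohAt p T := by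
  intro V _ _ _ hV hirr hne
  obtain ⟨g, v, hg⟩ := hne
  have : Nontrivial V := ⟨⟨g • v, v, hg⟩⟩
  exact small_of_coprime hp hV h

theorem cohAt_of_cyclic (hp : p.Prime) (P : Sylow p T) (h : IsCyclic ↥P) : CohAt p T := by
  intro V _ _ _ hV hirr hne
  by_cases hpT : p ∣ Nat.card T
  swap
  · exact cohAt_of_not_dvd hp hpT V hV hirr hne
  have : Fact p.Prime := ⟨hp⟩
  have h1 := card_le_of_index (V := V) hp hV (P : Subgroup T) P.not_dvd_index
  obtain ⟨⟨x, hx⟩, hgen⟩ := h.exists_generator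
  have h2 : Nat.card (Z1 ↥(P : Subgroup T) V) ≤ Nat.card V := by
    refine Nat.card_le_card_of_injective (fun z => z.1 ⟨x, hx⟩) fun z w hzw => ?_
    refine Subtype.ext (IsDer.ext (S := {⟨x, hx⟩}) ?_ z.2 w.2 ?_)
    · rw [eq_top_iff]
      intro y _
      rw [← Subgroup.zpowers_eq_closure]
      exact hgen y
    · rintro s hs
      rw [Set.mem_singleton_iff] at hs
      rw [hs]
      exact hzw
  have hP : (P : Subgroup T) ≠ ⊥ := P.ne_bot_of_dvd_card hpT
  have hex : ∃ y ∈ (P : Subgroup T), y ≠ 1 := by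
    by_contra hne'
    push Not at hne'
    exact hP ((Subgroup.eq_bot_iff_forall _).2 hne')
  obtain ⟨y, hy, hy1⟩ := hex
  obtain ⟨v, hv⟩ := faithful hne hy1
  have h6 : Nat.card (fixed (P : Subgroup T) V) < Nat.card V := by
    have h7 : Nat.card (fixed (P : Subgroup T) V) ≤ Nat.card V :=
      Nat.card_le_card_of_injective _ Subtype.val_injective
    refine lt_of_le_of_ne h7 fun h8 => ?_
    have h9 : fixed (P : Subgroup T) V = ⊤ := AddSubgroup.eq_top_of_card_eq _ h8
    exact hv ((h9 ▸ AddSubgroup.mem_top v : v ∈ fixed (P : Subgroup T) V) y hy)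
  have h7 : 0 < Nat.card V := Nat.card_pos
  show Nat.card (Z1 T V) < _
  calc Nat.card (Z1 T V) ≤ _ := h1
    _ ≤ Nat.card V * Nat.card (fixed (P : Subgroup T) V) := Nat.mul_le_mul_right _ h2
    _ < Nat.card V * Nat.card V := Nat.mul_lt_mul_of_pos_left h6 h7
    _ = _ := (sq _).symm

/-- an element `c ≠ 1` does not act as `-1` -/
theorem exists_not_neg (hna : ¬ IsMulCommutative T) {V : Type*} [AddCommGroup V] [DistribMulAction T V]
    (h : ∃ (g : T) (v : V), g • v ≠ v) {c : T} (hc1 : c ≠ 1) : ∃ w : V, w + c • w ≠ 0 := by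
  by_contra hne
  push Not at hne
  have h1 : ∀ w : V, c • w = -w := fun w => (neg_eq_of_add_eq_zero_right (hne w)).symm
  -- `c` is central
  have h2 : c ∈ Subgroup.center T := by
    rw [Subgroup.mem_center_iff]
    intro g
    by_contra h3
    have h4 : g * c * g⁻¹ * c⁻¹ ≠ 1 := by
      intro h5
      apply h3
      rw [mul_inv_eq_one, mul_inv_eq_iff_eq_mul] at h5
      exact h5
    obtain ⟨v, hv⟩ := faithful h h4
    apply hv
    have h6 : c⁻¹ • v = -v := by
      rw [inv_smul_eq_iff, smul_neg, h1, neg_neg]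
    rw [mul_smul, mul_smul, mul_smul, h6, smul_neg, smul_neg, h1, smul_neg, smul_neg, smul_inv_smul, neg_neg]
  have h3 : Subgroup.center T = ⊥ := by
    rcases (inferInstance : (Subgroup.center T).Normal).eq_bot_or_eq_top with h4 | h4
    · exact h4
    · exfalso
      apply hna
      exact ⟨⟨fun a b => ((Subgroup.mem_center_iff.1 (h4 ▸ Subgroup.mem_top a)) b).symm⟩⟩
  rw [h3, Subgroup.mem_bot] at h2
  exact hc1 h2

/-- `T = ⟨c, b⟩` with an involution `c`. -/
theorem coh_of_involution (hna : ¬ IsMulCommutative T) {c b : T} (hc : c ^ 2 = 1) (hc1 : c ≠ 1)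
    (h : closure ({c, b} : Set T) = ⊤) : Coh T := by
  intro p hp V _ _ _ hV hirr hne
  obtain ⟨w, hw⟩ := exists_not_neg hna hne hc1
  refine small_of_norm h hc (v := w) ?_
  rw [Finset.sum_range_succ, Finset.sum_range_one, pow_zero, pow_one, one_smul]
  exact hw

theorem cohAt_of_coprime_involution (hp : p.Prime) (hna : ¬ IsMulCommutative T) {A : Subgroup T} {c : T}
    (hA : ¬ p ∣ Nat.card A) (hc : c ^ 2 = 1) (hc1 : c ≠ 1) (h : A ⊔ closure {c} = ⊤) : CohAt p T := by
  intro V _ _ _ hV hirr hne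
  obtain ⟨w, hw⟩ := exists_not_neg hna hne hc1
  exact small_of_coprime_involution hp hV hA hc h hw

theorem cohAt_of_two (hp : p.Prime) {A B : Subgroup T} (hA : ¬ p ∣ Nat.card A) (hB : ¬ p ∣ Nat.card B)
    (h : A ⊔ B = ⊤) (hAB : A ⊓ B ≠ ⊥) : CohAt p T := by
  intro V _ _ _ hV hirr hne
  have hex : ∃ y ∈ A ⊓ B, y ≠ 1 := by
    by_contra hne'
    push Not at hne'
    exact hAB ((Subgroup.eq_bot_iff_forall _).2 hne')
  obtain ⟨y, hy, hy1⟩ := hex
  obtain ⟨v, hv⟩ := faithful hne hy1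
  exact small_of_two hp hV hA hB h hy.1 hy.2 hv

/-- the torus lemma -/
theorem cohAt_of_torus (hp : p.Prime) {H H₁ : Subgroup T} {n u : T} (hH : ¬ p ∣ Nat.card H)
    (hn : ∀ h ∈ H, n⁻¹ * h * n ∈ H) (hH₁ : H₁ ≤ H) (hne : H₁ ≠ ⊥)
    (hu : ∀ h ∈ H₁, h * u = u * h) (h : H ⊔ closure {u, n} = ⊤) : CohAt p T := by
  intro V _ _ _ hV hirr hne'
  have hex : ∃ y ∈ H₁, y ≠ 1 := by
    by_contra hne''
    push Not at hne''
    exact hne ((Subgroup.eq_bot_iff_forall _).2 hne'')
  obtain ⟨y, hy, hy1⟩ := hex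
  obtain ⟨v, hv⟩ := faithful hne' hy1
  exact small_of_torus hp hV hH hH₁ hn hu h hy hv

theorem cohAt_of_torus' (hp : p.Prime) {H H₁ : Subgroup T} {n u : T} (hH : ¬ p ∣ Nat.card H)
    (hn : ∀ h ∈ H, n⁻¹ * h * n ∈ H) (hH₁ : H₁ ≤ H) (hne : H₁ ≠ ⊥)
    (hu : ∀ h ∈ H₁, h * u = u * h) (h : H ⊔ closure {u * n} = ⊤) : CohAt p T := by
  refine cohAt_of_torus hp hH hn hH₁ hne hu ?_
  rw [eq_top_iff, ← h]
  refine sup_le_sup_left ?_ _
  rw [closure_le]
  rintro _ rfl
  exact mul_mem (subset_closure (by simp)) (subset_closure (by simp))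

end Simple

end Cfsg.Agent.H891.DG.Tools
end

-- part: H569/DG/GenJOne
section
set_option linter.all false
open scoped Cfsg.Agent.FastGrp

/-!
# `J1` is generated by an involution and an element (helper569, for S4180)

`J1 = ⟨(X Y)⁵, X⟩`.
-/

set_option autoImplicit false

namespace Cfsg.Agent.H569.DG

open Cfsg.Agent.SporadicB.J1.Mat Cfsg.Agent.SporadicB.J1.Data Cfsg.Agent.SporadicB.J1.Main
open Cfsg.Spor (J1 jankoX jankoY)

/-- a group generated by an involution and another element -/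
def InvGen (T : Type*) [Group T] : Prop :=
  ∃ c b : T, c ^ 2 = 1 ∧ c ≠ 1 ∧ Subgroup.closure ({c, b} : Set T) = ⊤

theorem InvGen.of_surj {G H : Type*} [Group G] [Group H] (f : H →* G) (hf : Function.Surjective f) {c b : H}
    (hc : c ^ 2 = 1) (hc1 : f c ≠ 1) (h : Subgroup.closure ({c, b} : Set H) = ⊤) : InvGen G := by
  refine ⟨f c, f b, by rw [← map_pow, hc, map_one], hc1, ?_⟩
  have h1 := MonoidHom.map_closure f ({c, b} : Set H)
  rw [h, Set.image_pair, ← MonoidHom.range_eq_map, MonoidHom.range_eq_top.mpr hf] at h1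
  exact h1.symm

theorem InvGen.congr {G H : Type*} [Group G] [Group H] (e : G ≃* H) (h : InvGen H) : InvGen G := by
  obtain ⟨c, b, hc, hc1, h⟩ := h
  refine InvGen.of_surj (e.symm : H →* G) e.symm.surjective hc ?_ h
  intro h1
  exact hc1 (e.symm.map_eq_one_iff.mp h1)

theorem InvGen.of_closure {H : Type*} [Group H] {K : Subgroup H} {c b : H}
    (hc : c ^ 2 = 1) (hc1 : c ≠ 1) (h : Subgroup.closure ({c, b} : Set H) = K) : InvGen K := by
  have ha : c ∈ K := h ▸ Subgroup.subset_closure (Set.mem_insert _ _)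
  have hb : b ∈ K := h ▸ Subgroup.subset_closure (Set.mem_insert_of_mem _ rfl)
  refine ⟨⟨c, ha⟩, ⟨b, hb⟩, Subtype.ext hc, fun h1 => hc1 (congrArg Subtype.val h1), ?_⟩
  apply Subgroup.map_injective K.subtype_injective
  rw [MonoidHom.map_closure, Set.image_pair]
  simp only [Subgroup.coe_subtype]
  rw [h, ← MonoidHom.range_eq_map, Subgroup.range_subtype]

/-- A simple group whose order is not a prime is not commutative. -/
theorem not_comm_of_card {T : Type*} [Group T] [Finite T] [IsSimpleGroup T] {n : ℕ} (hn : Nat.card T = n)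
    (hp : ¬ n.Prime) : ¬ IsMulCommutative T := by
  intro h
  let _ : CommGroup T := { (inferInstance : Group T) with mul_comm := fun a b => h.is_comm.comm a b }
  exact hp (hn ▸ IsSimpleGroup.prime_card (α := T))

namespace JOne

/-- words in `u0`, `X`, `X⁻¹` -/
def wv : List ℕ → J1
  | [] => 1
  | 0 :: w => u0 * wv w
  | 1 :: w => X * wv w
  | _ :: w => X⁻¹ * wv w

/-- their codes -/
def wc : List ℕ → Nat
  | [] => cI
  | 0 :: w => mulC cu0 (wc w)
  | 1 :: w => mulC cX (wc w)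
  | _ :: w => mulC cXi (wc w)

theorem rep_wv : ∀ w : List ℕ, Rep (wv w) (wc w)
  | [] => Rep.one
  | 0 :: w => rep_u0.mul (rep_wv w)
  | 1 :: w => repX.mul (rep_wv w)
  | (_ + 2) :: w => repXi.mul (rep_wv w)

theorem wv_mem : ∀ w : List ℕ, wv w ∈ Subgroup.closure ({u0, X} : Set J1)
  | [] => Subgroup.one_mem _
  | 0 :: w => Subgroup.mul_mem _ (Subgroup.subset_closure (by simp)) (wv_mem w)
  | 1 :: w => Subgroup.mul_mem _ (Subgroup.subset_closure (by simp)) (wv_mem w)
  | (_ + 2) :: w => Subgroup.mul_mem _ (Subgroup.inv_mem _ (Subgroup.subset_closure (by simp))) (wv_mem w)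

/-- the word of `Y` -/
def wY : List ℕ := [2, 2, 0, 2, 2, 2, 0, 2, 2, 2, 0, 2, 2, 0, 2, 2, 0, 2, 0, 2, 2, 0, 2]

theorem wc_Y : wc wY = cY := by decide +kernel

theorem Y_eq : wv wY = Y := (rep_wv wY).eq repY wc_Y

theorem closure_XY : Subgroup.closure ({X, Y} : Set J1) = ⊤ := by
  apply Subgroup.map_injective J1.subtype_injective
  rw [MonoidHom.map_closure, Set.image_pair, ← MonoidHom.range_eq_map, Subgroup.range_subtype]
  rfl

theorem closure_uX : Subgroup.closure ({u0, X} : Set J1) = ⊤ := by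
  rw [eq_top_iff, ← closure_XY, Subgroup.closure_le]
  rintro _ (rfl | rfl)
  · exact Subgroup.subset_closure (by simp)
  · exact Y_eq ▸ wv_mem wY

theorem u0_sq : u0 ^ 2 = 1 := by
  rw [pow_two]
  exact (rep_u0.mul rep_u0).eq Rep.one (ce_sq 1)

theorem u0_ne : u0 ≠ 1 := rep_u0.ne Rep.one (by decide +kernel)

theorem invGen : InvGen J1 := ⟨u0, X, u0_sq, u0_ne, closure_uX⟩

end JOne

/-- **`J1` is generated by an involution and another element.** -/
theorem invGen_j1 {T : Type*} [Group T] (h : Cfsg.Spor.IsoJ1 T) : InvGen T := by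
  obtain ⟨e⟩ := h
  exact JOne.invGen.congr e

theorem notComm_j1 {T : Type*} [Group T] [Finite T] [IsSimpleGroup T] (h : Cfsg.Spor.IsoJ1 T) :
    ¬ IsMulCommutative T := by
  obtain ⟨e⟩ := h
  exact not_comm_of_card (n := 175560) ((Nat.card_congr e.toEquiv).trans isJ1.2) (by norm_num)

end Cfsg.Agent.H569.DG
end

-- part: H288/DG/Torus
section
set_option linter.all false
open scoped Cfsg.Agent.FastGrp

/-!
# TEAM GEN: few derivations from a torus and an element `u n` (helper288, for S4180)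

`T = ⟨H, u n⟩`, `H` a `p'`-group normalised by `n`.  There are fewer than `|V| ^ 2` derivations if
* `p = 2` and `u` is an involution (`cohAt_two`), or
* `u` is centralised by a nontrivial element of `H` (`cohAt_torus`).
-/

set_option autoImplicit false
set_option linter.unusedSectionVars false

namespace Cfsg.Agent.H288.DG

open Cfsg.Agent.H440.TwoGen Cfsg.Agent.H891.Gen Cfsg.Agent.H891.DG Cfsg.Agent.H490.Der Subgroup

universe u

section

variable {T V : Type*} [Group T] [AddCommGroup V] [DistribMulAction T V]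

/-- the fixed vectors of a subgroup -/
def fixV (H : Subgroup T) (V : Type*) [AddCommGroup V] [DistribMulAction T V] : AddSubgroup V where
  carrier := {v | ∀ h ∈ H, h • v = v}
  add_mem' := fun {a b} ha hb h hh => by rw [smul_add, ha h hh, hb h hh]
  zero_mem' := fun h _ => smul_zero h
  neg_mem' := fun {a} ha h hh => by rw [smul_neg, ha h hh]

/-- **The counting lemma.** -/
theorem small_of_torus [Finite T] [Finite V] {p : ℕ} (hp : p.Prime) (hV : ∀ v : V, p • v = 0) {H : Subgroup T}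
    (hH : ¬ p ∣ Nat.card H) {n u : T} (hn : ∀ h ∈ H, n * h * n⁻¹ ∈ H) (hgen : H ⊔ closure {u * n} = ⊤)
    {W : Set V} (hW : W ≠ Set.univ) (hu : ∀ z : T → V, IsDer z → (∀ h ∈ H, z h = 0) → z u ∈ W) : Small T V := by
  classical
  set C := fixV H V with hC
  -- conjugation by `n` permutes `H`
  have hn' : ∀ h ∈ H, ∃ h' ∈ H, n * h' * n⁻¹ = h := by
    have h1 : H.map (MulAut.conj n).toMonoidHom = H := by
      refine eq_of_le_of_card_ge ?_ (le_of_eq (card_map_of_injective (MulAut.conj n).injective).symm)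
      rintro _ ⟨h, hh, rfl⟩
      exact hn h hh
    intro h hh
    rw [← h1] at hh
    obtain ⟨h', hh', e⟩ := hh
    exact ⟨h', hh', e⟩
  -- a vector for every derivation
  have key : ∀ z : {z : T → V // ∀ g h : T, z (g * h) = z g + g • z h}, ∃ v : V, ∀ h ∈ H, z.1 h = v - h • v := by
    intro z
    obtain ⟨v, hv⟩ := exists_inner (H := H) hp hV hH (z := fun h => z.1 h) (fun g h => z.2 g h)
    exact ⟨v, fun h hh => hv ⟨h, hh⟩⟩
  choose σ hσ using key
  -- the canonical representative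
  set τ : {z : T → V // ∀ g h : T, z (g * h) = z g + g • z h} → V := fun z =>
    Quotient.out (QuotientAddGroup.mk (s := C) (σ z)) with hτdef
  have hτC : ∀ z, σ z - τ z ∈ C := by
    intro z
    have h1 : (QuotientAddGroup.mk (s := C) (τ z)) = QuotientAddGroup.mk (s := C) (σ z) := Quotient.out_eq' _
    have h2 := QuotientAddGroup.eq.1 h1
    rwa [neg_add_eq_sub] at h2
  have hτ : ∀ z, ∀ h ∈ H, z.1 h = τ z - h • τ z := by
    intro z h hh
    have h1 : h • σ z - h • τ z = σ z - τ z := by rw [← smul_sub]; exact hτC z h hh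
    rw [hσ z h hh, sub_eq_sub_iff_sub_eq_sub]
    exact h1.symm
  let z0 : {z : T → V // ∀ g h : T, z (g * h) = z g + g • z h} → T → V := fun z g => z.1 g - (τ z - g • τ z)
  have hz0 : ∀ z, IsDer (z0 z) := fun z => IsDer.sub z.2 (isDer_inner _)
  have hz0H : ∀ z, ∀ h ∈ H, z0 z h = 0 := fun z h hh => by
    show z.1 h - (τ z - h • τ z) = 0
    rw [hτ z h hh, sub_self]
  have hz0n : ∀ z, z0 z n ∈ C := by
    intro z h hh
    obtain ⟨h', hh', e⟩ := hn' h hh
    have h1 : z0 z (n * h') = z0 z n := by rw [hz0 z, hz0H z h' hh', smul_zero, add_zero]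
    have h2 : z0 z (h * n) = h • z0 z n := by rw [hz0 z, hz0H z h hh, zero_add]
    rw [← h2, ← h1]
    congr 1
    rw [← e]; group
  let F : {z : T → V // ∀ g h : T, z (g * h) = z g + g • z h} → (V ⧸ C) × (W × C) := fun z =>
    (QuotientAddGroup.mk (s := C) (σ z), (⟨z0 z u, hu _ (hz0 z) (hz0H z)⟩, ⟨z0 z n, hz0n z⟩))
  have hF : Function.Injective F := by
    intro z z' h
    have h1 : (QuotientAddGroup.mk (s := C) (σ z)) = QuotientAddGroup.mk (s := C) (σ z') := congrArg Prod.fst h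
    have h2 : z0 z u = z0 z' u := congrArg (fun x => ((x.2.1 : W) : V)) h
    have h3 : z0 z n = z0 z' n := congrArg (fun x => ((x.2.2 : C) : V)) h
    have h4 : τ z = τ z' := by
      show Quotient.out _ = Quotient.out _
      rw [h1]
    have h5 : z0 z = z0 z' := by
      refine IsDer.ext (S := (H : Set T) ∪ {u * n}) ?_ (hz0 z) (hz0 z') ?_
      · rw [Subgroup.closure_union, Subgroup.closure_eq]
        exact hgen
      · rintro s (hs | hs)
        · rw [hz0H z s hs, hz0H z' s hs]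
        · rw [Set.mem_singleton_iff] at hs
          rw [hs, hz0 z, hz0 z', h2, h3]
    apply Subtype.ext
    funext g
    have h6 := congrFun h5 g
    have h7 : z.1 g - (τ z - g • τ z) = z'.1 g - (τ z' - g • τ z') := h6
    rw [h4] at h7
    exact sub_left_injective h7
  have hcard := Nat.card_le_card_of_injective F hF
  rw [Nat.card_prod, Nat.card_prod] at hcard
  have h1 : Nat.card W < Nat.card V := by
    have h2 : (W : Set V).ncard < (Set.univ : Set V).ncard := Set.ncard_lt_ncard (Set.ssubset_univ_iff.2 hW)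
    rwa [Set.ncard_univ] at h2
  have h2 : Nat.card (V ⧸ C) * Nat.card C = Nat.card V := (AddSubgroup.card_eq_card_quotient_mul_card_addSubgroup C).symm
  have h3 : 0 < Nat.card V := Nat.card_pos
  show Nat.card {z : T → V // ∀ g h : T, z (g * h) = z g + g • z h} < Nat.card V ^ 2
  calc Nat.card {z : T → V // ∀ g h : T, z (g * h) = z g + g • z h}
      ≤ Nat.card (V ⧸ C) * (Nat.card W * Nat.card C) := hcard
    _ = Nat.card W * (Nat.card (V ⧸ C) * Nat.card C) := by ring
    _ = Nat.card W * Nat.card V := by rw [h2]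
    _ < Nat.card V * Nat.card V := Nat.mul_lt_mul_of_pos_right h1 h3
    _ = Nat.card V ^ 2 := by ring

end

variable {T : Type u} [Group T] [Finite T] [IsSimpleGroup T] {p : ℕ}

/-- nontrivial modules of simple groups are faithful -/
theorem exists_moved {V : Type*} [AddCommGroup V] [DistribMulAction T V] (h : ∃ (g : T) (v : V), g • v ≠ v) {t : T}
    (ht : t ≠ 1) : ∃ v : V, t • v ≠ v := by
  by_contra hcon
  push Not at hcon
  let N : Subgroup T :=
    { carrier := {g | ∀ v : V, g • v = v}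
      one_mem' := fun v => one_smul T v
      mul_mem' := fun {a b} ha hb v => by rw [mul_smul, hb v, ha v]
      inv_mem' := fun {a} ha v => by rw [inv_smul_eq_iff, ha v] }
  have hN : N.Normal := by
    refine ⟨fun x hx g v => ?_⟩
    rw [mul_smul, mul_smul, hx (g⁻¹ • v), smul_inv_smul]
  obtain ⟨g, v, hg⟩ := h
  rcases hN.eq_bot_or_eq_top with h1 | h1
  · exact ht ((mem_bot).1 (h1 ▸ (show t ∈ N from hcon)))
  · have h2 : g ∈ N := h1 ▸ mem_top g
    exact hg (h2 v)

/-- `p = 2`, `u` an involution -/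
theorem cohAt_two {H : Subgroup T} (hH : Odd (Nat.card H)) {n u : T} (hn : ∀ h ∈ H, n * h * n⁻¹ ∈ H)
    (hu : u ^ 2 = 1) (hu1 : u ≠ 1) (hgen : H ⊔ closure {u * n} = ⊤) : CohAt 2 T := by
  intro V _ _ _ hV _ hne
  obtain ⟨v, hv⟩ := exists_moved hne hu1
  refine small_of_torus Nat.prime_two hV (by rw [Nat.two_dvd_ne_zero, Nat.odd_iff.1 hH]) hn hgen
    (W := {v | u • v = v}) (fun h => hv ((Set.ext_iff.1 h v).2 (Set.mem_univ v))) (fun z hz _ => ?_)
  have h1 : z (u * u) = 0 := by rw [← sq, hu, hz.one]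
  rw [hz] at h1
  have h2 := hV (z u)
  rw [two_nsmul] at h2
  exact add_left_cancel (h1.trans h2.symm)

/-- `u` centralised by `t ∈ H`, `t ≠ 1` -/
theorem cohAt_torus (hp : p.Prime) {H : Subgroup T} (hH : ¬ p ∣ Nat.card H) {n u t : T}
    (hn : ∀ h ∈ H, n * h * n⁻¹ ∈ H) (ht : t ∈ H) (ht1 : t ≠ 1) (htu : t * u = u * t)
    (hgen : H ⊔ closure {u * n} = ⊤) : CohAt p T := by
  intro V _ _ _ hV _ hne
  obtain ⟨v, hv⟩ := exists_moved hne ht1
  refine small_of_torus hp hV hH hn hgen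
    (W := {v | t • v = v}) (fun h => hv ((Set.ext_iff.1 h v).2 (Set.mem_univ v))) (fun z hz hzH => ?_)
  have h1 : z (t * u) = t • z u := by rw [hz, hzH t ht, zero_add]
  have h2 : z (u * t) = z u := by rw [hz, hzH t ht, smul_zero, add_zero]
  show t • z u = z u
  rw [← h1, htu, h2]

/-- the data for the two lemmas -/
def Tor (p : ℕ) (G : Type*) [Group G] : Prop :=
  ∃ (H : Subgroup G) (n u : G), ¬ p ∣ Nat.card H ∧ (∀ h ∈ H, n * h * n⁻¹ ∈ H) ∧ H ⊔ closure {u * n} = ⊤ ∧
    ((p = 2 ∧ u ^ 2 = 1 ∧ u ≠ 1) ∨ ∃ t ∈ H, t ≠ 1 ∧ t * u = u * t)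

theorem Tor.congr {G K : Type*} [Group G] [Group K] (e : G ≃* K) (h : Tor p G) : Tor p K := by
  obtain ⟨H, n, u, h1, h2, h3, h4⟩ := h
  refine ⟨H.map e.toMonoidHom, e n, e u, ?_, ?_, ?_, ?_⟩
  · rwa [card_map_of_injective e.injective]
  · rintro _ ⟨h, hh, rfl⟩
    refine ⟨n * h * n⁻¹, h2 h hh, ?_⟩
    show e (n * h * n⁻¹) = e n * e h * (e n)⁻¹
    rw [map_mul, map_mul, map_inv]
  · have h5 : (H ⊔ closure {u * n}).map e.toMonoidHom = ⊤ := by
      rw [h3, ← MonoidHom.range_eq_map]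
      exact MonoidHom.range_eq_top.2 e.surjective
    rw [Subgroup.map_sup, MonoidHom.map_closure, Set.image_singleton] at h5
    rw [← map_mul]
    exact h5
  · rcases h4 with ⟨hp, h5, h6⟩ | ⟨t, ht, h5, h6⟩
    · refine Or.inl ⟨hp, by rw [← map_pow, h5, map_one], fun h => h6 (e.injective (by rw [h, map_one]))⟩
    · refine Or.inr ⟨e t, ⟨t, ht, rfl⟩, fun h => h5 (e.injective (by rw [h, map_one])), ?_⟩
      rw [← map_mul, ← map_mul, h6]

theorem cohAt_of_tor (hp : p.Prime) (h : Tor p T) : CohAt p T := by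
  obtain ⟨H, n, u, h1, h2, h3, h4⟩ := h
  rcases h4 with ⟨rfl, h5, h6⟩ | ⟨t, ht, h5, h6⟩
  · exact cohAt_two (by rwa [Nat.two_dvd_ne_zero, ← Nat.odd_iff] at h1) h2 h5 h6 h3
  · exact cohAt_torus hp h1 h2 ht h5 h6 h3

/-- `T` is generated by an involution and another element -/
def InvGen (G : Type*) [Group G] : Prop := ∃ c b : G, c ^ 2 = 1 ∧ c ≠ 1 ∧ closure {c, b} = ⊤

theorem InvGen.congr {G K : Type*} [Group G] [Group K] (e : G ≃* K) (h : InvGen G) : InvGen K := by
  obtain ⟨c, b, h1, h2, h3⟩ := h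
  refine ⟨e c, e b, by rw [← map_pow, h1, map_one], fun h => h2 (e.injective (by rw [h, map_one])), ?_⟩
  have h5 : (closure {c, b}).map e.toMonoidHom = ⊤ := by
    rw [h3, ← MonoidHom.range_eq_map]
    exact MonoidHom.range_eq_top.2 e.surjective
  rw [MonoidHom.map_closure, Set.image_pair] at h5
  exact h5

theorem coh_of_invGen (hna : ¬ IsMulCommutative T) (h : InvGen T) : Coh T := by
  obtain ⟨c, b, hc, hc1, hcb⟩ := h
  intro p hp V _ _ _ hV _ hne
  have hnz : ∃ v : V, v + c • v ≠ 0 := by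
    by_contra hcon
    push Not at hcon
    -- `c` acts as `-1`
    have hneg : ∀ v : V, c • v = -v := fun v => (neg_eq_of_add_eq_zero_right (hcon v)).symm
    apply hna
    have hcc : ∀ g : T, g * c = c * g := by
      intro g
      by_contra h0
      have h1 : g * c * g⁻¹ * c⁻¹ ≠ 1 := by
        intro h2
        apply h0
        rw [mul_inv_eq_one] at h2
        exact mul_inv_eq_iff_eq_mul.1 h2
      obtain ⟨v, hv⟩ := exists_moved hne h1
      apply hv
      have h2 : c⁻¹ • v = -v := by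
        rw [inv_smul_eq_iff, smul_neg, hneg, neg_neg]
      rw [mul_smul, mul_smul, mul_smul, h2, hneg, smul_neg, smul_inv_smul, neg_neg]
    have hcen : c ∈ center T := mem_center_iff.2 hcc
    have htop : center T = ⊤ := by
      rcases (inferInstance : (center T).Normal).eq_bot_or_eq_top with h1 | h1
      · rw [h1, mem_bot] at hcen
        exact absurd hcen hc1
      · exact h1
    refine ⟨⟨fun a b => ?_⟩⟩
    exact mem_center_iff.1 (htop ▸ mem_top b : b ∈ center T) a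
  obtain ⟨v, hv⟩ := hnz
  refine small_of_norm hcb (n := 2) hc (v := v) ?_
  rw [Finset.sum_range_succ, Finset.sum_range_one, pow_zero, pow_one, one_smul]
  exact hv

end Cfsg.Agent.H288.DG
end

-- part: H288/DG/Tw
section
set_option linter.all false
open scoped Cfsg.Agent.FastGrp

/-!
# TEAM GEN: the torus data of a subgroup of a linear group (helper288, for S4180)
-/

set_option autoImplicit false
set_option linter.unusedSectionVars false

namespace Cfsg.Agent.H288.DG.Tw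

open Cfsg.Agent.H288.DG

/-- a group of exponent dividing `|F| - 1` has order prime to the characteristic -/
theorem not_dvd_of_exp {F : Type*} [Field F] [Fintype F] (p : ℕ) [CharP F p] {X : Type*} [Group X] [Finite X]
    (H : Subgroup X) (h : ∀ g ∈ H, g ^ (Fintype.card F - 1) = 1) : ¬ p ∣ Nat.card ↥H := by
  have hp : p.Prime := CharP.char_is_prime F p
  have : Fact p.Prime := ⟨hp⟩
  intro hd
  obtain ⟨g, hg⟩ := exists_prime_orderOf_dvd_card' (G := ↥H) p hd
  have h1 : g ^ (Fintype.card F - 1) = 1 := Subtype.ext (h g.1 g.2)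
  have h3 := orderOf_dvd_of_pow_eq_one h1
  rw [hg] at h3
  have h4 : p ∣ Fintype.card F := (CharP.cast_eq_zero_iff F p _).1 (Nat.cast_card_eq_zero F)
  have h5 : 0 < Fintype.card F := Fintype.card_pos
  have h6 : p ∣ 1 := by
    have := Nat.dvd_sub h4 h3
    have e : Fintype.card F - (Fintype.card F - 1) = 1 := by omega
    rwa [e] at this
  exact hp.one_lt.ne' (Nat.dvd_one.1 h6)

/-- the subgroup `H ⊔ ⟨u n⟩` of the ambient group -/
theorem top_of_le {X : Type*} [Group X] {S : Subgroup X} {H : Subgroup ↥S} {g : ↥S}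
    (h : S ≤ (H ⊔ Subgroup.closure {g}).map S.subtype) : H ⊔ Subgroup.closure {g} = ⊤ := by
  rw [eq_top_iff]
  intro x _
  obtain ⟨y, hy, e⟩ := h x.2
  have : y = x := Subtype.ext e
  rwa [this] at hy

/-- the torus data of a subgroup `S`: `A` is the torus of the ambient group -/
theorem tor_sub {p : ℕ} {X : Type*} [Group X] {S A : Subgroup X} {n u : X} (hA : ¬ p ∣ Nat.card ↥A)
    (hn : ∀ a ∈ A, n * a * n⁻¹ ∈ A) (hnS : n ∈ S) (huS : u ∈ S)
    (hgen : ∀ M : Subgroup X, A ⊓ S ≤ M → u * n ∈ M → S ≤ M)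
    (h : (p = 2 ∧ u ^ 2 = 1 ∧ u ≠ 1) ∨ ∃ t ∈ A, t ∈ S ∧ t ≠ 1 ∧ t * u = u * t) : Tor p ↥S := by
  refine ⟨(A ⊓ S).subgroupOf S, ⟨n, hnS⟩, ⟨u, huS⟩, ?_, ?_, ?_, ?_⟩
  · rw [Nat.card_congr (Subgroup.subgroupOfEquivOfLe (inf_le_right : A ⊓ S ≤ S)).toEquiv]
    intro hd
    exact hA (hd.trans (Subgroup.card_dvd_of_le inf_le_left))
  · intro h hh
    rw [Subgroup.mem_subgroupOf] at hh ⊢
    exact ⟨hn _ hh.1, S.mul_mem (S.mul_mem hnS h.2) (S.inv_mem hnS)⟩
  · apply top_of_le
    apply hgen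
    · intro x hx
      exact ⟨⟨x, hx.2⟩, Subgroup.mem_sup_left (Subgroup.mem_subgroupOf.2 hx), rfl⟩
    · exact ⟨⟨u, huS⟩ * ⟨n, hnS⟩, Subgroup.mem_sup_right (Subgroup.subset_closure rfl), rfl⟩
  · rcases h with ⟨h1, h2, h3⟩ | ⟨t, ht, htS, h2, h3⟩
    · exact Or.inl ⟨h1, Subtype.ext h2, fun h => h3 (congrArg Subtype.val h)⟩
    · exact Or.inr ⟨⟨t, htS⟩, Subgroup.mem_subgroupOf.2 ⟨ht, htS⟩, fun h => h2 (congrArg Subtype.val h),
        Subtype.ext h3⟩

end Cfsg.Agent.H288.DG.Tw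
end

-- part: H911/DG/PsuEven
section
set_option linter.all false
open scoped Cfsg.Agent.FastGrp

-- part: H911/DG/PsuTor
section
/-!
# TEAM GEN, S4180: diagonal subgroups of `SU` (helper911)

`Tz v`: the elements of `SU n F q` for which all `v i` are eigenvectors.
-/

set_option autoImplicit false

namespace Cfsg.Agent.H911.DG

open Cfsg Cfsg.Agent.LieClassical.HermBasic Cfsg.Agent.LieClassical.HermSiegel
  Cfsg.Agent.LieClassical.HermGen Cfsg.Agent.H137.Herm Matrix

section Tz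

variable {F : Type*} [Field F] {q n : ℕ} {ι : Type}

theorem act_inv_of {g : SU n F q} {x y : Fin n → F} {a : F} (ha : a ≠ 0) (h : act g x = a • y) :
    act g⁻¹ y = a⁻¹ • x := by
  have h1 : act g⁻¹ (a • y) = x := by rw [← h, act_inv_act]
  rw [act_smul] at h1
  rw [← h1, smul_smul, inv_mul_cancel₀ ha, one_smul]

/-- The diagonal elements with respect to a frame. -/
def Tz (v : ι → Fin n → F) : Subgroup (SU n F q) where
  carrier := {g | ∀ i, ∃ a : F, a ≠ 0 ∧ act g (v i) = a • v i}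
  one_mem' := fun i => ⟨1, one_ne_zero, by rw [act_one, one_smul]⟩
  mul_mem' := by
    intro g h hg hh i
    obtain ⟨a, ha, ha'⟩ := hg i
    obtain ⟨b, hb, hb'⟩ := hh i
    exact ⟨b * a, mul_ne_zero hb ha, by rw [act_mul, hb', act_smul, ha', smul_smul]⟩
  inv_mem' := by
    intro g hg i
    obtain ⟨a, ha, ha'⟩ := hg i
    exact ⟨a⁻¹, inv_ne_zero ha, act_inv_of ha ha'⟩

variable {v : ι → Fin n → F} {w : SU n F q} {γ : ι → F}

theorem Tz_conj' (π : Equiv.Perm ι) (hγ : ∀ i, γ i ≠ 0) (hw : ∀ i, act w (v i) = γ i • v (π i)) :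
    ∀ h ∈ (Tz v : Subgroup (SU n F q)), w⁻¹ * h * w ∈ (Tz v : Subgroup (SU n F q)) := by
  intro h hh i
  obtain ⟨a, ha, ha'⟩ := hh (π i)
  refine ⟨a, ha, ?_⟩
  have h1 := act_conj_eig (inv_ne_zero (hγ i)) (act_inv_of (hγ i) (hw i)) ha'
  rwa [inv_inv] at h1

/-- An element with different eigenvalues on `x` and `w x` is not central. -/
theorem not_mem_center {h w : SU n F q} {x y : Fin n → F} {a b g : F} (hy : y ≠ 0) (hg : g ≠ 0)
    (hw : act w x = g • y) (hx : act h x = a • x) (hy' : act h y = b • y) (hab : a ≠ b) :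
    h ∉ Subgroup.center (SU n F q) := by
  intro hc
  have h1 := congrArg (fun t => act t x) (Subgroup.mem_center_iff.1 hc w)
  simp only [act_mul, hw, hx, act_smul, hy', smul_smul] at h1
  have h2 : (a * g - g * b) • y = 0 := by rw [sub_smul, h1, sub_self]
  rcases smul_eq_zero.1 h2 with h3 | h3
  · apply hab
    have h4 : (a - b) * g = 0 := by linear_combination h3
    rcases mul_eq_zero.1 h4 with h5 | h5
    · exact sub_eq_zero.1 h5
    · exact absurd h5 hg
  · exact hy h3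

end Tz

section Cop

variable {F : Type*} [Field F] [Fintype F] {q n : ℕ} {ι : Type} [DecidableEq ι] [Fintype ι]
  {σ : ι → ι} {v : ι → Fin n → F}

theorem eq_one_of_pow_char {p : ℕ} (hp : p.Prime) [CharP F p] {a : F} (h : a ^ p = 1) : a = 1 := by
  have : Fact p.Prime := ⟨hp⟩
  have h1 : (a - 1) ^ p = 0 := by rw [sub_pow_char, h, one_pow, sub_self]
  exact sub_eq_zero.1 (eq_zero_of_pow_eq_zero h1)

theorem eq_one_of_Tz (W : Witt q σ v) (hc : Fintype.card ι = n) {p : ℕ} (hp : p.Prime) [CharP F p]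
    {g : SU n F q} (hg : g ∈ (Tz v : Subgroup (SU n F q))) (hgp : g ^ p = 1) : g = 1 := by
  apply W.ext hc
  intro i
  obtain ⟨a, ha, hga⟩ := hg i
  have h1 := act_pow_eig hga p
  rw [hgp, act_one] at h1
  have hv0 : v i ≠ 0 := by
    intro h0
    have h2 := W.gram i (σ i)
    rw [if_pos rfl, h0, herm_zero_left] at h2
    exact zero_ne_one h2
  have h2 : (a ^ p - 1) • v i = 0 := by rw [sub_smul, ← h1, one_smul, sub_self]
  have h3 : a ^ p = 1 := by
    rcases smul_eq_zero.1 h2 with h | h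
    · exact sub_eq_zero.1 h
    · exact absurd h hv0
  rw [hga, eq_one_of_pow_char hp h3, one_smul, act_one]

theorem Tz_coprime (W : Witt q σ v) (hc : Fintype.card ι = n) {p : ℕ} (hp : p.Prime) [CharP F p] :
    ¬ p ∣ Nat.card (Tz v : Subgroup (SU n F q)) := by
  intro h
  have : Fact p.Prime := ⟨hp⟩
  obtain ⟨g, hg⟩ := exists_prime_orderOf_dvd_card' p h
  have hgp : (g : SU n F q) ^ p = 1 := by
    have := pow_orderOf_eq_one g
    rw [hg] at this
    exact_mod_cast congrArg Subtype.val this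
  have h1 : g = 1 := Subtype.ext (eq_one_of_Tz W hc hp g.2 hgp)
  rw [h1, orderOf_one] at hg
  exact hp.one_lt.ne hg

end Cop

/-! ### Elements of small fields -/

section Field

variable {F : Type*} [Field F] [Fintype F] {q : ℕ}

/-- A generator of the multiplicative group of the subfield with `q` elements. -/
theorem exists_sub_gen (hF : Fintype.card F = q ^ 2) : ∃ s : F, s ≠ 0 ∧ s ^ q = s ∧
    ∀ k : ℕ, 0 < k → k < q - 1 → s ^ k ≠ 1 := by
  obtain ⟨z, hz0, hz1, hz2⟩ := exists_gen hF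
  have hq2 : z ^ (q ^ 2) = z := by rw [← hF]; exact FiniteField.pow_card z
  refine ⟨z ^ (q + 1), pow_ne_zero _ hz0, ?_, ?_⟩
  · rw [← pow_mul, add_mul, one_mul, ← pow_two, pow_add, hq2, pow_succ, mul_comm]
  · intro k hk hk' h
    rw [← pow_mul] at h
    have h2 : 2 ≤ q := two_le hF
    obtain ⟨r, rfl⟩ : ∃ r, q = r + 1 := ⟨q - 1, by omega⟩
    refine hz2 ((r + 1 + 1) * k) (by positivity) ?_ h
    have h3 : k + 1 ≤ r := by omega
    have h4 : (r + 1 + 1) * (k + 1) ≤ (r + 1 + 1) * r := Nat.mul_le_mul_left _ h3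
    have h5 : (r + 1) ^ 2 - 1 = (r + 1 + 1) * r := by
      have : (r + 1) ^ 2 = (r + 1 + 1) * r + 1 := by ring
      omega
    rw [h5]
    have h6 : (r + 1 + 1) * (k + 1) = (r + 1 + 1) * k + (r + 1 + 1) := by ring
    omega

theorem exists_sub_ne_one (hF : Fintype.card F = q ^ 2) (hq : 3 ≤ q) : ∃ s : F, s ≠ 0 ∧ s ^ q = s ∧ s ≠ 1 := by
  obtain ⟨s, h0, h1, h2⟩ := exists_sub_gen hF
  exact ⟨s, h0, h1, by have := h2 1 one_pos (by omega); rwa [pow_one] at this⟩

theorem exists_sub_sq_ne_one (hF : Fintype.card F = q ^ 2) (hq : 4 ≤ q) :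
    ∃ s : F, s ≠ 0 ∧ s ^ q = s ∧ s ^ 2 ≠ 1 := by
  obtain ⟨s, h0, h1, h2⟩ := exists_sub_gen hF
  exact ⟨s, h0, h1, h2 2 two_pos (by omega)⟩

end Field

end Cfsg.Agent.H911.DG
end

-- part: H911/DG/PsuEven
section
/-!
# TEAM GEN, S4180: `SU` in even dimension is generated by the diagonal subgroup, a Siegel element and a
Weyl element; a diagonal element commuting with the Siegel element (helper911)
-/

set_option autoImplicit false

namespace Cfsg.Agent.H911.DG

open Cfsg Cfsg.Agent.LieClassical.HermBasic Cfsg.Agent.LieClassical.HermSiegel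
  Cfsg.Agent.LieClassical.HermGen Cfsg.Agent.H137.Herm Matrix

variable {F : Type*} [Field F] [Fintype F] {q n : ℕ}

/-- A Siegel element commutes with elements having suitable eigenvalues. -/
theorem comm_of_eig {hF : Fintype.card F = q ^ 2} {u r : Fin n → F} {μ : F} (hk : IsSiegel q u r μ)
    {h : SU n F q} {s t : F} (hs : act h u = s • u) (ht : act h r = t • r) (h1 : s ^ q * t = 1)
    (h2 : s * s ^ q * μ = μ) (h3 : t * t ^ q = 1 ∨ (μ = 0 ∧ hermForm n F q r r = 0)) :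
    h * siegel hF u r μ hk = siegel hF u r μ hk * h := by
  have hSt : SE hF (siegel hF u r μ hk) u r μ := ⟨hk, rfl⟩
  have h4 := (hSt.conj_eig hs ht h3).congr rfl (by rw [h1, one_smul]) h2
  obtain ⟨k, h4⟩ := h4
  exact mul_inv_eq_iff_eq_mul.1 h4

section Even

variable {m : ℕ} [NeZero m] [NeZero (2 * m)] {v : ZMod (2 * m) → Fin (2 * m) → F}

theorem exists_two (hF : Fintype.card F = q ^ 2) (W : Witt q (fun j => j + (m : ZMod (2 * m))) v)
    (i0 i1 : ZMod (2 * m)) {a b : F} (ha : a ≠ 0) (hb : b ≠ 0) (hab : a * b = a ^ q * b ^ q) :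
    ∃ S : SU (2 * m) F q, S ∈ (Tz v : Subgroup (SU (2 * m) F q)) ∧
      ∀ j, act S (v j) = (dg i0 a (a ^ q)⁻¹ j * dg i1 b (b ^ q)⁻¹ j) • v j := by
  have hc : Fintype.card (ZMod (2 * m)) = 2 * m := ZMod.card _
  have haq : a ^ q ≠ 0 := pow_ne_zero _ ha
  have hbq : b ^ q ≠ 0 := pow_ne_zero _ hb
  obtain ⟨S, hS⟩ : ∃ S : SU (2 * m) F q, ∀ j, act S (v j) =
      (fun j => dg i0 a (a ^ q)⁻¹ j * dg i1 b (b ^ q)⁻¹ j) j • v ((1 : Equiv.Perm (ZMod (2 * m))) j) := by
    refine W.exists_mono hF hc 1 (fun i => rfl) _ ?_ ?_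
    · intro i
      have e1 := dg_norm (m := m) (q := q) (i0 := i0) (a := a) (b := (a ^ q)⁻¹)
        (by rw [inv_pow, pow_q_pow_q hF, mul_inv_cancel₀ ha]) (inv_mul_cancel₀ haq) i
      have e2 := dg_norm (m := m) (q := q) (i0 := i1) (a := b) (b := (b ^ q)⁻¹)
        (by rw [inv_pow, pow_q_pow_q hF, mul_inv_cancel₀ hb]) (inv_mul_cancel₀ hbq) i
      rw [mul_pow]
      linear_combination (dg i1 b (b ^ q)⁻¹ i * dg i1 b (b ^ q)⁻¹ (i + (m : ZMod (2 * m))) ^ q) * e1 + e2
    · rw [Finset.prod_mul_distrib, dg_prod, dg_prod]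
      simp only [Equiv.Perm.sign_one, Units.val_one, Int.cast_one, one_mul]
      field_simp
      linear_combination hab
  refine ⟨S, fun i => ⟨_, mul_ne_zero (dg_ne ha (inv_ne_zero haq) i) (dg_ne hb (inv_ne_zero hbq) i),
    hS i⟩, hS⟩

/-- The Weyl element. -/
theorem exists_weyl (hF : Fintype.card F = q ^ 2)
    (W : Witt q (fun j => j + (m : ZMod (2 * m))) v) :
    ∃ γ : ZMod (2 * m) → F, (∀ j, γ j ≠ 0) ∧ ∃ w : SU (2 * m) F q,
      ∀ j, act w (v j) = γ j • v (j + 1) := by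
  have hc : Fintype.card (ZMod (2 * m)) = 2 * m := ZMod.card _
  obtain ⟨g, hg0, hg⟩ := exists_sign hF (Equiv.Perm.sign (Equiv.addRight (1 : ZMod (2 * m))))
  have hgq : g ^ q ≠ 0 := pow_ne_zero _ hg0
  have hgi : (g ^ q)⁻¹ ≠ 0 := inv_ne_zero hgq
  refine ⟨dg 0 g (g ^ q)⁻¹, dg_ne hg0 hgi, ?_⟩
  refine W.exists_mono hF hc (Equiv.addRight 1) ?_ _ ?_ ?_
  · intro i
    simp only [Equiv.coe_addRight]
    ring
  · apply dg_norm
    · rw [inv_pow, pow_q_pow_q hF, mul_inv_cancel₀ hg0]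
    · exact inv_mul_cancel₀ hgq
  · rw [dg_prod, ← mul_assoc, ← hg, mul_inv_cancel₀ hgq]

theorem isSiegel_even (hF : Fintype.card F = q ^ 2) (hm : 2 ≤ m)
    (W : Witt q (fun j => j + (m : ZMod (2 * m))) v) :
    IsSiegel q (v 0) (v ((m : ZMod (2 * m)) + 1)) (0 : F) := by
  have hv : Std q v := W.gram
  have hne : (m : ZMod (2 * m)) + 1 ≠ 0 + (m : ZMod (2 * m)) := by
    rw [zero_add]
    intro h
    have h10 : (1 : ZMod (2 * m)) ≠ 0 := by
      rw [← Nat.cast_one, ← Nat.cast_zero, Ne, cast_inj (by omega) (by omega)]; omega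
    exact h10 (add_eq_left.1 h)
  exact ⟨hv.iso 0, hv.orth' hne, by rw [hv.iso, zero_pow_q hF]; ring⟩

/-- Generation in even dimension. -/
theorem even_gen (hF : Fintype.card F = q ^ 2) (hm : 2 ≤ m)
    (W : Witt q (fun j => j + (m : ZMod (2 * m))) v) {γ : ZMod (2 * m) → F} (hγ0 : ∀ j, γ j ≠ 0)
    {w : SU (2 * m) F q} (hw : ∀ j, act w (v j) = γ j • v (j + 1))
    (hk : IsSiegel q (v 0) (v ((m : ZMod (2 * m)) + 1)) (0 : F)) {H : Subgroup (SU (2 * m) F q)}
    (hT : (Tz v : Subgroup (SU (2 * m) F q)) ≤ H)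
    (htH : siegel hF (v 0) (v ((m : ZMod (2 * m)) + 1)) 0 hk ∈ H) (hwH : w ∈ H) : H = ⊤ := by
  have hv : Std q v := W.gram
  have hc : Fintype.card (ZMod (2 * m)) = 2 * m := ZMod.card _
  obtain ⟨z, hz0, hz1, hz2⟩ := exists_gen hF
  have hzq : z ^ q ≠ 0 := pow_ne_zero _ hz0
  obtain ⟨S, hST, hS⟩ := exists_two hF W 0 1 hz0 (inv_ne_zero hz0)
    (by rw [inv_pow, mul_inv_cancel₀ hz0, mul_inv_cancel₀ hzq])
  have hSH : S ∈ H := hT hST
  have h10 : (1 : ZMod (2 * m)) ≠ 0 := by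
    rw [← Nat.cast_one, ← Nat.cast_zero, Ne, cast_inj (by omega) (by omega)]; omega
  have h1m : (1 : ZMod (2 * m)) ≠ (m : ZMod (2 * m)) := by
    rw [← Nat.cast_one, Ne, cast_inj (by omega) (by omega)]; omega
  have hS0 : act S (v 0) = z • v 0 := by
    rw [hS, dg_self, dg_other, mul_one]
    · exact h10.symm
    · intro h
      apply h1m
      have := congrArg (fun t => t + (m : ZMod (2 * m))) h
      simp only [zero_add, add_half_half] at this
      exact this.symm
  have hS1 : act S (v ((m : ZMod (2 * m)) + 1)) = z ^ q • v ((m : ZMod (2 * m)) + 1) := by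
    rw [hS, add_comm (m : ZMod (2 * m)) 1, dg_half, dg_other, one_mul, inv_pow, inv_inv]
    · intro h
      apply h1m
      have h' := congrArg (fun t => t + (m : ZMod (2 * m))) h
      simp only [zero_add, add_half_half] at h'
      exact h'
    · rw [zero_add]
      intro h
      exact h10 (add_eq_right.1 h)
  -- everything
  have hone : (1 : F) ∈ RS hF H (v 0) (v ((m : ZMod (2 * m)) + 1)) (hv.iso 0) (hv.iso _) := by
    rw [mem_RS, one_smul]
    exact ⟨hk, htH⟩
  have hall : ∀ a, a ∈ RS hF H (v 0) (v ((m : ZMod (2 * m)) + 1)) (hv.iso 0) (hv.iso _) := by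
    refine mem_of_sq _ ?_ hone one_ne_zero
    intro c hc0 y hy
    obtain ⟨k, hk⟩ := hz1 (c ^ q) (pow_ne_zero _ hc0)
    have h3 := RS_mul hSH hz0 hS0 hS1 hy k
    have e : (z ^ q * z ^ q) ^ k = c ^ 2 := by
      rw [← pow_two, ← pow_mul, ← pow_mul, mul_comm q (2 * k), mul_comm 2 k, pow_mul,
        pow_mul, hk, ← pow_mul, mul_comm 2 q, pow_mul, pow_q_pow_q hF]
    rwa [e] at h3
  have h0 : R hF H v 0 ((m : ZMod (2 * m)) + 1) := fun a => hall a
  have hR := R.all hm hv hwH hγ0 hw h0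
  apply eq_top_of_WS (hF := hF) (by omega) hv hwH hγ0 hw
  intro x hx
  rw [W.expand hc x]
  apply AddSubgroup.sum_mem
  intro j _
  by_cases hj0 : j = 0
  · rw [hj0]; exact mem_WS_self _ _
  · by_cases hjm : j = (m : ZMod (2 * m))
    · rw [hjm, two_half, hx, zero_smul]
      exact AddSubgroup.zero_mem _
    · exact ⟨0, hR 0 j hj0 (by rwa [zero_add]) _⟩

omit [Fintype F] [NeZero m] [NeZero (2 * m)] in
theorem dg_nat {i j : ℕ} (hi : i < m) (hj : j < 2 * m) (h1 : j ≠ i) (h2 : j ≠ i + m) (a b : F) :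
    dg (i : ZMod (2 * m)) a b (j : ZMod (2 * m)) = 1 := by
  rw [dg_other]
  · rw [Ne, cast_inj (by omega) (by omega)]; exact h1
  · rw [← Nat.cast_add, Ne, cast_inj (by omega) (by omega)]; exact h2

omit [Fintype F] [NeZero (2 * m)] in
theorem dg_nat_self (i : ℕ) (a b : F) : dg (i : ZMod (2 * m)) a b (i : ZMod (2 * m)) = a :=
  dg_self _ _ _

omit [Fintype F] [NeZero (2 * m)] in
theorem dg_nat_half (i : ℕ) (a b : F) : dg (i : ZMod (2 * m)) a b ((i + m : ℕ) : ZMod (2 * m)) = b := by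
  rw [Nat.cast_add, dg_half]

/-- A noncentral diagonal element commuting with the Siegel element. -/
theorem even_cent (hF : Fintype.card F = q ^ 2) (hm : 2 ≤ m)
    (hq : 4 ≤ q ∨ (3 ≤ m ∧ 3 ≤ q) ∨ (4 ≤ m ∧ q = 2))
    (W : Witt q (fun j => j + (m : ZMod (2 * m))) v) {γ : ZMod (2 * m) → F} (hγ0 : ∀ j, γ j ≠ 0)
    {w : SU (2 * m) F q} (hw : ∀ j, act w (v j) = γ j • v (j + 1))
    (hk : IsSiegel q (v 0) (v ((m : ZMod (2 * m)) + 1)) (0 : F)) :
    ∃ h : SU (2 * m) F q, h ∈ (Tz v : Subgroup (SU (2 * m) F q)) ∧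
      h * siegel hF (v 0) (v ((m : ZMod (2 * m)) + 1)) 0 hk =
        siegel hF (v 0) (v ((m : ZMod (2 * m)) + 1)) 0 hk * h ∧
      h ∉ Subgroup.center (SU (2 * m) F q) := by
  have hv : Std q v := W.gram
  have hv0 : ∀ i, v i ≠ 0 := by
    intro i h0
    have := hv.pair i
    rw [h0, herm_zero_left] at this
    exact zero_ne_one this
  have key : ∀ (i0 i1 : ℕ) (a b s t c d : F) (i : ℕ), a ≠ 0 → b ≠ 0 →
      a * b = a ^ q * b ^ q →
      dg (i0 : ZMod (2 * m)) a (a ^ q)⁻¹ ((0 : ℕ) : ZMod (2 * m)) *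
        dg (i1 : ZMod (2 * m)) b (b ^ q)⁻¹ ((0 : ℕ) : ZMod (2 * m)) = s →
      dg (i0 : ZMod (2 * m)) a (a ^ q)⁻¹ ((m + 1 : ℕ) : ZMod (2 * m)) *
        dg (i1 : ZMod (2 * m)) b (b ^ q)⁻¹ ((m + 1 : ℕ) : ZMod (2 * m)) = t →
      s ^ q * t = 1 →
      dg (i0 : ZMod (2 * m)) a (a ^ q)⁻¹ (i : ZMod (2 * m)) *
        dg (i1 : ZMod (2 * m)) b (b ^ q)⁻¹ (i : ZMod (2 * m)) = c →
      dg (i0 : ZMod (2 * m)) a (a ^ q)⁻¹ ((i + 1 : ℕ) : ZMod (2 * m)) *
        dg (i1 : ZMod (2 * m)) b (b ^ q)⁻¹ ((i + 1 : ℕ) : ZMod (2 * m)) = d → c ≠ d →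
      ∃ h : SU (2 * m) F q, h ∈ (Tz v : Subgroup (SU (2 * m) F q)) ∧
      h * siegel hF (v 0) (v ((m : ZMod (2 * m)) + 1)) 0 hk =
        siegel hF (v 0) (v ((m : ZMod (2 * m)) + 1)) 0 hk * h ∧
      h ∉ Subgroup.center (SU (2 * m) F q) := by
    intro i0 i1 a b s t c d i ha hb hab h1 h2 h3 h4 h5 h6
    obtain ⟨S, hST, hS⟩ := exists_two hF W (i0 : ZMod (2 * m)) (i1 : ZMod (2 * m)) ha hb hab
    have hS' : ∀ j : ℕ, act S (v (j : ZMod (2 * m))) = (dg (i0 : ZMod (2 * m)) a (a ^ q)⁻¹ (j : ZMod (2 * m)) *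
        dg (i1 : ZMod (2 * m)) b (b ^ q)⁻¹ (j : ZMod (2 * m))) • v (j : ZMod (2 * m)) := fun j => hS _
    refine ⟨S, hST, ?_, ?_⟩
    · refine comm_of_eig hk (s := s) (t := t) ?_ ?_ h3 (mul_zero _) (Or.inr ⟨rfl, hv.iso _⟩)
      · have := hS' 0
        rw [h1, Nat.cast_zero] at this
        exact this
      · have := hS' (m + 1)
        rw [h2, Nat.cast_add, Nat.cast_one] at this
        exact this
    · refine not_mem_center (x := v (i : ZMod (2 * m))) (y := v ((i : ZMod (2 * m)) + 1)) (a := c) (b := d)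
        (hv0 _) (hγ0 _) (hw _) ?_ ?_ h6
      · rw [hS', h4]
      · have := hS' (i + 1)
        rw [h5, Nat.cast_add, Nat.cast_one] at this
        exact this
  have h2 := two_le hF
  have big : 3 ≤ m → 3 ≤ q → ∃ h : SU (2 * m) F q, h ∈ (Tz v : Subgroup (SU (2 * m) F q)) ∧
      h * siegel hF (v 0) (v ((m : ZMod (2 * m)) + 1)) 0 hk =
        siegel hF (v 0) (v ((m : ZMod (2 * m)) + 1)) 0 hk * h ∧
      h ∉ Subgroup.center (SU (2 * m) F q) := by
    intro hm3 hq
    obtain ⟨s, hs0, hsq, hs⟩ := exists_sub_ne_one hF hq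
    have hone : ∀ j : ZMod (2 * m), dg ((0 : ℕ) : ZMod (2 * m)) (1 : F) (1 ^ q)⁻¹ j = 1 := by
      intro j
      rw [one_pow, inv_one, dg_one]
    refine key 2 0 s 1 1 1 1 s 1 hs0 one_ne_zero ?_ ?_ ?_ ?_ ?_ ?_ ?_
    · rw [hsq, one_pow]
    · rw [hone, mul_one, dg_nat (by omega) (by omega) (by omega) (by omega)]
    · rw [hone, mul_one, dg_nat (by omega) (by omega) (by omega) (by omega)]
    · rw [one_pow, one_mul]
    · rw [hone, mul_one, dg_nat (by omega) (by omega) (by omega) (by omega)]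
    · rw [hone, mul_one, dg_nat_self]
    · exact hs.symm
  rcases hq with hq | ⟨hm3, hq⟩ | ⟨hm4, hq⟩
  · rcases Nat.lt_or_ge m 3 with hm3 | hm3
    · -- `m = 2`
      obtain ⟨s, hs0, hsq, hs⟩ := exists_sub_sq_ne_one hF hq
      have hm2 : m = 2 := by omega
      refine key 0 1 s s s (s ^ q)⁻¹ s (s ^ q)⁻¹ 1 hs0 hs0 ?_ ?_ ?_ ?_ ?_ ?_ ?_
      · rw [hsq]
      · rw [dg_nat_self, dg_nat (by omega) (by omega) (by omega) (by omega), mul_one]
      · rw [dg_nat (by omega) (by omega) (by omega) (by omega), one_mul]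
        rw [add_comm m 1, dg_nat_half]
      · exact mul_inv_cancel₀ (pow_ne_zero _ hs0)
      · rw [dg_nat (by omega) (by omega) (by omega) (by omega), one_mul, dg_nat_self]
      · rw [dg_nat (i := 1) (by omega) (by omega) (by omega) (by omega), mul_one]
        rw [show 1 + 1 = 0 + m by omega, dg_nat_half]
      · rw [hsq]
        intro h
        apply hs
        rw [pow_two]
        nth_rewrite 2 [h]
        exact mul_inv_cancel₀ hs0
    · exact big hm3 (by omega)
  · exact big hm3 hq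
  · -- `q = 2`
    obtain ⟨z, hz0, hz1, hz2⟩ := exists_gen hF
    have hz3 : z ^ 3 = 1 := by
      have := FiniteField.pow_card_sub_one_eq_one z hz0
      rwa [hF, hq] at this
    have hzz : z ≠ 1 := by
      have := hz2 1 one_pos (by rw [hq]; norm_num)
      rwa [pow_one] at this
    have hzi : z⁻¹ ≠ 0 := inv_ne_zero hz0
    refine key 2 3 z z⁻¹ 1 1 1 z 1 hz0 hzi ?_ ?_ ?_ ?_ ?_ ?_ ?_
    · rw [inv_pow, mul_inv_cancel₀ hz0, mul_inv_cancel₀ (pow_ne_zero _ hz0)]
    · rw [dg_nat (by omega) (by omega) (by omega) (by omega),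
        dg_nat (by omega) (by omega) (by omega) (by omega), mul_one]
    · rw [dg_nat (by omega) (by omega) (by omega) (by omega),
        dg_nat (by omega) (by omega) (by omega) (by omega), mul_one]
    · rw [one_pow, one_mul]
    · rw [dg_nat (by omega) (by omega) (by omega) (by omega),
        dg_nat (by omega) (by omega) (by omega) (by omega), mul_one]
    · rw [dg_nat_self, dg_nat (by omega) (by omega) (by omega) (by omega), mul_one]
    · exact hzz.symm

end Even

end Cfsg.Agent.H911.DG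
end
end

-- part: H79/DG/Gen
section
prune_inst 0x317071647d62120000188016e0001c66fa000502004b800020e00f060f89ee62ad422e61bab00510189204c440310060131c00100200000004000400011d018000811006b148000002000e000080000000000000000000000000000000000000200000000
set_option linter.all false
open scoped Cfsg.Agent.FastGrp

-- part: H79/DG/Mono
section
/-!
# Monomial generation of `E Q` in odd characteristic (helper79, for `S4180`, tasks 3329-3331)

`V = ⊕ ⟨e_i, f_i⟩ ⊥ D`, `D = ⟨d0, d⟩`.  `mon` is the group of the elements of `E Q` which preserve the pairs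
`{F e_i, F f_i}` and act on `D` as `1` or as the reflection in `d0`.  `E Q = ⟨mon, T(e_0, d), n⟩`, where `n` permutes
the pairs cyclically.
-/

set_option autoImplicit false

namespace Cfsg.Agent.H79.DG

open QuadraticMap Cfsg.Agent.LieClassical.OrthCore Cfsg.Agent.LieClassical.OrthTrans
  Cfsg.Agent.LieClassical.OrthSimple Cfsg.Agent.ClassicalGeometry.OrthAutBasic
  Cfsg.Agent.H887.SiegelMethod Cfsg.Agent.H137

variable {F V : Type*} [Field F] [AddCommGroup V] [Module F V] {Q : QuadraticForm F V}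

/-- orthogonal to a family of pairs -/
def Perp (Q : QuadraticForm F V) {ι : Type*} (ev fv : ι → V) (v : V) : Prop :=
  (∀ i, polar Q (ev i) v = 0) ∧ ∀ i, polar Q (fv i) v = 0

section fam

variable {ι : Type*} {ev fv : ι → V}

theorem Perp.smul {v : V} (c : F) (hv : Perp Q ev fv v) : Perp Q ev fv (c • v) :=
  ⟨fun i => by rw [polar_smul_right, hv.1, smul_zero], fun i => by rw [polar_smul_right, hv.2, smul_zero]⟩

theorem Perp.sub {v w : V} (hv : Perp Q ev fv v) (hw : Perp Q ev fv w) : Perp Q ev fv (v - w) :=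
  ⟨fun i => by rw [polar_sub_right, hv.1, hw.1, sub_zero], fun i => by rw [polar_sub_right, hv.2, hw.2, sub_zero]⟩

variable [Fintype ι] [DecidableEq ι]

/-- the projection to the orthogonal complement -/
theorem perp_sub (h : HypFam Q ev fv) (v : V) :
    Perp Q ev fv (v - ∑ i, polar Q (fv i) v • ev i - ∑ i, polar Q (ev i) v • fv i) := by
  have key : ∀ (u : V) (c : ι → F) (w : ι → V), polar Q u (∑ i, c i • w i) = ∑ i, c i * polar Q u (w i) := by
    intro u c w
    have h1 := map_sum (QuadraticMap.polarBilin Q u) (fun i => c i • w i) Finset.univ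
    simp only [polarBilin_apply_apply, polar_smul_right, smul_eq_mul] at h1
    exact h1
  have hfe : ∀ i j, polar Q (fv i) (ev j) = if i = j then 1 else 0 := fun i j => by
    rw [polar_comm, h.ef]
    simp only [eq_comm]
  refine ⟨fun i => ?_, fun i => ?_⟩
  · rw [polar_sub_right, polar_sub_right, key, key, Finset.sum_eq_zero (fun j _ => by rw [h.ee, mul_zero]),
      Finset.sum_eq_single i (fun j _ hj => by rw [h.ef, if_neg (Ne.symm hj), mul_zero]) (by simp), h.ef, if_pos rfl]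
    ring
  · rw [polar_sub_right, polar_sub_right, key, key,
      Finset.sum_eq_single i (fun j _ hj => by rw [hfe, if_neg (Ne.symm hj), mul_zero]) (by simp),
      Finset.sum_eq_zero (fun j _ => by rw [h.ff, mul_zero]), hfe, if_pos rfl]
    ring

end fam

/-! ### the monomial group -/

section mon

variable {ι : Type*} {ev fv : ι → V} {d0 : V}

/-- `g` preserves the pair `{F e_i, F f_i}` -/
def PairOk (ev fv : ι → V) (g : V ≃ₗ[F] V) (i : ι) : Prop :=
  ((∃ a : F, g (ev i) = a • ev i) ∧ ∃ b : F, g (fv i) = b • fv i) ∨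
    ((∃ a : F, g (ev i) = a • fv i) ∧ ∃ b : F, g (fv i) = b • ev i)

theorem PairOk.mul {g g' : V ≃ₗ[F] V} {i : ι} (h : PairOk ev fv g i) (h' : PairOk ev fv g' i) :
    PairOk ev fv (g * g') i := by
  have key : ∀ v, (g * g') v = g (g' v) := fun v => rfl
  rcases h with ⟨⟨a, ha⟩, b, hb⟩ | ⟨⟨a, ha⟩, b, hb⟩ <;> rcases h' with ⟨⟨a', ha'⟩, b', hb'⟩ | ⟨⟨a', ha'⟩, b', hb'⟩
  · exact Or.inl ⟨⟨a' * a, by rw [key, ha', map_smul, ha, smul_smul]⟩, ⟨b' * b, by rw [key, hb', map_smul, hb, smul_smul]⟩⟩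
  · exact Or.inr ⟨⟨a' * b, by rw [key, ha', map_smul, hb, smul_smul]⟩, ⟨b' * a, by rw [key, hb', map_smul, ha, smul_smul]⟩⟩
  · exact Or.inr ⟨⟨a' * a, by rw [key, ha', map_smul, ha, smul_smul]⟩, ⟨b' * b, by rw [key, hb', map_smul, hb, smul_smul]⟩⟩
  · exact Or.inl ⟨⟨a' * b, by rw [key, ha', map_smul, hb, smul_smul]⟩, ⟨b' * a, by rw [key, hb', map_smul, ha, smul_smul]⟩⟩

theorem inv_smul_of {g : V ≃ₗ[F] V} {x y : V} {a : F} (hx : x ≠ 0) (h : g x = a • y) : g⁻¹ y = a⁻¹ • x := by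
  have ha : a ≠ 0 := by
    rintro rfl
    rw [zero_smul] at h
    exact hx (g.injective (by rw [h, map_zero]))
  have h1 : g (a⁻¹ • x) = y := by rw [map_smul, h, smul_smul, inv_mul_cancel₀ ha, one_smul]
  rw [← h1]
  exact g.symm_apply_apply _

theorem PairOk.inv {g : V ≃ₗ[F] V} {i : ι} (he : ev i ≠ 0) (hf : fv i ≠ 0) (h : PairOk ev fv g i) :
    PairOk ev fv g⁻¹ i := by
  rcases h with ⟨⟨a, ha⟩, b, hb⟩ | ⟨⟨a, ha⟩, b, hb⟩
  · exact Or.inl ⟨⟨_, inv_smul_of he ha⟩, ⟨_, inv_smul_of hf hb⟩⟩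
  · exact Or.inr ⟨⟨_, inv_smul_of hf hb⟩, ⟨_, inv_smul_of he ha⟩⟩

theorem Perp.refl {v : V} (hd0 : Perp Q ev fv d0) (hQ0 : Q d0 ≠ 0) (hv : Perp Q ev fv v) :
    Perp Q ev fv (refl Q d0 hQ0 v) := by
  rw [refl_apply]
  exact hv.sub (hd0.smul _)

/-- the monomial group -/
def mon (Q : QuadraticForm F V) (ev fv : ι → V) (he : ∀ i, ev i ≠ 0) (hf : ∀ i, fv i ≠ 0) (d0 : V)
    (hQ0 : Q d0 ≠ 0) (hd0 : Perp Q ev fv d0) : Subgroup (V ≃ₗ[F] V) where
  carrier := {g | g ∈ E Q ∧ (∀ i, PairOk ev fv g i) ∧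
    ((∀ v, Perp Q ev fv v → g v = v) ∨ ∀ v, Perp Q ev fv v → g v = refl Q d0 hQ0 v)}
  one_mem' := ⟨(E Q).one_mem, fun i => Or.inl ⟨⟨1, (one_smul _ _).symm⟩, ⟨1, (one_smul _ _).symm⟩⟩,
    Or.inl fun v _ => rfl⟩
  mul_mem' := by
    rintro g g' ⟨h1, h2, h3⟩ ⟨h1', h2', h3'⟩
    refine ⟨(E Q).mul_mem h1 h1', fun i => (h2 i).mul (h2' i), ?_⟩
    have key : ∀ v, (g * g') v = g (g' v) := fun v => rfl
    rcases h3 with h3 | h3 <;> rcases h3' with h3' | h3'
    · exact Or.inl fun v hv => by rw [key, h3' v hv, h3 v hv]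
    · exact Or.inr fun v hv => by rw [key, h3' v hv, h3 _ (hd0.refl hQ0 hv)]
    · exact Or.inr fun v hv => by rw [key, h3' v hv, h3 v hv]
    · refine Or.inl fun v hv => ?_
      rw [key, h3' v hv, h3 _ (hd0.refl hQ0 hv)]
      exact congrArg (fun z : V ≃ₗ[F] V => z v) (refl_mul_self (Q := Q) hQ0)
  inv_mem' := by
    rintro g ⟨h1, h2, h3⟩
    refine ⟨(E Q).inv_mem h1, fun i => (h2 i).inv (he i) (hf i), ?_⟩
    have key : ∀ v, g⁻¹ (g v) = v := fun v => g.symm_apply_apply v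
    rcases h3 with h3 | h3
    · exact Or.inl fun v hv => by
        have := key v
        rwa [h3 v hv] at this
    · refine Or.inr fun v hv => ?_
      have h4 := key (refl Q d0 hQ0 v)
      rw [h3 _ (hd0.refl hQ0 hv)] at h4
      have h5 : refl Q d0 hQ0 (refl Q d0 hQ0 v) = v :=
        congrArg (fun z : V ≃ₗ[F] V => z v) (refl_mul_self (Q := Q) hQ0)
      rwa [h5] at h4

theorem pow_apply_succ (g : V ≃ₗ[F] V) (n : ℕ) (v : V) : (g ^ (n + 1)) v = g ((g ^ n) v) := by
  rw [pow_succ']; rfl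

/-- elements of order `p` of the monomial group are trivial -/
theorem mon_pow [Fintype ι] [DecidableEq ι] {p : ℕ} [Fact p.Prime] [CharP F p] (hp2 : p ≠ 2)
    (h : HypFam Q ev fv) {he : ∀ i, ev i ≠ 0} {hf : ∀ i, fv i ≠ 0} {hQ0 : Q d0 ≠ 0} {hd0 : Perp Q ev fv d0}
    {g : V ≃ₗ[F] V} (hg : g ∈ mon Q ev fv he hf d0 hQ0 hd0) (hgp : g ^ p = 1) : g = 1 := by
  have hp : p.Prime := Fact.out
  obtain ⟨j, hj⟩ : Odd p := hp.odd_of_ne_two hp2
  obtain ⟨-, h2, h3⟩ := hg
  have hgp' : ∀ v, (g ^ p) v = v := fun v => by rw [hgp]; rfl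
  have one_of : ∀ a : F, a ^ p = 1 → a = 1 := by
    intro a ha
    have : (a - 1) ^ p = 0 := by rw [sub_pow_char, ha, one_pow, sub_self]
    exact sub_eq_zero.1 (pow_eq_zero_iff (hp.ne_zero) |>.1 this)
  have hline : ∀ (x : V) (a : F), g x = a • x → ∀ n : ℕ, (g ^ n) x = a ^ n • x := by
    intro x a hx n
    induction n with
    | zero => rw [pow_zero, pow_zero, one_smul]; rfl
    | succ n ih => rw [pow_apply_succ, ih, map_smul, hx, smul_smul, ← pow_succ]
  have hdiag : ∀ (x : V) (a : F), x ≠ 0 → g x = a • x → g x = x := by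
    intro x a hx0 hx
    have h4 := hline x a hx p
    rw [hgp'] at h4
    have h5 : (a ^ p - 1) • x = 0 := by rw [sub_smul, ← h4, one_smul, sub_self]
    have h6 := one_of a (sub_eq_zero.1 ((smul_eq_zero.1 h5).resolve_right hx0))
    rw [hx, h6, one_smul]
  have hfix : ∀ i, g (ev i) = ev i ∧ g (fv i) = fv i := by
    intro i
    rcases h2 i with ⟨⟨a, ha⟩, b, hb⟩ | ⟨⟨a, ha⟩, b, hb⟩
    · exact ⟨hdiag _ a (he i) ha, hdiag _ b (hf i) hb⟩
    · exfalso
      -- `g ^ p` swaps the lines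
      have h4 : (g ^ 2) (ev i) = (a * b) • ev i := by
        rw [pow_two]
        show g (g (ev i)) = _
        rw [ha, map_smul, hb, smul_smul]
      have h5 : ∀ n : ℕ, ((g ^ 2) ^ n) (ev i) = (a * b) ^ n • ev i := by
        intro n
        induction n with
        | zero => rw [pow_zero, pow_zero, one_smul]; rfl
        | succ n ih => rw [pow_apply_succ, ih, map_smul, h4, smul_smul, ← pow_succ]
      have h6 := hgp' (ev i)
      rw [hj, pow_apply_succ, pow_mul, h5, map_smul, ha, smul_smul] at h6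
      have h7 : polar Q (ev i) (fv i) = 0 := by
        rw [← h6, polar_smul_left, h.ff, smul_zero]
      rw [h.ef, if_pos rfl] at h7
      exact one_ne_zero h7
  have hD : ∀ v, Perp Q ev fv v → g v = v := by
    rcases h3 with h3 | h3
    · exact h3
    · intro v hv
      have h4 : ∀ n : ℕ, (g ^ (2 * n)) v = v := by
        intro n
        induction n with
        | zero => rw [mul_zero, pow_zero]; rfl
        | succ n ih =>
          rw [mul_add, mul_one, pow_apply_succ, pow_apply_succ, ih, h3 v hv, h3 _ (hd0.refl hQ0 hv)]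
          exact congrArg (fun z : V ≃ₗ[F] V => z v) (refl_mul_self (Q := Q) hQ0)
      have h5 := hgp' v
      rwa [hj, pow_apply_succ, h4] at h5
  ext v
  show g v = v
  have h4 := hD _ (perp_sub h v)
  rw [map_sub, map_sub, map_sum, map_sum] at h4
  simp only [map_smul, (hfix _).1, (hfix _).2] at h4
  have h5 := sub_left_injective h4
  exact sub_left_injective h5

theorem mon_not_dvd [Fintype ι] [DecidableEq ι] [Finite V] {p : ℕ} [Fact p.Prime] [CharP F p] (hp2 : p ≠ 2)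
    (h : HypFam Q ev fv) {he : ∀ i, ev i ≠ 0} {hf : ∀ i, fv i ≠ 0} {hQ0 : Q d0 ≠ 0} {hd0 : Perp Q ev fv d0} :
    ¬ p ∣ Nat.card (mon Q ev fv he hf d0 hQ0 hd0) := by
  intro hd
  have : Finite (V ≃ₗ[F] V) := Finite.of_injective (fun g : V ≃ₗ[F] V => (g : V → V)) DFunLike.coe_injective
  obtain ⟨g, hg⟩ := exists_prime_orderOf_dvd_card' p hd
  have h1 : (g : V ≃ₗ[F] V) ^ p = 1 := by
    rw [← Subgroup.coe_pow, ← hg, pow_orderOf_eq_one]; rfl
  have h2 := mon_pow hp2 h g.2 h1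
  have h3 : g = 1 := Subtype.ext h2
  rw [h3, orderOf_one] at hg
  exact (Fact.out : p.Prime).one_lt.ne hg

end mon

/-! ### the cyclic permutation of the pairs -/

section cyc

/-- `N_j` : `e_0 ↦ e_j`, `e_i ↦ -e_{i-1}` for `1 ≤ i ≤ j` -/
noncomputable def NN (Q : QuadraticForm F V) (e f : ℕ → V) : ℕ → (V ≃ₗ[F] V)
  | 0 => 1
  | j + 1 => nn Q (e j) (f j) (e (j + 1)) (f (j + 1)) * NN Q e f j

theorem NN_mem_E (e f : ℕ → V) (j : ℕ) : NN Q e f j ∈ E Q := by
  induction j with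
  | zero => exact (E Q).one_mem
  | succ j ih => exact E_mul (nn_mem_E _ _ _ _) ih

/-- hyperbolic pairs with indices `≤ k` -/
structure HypN (Q : QuadraticForm F V) (e f : ℕ → V) (k : ℕ) : Prop where
  Qe : ∀ i ≤ k, Q (e i) = 0
  Qf : ∀ i ≤ k, Q (f i) = 0
  ee : ∀ i ≤ k, ∀ j ≤ k, polar Q (e i) (e j) = 0
  ff : ∀ i ≤ k, ∀ j ≤ k, polar Q (f i) (f j) = 0
  ef : ∀ i ≤ k, ∀ j ≤ k, polar Q (e i) (f j) = if i = j then 1 else 0

variable {e f : ℕ → V} {k : ℕ}

theorem HypN.fe (h : HypN Q e f k) : ∀ i ≤ k, ∀ j ≤ k, polar Q (f i) (e j) = if i = j then 1 else 0 := by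
  intro i hi j hj
  rw [polar_comm, h.ef j hj i hi]
  simp only [eq_comm]

theorem HypN.hyp2 (h : HypN Q e f k) {i j : ℕ} (hi : i ≤ k) (hj : j ≤ k) (hij : i ≠ j) :
    Hyp2 Q (e i) (f i) (e j) (f j) :=
  ⟨⟨h.Qe i hi, h.Qf i hi, by rw [h.ef i hi i hi, if_pos rfl]⟩, ⟨h.Qe j hj, h.Qf j hj, by rw [h.ef j hj j hj, if_pos rfl]⟩,
    h.ee i hi j hj, by rw [h.ef i hi j hj, if_neg hij], by rw [h.fe i hi j hj, if_neg hij], h.ff i hi j hj⟩

theorem NN_perp (h : HypN Q e f k) {v : V} (h1 : ∀ i ≤ k, polar Q (e i) v = 0) (h2 : ∀ i ≤ k, polar Q (f i) v = 0)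
    {j : ℕ} (hj : j ≤ k) : NN Q e f j v = v := by
  induction j with
  | zero => rfl
  | succ j ih =>
    show nn Q (e j) (f j) (e (j + 1)) (f (j + 1)) (NN Q e f j v) = v
    rw [ih (by omega), nn_fix (h.hyp2 (by omega) hj (by omega)) (h1 _ (by omega)) (h2 _ (by omega)) (h1 _ hj) (h2 _ hj)]

theorem NN_gt (h : HypN Q e f k) {j : ℕ} (hj : j ≤ k) : ∀ i ≤ k, j < i → NN Q e f j (e i) = e i ∧ NN Q e f j (f i) = f i := by
  induction j with
  | zero => intro i _ _; exact ⟨rfl, rfl⟩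
  | succ j ih =>
    intro i hi hji
    obtain ⟨h1, h2⟩ := ih (by omega) i hi (by omega)
    have h3 := h.hyp2 (i := j) (j := j + 1) (by omega) hj (by omega)
    refine ⟨?_, ?_⟩
    · show nn Q (e j) (f j) (e (j + 1)) (f (j + 1)) (NN Q e f j (e i)) = e i
      rw [h1, nn_fix h3 (h.ee _ (by omega) _ hi) (by rw [h.fe _ (by omega) _ hi, if_neg (by omega)]) (h.ee _ hj _ hi)
        (by rw [h.fe _ hj _ hi, if_neg (by omega)])]
    · show nn Q (e j) (f j) (e (j + 1)) (f (j + 1)) (NN Q e f j (f i)) = f i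
      rw [h2, nn_fix h3 (by rw [h.ef _ (by omega) _ hi, if_neg (by omega)]) (h.ff _ (by omega) _ hi)
        (by rw [h.ef _ hj _ hi, if_neg (by omega)]) (h.ff _ hj _ hi)]

theorem NN_zero (h : HypN Q e f k) {j : ℕ} (hj : j ≤ k) : NN Q e f j (e 0) = e j ∧ NN Q e f j (f 0) = f j := by
  induction j with
  | zero => exact ⟨rfl, rfl⟩
  | succ j ih =>
    obtain ⟨h1, h2⟩ := ih (by omega)
    have h3 := h.hyp2 (i := j) (j := j + 1) (by omega) hj (by omega)
    refine ⟨?_, ?_⟩
    · show nn Q (e j) (f j) (e (j + 1)) (f (j + 1)) (NN Q e f j (e 0)) = e (j + 1)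
      rw [h1, nn_x h3]
    · show nn Q (e j) (f j) (e (j + 1)) (f (j + 1)) (NN Q e f j (f 0)) = f (j + 1)
      rw [h2, nn_x' h3]

theorem NN_le (h : HypN Q e f k) {j : ℕ} (hj : j ≤ k) : ∀ i < j, NN Q e f j (e (i + 1)) = - e i ∧
    NN Q e f j (f (i + 1)) = - f i := by
  induction j with
  | zero => intro i hi; omega
  | succ j ih =>
    intro i hi
    have h3 := h.hyp2 (i := j) (j := j + 1) (by omega) hj (by omega)
    rcases Nat.lt_or_ge i j with hij | hij
    · obtain ⟨h1, h2⟩ := ih (by omega) i hij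
      refine ⟨?_, ?_⟩
      · show nn Q (e j) (f j) (e (j + 1)) (f (j + 1)) (NN Q e f j (e (i + 1))) = - e i
        rw [h1, map_neg, nn_fix h3 (h.ee _ (by omega) _ (by omega))
          (by rw [h.fe _ (by omega) _ (by omega), if_neg (by omega)]) (h.ee _ hj _ (by omega))
          (by rw [h.fe _ hj _ (by omega), if_neg (by omega)])]
      · show nn Q (e j) (f j) (e (j + 1)) (f (j + 1)) (NN Q e f j (f (i + 1))) = - f i
        rw [h2, map_neg, nn_fix h3 (by rw [h.ef _ (by omega) _ (by omega), if_neg (by omega)])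
          (h.ff _ (by omega) _ (by omega)) (by rw [h.ef _ hj _ (by omega), if_neg (by omega)])
          (h.ff _ hj _ (by omega))]
    · obtain rfl : i = j := by omega
      obtain ⟨h1, h2⟩ := NN_gt h (j := i) (by omega) (i + 1) hj (by omega)
      refine ⟨?_, ?_⟩
      · show nn Q (e i) (f i) (e (i + 1)) (f (i + 1)) (NN Q e f i (e (i + 1))) = - e i
        rw [h1, nn_y h3]
      · show nn Q (e i) (f i) (e (i + 1)) (f (i + 1)) (NN Q e f i (f (i + 1))) = - f i
        rw [h2, nn_y' h3]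

/-- the cyclic permutation of a family indexed by `Fin (k + 1)` -/
theorem exists_cyc {k : ℕ} {ev fv : Fin (k + 1) → V} (h : HypFam Q ev fv) :
    ∃ n ∈ E Q, n (ev 0) = ev (Fin.last k) ∧ n (fv 0) = fv (Fin.last k) ∧
      (∀ i : Fin k, n (ev i.succ) = - ev i.castSucc ∧ n (fv i.succ) = - fv i.castSucc) ∧
      ∀ v, Perp Q ev fv v → n v = v := by
  set e : ℕ → V := fun i => if h : i < k + 1 then ev ⟨i, h⟩ else 0 with he
  set f : ℕ → V := fun i => if h : i < k + 1 then fv ⟨i, h⟩ else 0 with hf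
  have e1 : ∀ i (hi : i < k + 1), e i = ev ⟨i, hi⟩ := fun i hi => by rw [he]; simp [hi]
  have f1 : ∀ i (hi : i < k + 1), f i = fv ⟨i, hi⟩ := fun i hi => by rw [hf]; simp [hi]
  have hN : HypN Q e f k := by
    refine ⟨fun i hi => ?_, fun i hi => ?_, fun i hi j hj => ?_, fun i hi j hj => ?_, fun i hi j hj => ?_⟩
    · rw [e1 i (by omega)]; exact h.Qe _
    · rw [f1 i (by omega)]; exact h.Qf _
    · rw [e1 i (by omega), e1 j (by omega)]; exact h.ee _ _
    · rw [f1 i (by omega), f1 j (by omega)]; exact h.ff _ _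
    · rw [e1 i (by omega), f1 j (by omega), h.ef]
      simp only [Fin.mk.injEq]
  refine ⟨NN Q e f k, NN_mem_E _ _ _, ?_, ?_, fun i => ⟨?_, ?_⟩, fun v hv => ?_⟩
  · have := (NN_zero hN le_rfl).1
    rwa [e1 0 (by omega), e1 k (by omega)] at this
  · have := (NN_zero hN le_rfl).2
    rwa [f1 0 (by omega), f1 k (by omega)] at this
  · have := (NN_le hN le_rfl i i.2).1
    rwa [e1 (i + 1) (by omega), e1 i (by omega)] at this
  · have := (NN_le hN le_rfl i i.2).2
    rwa [f1 (i + 1) (by omega), f1 i (by omega)] at this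
  · refine NN_perp hN (fun i hi => ?_) (fun i hi => ?_) le_rfl
    · rw [e1 i (by omega)]; exact hv.1 _
    · rw [f1 i (by omega)]; exact hv.2 _

end cyc

end Cfsg.Agent.H79.DG
end

-- part: H79/DG/Gen
section
/-!
# `E Q = ⟨mon, T(e_0, d), n⟩` (helper79, for `S4180`)
-/

set_option autoImplicit false

namespace Cfsg.Agent.H79.DG

open QuadraticMap Cfsg.Agent.LieClassical.OrthCore Cfsg.Agent.LieClassical.OrthTrans
  Cfsg.Agent.LieClassical.OrthSimple Cfsg.Agent.ClassicalGeometry.OrthAutBasic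
  Cfsg.Agent.H887.SiegelMethod Cfsg.Agent.H137

variable {F V : Type*} [Field F] [AddCommGroup V] [Module F V] {Q : QuadraticForm F V}

section

variable {ι : Type*} [Fintype ι] [DecidableEq ι] {ev fv : ι → V} {d0 : V}

theorem ne_zero_e (h : HypFam Q ev fv) (i : ι) : ev i ≠ 0 := by
  intro h0
  have h1 := h.ef i i
  rw [h0, polar_zero_left, if_pos rfl] at h1
  exact zero_ne_one h1

theorem ne_zero_f (h : HypFam Q ev fv) (i : ι) : fv i ≠ 0 := by
  intro h0
  have h1 := h.ef i i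
  rw [h0, polar_zero_right, if_pos rfl] at h1
  exact zero_ne_one h1

theorem fe (h : HypFam Q ev fv) (i j : ι) : polar Q (fv i) (ev j) = if i = j then 1 else 0 := by
  rw [polar_comm, h.ef]
  simp only [eq_comm]

theorem hyp2 (h : HypFam Q ev fv) {i j : ι} (hij : i ≠ j) : Hyp2 Q (ev i) (fv i) (ev j) (fv j) :=
  ⟨⟨h.Qe i, h.Qf i, by rw [h.ef, if_pos rfl]⟩, ⟨h.Qe j, h.Qf j, by rw [h.ef, if_pos rfl]⟩,
    h.ee i j, by rw [h.ef, if_neg hij], by rw [fe h, if_neg hij], h.ff i j⟩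

/-- scaling of the second pair -/
theorem hyp2_smul {x x' y y' : V} (h : Hyp2 Q x x' y y') {c : F} (hc : c ≠ 0) :
    Hyp2 Q x x' (c • y) (c⁻¹ • y') := by
  refine ⟨h.hx, ⟨?_, ?_, ?_⟩, ?_, ?_, ?_, ?_⟩
  · rw [QuadraticMap.map_smul, h.hy.left, smul_zero]
  · rw [QuadraticMap.map_smul, h.hy.right, smul_zero]
  · rw [polar_smul_left, polar_smul_right, h.hy.pair, smul_eq_mul, smul_eq_mul, mul_one, mul_inv_cancel₀ hc]
  · rw [polar_smul_right, h.xy, smul_zero]
  · rw [polar_smul_right, h.xy', smul_zero]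
  · rw [polar_smul_right, h.x'y, smul_zero]
  · rw [polar_smul_right, h.x'y', smul_zero]

/-- torus elements -/
noncomputable def hh (Q : QuadraticForm F V) (x x' y y' : V) (c : F) : V ≃ₗ[F] V :=
  (nn Q x x' y y')⁻¹ * nn Q x x' (c • y) (c⁻¹ • y')

theorem hh_mem_E (x x' y y' : V) (c : F) : hh Q x x' y y' c ∈ E Q :=
  E_mul ((E Q).inv_mem (nn_mem_E _ _ _ _)) (nn_mem_E _ _ _ _)

theorem hh_spec {x x' y y' : V} (h : Hyp2 Q x x' y y') {c : F} (hc : c ≠ 0) :
    hh Q x x' y y' c x = c • x ∧ hh Q x x' y y' c x' = c⁻¹ • x' ∧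
      hh Q x x' y y' c y = c⁻¹ • y ∧ hh Q x x' y y' c y' = c • y' ∧
      ∀ v, polar Q x v = 0 → polar Q x' v = 0 → polar Q y v = 0 → polar Q y' v = 0 → hh Q x x' y y' c v = v := by
  have hs := hyp2_smul h hc
  have hi : ∀ {a b : V}, nn Q x x' y y' a = b → (nn Q x x' y y')⁻¹ b = a := by
    intro a b hab
    rw [← hab]
    exact (nn Q x x' y y').symm_apply_apply a
  have key : ∀ v, hh Q x x' y y' c v = (nn Q x x' y y')⁻¹ (nn Q x x' (c • y) (c⁻¹ • y') v) := fun v => rfl
  have i1 : (nn Q x x' y y')⁻¹ y = x := hi (nn_x h)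
  have i2 : (nn Q x x' y y')⁻¹ y' = x' := hi (nn_x' h)
  have i3 : (nn Q x x' y y')⁻¹ x = -y := by
    have := hi (nn_y h)
    rw [map_neg] at this
    exact (neg_eq_iff_eq_neg).1 this
  have i4 : (nn Q x x' y y')⁻¹ x' = -y' := by
    have := hi (nn_y' h)
    rw [map_neg] at this
    exact (neg_eq_iff_eq_neg).1 this
  refine ⟨?_, ?_, ?_, ?_, ?_⟩
  · rw [key, nn_x hs, map_smul, i1]
  · rw [key, nn_x' hs, map_smul, i2]
  · have h1 := nn_y hs
    rw [map_smul] at h1
    have h2 : nn Q x x' (c • y) (c⁻¹ • y') y = -(c⁻¹ • x) := by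
      rw [← smul_neg, ← h1, smul_smul, inv_mul_cancel₀ hc, one_smul]
    rw [key, h2, map_neg, map_smul, i3, smul_neg, neg_neg]
  · have h1 := nn_y' hs
    rw [map_smul] at h1
    have h2 : nn Q x x' (c • y) (c⁻¹ • y') y' = -(c • x') := by
      rw [← smul_neg, ← h1, smul_smul, mul_inv_cancel₀ hc, one_smul]
    rw [key, h2, map_neg, map_smul, i4, smul_neg, neg_neg]
  · intro v h1 h2 h3 h4
    have h5 : nn Q x x' (c • y) (c⁻¹ • y') v = v :=
      nn_fix hs h1 h2 (by rw [polar_smul_left, h3, smul_zero]) (by rw [polar_smul_left, h4, smul_zero])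
    rw [key, h5]
    exact hi (nn_fix h h1 h2 h3 h4)

theorem hh_mem_mon (h : HypFam Q ev fv) {hQ0 : Q d0 ≠ 0} {hd0 : Perp Q ev fv d0} {i j : ι} (hij : i ≠ j) {c : F}
    (hc : c ≠ 0) : hh Q (ev i) (fv i) (ev j) (fv j) c ∈
      mon Q ev fv (ne_zero_e h) (ne_zero_f h) d0 hQ0 hd0 := by
  obtain ⟨h1, h2, h3, h4, h5⟩ := hh_spec (hyp2 h hij) hc
  refine ⟨hh_mem_E _ _ _ _ _, fun l => ?_, Or.inl fun v hv => h5 v (hv.1 _) (hv.2 _) (hv.1 _) (hv.2 _)⟩
  left
  by_cases hli : l = i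
  · subst hli
    exact ⟨⟨_, h1⟩, ⟨_, h2⟩⟩
  by_cases hlj : l = j
  · subst hlj
    exact ⟨⟨_, h3⟩, ⟨_, h4⟩⟩
  refine ⟨⟨1, ?_⟩, ⟨1, ?_⟩⟩
  · rw [one_smul]
    exact h5 _ (h.ee _ _) (by rw [fe h, if_neg (Ne.symm hli)]) (h.ee _ _) (by rw [fe h, if_neg (Ne.symm hlj)])
  · rw [one_smul]
    exact h5 _ (by rw [h.ef, if_neg (Ne.symm hli)]) (h.ff _ _) (by rw [h.ef, if_neg (Ne.symm hlj)]) (h.ff _ _)

/-- the swaps -/
theorem exists_swap (hG : Good Q) (h : HypFam Q ev fv) {hQ0 : Q d0 ≠ 0} {hd0 : Perp Q ev fv d0} (i : ι) :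
    ∃ r ∈ mon Q ev fv (ne_zero_e h) (ne_zero_f h) d0 hQ0 hd0, r (ev i) = -(Q d0 • fv i) ∧
      r (fv i) = -((Q d0)⁻¹ • ev i) ∧ (∀ j, j ≠ i → r (ev j) = ev j ∧ r (fv j) = fv j) ∧
      ∀ v, Perp Q ev fv v → r v = refl Q d0 hQ0 v := by
  have hyp : Hyp Q (ev i) (fv i) := ⟨h.Qe i, h.Qf i, by rw [h.ef, if_pos rfl]⟩
  obtain ⟨r, hrE, hre, hrf, hr⟩ := exists_rr hG hyp (hd0.1 i) (hd0.2 i) hQ0 rfl
  have hj : ∀ j, j ≠ i → r (ev j) = ev j ∧ r (fv j) = fv j := by
    intro j hj
    constructor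
    · rw [hr _ (h.ee _ _) (by rw [fe h, if_neg (Ne.symm hj)]), polar_comm, hd0.1, mul_zero, zero_smul, sub_zero]
    · rw [hr _ (by rw [h.ef, if_neg (Ne.symm hj)]) (h.ff _ _), polar_comm, hd0.2, mul_zero, zero_smul, sub_zero]
  have hP : ∀ v, Perp Q ev fv v → r v = refl Q d0 hQ0 v := fun v hv => by
    rw [hr v (hv.1 i) (hv.2 i), refl_apply]
  refine ⟨r, ⟨hrE, fun l => ?_, Or.inr hP⟩, hre, hrf, hj, hP⟩
  by_cases hli : l = i
  · subst hli
    exact Or.inr ⟨⟨-(Q d0), by rw [hre, neg_smul]⟩, ⟨-((Q d0)⁻¹), by rw [hrf, neg_smul]⟩⟩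
  · obtain ⟨h1, h2⟩ := hj l hli
    exact Or.inl ⟨⟨1, by rw [h1, one_smul]⟩, ⟨1, by rw [h2, one_smul]⟩⟩

/-- `e_j, f_j ∈ Ts x` from the values on the orthogonal complement -/
theorem mem_Ts_of {H : Subgroup (V ≃ₗ[F] V)} {x y a b : V} (hx : Q x = 0) (hy : Q y = 0) (hxy : polar Q x y = 0)
    (hxa : polar Q x a = 0) (hya : polar Q y a = 0) (hxb : polar Q x b = 0) (hyb : polar Q y b = 0)
    (hab : polar Q a b ≠ 0) (h1 : T Q y a ∈ H) (h2 : b ∈ Ts Q H x) : y ∈ Ts Q H x := by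
  refine ⟨hxy, fun s => ?_⟩
  have h3 := comm_T (H := H) hy hx (by rw [polar_comm]; exact hxy) hya hxa
    (b := (s * (polar Q a b)⁻¹) • b) (by rw [polar_smul_right, hyb, smul_zero])
    (by rw [polar_smul_right, hxb, smul_zero]) h1 (h2.2 _)
  rw [polar_smul_right, smul_eq_mul, mul_assoc, inv_mul_cancel₀ hab, mul_one] at h3
  exact h3

end

theorem E_le_mono [FiniteDimensional F V] (hG : Good Q) {k : ℕ} (hk : 1 ≤ k) {ev fv : Fin (k + 1) → V}
    (h : HypFam Q ev fv) {d0 d : V} (hd0 : Perp Q ev fv d0) (hd : Perp Q ev fv d)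
    (hQ0 : Q d0 ≠ 0) (hdd : polar Q d0 d ≠ 0) (hspan : ∀ v, Perp Q ev fv v → v ∈ Submodule.span F {d0, d})
    {n : V ≃ₗ[F] V} (hnE : n ∈ E Q) (hn0 : n (ev 0) = ev (Fin.last k))
    (hn1 : ∀ i : Fin k, n (ev i.succ) = - ev i.castSucc) (hnP : ∀ v, Perp Q ev fv v → n v = v) :
    E Q ≤ mon Q ev fv (ne_zero_e h) (ne_zero_f h) d0 hQ0 hd0 ⊔ Subgroup.closure {T Q (ev 0) d, n} := by
  set M := mon Q ev fv (ne_zero_e h) (ne_zero_f h) d0 hQ0 hd0 with hM
  set H := M ⊔ Subgroup.closure {T Q (ev 0) d, n} with hH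
  have hMH : M ≤ H := le_sup_left
  have hτ : T Q (ev 0) d ∈ H := (le_sup_right : _ ≤ H) (Subgroup.subset_closure (by simp))
  have hn : n ∈ H := (le_sup_right : _ ≤ H) (Subgroup.subset_closure (by simp))
  have hnO : n ∈ O Q := E_le_O hnE
  have hME : M ≤ E Q := fun g hg => hg.1
  set i1 : Fin (k + 1) := ⟨1, by omega⟩ with hi1
  have h01 : (0 : Fin (k + 1)) ≠ i1 := by
    intro h0
    have := congrArg Fin.val h0
    simp [hi1] at this
  -- full root group of `d`
  have hde : d ∈ Ts Q H (ev 0) := by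
    refine ⟨hd.1 0, fun c => ?_⟩
    by_cases hc : c = 0
    · rw [hc, zero_smul, T_zero_right]; exact H.one_mem
    have h1 := hh_mem_mon h (hQ0 := hQ0) (hd0 := hd0) h01 hc
    obtain ⟨s1, -, -, -, s5⟩ := hh_spec (hyp2 h h01) hc
    have h2 := H.mul_mem (H.mul_mem (hMH h1) hτ) (H.inv_mem (hMH h1))
    rwa [T_conj (E_le_O h1.1), s1, s5 d (hd.1 _) (hd.2 _) (hd.1 _) (hd.2 _),
      T_smul_left c (h.Qe 0) (hd.1 0)] at h2
  -- the other vector
  obtain ⟨r1, hr1, -, -, r1f, r1P⟩ := exists_swap hG h (hQ0 := hQ0) (hd0 := hd0) i1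
  have hd'e : refl Q d0 hQ0 d ∈ Ts Q H (ev 0) := by
    have h1 := map_mem_Ts (hMH hr1) (E_le_O hr1.1) hde
    rwa [(r1f 0 h01).1, r1P d hd] at h1
  have hd0e : d0 ∈ Ts Q H (ev 0) := by
    have hk' : ((Q d0)⁻¹ * polar Q d0 d) ≠ 0 := mul_ne_zero (inv_ne_zero hQ0) hdd
    have e : d0 = ((Q d0)⁻¹ * polar Q d0 d)⁻¹ • d - ((Q d0)⁻¹ * polar Q d0 d)⁻¹ • (refl Q d0 hQ0 d) := by
      rw [refl_apply, ← smul_sub, sub_sub_cancel, smul_smul, inv_mul_cancel₀ hk', one_smul]
    rw [e]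
    exact Submodule.sub_mem _ (Submodule.smul_mem _ _ hde) (Submodule.smul_mem _ _ hd'e)
  have hP0 : ∀ v, Perp Q ev fv v → v ∈ Ts Q H (ev 0) := by
    intro v hv
    refine (Submodule.span_le.2 ?_) (hspan v hv)
    rintro x (rfl | rfl)
    · exact hd0e
    · exact hde
  -- all `e_i`
  have hPe : ∀ j : ℕ, ∀ hj : j < k + 1, ∀ v, Perp Q ev fv v → v ∈ Ts Q H (ev ⟨k - j, by omega⟩) := by
    intro j
    induction j with
    | zero =>
      intro hj v hv
      have h1 := map_mem_Ts hn hnO (hP0 v hv)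
      rw [hn0, hnP v hv] at h1
      exact h1
    | succ j ih =>
      intro hj v hv
      have h1 := map_mem_Ts hn hnO (ih (by omega) v hv)
      have h2 := hn1 ⟨k - (j + 1), by omega⟩
      have h3 : (⟨k - (j + 1), by omega⟩ : Fin k).succ = ⟨k - j, by omega⟩ := by
        apply Fin.ext
        show k - (j + 1) + 1 = k - j
        omega
      rw [h3] at h2
      rw [h2, hnP v hv, ← neg_one_smul F, Ts_smul (neg_ne_zero.2 one_ne_zero) (h.Qe _)] at h1
      exact h1
  have hPe' : ∀ i, ∀ v, Perp Q ev fv v → v ∈ Ts Q H (ev i) := by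
    intro i v hv
    have h1 := hPe (k - i) (by omega) v hv
    have h2 : (⟨k - (k - i), by omega⟩ : Fin (k + 1)) = i := by
      apply Fin.ext
      show k - (k - (i : ℕ)) = i
      have := i.2
      omega
    rwa [h2] at h1
  -- all `f_i`
  have hPf : ∀ i, ∀ v, Perp Q ev fv v → v ∈ Ts Q H (fv i) := by
    intro i v hv
    obtain ⟨r, hr, re, -, -, rP⟩ := exists_swap hG h (hQ0 := hQ0) (hd0 := hd0) i
    have h1 := map_mem_Ts (hMH hr) (E_le_O hr.1) (hPe' i _ (hd0.refl hQ0 hv))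
    have h2 : refl Q d0 hQ0 (refl Q d0 hQ0 v) = v :=
      congrArg (fun z : V ≃ₗ[F] V => z v) (refl_mul_self (Q := Q) hQ0)
    rw [re, rP _ (hd0.refl hQ0 hv), h2, ← neg_smul, Ts_smul (neg_ne_zero.2 hQ0) (h.Qf _)] at h1
    exact h1
  -- conclusion
  have hex : ∀ v, v = (v - ∑ i, polar Q (fv i) v • ev i - ∑ i, polar Q (ev i) v • fv i) +
      ∑ i, polar Q (fv i) v • ev i + ∑ i, polar Q (ev i) v • fv i := fun v => by abel
  refine E_le_of_Ts hG (h.Qe 0) (h.Qf 0) (by rw [h.ef, if_pos rfl]; exact one_ne_zero) ?_ ?_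
  · intro v hv
    rw [hex v]
    refine Submodule.add_mem _ (Submodule.add_mem _ (hP0 _ (perp_sub h v)) ?_) ?_
    · refine Submodule.sum_mem _ fun i _ => Submodule.smul_mem _ _ ?_
      by_cases hi : i = 0
      · rw [hi]; exact self_mem_Ts (h.Qe 0)
      · exact mem_Ts_of (h.Qe 0) (h.Qe i) (h.ee _ _) (hd0.1 _) (hd0.1 _) (hd.1 _) (hd.1 _) hdd
          (Ts_mem (hPe' i _ hd0)) hde
    · refine Submodule.sum_mem _ fun i _ => ?_
      by_cases hi : i = 0
      · rw [hi, hv, zero_smul]; exact Submodule.zero_mem _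
      · refine Submodule.smul_mem _ _ ?_
        exact mem_Ts_of (h.Qe 0) (h.Qf i) (by rw [h.ef, if_neg (Ne.symm hi)]) (hd0.1 _) (hd0.2 _) (hd.1 _)
          (hd.2 _) hdd (Ts_mem (hPf i _ hd0)) hde
  · intro v hv
    rw [hex v]
    refine Submodule.add_mem _ (Submodule.add_mem _ (hPf 0 _ (perp_sub h v)) ?_) ?_
    · refine Submodule.sum_mem _ fun i _ => ?_
      by_cases hi : i = 0
      · rw [hi, hv, zero_smul]; exact Submodule.zero_mem _
      · refine Submodule.smul_mem _ _ ?_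
        exact mem_Ts_of (h.Qf 0) (h.Qe i) (by rw [fe h, if_neg (Ne.symm hi)]) (hd0.2 _) (hd0.1 _) (hd.2 _)
          (hd.1 _) hdd (Ts_mem (hPe' i _ hd0)) (hPf 0 _ hd)
    · refine Submodule.sum_mem _ fun i _ => Submodule.smul_mem _ _ ?_
      by_cases hi : i = 0
      · rw [hi]; exact self_mem_Ts (h.Qf 0)
      · exact mem_Ts_of (h.Qf 0) (h.Qf i) (h.ff _ _) (hd0.2 _) (hd0.2 _) (hd.2 _) (hd.2 _) hdd
          (Ts_mem (hPf i _ hd0)) (hPf 0 _ hd)

end Cfsg.Agent.H79.DG
end
end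

-- part: H291/DG/CohOf
section
set_option linter.all false
/-
`Coh T` for a simple group generated by an involution and another element.
-/
set_option autoImplicit false

namespace Cfsg.Agent.H291.DG

open Cfsg.Agent.H891.DG

universe u

theorem InvGen.coh {T : Type u} [Group T] [Finite T] [IsSimpleGroup T] (h : InvGen T) : Coh T := by
  obtain ⟨c, b, hc, hc1, hcb⟩ := h.exists
  exact Tools.coh_of_involution h.not_comm hc hc1 hcb

end Cfsg.Agent.H291.DG
end

-- part: H891/DG/WrGen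
section
prune_inst 0x16010601940020000008596b10020044c00059000208000d1a00f46020673220d0221404c801c02180aa20000010000100800c000000000040004000001012080aa42043140010406000f803083180c00000000000000000000000000041004000000000
set_option linter.all false
open scoped Cfsg.Agent.FastGrp

-- part: H891/DG/Crt
section
/-!
# TEAM GEN, S4180: homomorphisms onto nonabelian simple groups (helper891)

* `crt` : surjective homomorphisms `π i : D →* T` with pairwise distinct kernels are independent;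
* `card_surj` : there are at most `κ |Aut T|` surjective homomorphisms `Q →* T`, where `|T| ^ κ ≤ |Q|`.
-/

set_option autoImplicit false

namespace Cfsg.Agent.H891.DG.Crt

open Subgroup

variable {D T ι : Type*} [Group D] [Group T]

theorem ker_eq_of_le [IsSimpleGroup T] {μ ν : D →* T} (hμ : Function.Surjective μ) (hν : Function.Surjective ν)
    (h : ν.ker ≤ μ.ker) : ν.ker = μ.ker := by
  have h1 : (μ.ker.map ν).Normal := Subgroup.Normal.map inferInstance ν hν
  rcases h1.eq_bot_or_eq_top with h2 | h2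
  · refine le_antisymm h ?_
    intro x hx
    have h3 : ν x ∈ μ.ker.map ν := mem_map_of_mem ν hx
    rw [h2, mem_bot] at h3
    exact h3
  · exfalso
    obtain ⟨t, ht⟩ := exists_ne (1 : T)
    obtain ⟨x, rfl⟩ := hμ t
    have h3 : ν x ∈ μ.ker.map ν := h2 ▸ mem_top _
    obtain ⟨y, hy, h4⟩ := h3
    have h5 : x * y⁻¹ ∈ ν.ker := by
      rw [MonoidHom.mem_ker, map_mul, map_inv, h4, mul_inv_cancel]
    have h6 : x ∈ μ.ker := by
      have := mul_mem (h h5) hy
      rwa [inv_mul_cancel_right] at this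
    exact ht h6

theorem exists_aut {μ ν : D →* T} (hμ : Function.Surjective μ) (hν : Function.Surjective ν)
    (h : ν.ker = μ.ker) : ∃ α : MulAut T, ∀ x, μ x = α (ν x) := by
  refine ⟨(QuotientGroup.quotientKerEquivOfSurjective ν hν).symm.trans
    ((QuotientGroup.quotientMulEquivOfEq h).trans (QuotientGroup.quotientKerEquivOfSurjective μ hμ)), fun x => ?_⟩
  have h1 : (QuotientGroup.quotientKerEquivOfSurjective ν hν).symm (ν x) = QuotientGroup.mk x := by
    rw [MulEquiv.symm_apply_eq]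
    rfl
  rw [MulEquiv.trans_apply, h1]
  rfl

variable [IsSimpleGroup T]

theorem map_ker_eq_top {μ ν : D →* T} (hμ : Function.Surjective μ) (hν : Function.Surjective ν)
    (h : ν.ker ≠ μ.ker) : ν.ker.map μ = ⊤ := by
  have h1 : (ν.ker.map μ).Normal := Subgroup.Normal.map inferInstance μ hμ
  rcases h1.eq_bot_or_eq_top with h2 | h2
  · exfalso
    apply h
    refine ker_eq_of_le hμ hν fun x hx => ?_
    have h3 : μ x ∈ ν.ker.map μ := mem_map_of_mem μ hx
    rw [h2, mem_bot] at h3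
    exact h3
  · exact h2

theorem comm_of_inf {L K : Subgroup D} [L.Normal] [K.Normal] {μ : D →* T} (hμ : Function.Surjective μ)
    (hna : ¬ IsMulCommutative T) (hL : L.map μ = ⊤) (hK : K.map μ = ⊤) : (L ⊓ K).map μ = ⊤ := by
  have h1 : ((L ⊓ K).map μ).Normal := Subgroup.Normal.map inferInstance μ hμ
  rcases h1.eq_bot_or_eq_top with h2 | h2
  · exfalso
    apply hna
    refine ⟨⟨fun u v => ?_⟩⟩
    obtain ⟨a, ha, rfl⟩ : u ∈ L.map μ := hL ▸ mem_top u
    obtain ⟨b, hb, rfl⟩ : v ∈ K.map μ := hK ▸ mem_top v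
    have h3 : a * b * a⁻¹ * b⁻¹ ∈ L ⊓ K := by
      refine ⟨?_, ?_⟩
      · have e : a * b * a⁻¹ * b⁻¹ = a * (b * a⁻¹ * b⁻¹) := by group
        rw [e]
        exact L.mul_mem ha (Subgroup.Normal.conj_mem inferInstance _ (L.inv_mem ha) b)
      · exact K.mul_mem (Subgroup.Normal.conj_mem inferInstance _ hb a) (K.inv_mem hb)
    have h4 : μ (a * b * a⁻¹ * b⁻¹) ∈ (L ⊓ K).map μ := mem_map_of_mem μ h3
    rw [h2, mem_bot, map_mul, map_mul, map_mul, map_inv, map_inv, mul_inv_eq_one, mul_inv_eq_iff_eq_mul] at h4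
    exact h4
  · exact h2

theorem crt_aux [DecidableEq ι] (hna : ¬ IsMulCommutative T) (π : ι → D →* T)
    (hs : ∀ i, Function.Surjective (π i)) (hd : ∀ i j, (π i).ker = (π j).ker → i = j) (i : ι) (J : Finset ι)
    (hi : i ∉ J) : (⨅ j ∈ J, (π j).ker).map (π i) = ⊤ := by
  induction J using Finset.induction_on with
  | empty =>
    simp only [Finset.notMem_empty, iInf_false, iInf_top]
    rw [← MonoidHom.range_eq_map, MonoidHom.range_eq_top]
    exact hs i
  | insert j J hj ih =>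
    rw [Finset.iInf_insert, inf_comm]
    have hL : (⨅ k ∈ J, (π k).ker).Normal :=
      Subgroup.normal_iInf_normal fun k => Subgroup.normal_iInf_normal fun _ => inferInstance
    refine comm_of_inf (hs i) hna (ih fun h => hi (Finset.mem_insert_of_mem h)) (map_ker_eq_top (hs i) (hs j) ?_)
    intro h
    exact hi (hd j i h ▸ Finset.mem_insert_self _ _)

theorem crt [Finite ι] (hna : ¬ IsMulCommutative T) (π : ι → D →* T)
    (hs : ∀ i, Function.Surjective (π i)) (hd : ∀ i j, (π i).ker = (π j).ker → i = j) (t : ι → T) :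
    ∃ z, ∀ i, π i z = t i := by
  classical
  let _ := Fintype.ofFinite ι
  have key : ∀ J : Finset ι, ∃ z, (∀ i ∈ J, π i z = t i) ∧ ∀ i, i ∉ J → π i z = 1 := by
    intro J
    induction J using Finset.induction_on with
    | empty => exact ⟨1, fun i hi => absurd hi (Finset.notMem_empty i), fun i _ => map_one _⟩
    | insert i J hi ih =>
      obtain ⟨z, h1, h2⟩ := ih
      obtain ⟨w, hw, h3⟩ : t i ∈ (⨅ j ∈ Finset.univ.erase i, (π j).ker).map (π i) :=
        (crt_aux hna π hs hd i (Finset.univ.erase i) (Finset.notMem_erase i _)) ▸ mem_top _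
      have h4 : ∀ j, j ≠ i → π j w = 1 := by
        intro j hj
        have h5 : w ∈ ⨅ j ∈ Finset.univ.erase i, (π j).ker := hw
        rw [Subgroup.mem_iInf] at h5
        have h6 := h5 j
        rw [Subgroup.mem_iInf] at h6
        exact h6 (Finset.mem_erase.2 ⟨hj, Finset.mem_univ j⟩)
      refine ⟨z * w, fun j hj => ?_, fun j hj => ?_⟩
      · rcases eq_or_ne j i with rfl | hne
        · rw [map_mul, h2 j hi, one_mul, h3]
        · rw [map_mul, h4 j hne, mul_one]
          exact h1 j ((Finset.mem_insert.1 hj).resolve_left hne)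
      · rw [Finset.mem_insert, not_or] at hj
        rw [map_mul, h2 j hj.2, h4 j hj.1, mul_one]
  obtain ⟨z, hz, -⟩ := key Finset.univ
  exact ⟨z, fun i => hz i (Finset.mem_univ i)⟩

theorem card_surj {Q : Type*} [Group Q] [Finite Q] [Finite T] (hna : ¬ IsMulCommutative T) :
    ∃ κ : ℕ, Nat.card T ^ κ ≤ Nat.card Q ∧
      Nat.card {μ : Q →* T // Function.Surjective μ} ≤ κ * Nat.card (MulAut T) := by
  classical
  have : Finite (Q →* T) := Finite.of_injective (fun f : Q →* T => (f : Q → T)) DFunLike.coe_injective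
  have : Finite (MulAut T) := Finite.of_injective (fun f : MulAut T => (f : T → T)) DFunLike.coe_injective
  let S := {μ : Q →* T // Function.Surjective μ}
  let K := Set.range (fun μ : S => μ.1.ker)
  have hch : ∀ k : K, ∃ μ : S, μ.1.ker = k.1 := fun k => k.2
  choose m hm using hch
  have hfin : Finite K := Set.finite_range _
  refine ⟨Nat.card K, ?_, ?_⟩
  · have h1 : Function.Surjective (fun (z : Q) (k : K) => (m k).1 z) := by
      intro t
      obtain ⟨z, hz⟩ := crt hna (fun k => (m k).1) (fun k => (m k).2) (fun i j hij => by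
        rw [hm, hm] at hij
        exact Subtype.ext hij) t
      exact ⟨z, funext hz⟩
    have h2 := Nat.card_le_card_of_surjective _ h1
    rwa [Nat.card_fun] at h2
  · have h3 : ∀ μ : S, ∃ α : MulAut T, ∀ x, μ.1 x = α ((m ⟨μ.1.ker, ⟨μ, rfl⟩⟩).1 x) := fun μ =>
      exists_aut μ.2 (m ⟨μ.1.ker, ⟨μ, rfl⟩⟩).2 (hm _)
    choose α hα using h3
    have h4 : Function.Injective (fun μ : S => ((⟨μ.1.ker, ⟨μ, rfl⟩⟩ : K), α μ)) := by
      intro μ ν h
      simp only [Prod.mk.injEq] at h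
      refine Subtype.ext (MonoidHom.ext fun x => ?_)
      rw [hα μ, hα ν, h.2]
      congr 3
      exact congrArg (fun k => m k) h.1 ▸ rfl
    have h5 := Nat.card_le_card_of_injective _ h4
    rwa [Nat.card_prod] at h5

end Cfsg.Agent.H891.DG.Crt
end

-- part: H891/DG/WrBasic
section
/-!
# TEAM GEN, S4180: the wreath structure, basic facts (helper891)
-/

set_option autoImplicit false
set_option linter.unusedSectionVars false

namespace Cfsg.Agent.H891.DG.WrB

open Subgroup Cfsg.Agent.H891.DG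

universe u

theorem conj_injective {T : Type*} [Group T] [IsSimpleGroup T] (hna : ¬ IsMulCommutative T) :
    Function.Injective (MulAut.conj : T →* MulAut T) := by
  rw [← MonoidHom.ker_eq_bot_iff]
  rcases (inferInstance : (MulAut.conj : T →* MulAut T).ker.Normal).eq_bot_or_eq_top with h | h
  · exact h
  · exfalso
    apply hna
    refine ⟨⟨fun a b => ?_⟩⟩
    have h1 : a ∈ (MulAut.conj : T →* MulAut T).ker := h ▸ mem_top a
    rw [MonoidHom.mem_ker] at h1
    have h2 := DFunLike.congr_fun h1 b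
    rw [MulAut.conj_apply, MulAut.one_apply, mul_inv_eq_iff_eq_mul] at h2
    exact h2

theorem conj_map {T : Type*} [Group T] (α : MulAut T) (t : T) :
    MulAut.conj (α t) = α * MulAut.conj t * α⁻¹ := by
  ext x
  simp only [MulAut.conj_apply, MulAut.mul_apply, _root_.MulAut.inv_apply, _root_.map_mul, _root_.MulEquiv.apply_symm_apply, _root_.map_inv]

/-- an automorphism which centralises the inner automorphisms is trivial -/
theorem eq_one_of_comm {T : Type*} [Group T] [IsSimpleGroup T] (hna : ¬ IsMulCommutative T) {α : MulAut T}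
    (h : ∀ t : T, α * MulAut.conj t = MulAut.conj t * α) : α = 1 := by
  ext t
  apply conj_injective hna
  rw [conj_map, h, mul_inv_cancel_right]
  rfl

theorem finite_mulAut (T : Type*) [Group T] [Finite T] : Finite (MulAut T) :=
  Finite.of_injective (fun f : MulAut T => (f : T → T)) DFunLike.coe_injective

theorem card_mulAut {T : Type u} [Group T] [IsSimpleGroup T] (hna : ¬ IsMulCommutative T) :
    Nat.card (MulAut T) = Nat.card (Cfsg.Out T) * Nat.card T := by
  have h1 := (MulAut.conj : T →* MulAut T).range.index_mul_card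
  rw [← h1]
  congr 1
  exact (Nat.card_congr (MonoidHom.ofInjective (conj_injective hna)).toEquiv).symm

section

variable {G : Type u} [Group G] {M : Subgroup G} {I T : Type u} [Group T] (W : Wr G M I T)

include W

theorem f_one (i : I) : W.f 1 i = 1 := by
  have h := W.mul 1 1 i
  rw [mul_one, map_one, Equiv.Perm.one_apply] at h
  exact (mul_eq_left.1 h.symm)

theorem f_inv (x : G) (i : I) : W.f x⁻¹ (W.σ x i) = (W.f x i)⁻¹ := by
  have h := W.mul x⁻¹ x i
  rw [inv_mul_cancel, f_one] at h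
  exact eq_inv_of_mul_eq_one_left h.symm

theorem σ_inv (x : G) (i : I) : W.σ x⁻¹ (W.σ x i) = i := by
  rw [map_inv]
  exact (W.σ x).symm_apply_apply i

theorem σ_inv' (x : G) (i : I) : W.σ x (W.σ x⁻¹ i) = i := by
  rw [map_inv]
  exact (W.σ x).apply_symm_apply i

theorem ext {x y : G} (h1 : W.σ x = W.σ y) (h2 : ∀ i, W.f x i = W.f y i) : x = y := by
  have h3 : x⁻¹ * y = 1 := by
    apply W.inj
    · rw [map_mul, map_inv, h1, inv_mul_cancel]
    · intro i
      rw [W.mul, ← h1, f_inv, h2, inv_mul_cancel]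
  exact (inv_mul_eq_one.1 h3)

theorem σ_mem {m : G} (hm : m ∈ M) : W.σ m = 1 := ((W.mem m).1 hm).1

theorem σ_mul_mem (x : G) {m : G} (hm : m ∈ M) : W.σ (x * m) = W.σ x := by
  rw [map_mul, σ_mem W hm, mul_one]

theorem f_mul_mem (x : G) {m : G} (hm : m ∈ M) (i : I) : W.f (x * m) i = W.f x i * W.f m i := by
  rw [W.mul, σ_mem W hm, Equiv.Perm.one_apply]

/-- conjugation of elements of `M` -/
theorem f_conj (x : G) {m : G} (hm : m ∈ M) (i : I) :
    W.f (x * m * x⁻¹) (W.σ x i) = W.f x i * W.f m i * (W.f x i)⁻¹ := by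
  rw [W.mul, σ_inv, f_mul_mem W x hm, f_inv]

/-- the element of `M` with given components -/
noncomputable def el (u : I → T) : G := (W.surj u).choose

theorem el_mem (u : I → T) : el W u ∈ M := (W.surj u).choose_spec.1

theorem f_el (u : I → T) (i : I) : W.f (el W u) i = MulAut.conj (u i) := (W.surj u).choose_spec.2 i

variable [IsSimpleGroup T]

omit W in
/-- inner automorphisms back to elements -/
noncomputable def toT (hna : ¬ IsMulCommutative T) : ↥(MulAut.conj : T →* MulAut T).range ≃* T :=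
  (MonoidHom.ofInjective (conj_injective hna)).symm

omit W in
theorem conj_toT (hna : ¬ IsMulCommutative T) (a : ↥(MulAut.conj : T →* MulAut T).range) :
    MulAut.conj (toT hna a) = a.1 := by
  obtain ⟨t, rfl⟩ := (MonoidHom.ofInjective (conj_injective hna)).surjective a
  rw [toT, MulEquiv.symm_apply_apply]
  rfl

/-- the components of an element of `M` -/
noncomputable def pr (hna : ¬ IsMulCommutative T) (i : I) : ↥M →* T :=
  (toT hna).toMonoidHom.comp
    { toFun := fun m => ⟨W.f m i, ((W.mem m).1 m.2).2 i⟩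
      map_one' := Subtype.ext (f_one W i)
      map_mul' := fun a b => Subtype.ext (f_mul_mem W a b.2 i) }

theorem conj_pr (hna : ¬ IsMulCommutative T) (i : I) (m : ↥M) : MulAut.conj (pr W hna i m) = W.f m i :=
  conj_toT hna _

theorem el_injective (hna : ¬ IsMulCommutative T) : Function.Injective (el W) := by
  intro u v h
  funext i
  apply conj_injective hna
  rw [← f_el W, ← f_el W, h]

/-- bound for `|G/M|` -/
theorem card_quot_le [Fintype I] [Finite T] [M.Normal] :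
    Nat.card (G ⧸ M) ≤ (Fintype.card I).factorial * Nat.card (Cfsg.Out T) ^ Fintype.card I := by
  classical
  have := finite_mulAut T
  have h0 : Nat.card (Equiv.Perm I × (I → Cfsg.Out T)) =
      (Fintype.card I).factorial * Nat.card (Cfsg.Out T) ^ Fintype.card I := by
    rw [Nat.card_prod, Nat.card_fun, Nat.card_eq_fintype_card, Nat.card_eq_fintype_card (α := I), Fintype.card_perm]
  rw [← h0]
  refine Nat.card_le_card_of_injective (fun γ : G ⧸ M =>
    (W.σ γ.out, fun i => (QuotientGroup.mk (W.f γ.out i) : Cfsg.Out T))) ?_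
  intro γ γ' h
  simp only [Prod.mk.injEq] at h
  have h1 : (γ.out)⁻¹ * γ'.out ∈ M := by
    rw [W.mem]
    refine ⟨by rw [map_mul, map_inv, h.1, inv_mul_cancel], fun i => ?_⟩
    have h2 := congrFun h.2 i
    rw [QuotientGroup.eq] at h2
    rw [W.mul, ← h.1, f_inv]
    exact h2
  rw [← QuotientGroup.out_eq' γ, ← QuotientGroup.out_eq' γ']
  exact QuotientGroup.eq.2 h1

end

/-! ### the pieces of the counting argument -/

section

variable {G : Type u} [Group G] {M : Subgroup G} {I T : Type u} [Group T] (W : Wr G M I T)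

/-- the group generated by the changed generators -/
def XX (x y : G) (R : Set G) (uv : (I → T) × (I → T)) : Subgroup G :=
  _root_.Subgroup.closure ({x * el W uv.1, y * el W uv.2} ∪ R)

/-- the stabiliser of `i₀` in `X` induces at least `Inn T` on the `i₀`-th copy of `T` -/
def Big (X : Subgroup G) (i₀ : I) : Prop := ∀ t : T, ∃ z ∈ X, W.σ z i₀ = i₀ ∧ W.f z i₀ = MulAut.conj t

/-- `G`-invariant equivalence relations -/
def Inv (S : Setoid I) : Prop := ∀ (g : G) (i j : I), S i j → S (W.σ g i) (W.σ g j)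

/-- the chosen representative of the class of `i` -/
noncomputable def rep (S : Setoid I) (i : I) : I := (Quotient.mk S i).out

/-- `X ∩ M` is a product of diagonal subgroups over the classes of `S`, so the components of `z ∈ X` at `i` and at
`rep S i` determine each other. -/
def TypeII (X : Subgroup G) (S : Setoid I) : Prop :=
  ∃ ε : I → MulAut T, (∀ i, rep S i = i → ε i = 1) ∧
    ∀ z ∈ X, ∀ i, W.f z i * ε i = ε (W.σ z i) * (ε (W.σ z (rep S i)))⁻¹ * W.f z (rep S i)

end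

end Cfsg.Agent.H891.DG.WrB
end

-- part: H891/DG/WrDich
section
/-!
# TEAM GEN, S4180: the dichotomy (helper891)

`X M = G` and the stabiliser of `i₀` in `X` induces at least `Inn T`: then `X = G`, or `X ∩ M = 1`, or `X ∩ M` is a product of
diagonal subgroups (`TypeII`).
-/

set_option autoImplicit false
set_option linter.unusedSectionVars false

namespace Cfsg.Agent.H891.DG.WrB

open Subgroup Cfsg.Agent.H891.DG
universe u

variable {G : Type u} [Group G] {M : Subgroup G} {I T : Type u} [Group T] [IsSimpleGroup T] (W : Wr G M I T)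

/-- the components of the elements of `X ∩ M` -/
noncomputable def pi (hna : ¬ IsMulCommutative T) (X : Subgroup G) (i : I) : ↥(X ⊓ M) →* T :=
  (pr W hna i).comp (Subgroup.inclusion inf_le_right)

theorem conj_pi (hna : ¬ IsMulCommutative T) (X : Subgroup G) (i : I) (w : ↥(X ⊓ M)) :
    MulAut.conj (pi W hna X i w) = W.f w i := conj_pr W hna i _

theorem conj_mem_inf [M.Normal] {X : Subgroup G} {z w : G} (hz : z ∈ X) (hw : w ∈ X ⊓ M) : z * w * z⁻¹ ∈ X ⊓ M :=
  ⟨X.mul_mem (X.mul_mem hz hw.1) (X.inv_mem hz), Subgroup.Normal.conj_mem inferInstance _ hw.2 _⟩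

theorem pi_conj [M.Normal] (hna : ¬ IsMulCommutative T) {X : Subgroup G} {z : G} (hz : z ∈ X) (w : ↥(X ⊓ M)) (i : I) :
    pi W hna X (W.σ z i) ⟨z * w * z⁻¹, conj_mem_inf hz w.2⟩ = W.f z i (pi W hna X i w) := by
  apply conj_injective hna
  rw [conj_map, conj_pi, conj_pi]
  exact f_conj W z w.2.2 i

theorem exists_mem_of_sup [M.Normal] {X : Subgroup G} (hX : X ⊔ M = ⊤) (g : G) : ∃ z ∈ X, W.σ z = W.σ g := by
  have h1 : g ∈ X ⊔ M := hX ▸ mem_top g
  obtain ⟨z, hz, m, hm, rfl⟩ := mem_sup_of_normal_right.1 h1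
  exact ⟨z, hz, (σ_mul_mem W z hm).symm⟩

theorem ker_pi_conj [M.Normal] (hna : ¬ IsMulCommutative T) {X : Subgroup G} {z : G} (hz : z ∈ X) (i : I)
    (w : ↥(X ⊓ M)) : w ∈ (pi W hna X (W.σ z i)).ker ↔
      (⟨z⁻¹ * w * z, by simpa using conj_mem_inf (X.inv_mem hz) w.2⟩ : ↥(X ⊓ M)) ∈ (pi W hna X i).ker := by
  set v : ↥(X ⊓ M) := ⟨z⁻¹ * w * z, by simpa using conj_mem_inf (X.inv_mem hz) w.2⟩ with hv
  have h1 := pi_conj W hna hz v i
  have h2 : (⟨z * v * z⁻¹, conj_mem_inf hz v.2⟩ : ↥(X ⊓ M)) = w := by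
    apply Subtype.ext
    show z * (z⁻¹ * w * z) * z⁻¹ = w
    group
  rw [h2] at h1
  rw [MonoidHom.mem_ker, MonoidHom.mem_ker, h1]
  exact EmbeddingLike.map_eq_one_iff

variable [M.Normal]

theorem dich [Finite I] (hna : ¬ IsMulCommutative T) (X : Subgroup G) (hX : X ⊔ M = ⊤) (i₀ : I) (hB : Big W X i₀) :
    X = ⊤ ∨ X ⊓ M = ⊥ ∨ ∃ S : Setoid I, S ≠ ⊥ ∧ Inv W S ∧ TypeII W X S := by
  have htr : ∀ i, ∃ z ∈ X, W.σ z i₀ = i := by
    intro i
    obtain ⟨g, hg⟩ := W.trans i₀ i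
    obtain ⟨z, hz, h⟩ := exists_mem_of_sup W hX g
    exact ⟨z, hz, by rw [h, hg]⟩
  -- the image at `i₀` is normal
  have hnorm : (pi W hna X i₀).range.Normal := by
    refine ⟨?_⟩
    rintro _ ⟨w, rfl⟩ t
    obtain ⟨z, hz, h1, h2⟩ := hB t
    have h3 := pi_conj W hna hz w i₀
    rw [h2, MulAut.conj_apply] at h3
    rw [← h3]
    have h4 : ∀ j, W.σ z i₀ = j → pi W hna X (W.σ z i₀) ⟨z * w * z⁻¹, conj_mem_inf hz w.2⟩ =
        pi W hna X j ⟨z * w * z⁻¹, conj_mem_inf hz w.2⟩ := by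
      rintro j rfl
      rfl
    rw [h4 i₀ h1]
    exact ⟨_, rfl⟩
  rcases hnorm.eq_bot_or_eq_top with h0 | h0
  · -- `X ∩ M = 1`
    right; left
    rw [eq_bot_iff]
    intro w hw
    rw [mem_bot]
    refine W.inj w (σ_mem W hw.2) fun i => ?_
    obtain ⟨z, hz, rfl⟩ := htr i
    have h1 := pi_conj W hna hz ⟨z⁻¹ * w * z, by simpa only [_root_.Subgroup.mem_inf, _root_.inv_inv] using conj_mem_inf (X.inv_mem hz) hw⟩ i₀
    have h2 : pi W hna X i₀ ⟨z⁻¹ * w * z, by simpa only [_root_.Subgroup.mem_inf, _root_.inv_inv] using conj_mem_inf (X.inv_mem hz) hw⟩ = 1 := by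
      have h3 : pi W hna X i₀ ⟨z⁻¹ * w * z, by simpa only [_root_.Subgroup.mem_inf, _root_.inv_inv] using conj_mem_inf (X.inv_mem hz) hw⟩ ∈
        (pi W hna X i₀).range := ⟨_, rfl⟩
      rwa [h0, mem_bot] at h3
    rw [h2, map_one] at h1
    have h3 := conj_pi W hna X (W.σ z i₀) ⟨z * (z⁻¹ * w * z) * z⁻¹,
      conj_mem_inf hz (by simpa only [_root_.Subgroup.mem_inf, _root_.inv_inv] using conj_mem_inf (X.inv_mem hz) hw)⟩
    rw [h1, map_one] at h3
    have e : z * (z⁻¹ * w * z) * z⁻¹ = w := by group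
    simp only [e] at h3
    exact h3.symm
  -- all the projections are surjective
  have hs0 : Function.Surjective (pi W hna X i₀) := MonoidHom.range_eq_top.1 h0
  have hs : ∀ i, Function.Surjective (pi W hna X i) := by
    intro i t
    obtain ⟨z, hz, rfl⟩ := htr i
    obtain ⟨w, hw⟩ := hs0 ((W.f z i₀)⁻¹ t)
    refine ⟨_, (pi_conj W hna hz w i₀).trans ?_⟩
    rw [hw, MulAut.apply_inv_self]
  let S : Setoid I := Setoid.ker (fun i => (pi W hna X i).ker)
  have hSdef : ∀ i j, S i j ↔ (pi W hna X i).ker = (pi W hna X j).ker := fun i j => Iff.rfl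
  by_cases hS : S = ⊥
  · left
    have hM : M ≤ X := by
      intro m hm
      obtain ⟨z, hz⟩ := Crt.crt hna (pi W hna X) hs (fun i j hij => by
        have h1 : S i j := hij
        rw [hS] at h1
        exact h1) (fun i => pr W hna i ⟨m, hm⟩)
      have h2 : (z : G) = m := by
        refine ext W (by rw [σ_mem W z.2.2, σ_mem W hm]) fun i => ?_
        rw [← conj_pi W hna X, hz, conj_pr]
      exact h2 ▸ z.2.1
    rw [← hX]
    exact (sup_eq_left.2 hM).symm
  right; right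
  have hInv : ∀ z ∈ X, ∀ i j, S i j → S (W.σ z i) (W.σ z j) := by
    intro z hz i j hij
    rw [hSdef] at hij ⊢
    ext w
    rw [ker_pi_conj W hna hz, ker_pi_conj W hna hz, hij]
  refine ⟨S, hS, ?_, ?_⟩
  · intro g i j hij
    obtain ⟨z, hz, h⟩ := exists_mem_of_sup W hX g
    rw [← h]
    exact hInv z hz i j hij
  · have hrep : ∀ i, (pi W hna X (rep S i)).ker = (pi W hna X i).ker := by
      intro i
      rw [← hSdef]
      exact Quotient.mk_out (s := S) i
    choose ε hε using fun i => Crt.exists_aut (hs i) (hs (rep S i)) (hrep i)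
    refine ⟨ε, ?_, ?_⟩
    · intro i hi
      ext t
      obtain ⟨w, rfl⟩ := hs i t
      have h1 := hε i w
      rw [hi] at h1
      exact h1.symm
    · intro z hz i
      have hrr : rep S (W.σ z (rep S i)) = rep S (W.σ z i) := by
        unfold rep
        congr 1
        apply Quotient.sound
        exact hInv z hz _ _ (Quotient.mk_out (s := S) i)
      ext t
      obtain ⟨w, rfl⟩ := hs (rep S i) t
      rw [MulAut.mul_apply, MulAut.mul_apply, MulAut.mul_apply, ← hε i w, ← pi_conj W hna hz w i,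
        ← pi_conj W hna hz w (rep S i), hε (W.σ z i), hε (W.σ z (rep S i)), MulAut.inv_apply_self, hrr]

end Cfsg.Agent.H891.DG.WrB
end

-- part: H891/DG/WrTwo
section
/-!
# TEAM GEN, S4180: the case of two components (helper891)
-/

set_option autoImplicit false
set_option linter.unusedSectionVars false

namespace Cfsg.Agent.H891.DG.WrB

open Subgroup Cfsg.Agent.H891.DG Cfsg.Agent.H891.Gen
universe u

section Aut

variable {T : Type u} [Group T] [Finite T] [IsSimpleGroup T]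

theorem card_centralizer_le (hna : ¬ IsMulCommutative T) (a : MulAut T) :
    Nat.card (centralizer ({a} : Set (MulAut T))) ≤
      Nat.card (Cfsg.Out T) * Nat.card (MonoidHom.eqLocus a.toMonoidHom (MonoidHom.id T)) := by
  have hfin := finite_mulAut T
  set C := centralizer ({a} : Set (MulAut T)) with hC
  set N := (MulAut.conj : T →* MulAut T).range with hN
  set H := MonoidHom.eqLocus a.toMonoidHom (MonoidHom.id T) with hH
  have h1 : Nat.card (N.subgroupOf C) * (N.subgroupOf C).index = Nat.card C := (N.subgroupOf C).card_mul_index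
  have h2 : (N.subgroupOf C).index ≤ Nat.card (Cfsg.Out T) := by
    have h3 : (N.subgroupOf C).index ∣ N.index := relIndex_dvd_index_of_normal N C
    exact Nat.le_of_dvd (Nat.pos_of_ne_zero (index_ne_zero_of_finite)) h3
  have h3 : Nat.card (N.subgroupOf C) ≤ Nat.card H := by
    have key : ∀ w : ↥(N.subgroupOf C), ∃ t : H, MulAut.conj (t : T) = ((w : ↥C) : MulAut T) := by
      rintro ⟨⟨α, hα⟩, hw⟩
      obtain ⟨t, ht⟩ : α ∈ N := hw
      refine ⟨⟨t, ?_⟩, ht⟩
      show a t = t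
      apply conj_injective hna
      rw [conj_map, ht]
      have h4 : a * α = α * a := (mem_centralizer_singleton_iff.1 hα).symm ▸ rfl
      rw [h4, mul_inv_cancel_right]
    choose g hg using key
    refine Nat.card_le_card_of_injective g ?_
    intro w w' h
    apply Subtype.ext
    apply Subtype.ext
    rw [← hg w, ← hg w', h]
  rw [← h1, mul_comm]
  exact Nat.mul_le_mul h2 h3

/-- few square roots -/
theorem card_sqrt_lt (hna : ¬ IsMulCommutative T) (hN : OutNum T) {a : MulAut T} (ha : a ≠ 1) :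
    Nat.card {θ : MulAut T // θ * θ = a} < Nat.card T := by
  have hfin := finite_mulAut T
  set H := MonoidHom.eqLocus a.toMonoidHom (MonoidHom.id T) with hH
  have h1 : H ≠ ⊤ := by
    intro h
    apply ha
    ext t
    have : t ∈ H := h ▸ mem_top t
    exact this
  have h2 : Nat.card (Cfsg.Out T) < H.index := hN.1 H h1
  have h3 : Nat.card {θ : MulAut T // θ * θ = a} ≤ Nat.card (centralizer ({a} : Set (MulAut T))) := by
    have key : ∀ θ : MulAut T, θ * θ = a → θ ∈ centralizer ({a} : Set (MulAut T)) := by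
      rintro θ rfl
      rw [mem_centralizer_singleton_iff, mul_assoc]
    refine Nat.card_le_card_of_injective (fun θ => ⟨θ.1, key _ θ.2⟩) ?_
    intro θ θ' h
    apply Subtype.ext
    have := congrArg Subtype.val h
    exact this
  calc _ ≤ _ := h3
    _ ≤ _ := card_centralizer_le hna a
    _ < H.index * Nat.card H := Nat.mul_lt_mul_of_pos_right h2 Nat.card_pos
    _ = Nat.card T := H.index_mul_card

end Aut

variable {G : Type u} [Group G] [Finite G] {M : Subgroup G} [M.Normal] {I T : Type u} [Fintype I] [DecidableEq I]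
  [Group T] [Finite T] [IsSimpleGroup T] (W : Wr G M I T)

/-- the group induced by the stabiliser of `i₀` in `X` -/
def Stab (X : Subgroup G) (i₀ : I) : Subgroup (MulAut T) where
  carrier := {α | ∃ z ∈ X, W.σ z i₀ = i₀ ∧ W.f z i₀ = α}
  one_mem' := ⟨1, X.one_mem, by rw [map_one]; rfl, f_one W i₀⟩
  mul_mem' := by
    rintro _ _ ⟨z, hz, h1, rfl⟩ ⟨w, hw, h2, rfl⟩
    refine ⟨z * w, X.mul_mem hz hw, ?_, ?_⟩
    · rw [map_mul, Equiv.Perm.mul_apply, h2, h1]
    · rw [W.mul, h2]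
  inv_mem' := by
    rintro _ ⟨z, hz, h1, rfl⟩
    refine ⟨z⁻¹, X.inv_mem hz, ?_, ?_⟩
    · have h := σ_inv W z i₀
      rwa [h1] at h
    · have h := f_inv W z i₀
      rwa [h1] at h

theorem big_of_lift {X : Subgroup G} {i₀ : I} {a₁ a₂ : MulAut T}
    (h : (MulAut.conj : T →* MulAut T).range ≤ _root_.Subgroup.closure ({a₁, a₂} : Set (MulAut T))) (h1 : a₁ ∈ Stab W X i₀)
    (h2 : a₂ ∈ Stab W X i₀) : Big W X i₀ := by
  intro t
  have h3 : MulAut.conj t ∈ Stab W X i₀ := by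
    have h4 : _root_.Subgroup.closure ({a₁, a₂} : Set (MulAut T)) ≤ Stab W X i₀ := by
      rw [closure_le]
      rintro z (rfl | hz)
      · exact h1
      · rw [Set.mem_singleton_iff] at hz
        exact hz ▸ h2
    exact h4 (h ⟨t, rfl⟩)
  obtain ⟨z, hz, h5, h6⟩ := h3
  exact ⟨z, hz, h5, h6⟩

/-- `X ∩ M = 1` is impossible -/
theorem inf_ne_bot (hna : ¬ IsMulCommutative T) (hN : OutNum T) (hI : Fintype.card I = 2) {X : Subgroup G} {i₀ : I}
    (hB : Big W X i₀) : X ⊓ M ≠ ⊥ := by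
  intro h
  have h1 : Nat.card X ≤ Nat.card (G ⧸ M) := by
    refine Nat.card_le_card_of_injective (fun z : X => (QuotientGroup.mk (z : G) : G ⧸ M)) ?_
    intro z w hzw
    have h2 : (z : G)⁻¹ * w ∈ X ⊓ M := ⟨X.mul_mem (X.inv_mem z.2) w.2, QuotientGroup.eq.1 hzw⟩
    rw [h, mem_bot, inv_mul_eq_one] at h2
    exact Subtype.ext h2
  have h2 : Nat.card T ≤ Nat.card X := by
    choose g hg h3 h4 using hB
    refine Nat.card_le_card_of_injective (fun t => (⟨g t, hg t⟩ : X)) ?_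
    intro t t' htt
    have h5 : g t = g t' := congrArg Subtype.val htt
    apply conj_injective hna
    rw [← h4 t, ← h4 t', h5]
  have h3 := card_quot_le W
  rw [hI] at h3
  have h4 := hN.2
  have h5 : 0 < Nat.card T := Nat.card_pos
  have h6 : (2 : ℕ).factorial = 2 := rfl
  rw [h6] at h3
  omega

/-- (Wg) the case of two components -/
theorem two_comp (hna : ¬ IsMulCommutative T) (hC : Cos2 T) (hN : OutNum T) (hI : Fintype.card I = 2)
    (hd : ∀ (X : Subgroup G), X ⊔ M = ⊤ → ∀ i₀, Big W X i₀ → X = ⊤ ∨ X ⊓ M = ⊥ ∨ ∃ S : Setoid I, S ≠ ⊥ ∧ Inv W S ∧ TypeII W X S)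
    {x y : G} (hx : W.σ x = 1) (hy : W.σ y ≠ 1) (R : Set G) (hg : ∀ uv, XX W x y R uv ⊔ M = ⊤) :
    ∃ uv : (I → T) × (I → T), XX W x y R uv = ⊤ := by
  classical
  have hfin := finite_mulAut T
  obtain ⟨i₀, hi₀⟩ : ∃ i₀, W.σ y i₀ ≠ i₀ := by
    by_contra hne
    push Not at hne
    exact hy (Equiv.ext hne)
  set i₁ := W.σ y i₀ with hi₁
  have hcov : ∀ i, i = i₀ ∨ i = i₁ := by
    intro i
    by_contra hne
    push Not at hne
    have h1 : ({i₀, i₁, i} : Finset I).card ≤ 2 := hI ▸ Finset.card_le_univ _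
    rw [Finset.card_insert_of_notMem (by simp [Ne.symm hi₀, Ne.symm hne.1]),
      Finset.card_insert_of_notMem (by simpa using Ne.symm hne.2), Finset.card_singleton] at h1
    omega
  have hy1 : W.σ y i₁ = i₀ := by
    rcases hcov (W.σ y i₁) with h | h
    · exact h
    · exfalso
      exact hi₀ ((W.σ y).injective (h.trans hi₁))
  obtain ⟨s, ⟨s0, hs0⟩, t, ⟨t0, ht0⟩, hle⟩ := hC (W.f x i₀) (W.f y i₁ * W.f y i₀)
  set a₁ := W.f x i₀ * s with ha₁
  set a₂ := W.f y i₁ * W.f y i₀ * t with ha₂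
  have ha2 : a₂ ≠ 1 := by
    intro h
    apply hna
    rw [h] at hle
    have h1 : ∀ a b : T, a * b = b * a := by
      intro a b
      apply conj_injective hna
      have h2 : _root_.Subgroup.closure ({a₁, 1} : Set (MulAut T)) ≤ zpowers a₁ := by
        rw [closure_le]
        rintro z (rfl | hz)
        · exact mem_zpowers _
        · rw [Set.mem_singleton_iff] at hz
          rw [hz]
          exact one_mem _
      obtain ⟨m, hm⟩ := mem_zpowers_iff.1 (h2 (hle ⟨a, rfl⟩))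
      obtain ⟨n, hn⟩ := mem_zpowers_iff.1 (h2 (hle ⟨b, rfl⟩))
      rw [map_mul, map_mul, ← hm, ← hn, ← zpow_add, ← zpow_add, add_comm]
    exact ⟨⟨h1⟩⟩
  -- the second component of `v`
  obtain ⟨w, hw⟩ : ∃ w : T, W.f y i₁ * MulAut.conj w * W.f y i₀ = a₂ := by
    refine ⟨W.f y i₀ t0, ?_⟩
    rw [conj_map, ht0, ha₂]
    group
  let u : T → I → T := fun c i => if i = i₀ then s0 else c
  let v : I → T := fun i => if i = i₀ then 1 else w
  by_contra hne
  push Not at hne
  have hz1 : ∀ c, x * el W (u c) ∈ XX W x y R (u c, v) := fun c => _root_.Subgroup.subset_closure (by simp only [_root_.Set.mem_union, _root_.Set.mem_insert_iff, _root_.Set.mem_singleton_iff, _root_.true_or])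
  have hz2 : ∀ c, y * el W v ∈ XX W x y R (u c, v) := fun c => _root_.Subgroup.subset_closure (by simp only [_root_.Set.mem_union, _root_.Set.mem_insert_iff, _root_.Set.mem_singleton_iff, _root_.or_true, _root_.true_or])
  have hσ1 : ∀ c, W.σ (x * el W (u c)) = 1 := fun c => by rw [σ_mul_mem W _ (el_mem W _), hx]
  have hσ2 : W.σ (y * el W v) = W.σ y := σ_mul_mem W _ (el_mem W _)
  have hf1 : ∀ c i, W.f (x * el W (u c)) i = W.f x i * MulAut.conj (u c i) := fun c i => by
    rw [f_mul_mem W _ (el_mem W _), f_el]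
  have hf2 : ∀ i, W.f (y * el W v) i = W.f y i * MulAut.conj (v i) := fun i => by
    rw [f_mul_mem W _ (el_mem W _), f_el]
  have hu0 : ∀ c, u c i₀ = s0 := fun c => if_pos rfl
  have hu1 : ∀ c, u c i₁ = c := fun c => if_neg hi₀
  have hv0 : v i₀ = 1 := if_pos rfl
  have hv1 : v i₁ = w := if_neg hi₀
  have hf10 : ∀ c, W.f (x * el W (u c)) i₀ = a₁ := fun c => by rw [hf1, hu0, hs0]
  have hf20 : W.f (y * el W v) i₀ = W.f y i₀ := by rw [hf2, hv0, map_one, mul_one]
  have hf21 : W.f (y * el W v) i₁ = W.f y i₁ * MulAut.conj w := by rw [hf2, hv1]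
  -- every `c` is bad
  have key : ∀ c : T, ∃ ε : MulAut T, W.f x i₁ * MulAut.conj c = ε * a₁ * ε⁻¹ ∧
      W.f y i₁ * MulAut.conj w = ε⁻¹ * W.f y i₀ * ε⁻¹ := by
    intro c
    have hB : Big W (XX W x y R (u c, v)) i₀ := by
      refine big_of_lift W hle ⟨_, hz1 c, by rw [hσ1]; rfl, hf10 c⟩ ?_
      refine ⟨(y * el W v) * (y * el W v), (XX W x y R (u c, v)).mul_mem (hz2 c) (hz2 c), ?_, ?_⟩
      · rw [map_mul, Equiv.Perm.mul_apply, hσ2, ← hi₁, hy1]
      · rw [W.mul, hσ2, ← hi₁, hf20, hf21, hw]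
    rcases hd _ (hg _) i₀ hB with h | h | ⟨S, hS, -, ε, hε1, hε⟩
    · exact absurd h (hne _)
    · exact absurd h (inf_ne_bot W hna hN hI hB)
    · have hall : ∀ i j, S i j := by
        have h1 : ∃ i j, i ≠ j ∧ S i j := by
          by_contra hcon
          push Not at hcon
          apply hS
          ext i j
          constructor
          · intro hij
            by_contra hij'
            exact hcon i j hij' hij
          · intro hij
            have h5 : i = j := hij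
            rw [h5]
        obtain ⟨i, j, hij, h2⟩ := h1
        have h3 : S i₀ i₁ := by
          rcases hcov i with rfl | rfl
          · rcases hcov j with rfl | rfl
            · exact absurd rfl hij
            · exact h2
          · rcases hcov j with rfl | rfl
            · exact S.symm h2
            · exact absurd rfl hij
        intro a b
        rcases hcov a with rfl | rfl
        · rcases hcov b with rfl | rfl
          · exact S.refl _
          · exact h3
        · rcases hcov b with rfl | rfl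
          · exact S.symm h3
          · exact S.refl _
      have hrep : ∀ i, rep S i = rep S i₀ := by
        intro i
        unfold rep
        congr 1
        exact Quotient.sound (hall i i₀)
      have e1 := hε _ (hz1 c)
      have e2 := hε _ (hz2 c)
      simp only [hσ1, Equiv.Perm.one_apply, hσ2, hrep] at e1 e2
      rcases hcov (rep S i₀) with hr | hr
      · rw [hr] at e1 e2
        have h1 : ε i₀ = 1 := hε1 i₀ hr
        have e3 := e1 i₁
        have e4 := e2 i₁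
        rw [hf10, hf1, hu1, h1, inv_one, mul_one] at e3
        rw [hf20, hf21, hy1, ← hi₁, h1, one_mul] at e4
        refine ⟨ε i₁, eq_mul_inv_of_mul_eq e3, ?_⟩
        rw [← e4, mul_inv_cancel_right]
      · rw [hr] at e1 e2
        have h1 : ε i₁ = 1 := by
          refine hε1 i₁ ?_
          rw [hrep, hr]
        have e3 := e1 i₀
        have e4 := e2 i₀
        rw [hf10, hf1, hu1, h1, inv_one, mul_one] at e3
        rw [hf20, hf21, hy1, ← hi₁, h1, one_mul] at e4
        refine ⟨(ε i₀)⁻¹, ?_, ?_⟩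
        · rw [mul_assoc, inv_inv, e3, inv_mul_cancel_left]
        · rw [inv_inv, mul_assoc, e4, mul_inv_cancel_left]
  choose ε hε1 hε2 using key
  have hlt := card_sqrt_lt hna hN ha2
  have hle2 : Nat.card T ≤ Nat.card {θ : MulAut T // θ * θ = a₂} := by
    refine Nat.card_le_card_of_injective (fun c => ⟨(ε c)⁻¹ * W.f y i₀, ?_⟩) ?_
    · rw [← hw, hε2 c]
      group
    · intro c c' h
      have h1 : (ε c)⁻¹ * W.f y i₀ = (ε c')⁻¹ * W.f y i₀ := congrArg Subtype.val h
      have h2 : ε c = ε c' := inv_injective (mul_right_cancel h1)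
      have h3 := hε1 c
      rw [h2, ← hε1 c'] at h3
      exact conj_injective hna (mul_left_cancel h3)
  omega

end Cfsg.Agent.H891.DG.WrB
end

-- part: H332/DG/TypeTwo
section
/-!
# TEAM GEN, S4180: the pieces Wa, Wb of the counting argument (helper332)
-/

set_option autoImplicit false
set_option linter.unusedSectionVars false

namespace Cfsg.Agent.H332.DG

open Subgroup Cfsg.Agent.H891.DG Cfsg.Agent.H891.DG.WrB
universe u

variable {G : Type u} [Group G] [Finite G] {M : Subgroup G} [M.Normal] {I T : Type u} [Fintype I] [DecidableEq I]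
  [Group T] [Finite T] [IsSimpleGroup T] (W : Wr G M I T)

theorem inv_iff {S : Setoid I} (hI : _root_.Cfsg.Agent.H891.DG.WrB.Inv W S) (g : G) (i j : I) : S (W.σ g i) (W.σ g j) ↔ S i j := by
  constructor
  · intro h
    have h1 := hI g⁻¹ _ _ h
    rwa [σ_inv, σ_inv] at h1
  · exact hI g i j

/-- (Wa) the number of classes of an invariant relation -/
theorem two_mul_card_quot {S : Setoid I} (hI : _root_.Cfsg.Agent.H891.DG.WrB.Inv W S) (hne : S ≠ ⊥) (i₀ : I) :
    Nat.card (Quotient S) * Nat.card {i // S i₀ i} = Fintype.card I ∧ 2 ≤ Nat.card {i // S i₀ i} := by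
  classical
  constructor
  · have e : ∀ q : Quotient S, Nat.card {i : I // Quotient.mk S i = q} = Nat.card {i // S i₀ i} := by
      intro q
      obtain ⟨g, hg⟩ := W.trans i₀ q.out
      symm
      refine Nat.card_congr ((W.σ g).subtypeEquiv fun i => ?_)
      rw [← inv_iff W hI g, hg]
      constructor
      · intro h
        rw [← Quotient.out_eq q]
        exact (Quotient.sound h).symm
      · intro h
        rw [← Quotient.out_eq q] at h
        exact Quotient.exact h.symm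
    rw [← Nat.card_eq_fintype_card, ← Nat.card_congr (Equiv.sigmaFiberEquiv (Quotient.mk S)), Nat.card_sigma,
      Finset.sum_congr rfl fun q _ => e q, Finset.sum_const, Finset.card_univ, smul_eq_mul, Nat.card_eq_fintype_card]
  · obtain ⟨a, b, hab, hne'⟩ : ∃ a b, S a b ∧ a ≠ b := by
      by_contra hcon
      push Not at hcon
      apply hne
      ext a b
      constructor
      · intro h
        exact hcon a b h
      · intro h
        have h' : a = b := h
        rw [h']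
    obtain ⟨g, hg⟩ := W.trans a i₀
    have : Nontrivial {i // S i₀ i} := by
      refine ⟨⟨⟨i₀, S.refl i₀⟩, ⟨W.σ g b, ?_⟩, ?_⟩⟩
      · rw [← hg]
        exact hI g _ _ hab
      · intro h
        have h1 : i₀ = W.σ g b := congrArg Subtype.val h
        rw [← hg] at h1
        exact hne' ((W.σ g).injective h1)
    exact Finite.one_lt_card

/-- (Wa) an invariant relation is determined by the class of `i₀` -/
theorem inv_ext {S S' : Setoid I} (hI : _root_.Cfsg.Agent.H891.DG.WrB.Inv W S) (hI' : _root_.Cfsg.Agent.H891.DG.WrB.Inv W S') (i₀ : I) (h : ∀ i, S i₀ i ↔ S' i₀ i) : S = S' := by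
  ext i j
  obtain ⟨g, hg⟩ := W.trans i i₀
  rw [← inv_iff W hI g, ← inv_iff W hI' g, hg]
  exact h _

/-- the number of the representatives -/
theorem card_rep (S : Setoid I) : Nat.card {i : I // rep S i ≠ i} = Fintype.card I - Nat.card (Quotient S) := by
  classical
  have h1 : Nat.card {i : I // rep S i = i} = Nat.card (Quotient S) :=
    Nat.card_congr
      { toFun := fun i => Quotient.mk S i.1
        invFun := fun q => ⟨q.out, by
          unfold rep
          rw [Quotient.out_eq]⟩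
        left_inv := fun i => Subtype.ext i.2
        right_inv := fun q => Quotient.out_eq q }
  rw [← h1, Nat.card_eq_fintype_card, Nat.card_eq_fintype_card]
  exact Fintype.card_subtype_compl _

/-- the component at `i` from the component at the representative -/
theorem comp_eq (hna : ¬ IsMulCommutative T) {x : G} {u u' : I → T} {ε : I → MulAut T} {i r : I}
    (hr : u r = u' r)
    (h : W.f (x * el W u) i * ε i = ε (W.σ (x * el W u) i) * (ε (W.σ (x * el W u) r))⁻¹ * W.f (x * el W u) r)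
    (h' : W.f (x * el W u') i * ε i = ε (W.σ (x * el W u') i) * (ε (W.σ (x * el W u') r))⁻¹ * W.f (x * el W u') r) :
    u i = u' i := by
  rw [σ_mul_mem W x (el_mem W u), f_mul_mem W x (el_mem W u), f_mul_mem W x (el_mem W u), f_el, f_el, hr] at h
  rw [σ_mul_mem W x (el_mem W u'), f_mul_mem W x (el_mem W u'), f_mul_mem W x (el_mem W u'), f_el, f_el, ← h] at h'
  exact _root_.Cfsg.Agent.H891.DG.WrB.conj_injective hna (mul_left_cancel (mul_right_cancel h')).symm

/-- (Wb) -/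
theorem card_typeII (hna : ¬ IsMulCommutative T) (x y : G) (R : Set G) (S : Setoid I) :
    Nat.card {uv : (I → T) × (I → T) // TypeII W (XX W x y R uv) S} ≤
      Nat.card (MulAut T) ^ (Fintype.card I - Nat.card (Quotient S)) * Nat.card T ^ (2 * Nat.card (Quotient S)) := by
  classical
  have := finite_mulAut T
  have h0 : Nat.card (({i : I // rep S i ≠ i} → MulAut T) × ((Quotient S → T) × (Quotient S → T))) =
      Nat.card (MulAut T) ^ (Fintype.card I - Nat.card (Quotient S)) * Nat.card T ^ (2 * Nat.card (Quotient S)) := by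
    rw [Nat.card_prod, Nat.card_prod, Nat.card_fun, Nat.card_fun, card_rep, two_mul, pow_add]
  rw [← h0]
  refine Nat.card_le_card_of_injective (fun p : {uv : (I → T) × (I → T) // TypeII W (XX W x y R uv) S} =>
    ((fun i : {i : I // rep S i ≠ i} => p.2.choose i.1), (fun q : Quotient S => p.1.1 q.out),
      fun q : Quotient S => p.1.2 q.out)) ?_
  intro p p' hpp
  simp only [Prod.mk.injEq] at hpp
  obtain ⟨h1, h2, h3⟩ := hpp
  obtain ⟨hε1, hε⟩ := p.2.choose_spec
  obtain ⟨hε1', hε'⟩ := p'.2.choose_spec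
  have hεε : p.2.choose = p'.2.choose := by
    funext i
    by_cases hi : rep S i = i
    · rw [hε1 i hi, hε1' i hi]
    · exact congrFun h1 ⟨i, hi⟩
  rw [← hεε] at hε'
  have hx : ∀ uv : (I → T) × (I → T), x * el W uv.1 ∈ XX W x y R uv := fun uv =>
    _root_.Subgroup.subset_closure (Or.inl (Or.inl rfl))
  have hy : ∀ uv : (I → T) × (I → T), y * el W uv.2 ∈ XX W x y R uv := fun uv =>
    _root_.Subgroup.subset_closure (Or.inl (Or.inr rfl))
  apply Subtype.ext
  refine Prod.ext ?_ ?_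
  · funext i
    exact comp_eq W hna (r := rep S i) (congrFun h2 (Quotient.mk S i)) (hε _ (hx _) i) (hε' _ (hx _) i)
  · funext i
    exact comp_eq W hna (r := rep S i) (congrFun h3 (Quotient.mk S i)) (hε _ (hy _) i) (hε' _ (hy _) i)

end Cfsg.Agent.H332.DG
end

-- part: H58/DG/Numeric
section
/-!
# TEAM GEN, S4180, piece Wf: the numerical estimate (helper58)
-/

set_option autoImplicit false
namespace Cfsg.Agent.H891.DG.WrB

open Subgroup Cfsg.Agent.H891.DG
universe u

theorem num_fifteen {o s : ℕ} (hs : 60 ≤ s) (h4 : 4 * o ^ 2 ≤ s) : 15 * o ≤ s := by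
  rcases le_or_gt o 4 with h | h
  · linarith only [hs, h]
  · nlinarith

theorem num_term {n o s k : ℕ} (hs : 60 ≤ s) (h4 : 4 * o ^ 2 ≤ s) (hk : 2 ≤ k) (hkn : k ≤ n) :
    4 * 15 ^ (k - 2) * ((o * s) ^ k * s ^ (2 * (n - k))) ≤ s ^ (2 * n - 1) := by
  obtain ⟨j, rfl⟩ : ∃ j, k = j + 2 := ⟨k - 2, by omega⟩
  obtain ⟨r, rfl⟩ : ∃ r, n = j + 2 + r := ⟨n - (j + 2), by omega⟩
  have h15 : 15 * o ≤ s := num_fifteen hs h4
  have e1 : j + 2 - 2 = j := by omega
  have e2 : j + 2 + r - (j + 2) = r := by omega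
  have e3 : 2 * (j + 2 + r) - 1 = (j + 1) + (j + 2) + 2 * r := by omega
  rw [e1, e2, e3]
  calc 4 * 15 ^ j * ((o * s) ^ (j + 2) * s ^ (2 * r))
      = (4 * o ^ 2) * (15 * o) ^ j * (s ^ (j + 2) * s ^ (2 * r)) := by
        rw [mul_pow, mul_pow]; ring
    _ ≤ s * s ^ j * (s ^ (j + 2) * s ^ (2 * r)) := by
        gcongr
    _ = s ^ (j + 1 + (j + 2) + 2 * r) := by ring

theorem num_kappa {n o s κ : ℕ} (hn : 3 ≤ n) (hs : 60 ≤ s) (h4 : 4 * o ^ 2 ≤ s)
    (hκ : s ^ κ ≤ n.factorial * o ^ n) : κ ≤ n ^ 2 := by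
  by_contra hc
  rw [not_le] at hc
  have h15 : 15 * o ≤ s := num_fifteen hs h4
  have h1 : (s ^ n) ^ n ≤ (n * o) ^ n := by
    calc (s ^ n) ^ n = s ^ (n ^ 2) := by rw [← pow_mul, sq]
      _ ≤ s ^ κ := Nat.pow_le_pow_right (by omega) hc.le
      _ ≤ n.factorial * o ^ n := hκ
      _ ≤ n ^ n * o ^ n := Nat.mul_le_mul_right _ (Nat.factorial_le_pow n)
      _ = (n * o) ^ n := (mul_pow _ _ _).symm
  have h2 : s ^ n ≤ n * o := (Nat.pow_le_pow_iff_left (by omega)).1 h1
  obtain ⟨m, rfl⟩ : ∃ m, n = m + 1 := ⟨n - 1, by omega⟩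
  have h3 : m + 1 < s ^ m := by
    have h5 : m + 1 < 60 ^ m := by
      clear h1 h2 hc hκ
      induction m, (show 2 ≤ m by omega) using Nat.le_induction with
      | base => norm_num
      | succ k hk ih =>
        have := ih (by omega)
        rw [pow_succ]
        omega
    exact lt_of_lt_of_le h5 (Nat.pow_le_pow_left hs m)
  have h6 : s ^ (m + 1) = s ^ m * s := pow_succ _ _
  have h7 : (m + 1) * s < s ^ m * s := Nat.mul_lt_mul_of_pos_right h3 (by omega)
  have h8 : (m + 1) * o ≤ (m + 1) * s := Nat.mul_le_mul_left _ (by omega)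
  omega

theorem num_kappa_term {n o s κ : ℕ} (hn : 3 ≤ n) (hs : 60 ≤ s) (h4 : 4 * o ^ 2 ≤ s)
    (hκ : s ^ κ ≤ n.factorial * o ^ n) : 100 * (κ * (o * s) * s ^ (n - 1)) ≤ s ^ (2 * n - 1) := by
  have h15 : 15 * o ≤ s := num_fifteen hs h4
  have hk : κ ≤ n ^ 2 := num_kappa hn hs h4 hκ
  obtain ⟨m, rfl⟩ : ∃ m, n = m + 3 := ⟨n - 3, by omega⟩
  have e1 : m + 3 - 1 = m + 2 := by omega
  have e2 : 2 * (m + 3) - 1 = (m + 1) + (m + 4) := by omega
  rw [e1, e2]
  have h5 : 100 * (m + 3) ^ 2 ≤ 15 * 60 ^ (m + 1) := by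
    clear hκ hk
    induction m with
    | zero => norm_num
    | succ k ih =>
      have := ih (by omega) (by omega) (by omega)
      have h6 : 15 * 60 ^ (k + 1 + 1) = 60 * (15 * 60 ^ (k + 1)) := by ring
      rw [h6]
      nlinarith only [this, _root_.sq_nonneg (↑k + 3 : ℤ), _root_.Nat.cast_nonneg (α := ℤ) (k), _root_.sq_nonneg (↑k + 1 + 3 : ℤ)]
  have h6 : 100 * (m + 3) ^ 2 ≤ 15 * s ^ (m + 1) :=
    h5.trans (Nat.mul_le_mul_left _ (Nat.pow_le_pow_left hs _))
  have h7 : 15 * (100 * (κ * (o * s) * s ^ (m + 2))) ≤ 15 * s ^ ((m + 1) + (m + 4)) := by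
    calc 15 * (100 * (κ * (o * s) * s ^ (m + 2)))
        = 100 * κ * (15 * o) * s ^ (m + 3) := by ring
      _ ≤ 100 * (m + 3) ^ 2 * s * s ^ (m + 3) := by gcongr
      _ ≤ 15 * s ^ (m + 1) * s * s ^ (m + 3) := by gcongr
      _ = 15 * s ^ ((m + 1) + (m + 4)) := by ring
  omega

theorem num_pow {n : ℕ} (hn : 5 ≤ n) : 15 * 2 ^ (n - 1) ≤ 32 * 15 ^ (n - n / 2 - 2) := by
  induction n using Nat.strong_induction_on with
  | _ n ih =>
    rcases lt_or_ge n 7 with h | h
    · interval_cases n <;> norm_num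
    · have h1 := ih (n - 2) (by omega) (by omega)
      have e1 : n - 1 = (n - 2 - 1) + 2 := by omega
      have e2 : n - n / 2 - 2 = (n - 2 - (n - 2) / 2 - 2) + 1 := by omega
      rw [e1, e2, pow_add, pow_succ]
      omega

variable {I : Type u} [Fintype I] [DecidableEq I]

theorem num_card_filter (i₀ : I) : ((Finset.univ : Finset (Finset I)).filter fun B => i₀ ∈ B).card ≤
    2 ^ (Fintype.card I - 1) := by
  have h1 : ((Finset.univ : Finset (Finset I)).filter fun B => i₀ ∈ B) ⊆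
      ((Finset.univ.erase i₀ : Finset I).powerset).image (insert i₀) := by
    intro B hB
    rw [Finset.mem_filter] at hB
    rw [Finset.mem_image]
    refine ⟨B.erase i₀, ?_, Finset.insert_erase hB.2⟩
    rw [Finset.mem_powerset]
    exact Finset.erase_subset_erase _ (Finset.subset_univ B)
  refine (Finset.card_le_card h1).trans (Finset.card_image_le.trans ?_)
  rw [Finset.card_powerset, Finset.card_erase_of_mem (Finset.mem_univ _), Finset.card_univ]

theorem num_card_two (i₀ : I) :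
    ((Finset.univ : Finset (Finset I)).filter fun B => i₀ ∈ B ∧ B.card = 2).card ≤ Fintype.card I - 1 := by
  have h1 : ((Finset.univ : Finset (Finset I)).filter fun B => i₀ ∈ B ∧ B.card = 2) ⊆
      (Finset.univ.erase i₀ : Finset I).image fun j => {i₀, j} := by
    intro B hB
    rw [Finset.mem_filter] at hB
    obtain ⟨-, h2, h3⟩ := hB
    rw [Finset.mem_image]
    have h4 : (B.erase i₀).card = 1 := by rw [Finset.card_erase_of_mem h2, h3]
    obtain ⟨j, hj⟩ := Finset.card_eq_one.1 h4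
    refine ⟨j, ?_, ?_⟩
    · rw [Finset.mem_erase]
      refine ⟨?_, Finset.mem_univ _⟩
      have h5 : j ∈ B.erase i₀ := by rw [hj]; exact Finset.mem_singleton_self j
      exact (Finset.mem_erase.1 h5).1
    · rw [← hj, Finset.insert_erase h2]
  refine (Finset.card_le_card h1).trans (Finset.card_image_le.trans ?_)
  rw [Finset.card_erase_of_mem (Finset.mem_univ _), Finset.card_univ]

/-- (Wf) numerics (`n ≥ 3`) -/
theorem numeric {n o s κ : ℕ} (hn : 3 ≤ n) (ho : 1 ≤ o) (hs : 60 ≤ s) (h4 : 4 * o ^ 2 ≤ s)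
    (hκ : s ^ κ ≤ n.factorial * o ^ n) (hI : Fintype.card I = n) (i₀ : I) :
    ∑ B ∈ ((Finset.univ : Finset (Finset I)).filter fun B => i₀ ∈ B ∧ 2 ≤ B.card ∧ B.card ∣ n),
      (o * s) ^ (n - n / B.card) * s ^ (2 * (n / B.card)) + κ * (o * s) * s ^ (n - 1) < s ^ (2 * n - 1) := by
  have hκt := num_kappa_term hn hs h4 hκ
  have hS : 0 < s ^ (2 * n - 1) := by positivity
  -- the single terms
  have hdiv : ∀ b : ℕ, 2 ≤ b → n / b ≤ n / 2 := fun b hb => Nat.div_le_div_left hb (by omega)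
  have hterm : ∀ b : ℕ, 2 ≤ b →
      4 * 15 ^ (n - n / b - 2) * ((o * s) ^ (n - n / b) * s ^ (2 * (n / b))) ≤ s ^ (2 * n - 1) := by
    intro b hb
    have h1 := hdiv b hb
    have h2 := num_term (n := n) (o := o) (s := s) (k := n - n / b) hs h4
    generalize n / b = q at h1 h2 ⊢
    have h3 := h2 (by omega) (by omega)
    have e : n - (n - q) = q := by (clear * - h1; omega)
    rwa [e] at h3
  rcases lt_or_ge n 5 with hn5 | hn5
  · obtain rfl | rfl : n = 3 ∨ n = 4 := by omega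
    · -- n = 3
      have h1 : ((Finset.univ : Finset (Finset I)).filter fun B => i₀ ∈ B ∧ 2 ≤ B.card ∧ B.card ∣ 3) ⊆
          {Finset.univ} := by
        intro B hB
        rw [Finset.mem_filter] at hB
        obtain ⟨-, -, h2, h3⟩ := hB
        rw [Finset.mem_singleton]
        apply Finset.eq_univ_of_card
        rw [hI]
        have h5 := Nat.le_of_dvd (by norm_num) h3
        interval_cases h : B.card
        · omega
        · rfl
      have h2 := Finset.sum_le_sum_of_subset (f := fun B : Finset I =>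
        (o * s) ^ (3 - 3 / B.card) * s ^ (2 * (3 / B.card))) h1
      rw [Finset.sum_singleton, Finset.card_univ, hI] at h2
      have h3 := hterm 3 (by norm_num)
      norm_num only [_root_.gt_iff_lt] at h2 h3 hκt hS ⊢
      omega
    · -- n = 4
      have h1 : ((Finset.univ : Finset (Finset I)).filter fun B => i₀ ∈ B ∧ 2 ≤ B.card ∧ B.card ∣ 4) ⊆
          insert Finset.univ ((Finset.univ : Finset (Finset I)).filter fun B => i₀ ∈ B ∧ B.card = 2) := by
        intro B hB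
        rw [Finset.mem_filter] at hB
        obtain ⟨-, h0, h2, h3⟩ := hB
        rw [Finset.mem_insert, Finset.mem_filter]
        have h5 := Nat.le_of_dvd (by norm_num) h3
        interval_cases h : B.card
        · exact Or.inr ⟨Finset.mem_univ _, h0, rfl⟩
        · omega
        · left
          apply Finset.eq_univ_of_card
          rw [hI, h]
      have h2 := Finset.sum_le_sum_of_subset (f := fun B : Finset I =>
        (o * s) ^ (4 - 4 / B.card) * s ^ (2 * (4 / B.card))) h1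
      have h2' : ∑ B ∈ insert Finset.univ
          ((Finset.univ : Finset (Finset I)).filter fun B => i₀ ∈ B ∧ B.card = 2),
          (o * s) ^ (4 - 4 / B.card) * s ^ (2 * (4 / B.card)) ≤
          (o * s) ^ (4 - 4 / 4) * s ^ (2 * (4 / 4)) +
            3 * ((o * s) ^ (4 - 4 / 2) * s ^ (2 * (4 / 2))) := by
        rw [Finset.sum_insert]
        · rw [Finset.card_univ, hI]
          gcongr
          refine (Finset.sum_le_card_nsmul _ _ ((o * s) ^ (4 - 4 / 2) * s ^ (2 * (4 / 2))) ?_).trans ?_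
          · intro B hB
            rw [(Finset.mem_filter.1 hB).2.2]
          · rw [smul_eq_mul]
            have h6 := num_card_two i₀
            rw [hI] at h6
            exact Nat.mul_le_mul_right _ h6
        · intro h6
          have h7 := (Finset.mem_filter.1 h6).2.2
          rw [Finset.card_univ, hI] at h7
          omega
      have h3 := hterm 2 (by norm_num)
      have h5 := hterm 4 (by norm_num)
      norm_num only [_root_.gt_iff_lt] at h2 h2' h3 h5 hκt hS ⊢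
      omega
  · -- n ≥ 5
    set D : ℕ := 4 * 15 ^ (n - n / 2 - 2) with hD
    have hD0 : 0 < D := by positivity
    set Sg : ℕ := ∑ B ∈ ((Finset.univ : Finset (Finset I)).filter fun B => i₀ ∈ B ∧ 2 ≤ B.card ∧ B.card ∣ n),
      (o * s) ^ (n - n / B.card) * s ^ (2 * (n / B.card)) with hSg
    have h1 : D * Sg ≤ 2 ^ (n - 1) * s ^ (2 * n - 1) := by
      rw [hSg, Finset.mul_sum]
      refine (Finset.sum_le_card_nsmul _ _ (s ^ (2 * n - 1)) ?_).trans ?_
      · intro B hB
        obtain ⟨-, -, h2, -⟩ := Finset.mem_filter.1 hB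
        refine le_trans ?_ (hterm B.card h2)
        rw [hD]
        have h8 := hdiv _ h2
        gcongr
        norm_num
      · rw [smul_eq_mul]
        refine Nat.mul_le_mul_right _ ?_
        have h6 := num_card_filter i₀
        rw [hI] at h6
        refine le_trans (Finset.card_le_card ?_) h6
        intro B hB
        rw [Finset.mem_filter] at hB ⊢
        exact ⟨hB.1, hB.2.1⟩
    have h2 : 15 * 2 ^ (n - 1) ≤ 8 * D := by
      have := num_pow hn5
      rw [hD]
      omega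
    have h3 : D * (15 * Sg) ≤ D * (8 * s ^ (2 * n - 1)) := by
      calc D * (15 * Sg) = 15 * (D * Sg) := by ring
        _ ≤ 15 * (2 ^ (n - 1) * s ^ (2 * n - 1)) := Nat.mul_le_mul_left _ h1
        _ = (15 * 2 ^ (n - 1)) * s ^ (2 * n - 1) := by ring
        _ ≤ (8 * D) * s ^ (2 * n - 1) := Nat.mul_le_mul_right _ h2
        _ = D * (8 * s ^ (2 * n - 1)) := by ring
    have h5 : 15 * Sg ≤ 8 * s ^ (2 * n - 1) := Nat.le_of_mul_le_mul_left h3 hD0
    omega

end Cfsg.Agent.H891.DG.WrB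
end

-- part: H530/DG/Label
section
/-!
# TEAM GEN, S4180, piece Wd: labels (helper530)

`exists_label` : for `x`, `y` in `G` there are at least `|T| ^ (2 |I| - 1)` pairs `(u, v)` such that every subgroup
containing `x · el u` and `y · el v` induces at least `Inn T` on the `i₀`-th copy of `T`.
-/

set_option autoImplicit false
set_option linter.unusedSectionVars false

namespace Cfsg.Agent.H530.DG

open Subgroup Cfsg.Agent.H891.DG Cfsg.Agent.H891.DG.WrB

universe u

section aux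

variable {G : Type u} [Group G] {M : Subgroup G} {I T : Type u} [Fintype I] [DecidableEq I]
  [Group T] (W : Wr G M I T)

/-- the inner automorphisms -/
abbrev Inn (T : Type u) [Group T] : Subgroup (MulAut T) := (MulAut.conj : T →* MulAut T).range

theorem conj_mem_inn {T : Type u} [Group T] (α : MulAut T) {β : MulAut T} (h : β ∈ Inn T) :
    α * β * α⁻¹ ∈ Inn T := by
  obtain ⟨t, rfl⟩ := h
  rw [← conj_map]
  exact ⟨_, rfl⟩

theorem conj_mem_inn' {T : Type u} [Group T] (α : MulAut T) {β : MulAut T} (h : β ∈ Inn T) :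
    α⁻¹ * β * α ∈ Inn T := by
  have := conj_mem_inn α⁻¹ h
  rwa [inv_inv] at this

/-- the length of the cycle of `i₀` -/
theorem exists_period (g : G) (i₀ : I) : ∃ k : ℕ, 0 < k ∧ W.σ (g ^ k) i₀ = i₀ ∧
    ∀ j, 0 < j → j < k → W.σ (g ^ j) i₀ ≠ i₀ := by
  have h : ∃ k, 0 < k ∧ W.σ (g ^ k) i₀ = i₀ := by
    refine ⟨orderOf (W.σ g), orderOf_pos _, ?_⟩
    rw [map_pow, pow_orderOf_eq_one]
    rfl
  refine ⟨Nat.find h, (Nat.find_spec h).1, (Nat.find_spec h).2, fun j hj hjk hc => ?_⟩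
  exact Nat.find_min h hjk ⟨hj, hc⟩

theorem σ_pow_el (g : G) (u : I → T) (j : ℕ) : W.σ ((g * el W u) ^ j) = W.σ (g ^ j) := by
  rw [map_pow, map_pow, σ_mul_mem W g (el_mem W u)]

theorem f_el_mul (g : G) (u : I → T) (i : I) : W.f (g * el W u) i = W.f g i * MulAut.conj (u i) := by
  rw [f_mul_mem W g (el_mem W u), f_el]

theorem pow_aux (g : G) (i₀ : I) (u : I → T) {k : ℕ} (hk : ∀ j, 0 < j → j < k → W.σ (g ^ j) i₀ ≠ i₀) (j : ℕ) :
    j + 1 ≤ k → ∃ P : MulAut T,
      (∀ t : T, W.f ((g * el W (Function.update u i₀ t)) ^ (j + 1)) i₀ = P * MulAut.conj t) ∧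
      (W.f (g ^ (j + 1)) i₀)⁻¹ * P ∈ Inn T := by
  induction j with
  | zero =>
    intro _
    refine ⟨W.f g i₀, fun t => ?_, ?_⟩
    · rw [zero_add, pow_one, f_el_mul, Function.update_self]
    · rw [zero_add, pow_one, inv_mul_cancel]
      exact one_mem _
  | succ j ih =>
    intro hj
    obtain ⟨P, h1, h2⟩ := ih (by omega)
    have hne := hk (j + 1) (Nat.succ_pos j) (by omega)
    refine ⟨W.f g (W.σ (g ^ (j + 1)) i₀) * MulAut.conj (u (W.σ (g ^ (j + 1)) i₀)) * P, fun t => ?_, ?_⟩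
    · rw [pow_succ', W.mul, σ_pow_el, h1 t, f_el_mul, Function.update_of_ne hne]
      simp only [mul_assoc]
    · rw [pow_succ' g (j + 1), W.mul]
      have e : (W.f g (W.σ (g ^ (j + 1)) i₀) * W.f (g ^ (j + 1)) i₀)⁻¹ *
          (W.f g (W.σ (g ^ (j + 1)) i₀) * MulAut.conj (u (W.σ (g ^ (j + 1)) i₀)) * P) =
          ((W.f (g ^ (j + 1)) i₀)⁻¹ * MulAut.conj (u (W.σ (g ^ (j + 1)) i₀)) * W.f (g ^ (j + 1)) i₀) *
            ((W.f (g ^ (j + 1)) i₀)⁻¹ * P) := by group
      rw [e]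
      exact mul_mem (conj_mem_inn' _ ⟨_, rfl⟩) h2

theorem exists_val (g : G) (i₀ : I) (u : I → T) {k : ℕ} (hk0 : 0 < k)
    (hk : ∀ j, 0 < j → j < k → W.σ (g ^ j) i₀ ≠ i₀) {a : MulAut T} (ha : (W.f (g ^ k) i₀)⁻¹ * a ∈ Inn T) :
    ∃ t : T, W.f ((g * el W (Function.update u i₀ t)) ^ k) i₀ = a := by
  obtain ⟨j, rfl⟩ := Nat.exists_eq_succ_of_ne_zero hk0.ne'
  obtain ⟨P, h1, h2⟩ := pow_aux W g i₀ u hk j le_rfl
  have h3 : P⁻¹ * a ∈ Inn T := by
    have e : P⁻¹ * a = ((W.f (g ^ (j + 1)) i₀)⁻¹ * P)⁻¹ * ((W.f (g ^ (j + 1)) i₀)⁻¹ * a) := by group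
    rw [e]
    exact mul_mem (inv_mem h2) ha
  obtain ⟨t, ht⟩ := h3
  refine ⟨t, ?_⟩
  rw [Nat.succ_eq_add_one, h1, ht, mul_inv_cancel_left]

/-- the automorphisms of the `i₀`-th copy induced by the stabiliser of `i₀` in `X` -/
def ind (X : Subgroup G) (i₀ : I) : Subgroup (MulAut T) where
  carrier := {α | ∃ z ∈ X, W.σ z i₀ = i₀ ∧ W.f z i₀ = α}
  one_mem' := ⟨1, one_mem _, by rw [map_one]; rfl, f_one W i₀⟩
  mul_mem' := by
    rintro a b ⟨z, hz, h1, h2⟩ ⟨z', hz', h1', h2'⟩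
    refine ⟨z * z', mul_mem hz hz', ?_, ?_⟩
    · rw [map_mul, Equiv.Perm.mul_apply, h1', h1]
    · rw [W.mul, h1', h2, h2']
  inv_mem' := by
    rintro a ⟨z, hz, h1, h2⟩
    refine ⟨z⁻¹, inv_mem hz, ?_, ?_⟩
    · have := σ_inv W z i₀
      rwa [h1] at this
    · have := f_inv W z i₀
      rwa [h1, h2] at this

end aux

variable {G : Type u} [Group G] [Finite G] {M : Subgroup G} [M.Normal] {I T : Type u} [Fintype I] [DecidableEq I]
  [Group T] [Finite T] [IsSimpleGroup T] (W : Wr G M I T)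

/-- **(Wd)** labels -/
theorem exists_label (hna : ¬ IsMulCommutative T) (hC : Cos2 T) (x y : G) (i₀ : I) :
    ∃ Ω : Set ((I → T) × (I → T)), Nat.card T ^ (2 * Fintype.card I - 1) ≤ Nat.card Ω ∧
      ∀ uv ∈ Ω, ∀ X : Subgroup G, x * el W uv.1 ∈ X → y * el W uv.2 ∈ X → Big W X i₀ := by
  classical
  obtain ⟨k₁, hk₁, hσ₁, hm₁⟩ := exists_period W x i₀
  obtain ⟨k₂, hk₂, hσ₂, hm₂⟩ := exists_period W y i₀
  obtain ⟨s₁, hs₁, s₂, hs₂, hgen⟩ := hC (W.f (x ^ k₁) i₀) (W.f (y ^ k₂) i₀)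
  set a₁ := W.f (x ^ k₁) i₀ * s₁ with ha₁
  set a₂ := W.f (y ^ k₂) i₀ * s₂ with ha₂
  have key : ∀ (c : T) (b a s : MulAut T), a = b * s → s ∈ Inn T →
      b⁻¹ * (MulAut.conj c * a * (MulAut.conj c)⁻¹) ∈ Inn T := by
    rintro c b a s rfl hs
    have e : b⁻¹ * (MulAut.conj c * (b * s) * (MulAut.conj c)⁻¹) =
        (b⁻¹ * MulAut.conj c * b) * s * (MulAut.conj c)⁻¹ := by group
    rw [e]
    exact mul_mem (mul_mem (conj_mem_inn' _ ⟨_, rfl⟩) hs) (inv_mem ⟨_, rfl⟩)
  -- extension by `1`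
  let ex : ({i : I // i ≠ i₀} → T) → I → T := fun u i => if h : i ≠ i₀ then u ⟨i, h⟩ else 1
  have h₁ : ∀ (c : T) (u : {i : I // i ≠ i₀} → T), ∃ t : T,
      W.f ((x * el W (Function.update (ex u) i₀ t)) ^ k₁) i₀ = MulAut.conj c * a₁ * (MulAut.conj c)⁻¹ :=
    fun c u => exists_val W x i₀ (ex u) hk₁ hm₁ (key c _ _ _ ha₁ hs₁)
  have h₂ : ∀ (c : T) (u : {i : I // i ≠ i₀} → T), ∃ t : T,
      W.f ((y * el W (Function.update (ex u) i₀ t)) ^ k₂) i₀ = MulAut.conj c * a₂ * (MulAut.conj c)⁻¹ :=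
    fun c u => exists_val W y i₀ (ex u) hk₂ hm₂ (key c _ _ _ ha₂ hs₂)
  choose t₁ ht₁ using h₁
  choose t₂ ht₂ using h₂
  let Φ : T × (({i : I // i ≠ i₀} → T) × ({i : I // i ≠ i₀} → T)) → (I → T) × (I → T) := fun p =>
    (Function.update (ex p.2.1) i₀ (t₁ p.1 p.2.1), Function.update (ex p.2.2) i₀ (t₂ p.1 p.2.2))
  have hex : ∀ (u v : {i : I // i ≠ i₀} → T) (t t' : T),
      Function.update (ex u) i₀ t = Function.update (ex v) i₀ t' → u = v := by
    intro u v t t' h
    funext i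
    have h1 := congrFun h i.1
    rw [Function.update_of_ne i.2, Function.update_of_ne i.2] at h1
    simp only [ex, dif_pos i.2] at h1
    exact h1
  have hΦ : Function.Injective Φ := by
    rintro ⟨c, u, v⟩ ⟨c', u', v'⟩ h
    have h1 := congrArg Prod.fst h
    have h2 := congrArg Prod.snd h
    have hu : u = u' := hex _ _ _ _ h1
    have hv : v = v' := hex _ _ _ _ h2
    subst hu hv
    have e1 : MulAut.conj c * a₁ * (MulAut.conj c)⁻¹ = MulAut.conj c' * a₁ * (MulAut.conj c')⁻¹ := by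
      rw [← ht₁ c u, ← ht₁ c' u]
      exact congrArg (fun w => W.f ((x * el W w) ^ k₁) i₀) h1
    have e2 : MulAut.conj c * a₂ * (MulAut.conj c)⁻¹ = MulAut.conj c' * a₂ * (MulAut.conj c')⁻¹ := by
      rw [← ht₂ c v, ← ht₂ c' v]
      exact congrArg (fun w => W.f ((y * el W w) ^ k₂) i₀) h2
    have hcent : _root_.Subgroup.closure ({a₁, a₂} : Set (MulAut T)) ≤
        centralizer {(MulAut.conj c')⁻¹ * MulAut.conj c} := by
      rw [closure_le]
      intro b hb
      rw [SetLike.mem_coe, mem_centralizer_singleton_iff]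
      rcases hb with rfl | hb
      · have := congrArg (fun w => (MulAut.conj c')⁻¹ * w * MulAut.conj c) e1
        simp only [mul_assoc, inv_mul_cancel_left, inv_mul_cancel, mul_one] at this
        simp only [mul_assoc]
        exact this.symm
      · rw [Set.mem_singleton_iff] at hb
        subst hb
        have := congrArg (fun w => (MulAut.conj c')⁻¹ * w * MulAut.conj c) e2
        simp only [mul_assoc, inv_mul_cancel_left, inv_mul_cancel, mul_one] at this
        simp only [mul_assoc]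
        exact this.symm
    have h3 : (MulAut.conj c')⁻¹ * MulAut.conj c = 1 := by
      apply eq_one_of_comm hna
      intro t
      have h4 := hcent (hgen ⟨t, rfl⟩)
      rw [mem_centralizer_singleton_iff] at h4
      exact h4.symm
    have h4 : c = c' := _root_.Cfsg.Agent.H891.DG.WrB.conj_injective hna (inv_mul_eq_one.1 h3).symm
    rw [h4]
  refine ⟨Set.range Φ, ?_, ?_⟩
  · have h1 : Nat.card (Set.range Φ) = Nat.card (T × (({i : I // i ≠ i₀} → T) × ({i : I // i ≠ i₀} → T))) :=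
      (Nat.card_congr (Equiv.ofInjective Φ hΦ)).symm
    have h2 : Fintype.card {i : I // i ≠ i₀} = Fintype.card I - 1 := by
      rw [Fintype.card_subtype_compl, Fintype.card_subtype_eq]
    have h3 : 0 < Fintype.card I := Fintype.card_pos_iff.2 ⟨i₀⟩
    rw [h1, Nat.card_prod, Nat.card_prod, Nat.card_fun, Nat.card_eq_fintype_card (α := {i : I // i ≠ i₀}), h2,
      ← pow_add, ← pow_succ']
    exact (congrArg (Nat.card T ^ ·) (by omega)).le
  · rintro _ ⟨⟨c, u, v⟩, rfl⟩ X hX hY t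
    have hσx : W.σ ((x * el W (Function.update (ex u) i₀ (t₁ c u))) ^ k₁) i₀ = i₀ := by
      rw [σ_pow_el]; exact hσ₁
    have hσy : W.σ ((y * el W (Function.update (ex v) i₀ (t₂ c v))) ^ k₂) i₀ = i₀ := by
      rw [σ_pow_el]; exact hσ₂
    have hD : _root_.Subgroup.closure ({a₁, a₂} : Set (MulAut T)) ≤
        (ind W X i₀).comap (MulAut.conj (MulAut.conj c : MulAut T)).toMonoidHom := by
      rw [closure_le]
      intro b hb
      rcases hb with rfl | hb
      · exact ⟨_, pow_mem hX k₁, hσx, ht₁ c u⟩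
      · rw [Set.mem_singleton_iff] at hb
        subst hb
        exact ⟨_, pow_mem hY k₂, hσy, ht₂ c v⟩
    have h3 := hD (hgen ⟨c⁻¹ * t * c, rfl⟩)
    obtain ⟨z, hz, h4, h5⟩ := h3
    refine ⟨z, hz, h4, h5.trans ?_⟩
    show MulAut.conj c * MulAut.conj (c⁻¹ * t * c) * (MulAut.conj c)⁻¹ = _
    rw [map_mul, map_mul, map_inv]
    group

end Cfsg.Agent.H530.DG
end

-- part: H799/DG/CardTypeI
section
/-!
# S4180, piece Wc: the number of `(u, v)` for which `X` is a complement (helper799)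
-/

set_option autoImplicit false

namespace Cfsg.Agent.H799.DG

open Subgroup Cfsg.Agent.H891.DG Cfsg.Agent.H891.DG.WrB

universe u

section

variable {G : Type u} [Group G] {M : Subgroup G} [M.Normal] {I T : Type u} [Group T] (W : Wr G M I T)

omit [M.Normal] in
/-- two lifts of the same element of `G / M` -/
theorem exists_mul {a b : G} (h : (QuotientGroup.mk a : G ⧸ M) = QuotientGroup.mk b) : ∃ m ∈ M, b = a * m :=
  ⟨a⁻¹ * b, QuotientGroup.eq.1 h, by rw [mul_inv_cancel_left]⟩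

omit [M.Normal] in
theorem σ_eq {a b : G} (h : (QuotientGroup.mk a : G ⧸ M) = QuotientGroup.mk b) : W.σ a = W.σ b := by
  obtain ⟨m, hm, rfl⟩ := exists_mul h
  exact (σ_mul_mem W a hm).symm

/-- the elements of `G / M` whose lifts fix `i₀` and act on the `i₀`-th copy of `T` by an inner automorphism -/
def Q₀ (i₀ : I) : Subgroup (G ⧸ M) where
  carrier := {γ | ∀ g : G, (QuotientGroup.mk g : G ⧸ M) = γ →
    W.σ g i₀ = i₀ ∧ W.f g i₀ ∈ (MulAut.conj : T →* MulAut T).range}
  one_mem' := by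
    intro g hg
    have hg' : g ∈ M := (QuotientGroup.eq_one_iff g).1 hg
    exact ⟨by rw [σ_mem W hg', Equiv.Perm.one_apply], ((W.mem g).1 hg').2 i₀⟩
  mul_mem' := by
    intro γ δ hγ hδ g hg
    obtain ⟨a, rfl⟩ := QuotientGroup.mk_surjective γ
    have h1 := hγ a rfl
    have h2 := hδ (a⁻¹ * g) (by rw [QuotientGroup.mk_mul, QuotientGroup.mk_inv, hg, inv_mul_cancel_left])
    have e : g = a * (a⁻¹ * g) := by rw [mul_inv_cancel_left]
    refine ⟨?_, ?_⟩
    · rw [e, map_mul, Equiv.Perm.mul_apply, h2.1, h1.1]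
    · rw [e, W.mul, h2.1]
      exact mul_mem h1.2 h2.2
  inv_mem' := by
    intro γ hγ g hg
    have h1 := hγ g⁻¹ (by rw [QuotientGroup.mk_inv, hg, inv_inv])
    refine ⟨?_, ?_⟩
    · have := σ_inv' W g i₀
      rwa [h1.1] at this
    · have h2 := f_inv W g⁻¹ i₀
      rw [inv_inv, h1.1] at h2
      rw [h2]
      exact inv_mem h1.2

theorem mem_Q₀_of {i₀ : I} {g : G} (h1 : W.σ g i₀ = i₀) (h2 : W.f g i₀ ∈ (MulAut.conj : T →* MulAut T).range) :
    (QuotientGroup.mk g : G ⧸ M) ∈ Q₀ W i₀ := by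
  intro b hb
  obtain ⟨m, hm, rfl⟩ := exists_mul hb.symm
  rw [σ_mul_mem W g hm, f_mul_mem W g hm]
  exact ⟨h1, mul_mem h2 (((W.mem m).1 hm).2 i₀)⟩

variable [IsSimpleGroup T]

/-- the homomorphism `Q₀ → T` given by a section of `G → G / M` -/
noncomputable def mu (hna : ¬ IsMulCommutative T) (i₀ : I) (s : G ⧸ M →* G)
    (hs : ∀ γ, (QuotientGroup.mk (s γ) : G ⧸ M) = γ) : ↥(Q₀ W i₀) →* T :=
  (toT hna).toMonoidHom.comp
    { toFun := fun q => ⟨W.f (s q) i₀, (q.2 (s q) (hs q)).2⟩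
      map_one' := Subtype.ext (by
        change W.f (s (1 : ↥(Q₀ W i₀))) i₀ = 1
        rw [OneMemClass.coe_one, map_one, f_one])
      map_mul' := fun a b => Subtype.ext (by
        change W.f (s ((a * b : ↥(Q₀ W i₀)) : G ⧸ M)) i₀ = W.f (s a) i₀ * W.f (s b) i₀
        rw [coe_mul, map_mul, W.mul, (b.2 (s b) (hs b)).1]) }

theorem conj_mu (hna : ¬ IsMulCommutative T) (i₀ : I) (s : G ⧸ M →* G)
    (hs : ∀ γ, (QuotientGroup.mk (s γ) : G ⧸ M) = γ) (q : ↥(Q₀ W i₀)) :
    MulAut.conj (mu W hna i₀ s hs q) = W.f (s q) i₀ :=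
  conj_toT hna _

theorem mu_surj (hna : ¬ IsMulCommutative T) (i₀ : I) (s : G ⧸ M →* G)
    (hs : ∀ γ, (QuotientGroup.mk (s γ) : G ⧸ M) = γ)
    (hb : ∀ t : T, ∃ γ, W.σ (s γ) i₀ = i₀ ∧ W.f (s γ) i₀ = MulAut.conj t) :
    Function.Surjective (mu W hna i₀ s hs) := by
  intro t
  obtain ⟨γ, h1, h2⟩ := hb t
  have h3 : γ ∈ Q₀ W i₀ := by
    have := mem_Q₀_of W h1 (h2 ▸ ⟨t, rfl⟩)
    rwa [hs] at this
  refine ⟨⟨γ, h3⟩, _root_.Cfsg.Agent.H891.DG.WrB.conj_injective hna ?_⟩
  rw [conj_mu, h2]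

/-- the section on the stabiliser of `i₀` is determined by `mu` -/
theorem stab_eq (hna : ¬ IsMulCommutative T) (i₀ : I) {s s' : G ⧸ M →* G}
    (hs : ∀ γ, (QuotientGroup.mk (s γ) : G ⧸ M) = γ) (hs' : ∀ γ, (QuotientGroup.mk (s' γ) : G ⧸ M) = γ)
    (hsu : Function.Surjective (mu W hna i₀ s hs)) (h : mu W hna i₀ s hs = mu W hna i₀ s' hs')
    {γ : G ⧸ M} (hγ : W.σ (s γ) i₀ = i₀) : W.f (s γ) i₀ = W.f (s' γ) i₀ := by
  have hγ' : W.σ (s' γ) i₀ = i₀ := by
    rw [← σ_eq W (a := s γ) (b := s' γ) (by rw [hs, hs'])]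
    exact hγ
  have key : ∀ (r : G ⧸ M →* G), (∀ γ, (QuotientGroup.mk (r γ) : G ⧸ M) = γ) → W.σ (r γ) i₀ = i₀ →
      ∀ q : ↥(Q₀ W i₀), W.f (r (γ * q * γ⁻¹)) i₀ = W.f (r γ) i₀ * W.f (r q) i₀ * (W.f (r γ) i₀)⁻¹ := by
    intro r hr h1 q
    have h2 : W.σ (r q) i₀ = i₀ := (q.2 (r q) (hr q)).1
    have h3 : W.σ (r γ)⁻¹ i₀ = i₀ := by
      have := σ_inv W (r γ) i₀
      rwa [h1] at this
    have h4 : W.f (r γ)⁻¹ i₀ = (W.f (r γ) i₀)⁻¹ := by
      have := f_inv W (r γ) i₀
      rwa [h1] at this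
    rw [map_mul, map_mul, map_inv, W.mul, h3, W.mul, h2, h4]
  have hmem : ∀ q : ↥(Q₀ W i₀), γ * q * γ⁻¹ ∈ Q₀ W i₀ := by
    intro q
    have h1 : W.σ (s (γ * q * γ⁻¹)) i₀ = i₀ := by
      have h3 : W.σ (s γ)⁻¹ i₀ = i₀ := by
        have := σ_inv W (s γ) i₀
        rwa [hγ] at this
      rw [map_mul, map_mul, map_inv, map_mul, map_mul, Equiv.Perm.mul_apply, Equiv.Perm.mul_apply, h3,
        (q.2 (s q) (hs q)).1, hγ]
    have h2 : W.f (s (γ * q * γ⁻¹)) i₀ ∈ (MulAut.conj : T →* MulAut T).range := by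
      rw [key s hs hγ q, ← conj_mu W hna i₀ s hs q, ← conj_map]
      exact ⟨_, rfl⟩
    have := mem_Q₀_of W h1 h2
    rwa [hs] at this
  have h5 : ∀ t : T, (W.f (s' γ) i₀)⁻¹ * W.f (s γ) i₀ * MulAut.conj t =
      MulAut.conj t * ((W.f (s' γ) i₀)⁻¹ * W.f (s γ) i₀) := by
    intro t
    obtain ⟨q, rfl⟩ := hsu t
    have h6 := key s hs hγ q
    have h7 := key s' hs' hγ' q
    have h8 : W.f (s (γ * q * γ⁻¹)) i₀ = W.f (s' (γ * q * γ⁻¹)) i₀ := by
      have h9 := conj_mu W hna i₀ s hs ⟨_, hmem q⟩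
      have h10 := conj_mu W hna i₀ s' hs' ⟨_, hmem q⟩
      rw [h] at h9
      exact h9.symm.trans h10
    rw [h6, h7, ← conj_mu W hna i₀ s hs q, ← conj_mu W hna i₀ s' hs' q, ← h] at h8
    generalize W.f (s γ) i₀ = a at *
    generalize W.f (s' γ) i₀ = b at *
    generalize MulAut.conj (mu W hna i₀ s hs q) = c at *
    have h11 : a * c = b * c * b⁻¹ * a := by rw [← h8, inv_mul_cancel_right]
    calc b⁻¹ * a * c = b⁻¹ * (a * c) := mul_assoc _ _ _
      _ = b⁻¹ * (b * c * b⁻¹ * a) := by rw [h11]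
      _ = c * (b⁻¹ * a) := by group
  have h12 := eq_one_of_comm hna h5
  rw [inv_mul_eq_one] at h12
  exact h12.symm

/-- a section is determined by `mu` and the values at a transversal -/
theorem sec_eq (hna : ¬ IsMulCommutative T) (i₀ : I) {s s' : G ⧸ M →* G}
    (hs : ∀ γ, (QuotientGroup.mk (s γ) : G ⧸ M) = γ) (hs' : ∀ γ, (QuotientGroup.mk (s' γ) : G ⧸ M) = γ)
    (hsu : Function.Surjective (mu W hna i₀ s hs)) (h : mu W hna i₀ s hs = mu W hna i₀ s' hs')
    (c : I → G ⧸ M) (hc : ∀ i, W.σ (s (c i)) i₀ = i) (hv : ∀ i, W.f (s (c i)) i₀ = W.f (s' (c i)) i₀) : s = s' := by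
  have hσ : ∀ γ, W.σ (s γ) = W.σ (s' γ) := fun γ => σ_eq W (by rw [hs, hs'])
  have key : ∀ (r : G ⧸ M →* G), (∀ i, W.σ (r (c i)) i₀ = i) → ∀ γ i,
      W.σ (r ((c (W.σ (r γ) i))⁻¹ * γ * c i)) i₀ = i₀ ∧
      W.f (r γ) i = W.f (r (c (W.σ (r γ) i))) i₀ * W.f (r ((c (W.σ (r γ) i))⁻¹ * γ * c i)) i₀ *
        (W.f (r (c i)) i₀)⁻¹ := by
    intro r hr γ i
    set k := W.σ (r γ) i with hk
    set η := (c k)⁻¹ * γ * c i with hη
    have h1 : W.σ (r η) i₀ = i₀ := by
      rw [hη, map_mul, map_mul, map_mul, map_mul, Equiv.Perm.mul_apply, Equiv.Perm.mul_apply, hr, ← hk, map_inv]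
      have := σ_inv W (r (c k)) i₀
      rwa [hr] at this
    refine ⟨h1, ?_⟩
    have h2 : r γ = r (c k) * r η * (r (c i))⁻¹ := by
      rw [← map_mul, ← map_inv, ← map_mul]
      congr 1
      rw [hη]
      group
    have h3 : W.σ (r (c i))⁻¹ i = i₀ := by
      have := σ_inv W (r (c i)) i₀
      rwa [hr] at this
    have h4 : W.f (r (c i))⁻¹ i = (W.f (r (c i)) i₀)⁻¹ := by
      have := f_inv W (r (c i)) i₀
      rwa [hr] at this
    rw [h2, W.mul, h3, W.mul, h1, h4]
  refine MonoidHom.ext fun γ => WrB.ext W (hσ γ) fun i => ?_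
  have h1 := key s hc γ i
  have h2 := key s' (fun i => by rw [← hσ]; exact hc i) γ i
  rw [h1.2, h2.2, hv, hv, stab_eq W hna i₀ hs hs' hsu h h1.1, hσ γ]

/-- the count of the sections -/
theorem card_sec [Finite G] [Fintype I] [DecidableEq I] [Finite T] (hna : ¬ IsMulCommutative T) (i₀ : I) :
    ∃ κ : ℕ, Nat.card T ^ κ ≤ Nat.card (G ⧸ M) ∧
      Nat.card {s : G ⧸ M →* G // (∀ γ, (QuotientGroup.mk (s γ) : G ⧸ M) = γ) ∧
        ∀ t : T, ∃ γ, W.σ (s γ) i₀ = i₀ ∧ W.f (s γ) i₀ = MulAut.conj t} ≤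
        κ * Nat.card (MulAut T) * Nat.card T ^ (Fintype.card I - 1) := by
  obtain ⟨κ, h1, h2⟩ := Crt.card_surj (Q := ↥(Q₀ W i₀)) hna
  refine ⟨κ, h1.trans (Subgroup.card_le_card_group _), ?_⟩
  have hch : ∀ i : I, ∃ g : G, W.σ g i₀ = i ∧ (i = i₀ → g = 1) := by
    intro i
    by_cases hi : i = i₀
    · exact ⟨1, by rw [map_one, Equiv.Perm.one_apply, hi], fun _ => rfl⟩
    · obtain ⟨g, hg⟩ := W.trans i₀ i
      exact ⟨g, hg, fun h => absurd h hi⟩
  choose g hg hg1 using hch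
  -- the values at the transversal
  have hval : ∀ (s : {s : G ⧸ M →* G // (∀ γ, (QuotientGroup.mk (s γ) : G ⧸ M) = γ) ∧
        ∀ t : T, ∃ γ, W.σ (s γ) i₀ = i₀ ∧ W.f (s γ) i₀ = MulAut.conj t}) (i : I),
      ∃ t : T, W.f (s.1 (QuotientGroup.mk (g i))) i₀ = W.f (g i) i₀ * MulAut.conj t := by
    intro s i
    obtain ⟨m, hm, h⟩ := exists_mul (M := M) (a := g i) (b := s.1 (QuotientGroup.mk (g i))) (by rw [s.2.1])
    obtain ⟨t, ht⟩ := ((W.mem m).1 hm).2 i₀
    refine ⟨t, ?_⟩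
    rw [h, f_mul_mem W _ hm, ht]
  choose v hv using hval
  have : Finite (↥(Q₀ W i₀) →* T) := Finite.of_injective (fun f : ↥(Q₀ W i₀) →* T => (f : ↥(Q₀ W i₀) → T))
    DFunLike.coe_injective
  have hinj : Function.Injective (fun s : {s : G ⧸ M →* G // (∀ γ, (QuotientGroup.mk (s γ) : G ⧸ M) = γ) ∧
        ∀ t : T, ∃ γ, W.σ (s γ) i₀ = i₀ ∧ W.f (s γ) i₀ = MulAut.conj t} =>
      ((⟨mu W hna i₀ s.1 s.2.1, mu_surj W hna i₀ s.1 s.2.1 s.2.2⟩ :
        {μ : ↥(Q₀ W i₀) →* T // Function.Surjective μ}), fun i : {i : I // i ≠ i₀} => v s i)) := by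
    intro s s' h
    simp only [Prod.mk.injEq, Subtype.mk.injEq] at h
    refine Subtype.ext (sec_eq W hna i₀ s.2.1 s'.2.1 (mu_surj W hna i₀ s.1 s.2.1 s.2.2) h.1
      (fun i => QuotientGroup.mk (g i)) (fun i => ?_) fun i => ?_)
    · rw [σ_eq W (a := s.1 (QuotientGroup.mk (g i))) (b := g i) (by rw [s.2.1])]
      exact hg i
    · by_cases hi : i = i₀
      · rw [hg1 i hi, QuotientGroup.mk_one, map_one, map_one]
      · rw [hv, hv]
        have := congrFun h.2 ⟨i, hi⟩
        simp only at this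
        rw [this]
  have h3 := Nat.card_le_card_of_injective _ hinj
  rw [Nat.card_prod, Nat.card_fun] at h3
  have h4 : Nat.card {i : I // i ≠ i₀} = Fintype.card I - 1 := by
    rw [Nat.card_eq_fintype_card, Fintype.card_subtype_compl, Fintype.card_subtype_eq]
  rw [h4] at h3
  exact h3.trans (Nat.mul_le_mul_right _ h2)

end

section

variable {G : Type u} [Group G] [Finite G] {M : Subgroup G} [M.Normal] {I T : Type u} [Fintype I] [DecidableEq I]
  [Group T] [Finite T] [IsSimpleGroup T] (W : Wr G M I T)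

omit [Finite G] in
/-- a complement gives a section -/
theorem exists_sec {X : Subgroup G} (h1 : X ⊔ M = ⊤) (h2 : X ⊓ M = ⊥) :
    ∃ s : G ⧸ M →* G, (∀ γ, (QuotientGroup.mk (s γ) : G ⧸ M) = γ) ∧ (∀ γ, s γ ∈ X) ∧
      ∀ z ∈ X, s (QuotientGroup.mk z) = z := by
  let φ : ↥X →* G ⧸ M := (QuotientGroup.mk' M).comp X.subtype
  have hinj : Function.Injective φ := by
    rw [injective_iff_map_eq_one]
    intro z hz
    have h3 : (z : G) ∈ M := (QuotientGroup.eq_one_iff _).1 hz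
    have h4 : (z : G) ∈ X ⊓ M := ⟨z.2, h3⟩
    rw [h2, mem_bot] at h4
    exact Subtype.ext h4
  have hsurj : Function.Surjective φ := by
    intro γ
    obtain ⟨g, rfl⟩ := QuotientGroup.mk_surjective γ
    have h3 : g ∈ X ⊔ M := h1 ▸ mem_top g
    rw [Subgroup.mem_sup_of_normal_right] at h3
    obtain ⟨a, ha, b, hb, rfl⟩ := h3
    refine ⟨⟨a, ha⟩, ?_⟩
    change (QuotientGroup.mk a : G ⧸ M) = QuotientGroup.mk (a * b)
    rw [QuotientGroup.eq, inv_mul_cancel_left]
    exact hb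
  let e : ↥X ≃* G ⧸ M := MulEquiv.ofBijective φ ⟨hinj, hsurj⟩
  refine ⟨X.subtype.comp e.symm.toMonoidHom, fun γ => ?_, fun γ => (e.symm γ).2, fun z hz => ?_⟩
  · change φ (e.symm γ) = γ
    exact e.apply_symm_apply γ
  · change ((e.symm (QuotientGroup.mk z) : ↥X) : G) = z
    have : e.symm (QuotientGroup.mk z) = ⟨z, hz⟩ := by
      rw [MulEquiv.symm_apply_eq]
      rfl
    rw [this]

/-- (Wc) -/
theorem card_typeI (hna : ¬ IsMulCommutative T) (x y : G) (R : Set G) (i₀ : I) :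
    ∃ κ : ℕ, Nat.card T ^ κ ≤ Nat.card (G ⧸ M) ∧
      Nat.card {uv : (I → T) × (I → T) // XX W x y R uv ⊔ M = ⊤ ∧ XX W x y R uv ⊓ M = ⊥ ∧ Big W (XX W x y R uv) i₀} ≤
        κ * Nat.card (MulAut T) * Nat.card T ^ (Fintype.card I - 1) := by
  obtain ⟨κ, h1, h2⟩ := card_sec W hna i₀
  refine ⟨κ, h1, le_trans ?_ h2⟩
  have hx : ∀ uv : {uv : (I → T) × (I → T) // XX W x y R uv ⊔ M = ⊤ ∧ XX W x y R uv ⊓ M = ⊥ ∧
      Big W (XX W x y R uv) i₀}, ∃ s : {s : G ⧸ M →* G // (∀ γ, (QuotientGroup.mk (s γ) : G ⧸ M) = γ) ∧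
        ∀ t : T, ∃ γ, W.σ (s γ) i₀ = i₀ ∧ W.f (s γ) i₀ = MulAut.conj t},
      s.1 (QuotientGroup.mk x) = x * el W uv.1.1 ∧ s.1 (QuotientGroup.mk y) = y * el W uv.1.2 := by
    intro uv
    obtain ⟨s, hs1, hs2, hs3⟩ := exists_sec uv.2.1 uv.2.2.1
    refine ⟨⟨s, hs1, fun t => ?_⟩, ?_, ?_⟩
    · obtain ⟨z, hz, h3, h4⟩ := uv.2.2.2 t
      exact ⟨QuotientGroup.mk z, by rw [hs3 z hz]; exact h3, by rw [hs3 z hz]; exact h4⟩
    · change s (QuotientGroup.mk x) = _
      have h3 : x * el W uv.1.1 ∈ XX W x y R uv.1 := _root_.Subgroup.subset_closure (Or.inl (Or.inl rfl))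
      rw [← hs3 _ h3, QuotientGroup.mk_mul, (QuotientGroup.eq_one_iff _).2 (el_mem W _), mul_one]
    · change s (QuotientGroup.mk y) = _
      have h3 : y * el W uv.1.2 ∈ XX W x y R uv.1 := _root_.Subgroup.subset_closure (Or.inl (Or.inr rfl))
      rw [← hs3 _ h3, QuotientGroup.mk_mul, (QuotientGroup.eq_one_iff _).2 (el_mem W _), mul_one]
  choose s hs using hx
  have : Finite (G ⧸ M →* G) := Finite.of_injective (fun f : G ⧸ M →* G => (f : G ⧸ M → G)) DFunLike.coe_injective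
  refine Nat.card_le_card_of_injective s ?_
  intro a b hab
  have h3 := (hs a).1
  have h4 := (hs a).2
  rw [hab, (hs b).1] at h3
  rw [hab, (hs b).2] at h4
  refine Subtype.ext (Prod.ext ?_ ?_)
  · exact (el_injective W hna (mul_left_cancel h3)).symm
  · exact (el_injective W hna (mul_left_cancel h4)).symm

end

end Cfsg.Agent.H799.DG
end

-- part: H891/DG/WrGen
section
/-!
# TEAM GEN, S4180: the nonabelian case (helper891)
-/

set_option autoImplicit false
set_option linter.unusedSectionVars false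

namespace Cfsg.Agent.H891.DG.WrB

open Subgroup Cfsg.Agent.H891.DG Cfsg.Agent.H332.DG Cfsg.Agent.H530.DG Cfsg.Agent.H799.DG
universe u

variable {G : Type u} [Group G] [Finite G] {M : Subgroup G} [M.Normal] {I T : Type u} [Fintype I] [DecidableEq I]
  [Group T] [Finite T] [IsSimpleGroup T] (W : Wr G M I T)

theorem XX_sup {x y : G} {R : Set G} (h : _root_.Subgroup.closure ({x, y} ∪ R) ⊔ M = ⊤) (uv : (I → T) × (I → T)) :
    XX W x y R uv ⊔ M = ⊤ := by
  rw [eq_top_iff, ← h]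
  refine sup_le ?_ le_sup_right
  rw [closure_le]
  have key : ∀ (a : G) (u : I → T), a * el W u ∈ XX W x y R uv → a ∈ XX W x y R uv ⊔ M := by
    intro a u ha
    have e : a = (a * el W u) * (el W u)⁻¹ := by group
    rw [e]
    exact mul_mem (mem_sup_left ha) (mem_sup_right (inv_mem (el_mem W u)))
  rintro z ((rfl | hz) | hz)
  · exact key _ uv.1 (_root_.Subgroup.subset_closure (by simp))
  · rw [Set.mem_singleton_iff] at hz
    subst hz
    exact key _ uv.2 (_root_.Subgroup.subset_closure (by simp))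
  · exact mem_sup_left (_root_.Subgroup.subset_closure (Or.inr hz))

/-- one component -/
theorem one_comp (hna : ¬ IsMulCommutative T) (hC : Cos2 T) (hI : Fintype.card I = 1) {x y : G} {R : Set G}
    (h : _root_.Subgroup.closure ({x, y} ∪ R) ⊔ M = ⊤) : ∃ uv : (I → T) × (I → T), XX W x y R uv = ⊤ := by
  classical
  have hsub : Subsingleton I := Fintype.card_le_one_iff_subsingleton.1 hI.le
  obtain ⟨i₀⟩ : Nonempty I := Fintype.card_pos_iff.1 (by omega)
  obtain ⟨Ω, hΩ, hB⟩ := exists_label W hna hC x y i₀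
  have h1 : 0 < Nat.card Ω := lt_of_lt_of_le (Nat.pow_pos Nat.card_pos) hΩ
  obtain ⟨uv, huv⟩ : Ω.Nonempty := by
    rw [Set.nonempty_iff_ne_empty]
    rintro rfl
    simp at h1
  have h2 : Big W (XX W x y R uv) i₀ := hB uv huv _ (_root_.Subgroup.subset_closure (by simp)) (_root_.Subgroup.subset_closure (by simp))
  refine ⟨uv, ?_⟩
  rcases dich W hna _ (XX_sup W h uv) i₀ h2 with h3 | h3 | ⟨S, hS, -⟩
  · exact h3
  · exfalso
    obtain ⟨t, ht⟩ := exists_ne (1 : T)
    obtain ⟨z, hz, -, h4⟩ := h2 t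
    have h5 : z ∈ M := by
      rw [W.mem]
      refine ⟨Subsingleton.elim _ _, fun i => ?_⟩
      rw [Subsingleton.elim i i₀, h4]
      exact ⟨t, rfl⟩
    have h6 : z ∈ XX W x y R uv ⊓ M := ⟨hz, h5⟩
    rw [h3, mem_bot] at h6
    rw [h6, f_one] at h4
    exact ht (conj_injective hna (h4.symm.trans (map_one _).symm))
  · exfalso
    apply hS
    ext i j
    constructor
    · intro _
      exact Subsingleton.elim i j
    · intro h4
      have h5 : i = j := h4
      rw [h5]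

/-- at least three components -/
theorem many_comp (hna : ¬ IsMulCommutative T) (hC : Cos2 T) (hN : OutNum T) (hI : 3 ≤ Fintype.card I)
    (h60 : 60 ≤ Nat.card T) {x y : G} {R : Set G}
    (h : _root_.Subgroup.closure ({x, y} ∪ R) ⊔ M = ⊤) : ∃ uv : (I → T) × (I → T), XX W x y R uv = ⊤ := by
  classical
  let _ := Fintype.ofFinite T
  obtain ⟨i₀⟩ : Nonempty I := Fintype.card_pos_iff.1 (by omega)
  obtain ⟨Ω, hΩ, hB⟩ := exists_label W hna hC x y i₀
  by_contra hne
  push Not at hne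
  obtain ⟨κ, hκ, hc1⟩ := card_typeI W hna x y R i₀
  set n := Fintype.card I with hn
  set s := Nat.card T with hs
  set o := Nat.card (Cfsg.Out T) with ho
  have hA : Nat.card (MulAut T) = o * s := card_mulAut hna
  have := finite_mulAut T
  have ho1 : 1 ≤ o := Nat.card_pos
  have hκ' : s ^ κ ≤ n.factorial * o ^ n := hκ.trans (card_quot_le W)
  let 𝓑 : Finset (Finset I) := (Finset.univ : Finset (Finset I)).filter fun B => i₀ ∈ B ∧ 2 ≤ B.card ∧ B.card ∣ n
  let cls : Setoid I → Finset I := fun S => Finset.univ.filter fun i => S i₀ i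
  have hnum := numeric (κ := κ) hI ho1 h60 hN.2 hκ' rfl i₀
  -- the bad sets
  let bad1 : Finset ((I → T) × (I → T)) := Finset.univ.filter fun uv =>
    XX W x y R uv ⊔ M = ⊤ ∧ XX W x y R uv ⊓ M = ⊥ ∧ Big W (XX W x y R uv) i₀
  let bad2 : Finset I → Finset ((I → T) × (I → T)) := fun B => Finset.univ.filter fun uv =>
    ∃ S : Setoid I, S ≠ ⊥ ∧ Inv W S ∧ cls S = B ∧ TypeII W (XX W x y R uv) S
  have hb1 : bad1.card ≤ κ * (o * s) * s ^ (n - 1) := by
    have h1 : bad1.card = Nat.card {uv : (I → T) × (I → T) // XX W x y R uv ⊔ M = ⊤ ∧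
        XX W x y R uv ⊓ M = ⊥ ∧ Big W (XX W x y R uv) i₀} := by
      rw [Nat.card_eq_fintype_card, Fintype.card_subtype]
    rw [h1, ← hA]
    exact hc1
  have hb2 : ∀ B ∈ 𝓑, (bad2 B).card ≤ (o * s) ^ (n - n / B.card) * s ^ (2 * (n / B.card)) := by
    intro B hB
    rcases (bad2 B).eq_empty_or_nonempty with h0 | ⟨uv0, h0⟩
    · rw [h0, Finset.card_empty]
      exact Nat.zero_le _
    · simp only [bad2, Finset.mem_filter, Finset.mem_univ, true_and] at h0
      obtain ⟨S, hS, hSI, hSB, -⟩ := h0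
      have h1 : bad2 B ⊆ Finset.univ.filter fun uv => TypeII W (XX W x y R uv) S := by
        intro uv huv
        simp only [bad2, Finset.mem_filter, Finset.mem_univ, true_and] at huv ⊢
        obtain ⟨S', -, hSI', hSB', h2⟩ := huv
        have h3 : S' = S := by
          refine inv_ext W hSI' hSI i₀ fun i => ?_
          have h4 := hSB'.trans hSB.symm
          have h5 := Finset.ext_iff.1 h4 i
          simpa only [cls, _root_.Finset.mem_filter, _root_.Finset.mem_univ, _root_.true_and] using h5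
        rwa [← h3]
      refine (Finset.card_le_card h1).trans ?_
      have h2 : (Finset.univ.filter fun uv => TypeII W (XX W x y R uv) S).card =
          Nat.card {uv : (I → T) × (I → T) // TypeII W (XX W x y R uv) S} := by
        rw [Nat.card_eq_fintype_card, Fintype.card_subtype]
      rw [h2]
      have h3 := two_mul_card_quot W hSI hS i₀
      have h4 : Nat.card {i // S i₀ i} = B.card := by
        rw [← hSB, Nat.card_eq_fintype_card, Fintype.card_subtype]
      rw [h4] at h3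
      have h5 : n / B.card = Nat.card (Quotient S) := by
        rw [hn, ← h3.1, Nat.mul_div_cancel _ (by omega)]
      rw [h5, ← hA]
      exact card_typeII W hna x y R S
  have hcov : Ω.toFinset ⊆ bad1 ∪ 𝓑.biUnion bad2 := by
    intro uv huv
    rw [Set.mem_toFinset] at huv
    have h2 : Big W (XX W x y R uv) i₀ := hB uv huv _ (_root_.Subgroup.subset_closure (by simp)) (_root_.Subgroup.subset_closure (by simp))
    have h1 := XX_sup W h uv
    rw [Finset.mem_union, Finset.mem_biUnion]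
    rcases dich W hna _ h1 i₀ h2 with h3 | h3 | ⟨S, hS, hSI, hS2⟩
    · exact absurd h3 (hne uv)
    · left
      simp only [bad1, Finset.mem_filter, Finset.mem_univ, true_and]
      exact ⟨h1, h3, h2⟩
    · right
      have h4 := two_mul_card_quot W hSI hS i₀
      have h5 : Nat.card {i // S i₀ i} = (cls S).card := by
        rw [Nat.card_eq_fintype_card, Fintype.card_subtype]
      rw [h5] at h4
      refine ⟨cls S, ?_, ?_⟩
      · simp only [𝓑, Finset.mem_filter, Finset.mem_univ, true_and]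
        refine ⟨?_, h4.2, ⟨_, by rw [mul_comm]; exact h4.1.symm⟩⟩
        simp only [cls, Finset.mem_filter, Finset.mem_univ, true_and]
        exact S.refl i₀
      · simp only [bad2, Finset.mem_filter, Finset.mem_univ, true_and]
        exact ⟨S, hS, hSI, rfl, hS2⟩
  have h1 := Finset.card_le_card hcov
  have h2 : Ω.toFinset.card = Nat.card Ω := by
    rw [Set.toFinset_card, Nat.card_eq_fintype_card]
  have h3 := (Finset.card_union_le bad1 (𝓑.biUnion bad2)).trans
    (Nat.add_le_add hb1 (Finset.card_biUnion_le.trans (Finset.sum_le_sum hb2)))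
  have h4 := h1.trans h3
  rw [h2, add_comm] at h4
  exact absurd (hΩ.trans h4) (not_le.2 hnum)

theorem two_aux (hI : Fintype.card I = 2) {a b : Equiv.Perm I} (ha : a ≠ 1) (hb : b ≠ 1) : a * b = 1 := by
  have h1 : Fintype.card (Equiv.Perm I) = 2 := by rw [Fintype.card_perm, hI]; rfl
  have h2 : Nat.card (Equiv.Perm I) = 2 := by rw [Nat.card_eq_fintype_card, h1]
  by_contra h3
  have h4 : ({1, a, a * b} : Finset (Equiv.Perm I)).card ≤ 2 := by
    rw [← h1]
    exact Finset.card_le_univ _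
  have h5 : a * b ≠ a := by
    intro h
    exact hb (mul_eq_left.1 h)
  rw [Finset.card_insert_of_notMem (by simp [Ne.symm ha, Ne.symm h3]),
    Finset.card_insert_of_notMem (by simpa using Ne.symm h5), Finset.card_singleton] at h4
  omega

/-- tuples -/
theorem range_eq {e : ℕ} (g : Fin (e + 2) → G) :
    Set.range g = {g 0, g 1} ∪ Set.range (fun i : Fin e => g i.succ.succ) := by
  ext z
  constructor
  · rintro ⟨i, rfl⟩
    refine Fin.cases ?_ (fun j => ?_) i
    · left; simp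
    · refine Fin.cases ?_ (fun k => ?_) j
      · left; right; rfl
      · right; exact ⟨k, rfl⟩
  · rintro ((rfl | hz) | ⟨i, rfl⟩)
    · exact ⟨0, rfl⟩
    · rw [Set.mem_singleton_iff] at hz
      exact ⟨1, hz.symm⟩
    · exact ⟨_, rfl⟩

theorem dgen_of_XX {e : ℕ} {x y : G} (r : Fin e → G) {uv : (I → T) × (I → T)}
    (h : XX W x y (Set.range r) uv = ⊤) : DGen (e + 2) G := by
  refine ⟨Fin.cons (x * el W uv.1) (Fin.cons (y * el W uv.2) r), ?_⟩
  rw [range_eq]
  exact h

/-- the two reductions for two components -/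
theorem exists_tuple (hI : Fintype.card I = 2) {e : ℕ} (g : Fin (e + 2) → G)
    (hg : _root_.Subgroup.closure (Set.range g) ⊔ M = ⊤) : ∃ g' : Fin (e + 2) → G, closure (Set.range g') ⊔ M = ⊤ ∧
      W.σ (g' 0) = 1 ∧ W.σ (g' 1) ≠ 1 := by
  classical
  obtain ⟨j, hj⟩ : ∃ j, W.σ (g j) ≠ 1 := by
    by_contra hne
    push Not at hne
    have h1 : _root_.Subgroup.closure (Set.range g) ⊔ M ≤ W.σ.ker := by
      refine sup_le ?_ fun m hm => σ_mem W hm
      rw [closure_le]
      rintro _ ⟨i, rfl⟩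
      exact hne i
    rw [hg] at h1
    obtain ⟨a, b, hab⟩ := Fintype.exists_pair_of_one_lt_card (α := I) (by omega)
    obtain ⟨x, hx⟩ := W.trans a b
    have h2 : W.σ x = 1 := h1 (mem_top x)
    rw [h2] at hx
    exact hab hx
  let g1 : Fin (e + 2) → G := fun i => g (Equiv.swap 1 j i)
  have hr1 : Set.range g1 = Set.range g := (Equiv.swap 1 j).surjective.range_comp g
  have h1 : W.σ (g1 1) ≠ 1 := by
    show W.σ (g (Equiv.swap 1 j 1)) ≠ 1
    rwa [Equiv.swap_apply_left]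
  by_cases h0 : W.σ (g1 0) = 1
  · exact ⟨g1, by rw [hr1, hg], h0, h1⟩
  · let g2 : Fin (e + 2) → G := Function.update g1 0 (g1 0 * g1 1)
    have e0 : g2 0 = g1 0 * g1 1 := Function.update_self _ _ _
    have ei : ∀ i, i ≠ 0 → g2 i = g1 i := fun i hi => Function.update_of_ne hi _ _
    have e1 : g2 1 = g1 1 := ei 1 (by simp)
    refine ⟨g2, ?_, ?_, ?_⟩
    · rw [eq_top_iff, ← hg, ← hr1]
      refine sup_le_sup_right ?_ _
      rw [closure_le]
      rintro _ ⟨i, rfl⟩
      by_cases hi : i = 0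
      · subst hi
        have e2 : g1 0 = g2 0 * (g2 1)⁻¹ := by rw [e0, e1]; group
        rw [e2]
        exact mul_mem (subset_closure ⟨0, rfl⟩) (inv_mem (subset_closure ⟨1, rfl⟩))
      · rw [← ei i hi]
        exact subset_closure ⟨i, rfl⟩
    · rw [e0, map_mul]
      exact two_aux hI h0 h1
    · rw [e1]
      exact h1

include W in
theorem wrGen_aux (hna : ¬ IsMulCommutative T) (hC : Cos2 T) (hN : OutNum T) (h60 : 60 ≤ Nat.card T) [Nonempty I]
    (e : ℕ) (g : Fin (e + 2) → G) (hg : _root_.Subgroup.closure (Set.range g) ⊔ M = ⊤) : DGen (e + 2) G := by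
  have hpos : 0 < Fintype.card I := Fintype.card_pos
  rcases (show Fintype.card I = 1 ∨ Fintype.card I = 2 ∨ 3 ≤ Fintype.card I by omega) with hI | hI | hI
  · rw [range_eq] at hg
    obtain ⟨uv, h⟩ := one_comp W hna hC hI hg
    exact dgen_of_XX W _ h
  · obtain ⟨g', hg', hx, hy⟩ := exists_tuple W hI g hg
    rw [range_eq] at hg'
    obtain ⟨uv, h⟩ := two_comp W hna hC hN hI (fun X hX i₀ hB => dich W hna X hX i₀ hB) hx hy _ (fun uv => XX_sup W hg' uv)
    exact dgen_of_XX W _ h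
  · rw [range_eq] at hg
    obtain ⟨uv, h⟩ := many_comp W hna hC hN hI h60 hg
    exact dgen_of_XX W _ h

/-- **The nonabelian case** for groups `G` with a wreath structure. -/
theorem wrGen (h60 : ∀ (T : Type u) [Group T] [Finite T] [IsSimpleGroup T], ¬ IsMulCommutative T → 60 ≤ Nat.card T) :
    WrGen.{u} := by
  intro G _ _ M _ I T _ _ _ _ _ _ hna W hC hN d hd hg
  obtain ⟨e, rfl⟩ : ∃ e, d = e + 2 := ⟨d - 2, by omega⟩
  obtain ⟨f, hf⟩ := hg
  choose g hg using fun i => QuotientGroup.mk'_surjective M (f i)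
  refine wrGen_aux W hna hC hN (h60 T hna) e g ?_
  have h1 : (_root_.Subgroup.closure (Set.range g)).map (QuotientGroup.mk' M) = ⊤ := by
    rw [MonoidHom.map_closure, ← hf]
    congr 1
    ext z
    constructor
    · rintro ⟨_, ⟨i, rfl⟩, rfl⟩
      exact ⟨i, (hg i).symm⟩
    · rintro ⟨i, rfl⟩
      exact ⟨_, ⟨i, rfl⟩, hg i⟩
  have h2 := congrArg (Subgroup.comap (QuotientGroup.mk' M)) h1
  rw [Subgroup.comap_map_eq, QuotientGroup.ker_mk', Subgroup.comap_top] at h2
  exact h2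

end Cfsg.Agent.H891.DG.WrB
end

private theorem dce_9a757a30c0b6 : _root_.True := by
  try have : _root_.True := by simp only [_root_.Cfsg.Agent.H891.DG.WrB.toT.eq_1]
  try have : _root_.True := by simp only [_root_.Cfsg.Agent.H799.DG.mu.congr_simp]
  exact _root_.True.intro
end

-- part: H748/DG/Rk2_mg
section
prune_inst 0x304011200540000000000000c0000004100000000000800000800004000000200d000040000000001800000000000000110400000200000000000000000000000000000000000000020000000000000000000000000000000000000000000000200000000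
set_option linter.all false
open scoped Cfsg.Agent.FastGrp

-- part: H748/DG/Rk2
section
/-!
# S4180, task K1a: `Rk2` for the classical groups (helper748)
-/

set_option autoImplicit false
set_option linter.unusedSectionVars false

namespace Cfsg.Agent.H748.DG

open Cfsg Cfsg.Agent.ChevalleyStructure.CoxeterGeom Cfsg.Agent.Tits.Roots
open Cfsg.Agent.Nodes.Comb Cfsg.Agent.Nodes.Reps Cfsg.Agent.Nodes.WittRoot Cfsg.Agent.Nodes.BNOf
open Cfsg.Agent.Nodes.RGDLib Cfsg.Agent.Nodes.WittAll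
open Cfsg.Agent.TitsThree Cfsg.Agent.TitsThree.Siegel Cfsg.Agent.TitsThree.WittFrame
  Cfsg.Agent.TitsThree.WittWeyl Cfsg.Agent.TitsThree.FrameCN
open Cfsg.Agent.KFacts.RgdBorelTits Cfsg.Agent.KFacts.RgdFilt Cfsg.Agent.KFacts.RgdFiltWitt
open Cfsg.Agent.H891.DG (Rk2)

universe u v

theorem rk2_of_equiv {r : ℕ} {S : Type v} {T : Type u} [Group S] [Group T] (e : S ≃* T) (hS : Rk2 r S) :
    Rk2 r T := by
  obtain ⟨l, M, A, h, H, n, X, hl, hW, R, hX⟩ := hS
  refine ⟨l, M, A, h, H.map e.toMonoidHom, fun i => e (n i), fun x => (X x).map e.toMonoidHom, hl, hW,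
    Nodes.RGDLib.rgd_map_of_injective R e.toMonoidHom e.injective, ?_⟩
  have h1 : (Nodes.RGDLib.G1 M.toCoxeterSystem h X).map e.toMonoidHom =
      Nodes.RGDLib.G1 M.toCoxeterSystem h (fun x => (X x).map e.toMonoidHom) := by
    unfold Nodes.RGDLib.G1 RGD.Sup
    rw [Subgroup.map_iSup]
  rw [← h1, hX, Subgroup.map_top_of_surjective _ e.surjective]

/-! ### type `C` -/

section TypeC

open Cfsg.Agent.Nodes.TypeC

variable {F : Type*} [Field F] {V : Type*} [AddCommGroup V] [Module F V] {H : HForm F V} {n : ℕ}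
  {Fr : Frame H (Fin n)} {K : Type*} [Group K] (M : Model Fr K) {p : ℕ}

theorem rk2_C (hA : AmbT Fr p M.I) [Finite V] [Fact p.Prime] [CharP F p] {p0 : Fr.Adm} (hp0 : p0.c ≠ 0)
    (hn : 2 ≤ n) : Rk2 p K :=
  ⟨n, CoxeterMatrix.B n, A n, isCartan n, _, _, _, hn, finite_W (CoxeterMatrix.B n).toCoxeterSystem,
    rgdC_model M hA hp0 _, Nodes.WittModel.G1_eq_top _ (by omega) _⟩

end TypeC

theorem rk2_PSL {F : Type*} [Field F] [Finite F] (n : ℕ) (hn : 2 ≤ n) {p : ℕ} [Fact p.Prime] [CharP F p] :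
    Rk2 p (Matrix.ProjectiveSpecialLinearGroup (Fin (n + 1)) F) := by
  have hW : Finite (Cfsg.Agent.LieRecognition.BNCox.cA n).Group :=
    Nodes.RootsA.finite_W (Cfsg.Agent.LieRecognition.BNCox.cA n).toCoxeterSystem (Nodes.RootsA.isCartan n)
  exact ⟨n, Cfsg.Agent.LieRecognition.BNCox.cA n, _, Nodes.RootsA.isCartan n, _, _, _, hn, hW,
    Nodes.RGDTypeA.rgd_psl _ _, Nodes.RGDTypeA.G1_psl_eq_top _ _⟩

open Cfsg.Agent.Nodes.WittU Cfsg.Agent.Nodes.WittInst

theorem rk2_PSU {F : Type*} [Field F] [Fintype F] {q N : ℕ} (hF : Fintype.card F = q ^ 2) (hN : 4 ≤ N) {p : ℕ}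
    [Fact p.Prime] [CharP F p] : Rk2 p (PSU N F q) := by
  obtain ⟨m, hm⟩ : ∃ m, N = 2 * m ∨ N = 2 * m + 1 := ⟨N / 2, by omega⟩
  obtain ⟨W, -⟩ := exists_wframe hF hm
  obtain ⟨p0, hp0, -⟩ := exists_adm hF W
  exact rk2_C (KInstU.model hF (by omega) W) (AmbT.of_amb (amb_U hF W) p) hp0 (by omega)

theorem rk2_PSp {F : Type*} [Field F] [Finite F] {m : ℕ} (hm : 2 ≤ m) {p : ℕ}
    [Fact p.Prime] [CharP F p] : Rk2 p (PSp m F) :=
  rk2_C (KInstSp.model m F) (AmbT.of_amb amb_Sp p) (p0 := SpIdent.adm 1) one_ne_zero hm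

/-! ### Orthogonal groups -/

section Orthogonal

open QuadraticMap
open Cfsg.Agent.LieClassical Cfsg.Agent.LieClassical.OrthCore Cfsg.Agent.LieClassical.OrthTrans
open Cfsg.Agent.LieClassical.OrthSimple Cfsg.Agent.LieClassical.OrthFinite
open Cfsg.Agent.LieClassical.OrthForms
open Cfsg.Agent.TitsThree.WBridge Cfsg.Agent.TitsThree.KSideO Cfsg.Agent.TitsThree.StdData

variable {F : Type*} [Field F] {m : ℕ}

theorem rk2_PO_odd [Finite F] (h2 : (2 : F) ≠ 0) (hm : 2 ≤ m) {p : ℕ} [Fact p.Prime] [CharP F p] :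
    Rk2 p (Cfsg.POmega F (Cfsg.quadFormOdd m F)) := by
  rw [← coe_oddForm]
  have hG : _root_.Cfsg.Agent.LieClassical.OrthTrans.Good (oddForm m F) := by
    apply good_of_finite (nondeg_oddForm m F h2)
    rw [Module.finrank_fintype_fun_eq_card, Fintype.card_sum, Fintype.card_sum, Fintype.card_fin,
      Fintype.card_unit]
    omega
  have hp : ((embOdd m F).ngt ⟨1, -1 ^ 2, rfl⟩).c ≠ 0 := by
    change (1 : F)⁻¹ * (-1 ^ 2) ≠ 0
    simp
  exact rk2_C (model (wodd m F) hG ⟨_, hp⟩) (AmbT.of_amb (amb_O_of_two _ h2) p) hp (by omega)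

theorem rk2_PO_minus [Finite F] (a b : F)
    (hab : ∀ z₁ z₂ : F, z₁ ^ 2 + a * z₁ * z₂ + b * z₂ ^ 2 = 0 → z₁ = 0 ∧ z₂ = 0)
    (hm : 2 ≤ m) {p : ℕ} [Fact p.Prime] [CharP F p] :
    Rk2 p (Cfsg.POmega F (Cfsg.quadFormMinus m F a b)) := by
  rw [← coe_minusForm]
  have hG : _root_.Cfsg.Agent.LieClassical.OrthTrans.Good (minusForm m F a b) := by
    apply good_of_finite (nondeg_minusForm m F a b hab)
    rw [Module.finrank_fintype_fun_eq_card, Fintype.card_sum, Fintype.card_sum, Fintype.card_fin,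
      Fintype.card_fin]
    omega
  have hp : ((embMinus m F a b hab).ngt ⟨(1, 0), -nf a b (1, 0), rfl⟩).c ≠ 0 := by
    change (1 : F)⁻¹ * (-nf a b (1, 0)) ≠ 0
    simp [nf]
  have hA : AmbT (toFrame (wminus m F a b hab)) p (E (minusForm m F a b)) := by
    by_cases h2 : (2 : F) = 0
    · have hp2 : p = 2 := by
        have h3 : CharP F 2 := CharTwo.of_one_ne_zero_of_two_eq_zero one_ne_zero h2
        exact CharP.eq F ‹CharP F p› h3
      subst hp2
      exact ambT_O _ fun g hg hg2 hb => fixp_minus a b hab h2 hm hG hg hg2 hb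
    · exact AmbT.of_amb (amb_O_of_two _ h2) p
  exact rk2_C (model (wminus m F a b hab) hG ⟨_, hp⟩) hA hp (by omega)

theorem rk2_PO_plus [Finite F] (n : ℕ) {p : ℕ} [Fact p.Prime] [CharP F p] :
    Rk2 p (Cfsg.POmega F (Cfsg.quadFormPlus (n + 3) F)) := by
  rw [← coe_plusForm]
  have hG : _root_.Cfsg.Agent.LieClassical.OrthTrans.Good (plusForm (n + 3) F) := by
    apply good_of_finite (nondeg_plusForm (n + 3) F)
    rw [Module.finrank_fintype_fun_eq_card, Fintype.card_sum, Fintype.card_fin]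
    omega
  exact ⟨n + 1 + 2, Nodes.TypeD.M (n + 1), _, _, _, _, _, by omega,
    Nodes.TypeD.finite_W (Nodes.TypeD.M (n + 1)).toCoxeterSystem,
    rgdD_model (wplus (n + 3) F) hG (amb_plus _) (adm_plus _) _,
    G1D_eq_top (wplus (n + 3) F) (toPOmega hG) (toPOmega_surjective hG) (adm_plus _) _⟩

end Orthogonal

/-! ### The rows -/

section Rows

open Cfsg.Agent.Nodes.RGDClass (fact_prime)

variable {r : ℕ} {T : Type u} [Group T]

theorem rk2_psl {F : Type} [Field F] [Fintype F] [CharP F r] {n : ℕ} (hn : 3 ≤ n)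
    (h : Nonempty (T ≃* Matrix.ProjectiveSpecialLinearGroup (Fin n) F)) : Rk2 r T := by
  have : Fact r.Prime := fact_prime (F := F)
  obtain ⟨e⟩ := h
  obtain ⟨n, rfl⟩ : ∃ k, n = k + 1 := ⟨n - 1, by omega⟩
  exact rk2_of_equiv e.symm (rk2_PSL n (by omega))

theorem rk2_psp {F : Type} [Field F] [Fintype F] [CharP F r] {m : ℕ} (hm : 2 ≤ m)
    (h : Nonempty (T ≃* PSp m F)) : Rk2 r T := by
  have : Fact r.Prime := fact_prime (F := F)
  obtain ⟨e⟩ := h
  exact rk2_of_equiv e.symm (rk2_PSp hm)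

theorem rk2_psu {F : Type} [Field F] [Fintype F] [CharP F r] {n q : ℕ} (hF : Fintype.card F = q ^ 2) (hn : 4 ≤ n)
    (h : Nonempty (T ≃* PSU n F q)) : Rk2 r T := by
  have : Fact r.Prime := fact_prime (F := F)
  obtain ⟨e⟩ := h
  exact rk2_of_equiv e.symm (rk2_PSU hF hn)

theorem rk2_odd {F : Type} [Field F] [Fintype F] [CharP F r] {m : ℕ} (hm : 2 ≤ m) (hodd : Odd (Fintype.card F))
    (h : Nonempty (T ≃* POmega F (quadFormOdd m F))) : Rk2 r T := by
  have : Fact r.Prime := fact_prime (F := F)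
  obtain ⟨e⟩ := h
  have h2 : (2 : F) ≠ 0 := by
    intro h2
    have h3 : CharP F 2 := CharTwo.of_one_ne_zero_of_two_eq_zero one_ne_zero h2
    obtain ⟨k, -, hk⟩ := FiniteField.card F 2
    rw [hk] at hodd
    exact absurd hodd (by
      rw [Nat.not_odd_iff_even]
      exact (even_two).pow_of_ne_zero k.ne_zero)
  exact rk2_of_equiv e.symm (rk2_PO_odd h2 hm)

theorem rk2_plus {F : Type} [Field F] [Fintype F] [CharP F r] {m : ℕ} (hm : 3 ≤ m)
    (h : Nonempty (T ≃* POmega F (quadFormPlus m F))) : Rk2 r T := by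
  have : Fact r.Prime := fact_prime (F := F)
  obtain ⟨e⟩ := h
  obtain ⟨n, rfl⟩ : ∃ n, m = n + 3 := ⟨m - 3, by omega⟩
  exact rk2_of_equiv e.symm (rk2_PO_plus n)

theorem rk2_minus {F : Type} [Field F] [Fintype F] [CharP F r] {m : ℕ} {a b : F} (hm : 3 ≤ m)
    (hab : ∀ z₁ z₂ : F, z₁ ^ 2 + a * z₁ * z₂ + b * z₂ ^ 2 = 0 → z₁ = 0 ∧ z₂ = 0)
    (h : Nonempty (T ≃* POmega F (quadFormMinus (m - 1) F a b))) : Rk2 r T := by
  have : Fact r.Prime := fact_prime (F := F)
  obtain ⟨e⟩ := h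
  exact rk2_of_equiv e.symm (rk2_PO_minus a b hab (by omega))

/-! ### the predicates of `Def_LieTypeChar` and `Def_Classical` -/

end Rows

end Cfsg.Agent.H748.DG
end

-- part: H79/DG/Transfer
section
/-!
# Transfer of the criteria for `Coh` from `E Q` to `POmega` (helper79, for `S4180`)
-/

set_option autoImplicit false

namespace Cfsg.Agent.H79.DG

open QuadraticMap Cfsg.Agent.LieClassical.OrthCore Cfsg.Agent.LieClassical.OrthTrans
  Cfsg.Agent.LieClassical.OrthSimple Cfsg.Agent.ClassicalGeometry.OrthAutBasic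
  Cfsg.Agent.H887.SiegelMethod Cfsg.Agent.H137 Cfsg.Agent.H891.DG

universe u

variable {ι : Type} [Fintype ι] [DecidableEq ι] {F : Type*} [Field F] {Q : QuadraticForm F (ι → F)}

theorem exists_surj (hG : Good Q) {T : Type u} [Group T] (e : T ≃* Cfsg.POmega F ⇑Q) :
    ∃ f : ↥(E Q) →* T, Function.Surjective f ∧ ∀ x, f x = 1 → x ∈ Subgroup.center ↥(E Q) := by
  have eE : Cfsg.Omega F ⇑Q ≃* ↥(E Q) :=
    (Cfsg.Agent.LieClassical.OrthFinite.omegaEquiv Q).trans (MulEquiv.subgroupCongr hG.commutator_eq_E)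
  refine ⟨e.symm.toMonoidHom.comp ((QuotientGroup.mk' (Subgroup.center (Cfsg.Omega F ⇑Q))).comp
    eE.symm.toMonoidHom), ?_, ?_⟩
  · refine e.symm.surjective.comp ?_
    exact (QuotientGroup.mk'_surjective _).comp eE.symm.surjective
  · intro x hx
    have h1 : (QuotientGroup.mk' (Subgroup.center (Cfsg.Omega F ⇑Q))) (eE.symm x) = 1 := by
      have h2 : e.symm ((QuotientGroup.mk' (Subgroup.center (Cfsg.Omega F ⇑Q))) (eE.symm x)) = 1 := hx
      exact (MulEquiv.map_eq_one_iff e.symm).1 h2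
    have h3 : eE.symm x ∈ Subgroup.center (Cfsg.Omega F ⇑Q) := (QuotientGroup.eq_one_iff _).1 h1
    rw [Subgroup.mem_center_iff] at h3 ⊢
    intro g
    have h4 := congrArg eE (h3 (eE.symm g))
    rwa [map_mul, map_mul, eE.apply_symm_apply, eE.apply_symm_apply] at h4

/-- a subgroup of the ambient group and two elements which generate `E Q` -/
theorem map_sup_closure {G : Type*} [Group G] {S : Subgroup G} {T : Type*} [Group T] {f : ↥S →* T}
    (hf : Function.Surjective f) {H : Subgroup G} (hHS : H ≤ S) {a b : G} (ha : a ∈ S) (hb : b ∈ S)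
    (h : S ≤ H ⊔ Subgroup.closure {a, b}) :
    (H.subgroupOf S).map f ⊔ Subgroup.closure {f ⟨a, ha⟩, f ⟨b, hb⟩} = ⊤ := by
  have h1 : H.subgroupOf S ⊔ Subgroup.closure {(⟨a, ha⟩ : ↥S), ⟨b, hb⟩} = ⊤ := by
    apply Subgroup.map_injective S.subtype_injective
    rw [Subgroup.map_sup, MonoidHom.map_closure, Subgroup.map_subgroupOf_eq_of_le hHS]
    have h2 : S.subtype '' {(⟨a, ha⟩ : ↥S), ⟨b, hb⟩} = {a, b} := by
      rw [Set.image_pair]; rfl
    rw [h2, ← MonoidHom.range_eq_map, Subgroup.range_subtype]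
    refine le_antisymm (sup_le hHS ?_) h
    rw [Subgroup.closure_le]
    rintro x (rfl | rfl)
    · exact ha
    · exact hb
  have h3 := congrArg (Subgroup.map f) h1
  rw [Subgroup.map_sup, MonoidHom.map_closure, Set.image_pair, ← MonoidHom.range_eq_map,
    MonoidHom.range_eq_top.2 hf] at h3
  exact h3

/-- the torus criterion -/
theorem cohAt_of_E [Finite F] (hG : Good Q) {p : ℕ} (hp : p.Prime) {H : Subgroup ((ι → F) ≃ₗ[F] (ι → F))}
    (hHE : H ≤ E Q) (hH : ¬ p ∣ Nat.card H) {n u : (ι → F) ≃ₗ[F] (ι → F)} (hnE : n ∈ E Q) (huE : u ∈ E Q)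
    (hn : ∀ h ∈ H, n⁻¹ * h * n ∈ H) {c : (ι → F) ≃ₗ[F] (ι → F)} (hc : c ∈ H) (hcu : c * u = u * c)
    (hc1 : ∃ g ∈ E Q, g * c ≠ c * g) (hgen : E Q ≤ H ⊔ Subgroup.closure {u, n})
    {T : Type u} [Group T] [Finite T] [IsSimpleGroup T] (e : T ≃* Cfsg.POmega F ⇑Q) : CohAt p T := by
  obtain ⟨f, hf, hker⟩ := exists_surj hG e
  have hfin : Finite ((ι → F) ≃ₗ[F] (ι → F)) :=
    Finite.of_injective (fun g : (ι → F) ≃ₗ[F] (ι → F) => (g : (ι → F) → (ι → F))) DFunLike.coe_injective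
  refine Tools.cohAt_of_torus (H := (H.subgroupOf (E Q)).map f) (H₁ := Subgroup.zpowers (f ⟨c, hHE hc⟩))
    (n := f ⟨n, hnE⟩) (u := f ⟨u, huE⟩) hp ?_ ?_ ?_ ?_ ?_ (map_sup_closure hf hHE huE hnE hgen)
  · intro hd
    apply hH
    have h1 : Nat.card ((H.subgroupOf (E Q)).map f) ∣ Nat.card (H.subgroupOf (E Q)) := Subgroup.card_map_dvd _ _
    have h2 : Nat.card (H.subgroupOf (E Q)) = Nat.card H :=
      Nat.card_congr (Subgroup.subgroupOfEquivOfLe hHE).toEquiv
    rw [h2] at h1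
    exact hd.trans h1
  · rintro _ ⟨x, hx, rfl⟩
    refine ⟨⟨n, hnE⟩⁻¹ * x * ⟨n, hnE⟩, ?_, by rw [map_mul, map_mul, map_inv]⟩
    have h1 := hn x hx
    exact h1
  · rw [Subgroup.zpowers_le]
    exact ⟨_, hc, rfl⟩
  · intro h0
    rw [Subgroup.zpowers_eq_bot] at h0
    have h1 := hker _ h0
    obtain ⟨g, hg, hne⟩ := hc1
    apply hne
    have h2 := Subgroup.mem_center_iff.1 h1 ⟨g, hg⟩
    exact congrArg Subtype.val h2
  · intro h hh
    obtain ⟨i, rfl⟩ := Subgroup.mem_zpowers_iff.1 hh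
    have h1 : Commute (f ⟨c, hHE hc⟩) (f ⟨u, huE⟩) := by
      show _ * _ = _ * _
      rw [← map_mul, ← map_mul]
      congr 1
      exact Subtype.ext hcu
    exact (h1.zpow_left i)

end Cfsg.Agent.H79.DG
end

-- part: H79/DG/OddQ
section
/-!
# `CohAt p` for orthogonal groups in odd characteristic `p` (helper79, for `S4180`)
-/

set_option autoImplicit false

namespace Cfsg.Agent.H79.DG

open QuadraticMap Cfsg.Agent.LieClassical.OrthCore Cfsg.Agent.LieClassical.OrthTrans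
  Cfsg.Agent.LieClassical.OrthSimple Cfsg.Agent.ClassicalGeometry.OrthAutBasic
  Cfsg.Agent.H887.SiegelMethod Cfsg.Agent.H137 Cfsg.Agent.H891.DG

universe u

/-- a hyperbolic family of `k + 1` pairs with an orthogonal complement spanned by two vectors -/
def HasFam {F V : Type*} [Field F] [AddCommGroup V] [Module F V] (Q : QuadraticForm F V) (k : ℕ) : Prop :=
  ∃ (ev fv : Fin (k + 1) → V) (d0 d : V), HypFam Q ev fv ∧ Perp Q ev fv d0 ∧ Perp Q ev fv d ∧ Q d0 ≠ 0 ∧
    polar Q d0 d ≠ 0 ∧ ∀ v, Perp Q ev fv v → v ∈ Submodule.span F {d0, d}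

section

variable {F V : Type*} [Field F] [AddCommGroup V] [Module F V] {Q : QuadraticForm F V}

/-- monomial maps normalise the monomial group -/
theorem mon_norm {ι : Type*} {ev fv : ι → V} {d0 : V} {he : ∀ i, ev i ≠ 0} {hf : ∀ i, fv i ≠ 0} {hQ0 : Q d0 ≠ 0}
    {hd0 : Perp Q ev fv d0} {n : V ≃ₗ[F] V} (hnE : n ∈ E Q)
    (hn : ∀ i, ∃ j, (∃ a : F, n (ev i) = a • ev j) ∧ ∃ b : F, n (fv i) = b • fv j)
    (hnP : ∀ v, Perp Q ev fv v → n v = v) {g : V ≃ₗ[F] V} (hg : g ∈ mon Q ev fv he hf d0 hQ0 hd0) :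
    n⁻¹ * g * n ∈ mon Q ev fv he hf d0 hQ0 hd0 := by
  obtain ⟨h1, h2, h3⟩ := hg
  have key : ∀ v, (n⁻¹ * g * n) v = n⁻¹ (g (n v)) := fun v => rfl
  have hnP' : ∀ v, Perp Q ev fv v → n⁻¹ v = v := by
    intro v hv
    have h4 : n⁻¹ (n v) = v := n.symm_apply_apply v
    rwa [hnP v hv] at h4
  refine ⟨(E Q).mul_mem ((E Q).mul_mem ((E Q).inv_mem hnE) h1) hnE, fun i => ?_, ?_⟩
  · obtain ⟨j, ⟨a, ha⟩, b, hb⟩ := hn i
    have ha' : n⁻¹ (ev j) = a⁻¹ • ev i := inv_smul_of (he i) ha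
    have hb' : n⁻¹ (fv j) = b⁻¹ • fv i := inv_smul_of (hf i) hb
    rcases h2 j with ⟨⟨a1, h4⟩, b1, h5⟩ | ⟨⟨a1, h4⟩, b1, h5⟩
    · refine Or.inl ⟨⟨a * a1 * a⁻¹, ?_⟩, ⟨b * b1 * b⁻¹, ?_⟩⟩
      · rw [key, ha, map_smul, h4, map_smul, map_smul, ha', smul_smul, smul_smul]
      · rw [key, hb, map_smul, h5, map_smul, map_smul, hb', smul_smul, smul_smul]
    · refine Or.inr ⟨⟨a * a1 * b⁻¹, ?_⟩, ⟨b * b1 * a⁻¹, ?_⟩⟩
      · rw [key, ha, map_smul, h4, map_smul, map_smul, hb', smul_smul, smul_smul]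
      · rw [key, hb, map_smul, h5, map_smul, map_smul, ha', smul_smul, smul_smul]
  · rcases h3 with h3 | h3
    · exact Or.inl fun v hv => by rw [key, hnP v hv, h3 v hv, hnP' v hv]
    · exact Or.inr fun v hv => by rw [key, hnP v hv, h3 v hv, hnP' _ (hd0.refl hQ0 hv)]

theorem exists_central_inv (h2 : (2 : F) ≠ 0) {ι : Type*} [Fintype ι] [DecidableEq ι] {ev fv : ι → V} {d0 d : V}
    (h : HypFam Q ev fv) {hQ0 : Q d0 ≠ 0} {hd0 : Perp Q ev fv d0} (hd : Perp Q ev fv d) {i0 i j : ι}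
    (h0i : i0 ≠ i) (h0j : i0 ≠ j) (hij : i ≠ j) :
    ∃ c ∈ mon Q ev fv (ne_zero_e h) (ne_zero_f h) d0 hQ0 hd0, c * T Q (ev i0) d = T Q (ev i0) d * c ∧
      ∃ g ∈ E Q, g * c ≠ c * g := by
  set n := nn Q (ev i) (fv i) (ev j) (fv j) with hn
  have h3 := hyp2 h hij
  have key : ∀ v, (n * n) v = n (n v) := fun v => rfl
  have e1 : (n * n) (ev i) = - ev i := by rw [key, nn_x h3, nn_y h3]
  have e2 : (n * n) (fv i) = - fv i := by rw [key, nn_x' h3, nn_y' h3]
  have e3 : (n * n) (ev j) = - ev j := by rw [key, nn_y h3, map_neg, nn_x h3]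
  have e4 : (n * n) (fv j) = - fv j := by rw [key, nn_y' h3, map_neg, nn_x' h3]
  have e5 : ∀ v, polar Q (ev i) v = 0 → polar Q (fv i) v = 0 → polar Q (ev j) v = 0 → polar Q (fv j) v = 0 →
      (n * n) v = v := fun v p1 p2 p3 p4 => by rw [key, nn_fix h3 p1 p2 p3 p4, nn_fix h3 p1 p2 p3 p4]
  have hcE : n * n ∈ E Q := E_mul (nn_mem_E _ _ _ _) (nn_mem_E _ _ _ _)
  have e6 : ∀ l, l ≠ i → l ≠ j → (n * n) (ev l) = ev l ∧ (n * n) (fv l) = fv l := by
    intro l hli hlj
    exact ⟨e5 _ (h.ee _ _) (by rw [fe h, if_neg (Ne.symm hli)]) (h.ee _ _) (by rw [fe h, if_neg (Ne.symm hlj)]),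
      e5 _ (by rw [h.ef, if_neg (Ne.symm hli)]) (h.ff _ _) (by rw [h.ef, if_neg (Ne.symm hlj)]) (h.ff _ _)⟩
  have e7 : ∀ v, Perp Q ev fv v → (n * n) v = v := fun v hv => e5 v (hv.1 _) (hv.2 _) (hv.1 _) (hv.2 _)
  refine ⟨n * n, ⟨hcE, fun l => Or.inl ?_, Or.inl e7⟩, ?_, ?_⟩
  · by_cases hli : l = i
    · subst hli
      exact ⟨⟨-1, by rw [e1, neg_one_smul]⟩, ⟨-1, by rw [e2, neg_one_smul]⟩⟩
    by_cases hlj : l = j
    · subst hlj
      exact ⟨⟨-1, by rw [e3, neg_one_smul]⟩, ⟨-1, by rw [e4, neg_one_smul]⟩⟩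
    obtain ⟨h4, h5⟩ := e6 l hli hlj
    exact ⟨⟨1, by rw [h4, one_smul]⟩, ⟨1, by rw [h5, one_smul]⟩⟩
  · have h4 := T_conj (E_le_O hcE) (ev i0) d
    rw [(e6 i0 h0i h0j).1, e7 d hd] at h4
    rwa [mul_inv_eq_iff_eq_mul] at h4
  · refine ⟨T Q (ev i0) (ev i), T_mem_E _ _, fun h4 => ?_⟩
    have h5 := T_conj (E_le_O hcE) (ev i0) (ev i)
    rw [(e6 i0 h0i h0j).1, e1, mul_inv_eq_iff_eq_mul, ← h4] at h5
    have h6 := mul_right_cancel h5
    have h7 : T Q (ev i0) (ev i) (fv i0) = T Q (ev i0) (-ev i) (fv i0) :=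
      congrArg (fun z : V ≃ₗ[F] V => z (fv i0)) h6
    rw [T_apply (h.Qe _) (h.ee _ _), T_apply (h.Qe _) (by rw [polar_neg_right, h.ee, neg_zero]), QuadraticMap.map_neg,
      polar_neg_left, h.Qe, h.ef, if_pos rfl, h.ef, if_neg (Ne.symm h0i)] at h7
    simp only [zero_mul, zero_smul, sub_zero, neg_zero, one_smul] at h7
    have h8 := add_left_cancel h7
    have h9 : (2 : F) • ev i = 0 := by
      rw [two_smul]
      nth_rewrite 1 [h8]
      exact neg_add_cancel _
    exact (ne_zero_e h i) ((smul_eq_zero.1 h9).resolve_left h2)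

end

/-- `CohAt p` in odd characteristic `p` -/
theorem cohAt_odd {ι : Type} [Fintype ι] [DecidableEq ι] {F : Type*} [Field F] [Finite F] {p : ℕ} (hp : p.Prime)
    [CharP F p] (hp2 : p ≠ 2) {Q : QuadraticForm F (ι → F)} (hG : Good Q) {k : ℕ} (hk : 2 ≤ k) (h : HasFam Q k)
    {S : Type u} [Group S] [Finite S] [IsSimpleGroup S] (e : S ≃* Cfsg.POmega F ⇑Q) : CohAt p S := by
  obtain ⟨ev, fv, d0, d, hF, hd0, hd, hQ0, hdd, hspan⟩ := h
  have : Fact p.Prime := ⟨hp⟩
  obtain ⟨n, hnE, hn0, hn0', hn1, hnP⟩ := exists_cyc hF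
  have h2 : (2 : F) ≠ 0 := by
    intro h2
    have h3 : ((2 : ℕ) : F) = 0 := by exact_mod_cast h2
    have h4 := (CharP.cast_eq_zero_iff F p 2).1 h3
    exact hp2 ((Nat.prime_dvd_prime_iff_eq hp Nat.prime_two).1 h4)
  obtain ⟨c, hc, hcu, hc1⟩ := exists_central_inv h2 hF (hQ0 := hQ0) (hd0 := hd0) hd (i0 := 0) (i := ⟨1, by omega⟩)
    (j := ⟨2, by omega⟩) (by intro h0; have := congrArg Fin.val h0; simp at this)
    (by intro h0; have := congrArg Fin.val h0; simp at this) (by intro h0; have := congrArg Fin.val h0; simp at this)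
  refine cohAt_of_E hG hp (H := mon Q ev fv (ne_zero_e hF) (ne_zero_f hF) d0 hQ0 hd0) (fun g hg => hg.1)
    (mon_not_dvd hp2 hF) hnE (u := T Q (ev 0) d) (T_mem_E _ _) (fun g hg => ?_) hc hcu hc1
    (E_le_mono hG (by omega) hF hd0 hd hQ0 hdd hspan hnE hn0 (fun i => (hn1 i).1) hnP) e
  refine mon_norm hnE (fun i => ?_) hnP hg
  refine Fin.cases ⟨Fin.last k, ⟨1, by rw [hn0, one_smul]⟩, ⟨1, by rw [hn0', one_smul]⟩⟩ (fun j => ?_) i
  exact ⟨j.castSucc, ⟨-1, by rw [(hn1 j).1, neg_one_smul]⟩, ⟨-1, by rw [(hn1 j).2, neg_one_smul]⟩⟩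

end Cfsg.Agent.H79.DG
end

-- part: H79/DG/Fams
section
/-!
# The hyperbolic families of the three forms (helper79, for `S4180`)
-/

set_option autoImplicit false

namespace Cfsg.Agent.H79.DG

open QuadraticMap Cfsg.Agent.LieClassical.OrthCore Cfsg.Agent.LieClassical.OrthTrans
  Cfsg.Agent.LieClassical.OrthForms Cfsg.Agent.LieClassical.OrthFinite Cfsg.Agent.H137

theorem hasFam_odd {F : Type*} [Field F] (h2 : (2 : F) ≠ 0) (k : ℕ) : HasFam (oddForm (k + 1) F) k := by
  refine ⟨fun i => Pi.single (Sum.inr (Sum.inl i)) 1, fun i => Pi.single (Sum.inr (Sum.inr i)) 1,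
    Pi.single (Sum.inl ()) 1, Pi.single (Sum.inl ()) 1,
    ⟨fun i => S2413.q_inl _, fun i => S2413.q_inr _, ?_, ?_, ?_⟩, ⟨?_, ?_⟩, ⟨?_, ?_⟩, ?_, ?_, ?_⟩
  · intro i j
    rw [S2413.polar_inl]; simp
  · intro i j
    rw [S2413.polar_inr]; simp
  · intro i j
    rw [S2413.polar_inl]; simp [Pi.single_apply]
  · intro i
    rw [S2413.polar_inl]; simp
  · intro i
    rw [S2413.polar_inr]; simp
  · intro i
    rw [S2413.polar_inl]; simp
  · intro i
    rw [S2413.polar_inr]; simp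
  · rw [S2413.q_mid]; exact one_ne_zero
  · rw [polar_self', S2413.q_mid, mul_one]; exact h2
  · rintro v ⟨h1, h3⟩
    have e : v = (v (Sum.inl ())) • (Pi.single (Sum.inl ()) 1 : Unit ⊕ (Fin (k + 1) ⊕ Fin (k + 1)) → F) := by
      ext j
      rcases j with j | (j | j)
      · simp
      · have := h3 j
        rw [S2413.polar_inr] at this
        simp [this]
      · have := h1 j
        rw [S2413.polar_inl] at this
        simp [this]
    rw [e]
    exact Submodule.smul_mem _ _ (Submodule.subset_span (by simp))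

theorem hasFam_plus {F : Type*} [Field F] (k : ℕ) : HasFam (plusForm (k + 2) F) k := by
  refine ⟨fun i => Pi.single (Sum.inl i.succ) 1, fun i => Pi.single (Sum.inr i.succ) 1,
    Pi.single (Sum.inl 0) 1 + Pi.single (Sum.inr 0) 1, Pi.single (Sum.inl 0) 1,
    ⟨fun i => S2414.q_inl _, fun i => S2414.q_inr _, ?_, ?_, ?_⟩, ⟨?_, ?_⟩, ⟨?_, ?_⟩, ?_, ?_, ?_⟩
  · intro i j
    rw [S2414.polar_inl]; simp
  · intro i j
    rw [S2414.polar_inr]; simp
  · intro i j
    rw [S2414.polar_inl]; simp [Pi.single_apply]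
  · intro i
    rw [S2414.polar_inl]; simp [Pi.single_apply]
  · intro i
    rw [S2414.polar_inr]; simp [Pi.single_apply]
  · intro i
    rw [S2414.polar_inl]; simp
  · intro i
    rw [S2414.polar_inr]; simp [Pi.single_apply]
  · rw [Q_add, S2414.q_inl, S2414.q_inr, S2414.polar_inl]; simp
  · rw [polar_add_left, S2414.polar_inl, S2414.polar_inr]; simp
  · rintro v ⟨h1, h2⟩
    have e : v = (v (Sum.inr 0)) • (Pi.single (Sum.inl 0) 1 + Pi.single (Sum.inr 0) 1 : Fin (k + 2) ⊕ Fin (k + 2) → F) +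
        (v (Sum.inl 0) - v (Sum.inr 0)) • (Pi.single (Sum.inl 0) 1 : Fin (k + 2) ⊕ Fin (k + 2) → F) := by
      ext j
      rcases j with j | j
      · refine Fin.cases ?_ (fun j => ?_) j
        · simp
        · have := h2 j
          rw [S2414.polar_inr] at this
          simp [this]
      · refine Fin.cases ?_ (fun j => ?_) j
        · simp
        · have := h1 j
          rw [S2414.polar_inl] at this
          simp [this]
    rw [e]
    exact Submodule.add_mem _ (Submodule.smul_mem _ _ (Submodule.subset_span (by simp)))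
      (Submodule.smul_mem _ _ (Submodule.subset_span (by simp)))

theorem good_plus {F : Type*} [Field F] [Fintype F] (k : ℕ) (hk : 2 ≤ k) : Good (plusForm (k + 2) F) := by
  refine good_of_finite (nondeg_plusForm (m := k + 2) (F := F)) ?_
  rw [Module.finrank_fintype_fun_eq_card]
  simp; omega

theorem good_minus {F : Type*} [Field F] [Fintype F] (k : ℕ) (hk : 2 ≤ k) {a b : F}
    (hab : ∀ z₁ z₂ : F, z₁ ^ 2 + a * z₁ * z₂ + b * z₂ ^ 2 = 0 → z₁ = 0 ∧ z₂ = 0) :
    Good (minusForm (k + 1) F a b) := by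
  refine good_of_finite (nondeg_minusForm (m := k + 1) (F := F) a b hab) ?_
  rw [Module.finrank_fintype_fun_eq_card]
  simp only [_root_.Fintype.card_sum, _root_.Fintype.card_fin, _root_.Nat.reduceLeDiff]; omega

theorem hasFam_minus {F : Type*} [Field F] [Finite F] (k : ℕ) {a b : F}
    (hab : ∀ z₁ z₂ : F, z₁ ^ 2 + a * z₁ * z₂ + b * z₂ ^ 2 = 0 → z₁ = 0 ∧ z₂ = 0) :
    HasFam (minusForm (k + 1) F a b) k := by
  obtain ⟨s, hs⟩ : ∃ s : F, 2 * s + a ≠ 0 := by
    by_cases ha : a = 0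
    · have hd := Cfsg.Agent.LieClassical.OmegaReindex.disc_ne_zero hab
      refine ⟨1, ?_⟩
      intro h
      apply hd
      have h2 : (2 : F) = 0 := by rw [ha] at h; simpa using h
      rw [ha]
      linear_combination (2 * b) * h2
    · exact ⟨0, by simpa using ha⟩
  refine ⟨fun i => Pi.single (Sum.inl (Sum.inl i)) 1, fun i => Pi.single (Sum.inl (Sum.inr i)) 1,
    S2415.zv (k + 1) 1 0, S2415.zv (k + 1) s 1,
    ⟨fun i => S2415.q_inl _ _ _, fun i => S2415.q_inr _ _ _, ?_, ?_, ?_⟩, ⟨?_, ?_⟩, ⟨?_, ?_⟩, ?_, ?_, ?_⟩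
  · intro i j
    rw [S2415.polar_inl]; simp
  · intro i j
    rw [S2415.polar_inr]; simp
  · intro i j
    rw [S2415.polar_inl]; simp [Pi.single_apply]
  · intro i
    rw [S2415.polar_inl]; simp [S2415.zv]
  · intro i
    rw [S2415.polar_inr]; simp [S2415.zv]
  · intro i
    rw [S2415.polar_inl]; simp [S2415.zv]
  · intro i
    rw [S2415.polar_inr]; simp [S2415.zv]
  · rw [S2415.q_zv]; simp
  · rw [S2415.polar_zv]; simpa only [_root_.mul_one, _root_.MulZeroClass.zero_mul, _root_.add_zero, _root_.MulZeroClass.mul_zero, _root_.ne_eq] using hs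
  · rintro v ⟨h1, h2⟩
    have e : v = (v (Sum.inr 0) - v (Sum.inr 1) * s) • (S2415.zv (k + 1) 1 0 : (Fin (k + 1) ⊕ Fin (k + 1)) ⊕ Fin 2 → F) +
        (v (Sum.inr 1)) • (S2415.zv (k + 1) s 1 : (Fin (k + 1) ⊕ Fin (k + 1)) ⊕ Fin 2 → F) := by
      ext j
      rcases j with (j | j) | j
      · have := h2 j
        rw [S2415.polar_inr] at this
        simp [S2415.zv, this]
      · have := h1 j
        rw [S2415.polar_inl] at this
        simp [S2415.zv, this]
      · fin_cases j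
        · simp [S2415.zv]
        · simp [S2415.zv]
    rw [e]
    exact Submodule.add_mem _ (Submodule.smul_mem _ _ (Submodule.subset_span (by simp)))
      (Submodule.smul_mem _ _ (Submodule.subset_span (by simp)))

end Cfsg.Agent.H79.DG
end

-- part: H79/DG/EvenAbs
section
/-!
# Generation of `E Q` by an involution and another element, abstract form (helper79, for `S4180`)
-/

set_option autoImplicit false

namespace Cfsg.Agent.H79.DG

open QuadraticMap Cfsg.Agent.LieClassical.OrthCore Cfsg.Agent.LieClassical.OrthTrans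
  Cfsg.Agent.LieClassical.OrthSimple Cfsg.Agent.ClassicalGeometry.OrthAutBasic
  Cfsg.Agent.H887.SiegelMethod Cfsg.Agent.H137

variable {F V : Type*} [Field F] [AddCommGroup V] [Module F V] {Q : QuadraticForm F V}

theorem nn_mem {H : Subgroup (V ≃ₗ[F] V)} {x x' y y' : V} (h1 : T Q x' y ∈ H) (h2 : T Q x y' ∈ H) :
    nn Q x x' y y' ∈ H := H.mul_mem (H.mul_mem h1 h2) h1

theorem hyp2_swap {x x' y y' : V} (h : Hyp2 Q x x' y y') : Hyp2 Q x x' y' y :=
  ⟨h.hx, h.hy.symm, h.xy', h.xy, h.x'y', h.x'y⟩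

/-- the exchange of `x` and `x'` -/
theorem exists_exch {H : Subgroup (V ≃ₗ[F] V)} {x x' y y' : V} (h : Hyp2 Q x x' y y') (h1 : T Q x' y ∈ H)
    (h2 : T Q x y' ∈ H) (h3 : T Q x' y' ∈ H) (h4 : T Q x y ∈ H) :
    ∃ σ ∈ H, σ ∈ O Q ∧ σ x = -x' ∧ σ x' = -x ∧
      ∀ v, polar Q x v = 0 → polar Q x' v = 0 → polar Q y v = 0 → polar Q y' v = 0 → σ v = v := by
  have h' := hyp2_swap h
  refine ⟨nn Q x x' y' y * nn Q x x' y y', H.mul_mem (nn_mem h3 h4) (nn_mem h1 h2),
    E_le_O (E_mul (nn_mem_E _ _ _ _) (nn_mem_E _ _ _ _)), ?_, ?_, ?_⟩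
  · show nn Q x x' y' y (nn Q x x' y y' x) = _
    rw [nn_x h, nn_y' h']
  · show nn Q x x' y' y (nn Q x x' y y' x') = _
    rw [nn_x' h, nn_y h']
  · intro v a b c d
    show nn Q x x' y' y (nn Q x x' y y' v) = _
    rw [nn_fix h a b c d, nn_fix h' a b d c]

theorem E_le_of_U [FiniteDimensional F V] (hG : Good Q) {H : Subgroup (V ≃ₗ[F] V)} {e0 f0 e1 f1 : V}
    (h : Hyp2 Q e0 f0 e1 f1) {U : Submodule F V} (he1 : e1 ∈ U) (hf1 : f1 ∈ U)
    (hU : ∀ u ∈ U, polar Q e0 u = 0 ∧ polar Q f0 u = 0)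
    (hUe : ∀ u ∈ U, T Q e0 u ∈ H) (hUf : ∀ u ∈ U, T Q f0 u ∈ H) {d d' : V}
    (hd : polar Q e0 d = 0 ∧ polar Q f0 d = 0 ∧ polar Q e1 d = 0 ∧ polar Q f1 d = 0)
    (hd' : polar Q e0 d' = 0 ∧ polar Q f0 d' = 0 ∧ polar Q e1 d' = 0 ∧ polar Q f1 d' = 0)
    {c : F} (hc : c ≠ 0) (hTd : T Q e0 d ∈ H) (hTd' : T Q f0 (c • d') ∈ H)
    (hspan : ∀ v, polar Q e0 v = 0 → polar Q f0 v = 0 → ∃ u ∈ U, v - u ∈ Submodule.span F {d, d'}) :
    E Q ≤ H := by
  obtain ⟨σ, hσ, hσO, hσe, hσf, hσ0⟩ := exists_exch h (hUf _ he1) (hUe _ hf1) (hUf _ hf1) (hUe _ he1)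
  -- the torus
  have ht : ∀ a : F, a ≠ 0 → hh Q e0 f0 e1 f1 a ∈ H := fun a ha =>
    H.mul_mem (H.inv_mem (nn_mem (hUf _ he1) (hUe _ hf1)))
      (nn_mem (hUf _ (U.smul_mem _ he1)) (hUe _ (U.smul_mem _ hf1)))
  have hTe : ∀ w, polar Q e0 w = 0 → polar Q f0 w = 0 → polar Q e1 w = 0 → polar Q f1 w = 0 → T Q e0 w ∈ H →
      w ∈ Ts Q H e0 := by
    intro w w1 w2 w3 w4 hw
    refine ⟨w1, fun a => ?_⟩
    by_cases ha : a = 0
    · rw [ha, zero_smul, T_zero_right]; exact H.one_mem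
    obtain ⟨s1, -, -, -, s5⟩ := hh_spec h ha
    have h2 := H.mul_mem (H.mul_mem (ht a ha) hw) (H.inv_mem (ht a ha))
    rwa [T_conj (E_le_O (hh_mem_E _ _ _ _ _)), s1, s5 w w1 w2 w3 w4, T_smul_left a h.hx.left w1] at h2
  have hTf : ∀ w, polar Q e0 w = 0 → polar Q f0 w = 0 → polar Q e1 w = 0 → polar Q f1 w = 0 → T Q f0 w ∈ H →
      w ∈ Ts Q H f0 := by
    intro w w1 w2 w3 w4 hw
    refine ⟨w2, fun a => ?_⟩
    by_cases ha : a = 0
    · rw [ha, zero_smul, T_zero_right]; exact H.one_mem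
    obtain ⟨-, s2, -, -, s5⟩ := hh_spec h (inv_ne_zero ha)
    have h2 := H.mul_mem (H.mul_mem (ht a⁻¹ (inv_ne_zero ha)) hw) (H.inv_mem (ht a⁻¹ (inv_ne_zero ha)))
    rwa [T_conj (E_le_O (hh_mem_E _ _ _ _ _)), s2, s5 w w1 w2 w3 w4, inv_inv, T_smul_left a h.hx.right w2] at h2
  have hm1 : (-1 : F) ≠ 0 := neg_ne_zero.2 one_ne_zero
  have hde : d ∈ Ts Q H e0 := hTe d hd.1 hd.2.1 hd.2.2.1 hd.2.2.2 hTd
  have hdf : d ∈ Ts Q H f0 := by
    have h1 := map_mem_Ts hσ hσO hde
    rwa [hσe, hσ0 d hd.1 hd.2.1 hd.2.2.1 hd.2.2.2, ← neg_one_smul F, Ts_smul hm1 h.hx.right] at h1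
  have hdf' : d' ∈ Ts Q H f0 := by
    have h1 : c • d' ∈ Ts Q H f0 := hTf _ (by rw [polar_smul_right, hd'.1, smul_zero])
      (by rw [polar_smul_right, hd'.2.1, smul_zero]) (by rw [polar_smul_right, hd'.2.2.1, smul_zero])
      (by rw [polar_smul_right, hd'.2.2.2, smul_zero]) hTd'
    have h2 := (Ts Q H f0).smul_mem c⁻¹ h1
    rwa [smul_smul, inv_mul_cancel₀ hc, one_smul] at h2
  have hde' : d' ∈ Ts Q H e0 := by
    have h1 := map_mem_Ts hσ hσO hdf'
    rwa [hσf, hσ0 d' hd'.1 hd'.2.1 hd'.2.2.1 hd'.2.2.2, ← neg_one_smul F, Ts_smul hm1 h.hx.left] at h1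
  have hUe' : ∀ u ∈ U, u ∈ Ts Q H e0 := fun u hu => ⟨(hU u hu).1, fun a => hUe _ (U.smul_mem _ hu)⟩
  have hUf' : ∀ u ∈ U, u ∈ Ts Q H f0 := fun u hu => ⟨(hU u hu).2, fun a => hUf _ (U.smul_mem _ hu)⟩
  have hef : polar Q f0 e0 = 1 := h.hx.pair'
  refine E_le_of_Ts hG h.hx.left h.hx.right (by rw [h.hx.pair]; exact one_ne_zero) ?_ ?_
  · intro v hv
    obtain ⟨u, hu, hs⟩ := hspan (v - polar Q f0 v • e0)
      (by rw [polar_sub_right, polar_smul_right, hv, polar_self_of_sing h.hx.left, smul_zero, sub_zero])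
      (by rw [polar_sub_right, polar_smul_right, hef, smul_eq_mul, mul_one, sub_self])
    have h1 : v - polar Q f0 v • e0 - u ∈ Ts Q H e0 := by
      refine (Submodule.span_le.2 ?_) hs
      rintro x (rfl | rfl)
      · exact hde
      · exact hde'
    have e : v = (v - polar Q f0 v • e0 - u) + u + polar Q f0 v • e0 := by abel
    rw [e]
    exact Submodule.add_mem _ (Submodule.add_mem _ h1 (hUe' u hu)) (Submodule.smul_mem _ _ (self_mem_Ts h.hx.left))
  · intro v hv
    obtain ⟨u, hu, hs⟩ := hspan (v - polar Q e0 v • f0)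
      (by rw [polar_sub_right, polar_smul_right, h.hx.pair, smul_eq_mul, mul_one, sub_self])
      (by rw [polar_sub_right, polar_smul_right, hv, polar_self_of_sing h.hx.right, smul_zero, sub_zero])
    have h1 : v - polar Q e0 v • f0 - u ∈ Ts Q H f0 := by
      refine (Submodule.span_le.2 ?_) hs
      rintro x (rfl | rfl)
      · exact hdf
      · exact hdf'
    have e : v = (v - polar Q e0 v • f0 - u) + u + polar Q e0 v • f0 := by abel
    rw [e]
    exact Submodule.add_mem _ (Submodule.add_mem _ h1 (hUf' u hu)) (Submodule.smul_mem _ _ (self_mem_Ts h.hx.right))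

/-- The abstract form. -/
theorem exists_b [FiniteDimensional F V] (hG : Good Q) {e0 f0 e1 f1 : V}
    (h : Hyp2 Q e0 f0 e1 f1) {U : Submodule F V} (he1 : e1 ∈ U) (hf1 : f1 ∈ U)
    (hU : ∀ u ∈ U, polar Q e0 u = 0 ∧ polar Q f0 u = 0) {d0 d : V}
    (hd0 : polar Q e0 d0 = 0 ∧ polar Q f0 d0 = 0 ∧ ∀ u ∈ U, polar Q u d0 = 0)
    (hd : polar Q e0 d = 0 ∧ polar Q f0 d = 0 ∧ ∀ u ∈ U, polar Q u d = 0)
    (hQ0 : Q d0 ≠ 0) (hdd : polar Q d0 d ≠ 0)
    (hspan : ∀ v, polar Q e0 v = 0 → polar Q f0 v = 0 → ∃ u ∈ U, v - u ∈ Submodule.span F {d0, d})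
    {S : V ≃ₗ[F] V} (hSE : S ∈ E Q) {N : ℕ} (hN : Nat.Coprime N 2) (hSN : S ^ N = 1) (hSe : S e0 = e0)
    (hSf : S f0 = f0) (hSd0 : S d0 = d0) {y : V} (hy : y ∈ U)
    (hadd : ∀ Y : AddSubgroup V, (∀ v ∈ Y, S v ∈ Y) → y + d ∈ Y → (∀ u ∈ U, u ∈ Y) ∧ d ∈ Y) :
    ∃ b ∈ E Q, E Q ≤ Subgroup.closure {T Q e0 (y + d), b} := by
  obtain ⟨r, hrE, hre, hrf, hr⟩ := exists_rr hG h.hx hd0.1 hd0.2.1 hQ0 rfl
  have hSO := E_le_O hSE
  have hdec : ∀ v : V, ∃ v', polar Q e0 v' = 0 ∧ polar Q f0 v' = 0 ∧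
      v = v' + polar Q f0 v • e0 + polar Q e0 v • f0 := by
    intro v
    refine ⟨v - polar Q f0 v • e0 - polar Q e0 v • f0, ?_, ?_, by abel⟩
    · rw [polar_sub_right, polar_sub_right, polar_smul_right, polar_smul_right, polar_self_of_sing h.hx.left,
        h.hx.pair, smul_zero, smul_eq_mul, mul_one, sub_zero, sub_self]
    · rw [polar_sub_right, polar_sub_right, polar_smul_right, polar_smul_right, polar_self_of_sing h.hx.right,
        h.hx.pair', smul_zero, smul_eq_mul, mul_one, sub_zero, sub_self]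
  have hdd0 : polar Q d0 d0 = 2 * Q d0 := polar_self' d0
  have hr2 : r ^ 2 = 1 := by
    ext v
    rw [pow_two]
    show r (r v) = v
    obtain ⟨v', h1, h2, h3⟩ := hdec v
    have h4 : r (r e0) = e0 := by
      rw [hre, map_neg, map_smul, hrf, smul_neg, neg_neg, smul_smul, mul_inv_cancel₀ hQ0, one_smul]
    have h5 : r (r f0) = f0 := by
      rw [hrf, map_neg, map_smul, hre, smul_neg, neg_neg, smul_smul, inv_mul_cancel₀ hQ0, one_smul]
    have h6 : r (r v') = v' := by
      rw [hr v' h1 h2, map_sub, map_smul, hr v' h1 h2, hr d0 hd0.1 hd0.2.1, hdd0]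
      have h7 : (Q d0)⁻¹ * (2 * Q d0) = 2 := by field_simp
      rw [h7, smul_sub, smul_smul]
      module
    rw [h3, map_add, map_add, map_smul, map_smul, map_add, map_add, map_smul, map_smul, h4, h5, h6]
  have hSr : Commute S r := by
    show S * r = r * S
    ext v
    show S (r v) = r (S v)
    obtain ⟨v', h1, h2, h3⟩ := hdec v
    have h4 : S (r e0) = r (S e0) := by rw [hSe, hre, map_neg, map_smul, hSf]
    have h5 : S (r f0) = r (S f0) := by rw [hSf, hrf, map_neg, map_smul, hSe]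
    have h6 : S (r v') = r (S v') := by
      have p1 : polar Q e0 (S v') = 0 := by
        have := polar_map hSO e0 v'
        rwa [hSe, h1] at this
      have p2 : polar Q f0 (S v') = 0 := by
        have := polar_map hSO f0 v'
        rwa [hSf, h2] at this
      have p3 : polar Q d0 (S v') = polar Q d0 v' := by
        have := polar_map hSO d0 v'
        rwa [hSd0] at this
      rw [hr v' h1 h2, hr _ p1 p2, p3, map_sub, map_smul, hSd0]
    rw [h3]
    simp only [map_add, map_smul, h4, h5, h6]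
  refine ⟨S * r, E_mul hSE hrE, ?_⟩
  set H := Subgroup.closure {T Q e0 (y + d), S * r} with hH
  have hb : S * r ∈ H := Subgroup.subset_closure (by simp)
  have hτ : T Q e0 (y + d) ∈ H := Subgroup.subset_closure (by simp)
  obtain ⟨hS, hrH⟩ := mem_of_mul_coprime hSr hN hSN hr2 hb
  have hrO := E_le_O hrE
  -- the additive subgroup
  have hye : polar Q e0 (y + d) = 0 := by rw [polar_add_right, (hU y hy).1, hd.1, add_zero]
  let Y : AddSubgroup V :=
    { carrier := {v | polar Q e0 v = 0 ∧ T Q e0 v ∈ H}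
      add_mem' := by
        rintro v w ⟨h1, h2⟩ ⟨h3, h4⟩
        refine ⟨by rw [polar_add_right, h1, h3, add_zero], ?_⟩
        rw [← T_mul h.hx.left h1 h3]
        exact H.mul_mem h2 h4
      zero_mem' := ⟨polar_zero_right Q _, by rw [T_zero_right]; exact H.one_mem⟩
      neg_mem' := by
        rintro v ⟨h1, h2⟩
        refine ⟨by rw [polar_neg_right, h1, neg_zero], ?_⟩
        rw [← T_inv h.hx.left h1]
        exact H.inv_mem h2 }
  have hYS : ∀ v ∈ Y, S v ∈ Y := by
    rintro v ⟨h1, h2⟩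
    refine ⟨?_, ?_⟩
    · have := polar_map hSO e0 v
      rwa [hSe, h1] at this
    · have h3 := H.mul_mem (H.mul_mem hS h2) (H.inv_mem hS)
      rwa [T_conj hSO, hSe] at h3
  obtain ⟨hUY, hdY⟩ := hadd Y hYS ⟨hye, hτ⟩
  have hUe : ∀ u ∈ U, T Q e0 u ∈ H := fun u hu => (hUY u hu).2
  have hne : -(Q d0) ≠ 0 := neg_ne_zero.2 hQ0
  have hmap : ∀ v, polar Q e0 v = 0 → polar Q f0 v = 0 → T Q e0 v ∈ H → T Q f0 (-(Q d0) • r v) ∈ H := by
    intro v h1 h2 h3
    have h4 := H.mul_mem (H.mul_mem hrH h3) (H.inv_mem hrH)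
    rw [T_conj hrO, hre, ← neg_smul, T_smul_left _ h.hx.right] at h4
    · exact h4
    · rw [hr v h1 h2, polar_sub_right, polar_smul_right, h2, hd0.2.1, smul_zero, sub_zero]
  have hUf : ∀ u ∈ U, T Q f0 u ∈ H := by
    intro u hu
    have h1 : (-(Q d0))⁻¹ • u ∈ U := U.smul_mem _ hu
    have h2 := hmap _ (hU _ h1).1 (hU _ h1).2 (hUe _ h1)
    have h3 : r u = u := by
      rw [hr u (hU u hu).1 (hU u hu).2, polar_comm, hd0.2.2 u hu, mul_zero, zero_smul, sub_zero]
    rwa [map_smul, h3, smul_smul, mul_inv_cancel₀ hne, one_smul] at h2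
  have hrd : r d = d - ((Q d0)⁻¹ * polar Q d0 d) • d0 := hr d hd.1 hd.2.1
  have hk : ((Q d0)⁻¹ * polar Q d0 d) ≠ 0 := mul_ne_zero (inv_ne_zero hQ0) hdd
  refine E_le_of_U hG h he1 hf1 hU hUe hUf (d := d) (d' := r d)
    ⟨hd.1, hd.2.1, hd.2.2 _ he1, hd.2.2 _ hf1⟩ ?_ hne hdY.2 (hmap d hd.1 hd.2.1 hdY.2) ?_
  · rw [hrd]
    refine ⟨?_, ?_, ?_, ?_⟩
    · rw [polar_sub_right, polar_smul_right, hd.1, hd0.1, smul_zero, sub_zero]
    · rw [polar_sub_right, polar_smul_right, hd.2.1, hd0.2.1, smul_zero, sub_zero]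
    · rw [polar_sub_right, polar_smul_right, hd.2.2 _ he1, hd0.2.2 _ he1, smul_zero, sub_zero]
    · rw [polar_sub_right, polar_smul_right, hd.2.2 _ hf1, hd0.2.2 _ hf1, smul_zero, sub_zero]
  · intro v h1 h2
    obtain ⟨u, hu, hs⟩ := hspan v h1 h2
    refine ⟨u, hu, (Submodule.span_le.2 ?_) hs⟩
    rintro x (rfl | rfl)
    · have e : x = ((Q x)⁻¹ * polar Q x d)⁻¹ • d - ((Q x)⁻¹ * polar Q x d)⁻¹ • (r d) := by
        rw [hrd, ← smul_sub, sub_sub_cancel, smul_smul, inv_mul_cancel₀ hk, one_smul]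
      have h5 : ((Q x)⁻¹ * polar Q x d)⁻¹ • d - ((Q x)⁻¹ * polar Q x d)⁻¹ • (r d) ∈
          Submodule.span F {d, r d} :=
        Submodule.sub_mem _ (Submodule.smul_mem _ _ (Submodule.subset_span (by simp)))
          (Submodule.smul_mem _ _ (Submodule.subset_span (by simp)))
      rw [SetLike.mem_coe, e]
      exact h5
    · exact Submodule.subset_span (by simp)

/-- `T(e, y)` is not central -/
theorem not_comm (hG : Good Q) {e0 f0 d0 : V} (h : Hyp Q e0 f0) (h1 : polar Q e0 d0 = 0) (h2 : polar Q f0 d0 = 0)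
    (hQ0 : Q d0 ≠ 0) {y : V} (hy1 : polar Q e0 y = 0) (hy2 : polar Q f0 y = 0) (hy0 : y ≠ 0) :
    ∃ g ∈ E Q, g * T Q e0 y ≠ T Q e0 y * g := by
  obtain ⟨r, hrE, hre, hrf, hr⟩ := exists_rr hG h h1 h2 hQ0 rfl
  refine ⟨r, hrE, fun h3 => ?_⟩
  have h4 := T_conj (E_le_O hrE) e0 y
  rw [h3, mul_inv_cancel_right] at h4
  have h5 : T Q e0 y e0 = T Q (r e0) (r y) e0 := by rw [← h4]
  have hry : r y = y - ((Q d0)⁻¹ * polar Q d0 y) • d0 := hr y hy1 hy2
  have p0 : polar Q f0 (r y) = 0 := by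
    rw [hry, polar_sub_right, polar_smul_right, hy2, h2, smul_zero, sub_zero]
  have p1 : polar Q e0 (r y) = 0 := by
    rw [hry, polar_sub_right, polar_smul_right, hy1, h1, smul_zero, sub_zero]
  have p1' : polar Q (r y) e0 = 0 := by rw [polar_comm]; exact p1
  rw [T_apply_self h.left hy1, hre, ← neg_smul, T_smul_left _ h.right p0, T_apply h.right
    (by rw [polar_smul_right, p0, smul_zero]), h.pair', one_smul, polar_smul_left, p1', smul_zero, zero_smul,
    sub_zero, mul_one] at h5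
  have h6 : (-(Q d0)) • r y = Q (-(Q d0) • r y) • f0 := by
    have h7 := h5
    rw [add_sub_assoc] at h7
    have h8 := (left_eq_add.1 h7)
    exact sub_eq_zero.1 h8
  have h9 : Q (-(Q d0) • r y) = 0 := by
    have h10 := congrArg (polar Q e0) h6
    rw [polar_smul_right, p1, smul_zero, polar_smul_right, h.pair, smul_eq_mul, mul_one] at h10
    exact h10.symm
  rw [h9, zero_smul] at h6
  have h11 := (smul_eq_zero.1 h6).resolve_left (neg_ne_zero.2 hQ0)
  exact hy0 (r.injective (by rw [h11, map_zero]))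

end Cfsg.Agent.H79.DG
end

-- part: H79/DG/EvenSinger
section
/-!
# Generation of `E Q` by an involution and another element in characteristic 2: Singer elements
(helper79, for `S4180`)
-/

set_option autoImplicit false

namespace Cfsg.Agent.H79.DG

open QuadraticMap Cfsg.Agent.LieClassical.OrthCore Cfsg.Agent.LieClassical.OrthTrans
  Cfsg.Agent.LieClassical.OrthSimple Cfsg.Agent.ClassicalGeometry.OrthAutBasic
  Cfsg.Agent.H887.SiegelMethod Cfsg.Agent.H137

/-- an element outside the field of order 4 -/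
theorem exists_not_four {K : Type*} [Field K] [Finite K] (hK : 4 < Nat.card K) : ∃ z : K, z ^ 4 ≠ z := by
  classical
  have : Fintype K := Fintype.ofFinite K
  by_contra hne
  push Not at hne
  have h1 : (Polynomial.X ^ 4 - Polynomial.X : Polynomial K).natDegree = 4 :=
    FiniteField.X_pow_card_sub_X_natDegree_eq K (by norm_num)
  have h2 : (Polynomial.X ^ 4 - Polynomial.X : Polynomial K) = 0 := by
    refine Polynomial.eq_zero_of_natDegree_lt_card_of_eval_eq_zero' _ Finset.univ (fun z _ => ?_) ?_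
    · rw [Polynomial.eval_sub, Polynomial.eval_pow, Polynomial.eval_X, hne z, sub_self]
    · rw [h1, Finset.card_univ, ← Nat.card_eq_fintype_card]
      exact hK
  rw [h2, Polynomial.natDegree_zero] at h1
  exact absurd h1 (by norm_num)

variable {F V : Type*} [Field F] [AddCommGroup V] [Module F V] {Q : QuadraticForm F V}

theorem singer_add {K : Type*} [Field K] [Finite K] [Algebra F K] (P : SPair Q K) (h2 : (2 : K) = 0)
    (hK : 4 < Nat.card K) {g : Kˣ} (hg : ∀ c : Kˣ, c ∈ Subgroup.zpowers g) {d : V} (hd : P.Perp d)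
    (Y : AddSubgroup V) (hY : ∀ v ∈ Y, P.S g v ∈ Y) (h : P.e 1 + P.f 1 + d ∈ Y) :
    (∀ z, P.e z ∈ Y) ∧ (∀ z, P.f z ∈ Y) ∧ d ∈ Y := by
  have hYc : ∀ c : Kˣ, ∀ v ∈ Y, P.S c v ∈ Y := by
    intro c v hv
    obtain ⟨n, rfl⟩ := (mem_powers_iff_mem_zpowers (x := g) (y := c)).2 (hg c)
    show P.S (g ^ n) v ∈ Y
    rw [P.S_pow]
    induction n with
    | zero => exact hv
    | succ n ih => rw [pow_apply_succ]; exact hY _ ih
  obtain ⟨z, hz⟩ := exists_not_four hK
  have hz0 : z ≠ 0 := by rintro rfl; simp at hz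
  have hz1 : z ≠ 1 := by rintro rfl; simp at hz
  have hz1' : z + 1 ≠ 0 := by
    intro h0
    apply hz1
    linear_combination h0 - h2
  -- `g ≠ 1`
  have hg1 : (g : K) - 1 ≠ 0 := by
    intro h0
    have h1 : g = 1 := Units.ext (by rw [Units.val_one]; exact sub_eq_zero.1 h0)
    obtain ⟨n, hn⟩ := Subgroup.mem_zpowers_iff.1 (hg (Units.mk0 z hz0))
    rw [h1, one_zpow] at hn
    have := congrArg Units.val hn
    rw [Units.val_one, Units.val_mk0] at this
    exact hz1 this.symm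
  have hg2 : ((g⁻¹ : Kˣ) : K) - 1 ≠ 0 := by
    intro h0
    apply hg1
    have h1 : (g : K) * ((g⁻¹ : Kˣ) : K) = 1 := by rw [← Units.val_mul, mul_inv_cancel, Units.val_one]
    rw [sub_eq_zero.1 h0, mul_one] at h1
    rw [h1, sub_self]
  set t0 : K := (g : K) - 1 with ht0
  set u0 : K := ((g⁻¹ : Kˣ) : K) - 1 with hu0
  have h1 : P.e t0 + P.f u0 ∈ Y := by
    have h3 := Y.sub_mem (hY _ h) h
    rw [map_add, map_add, P.S_e, P.S_f, P.S_perp g hd, mul_one, mul_one] at h3
    have e : P.e t0 + P.f u0 = P.e (g : K) + P.f ((g⁻¹ : Kˣ) : K) + d - (P.e 1 + P.f 1 + d) := by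
      rw [ht0, hu0, map_sub, map_sub]
      abel
    rw [e]
    exact h3
  have h3 : ∀ x : K, x ≠ 0 → P.e x + P.f (x⁻¹ * (t0 * u0)) ∈ Y := by
    intro x hx
    have hc : x * t0⁻¹ ≠ 0 := mul_ne_zero hx (inv_ne_zero hg1)
    have h4 := hYc (Units.mk0 _ hc) _ h1
    rw [map_add, P.S_e, P.S_f, Units.val_mk0, Units.val_inv_eq_inv_val, Units.val_mk0] at h4
    have e1 : x * t0⁻¹ * t0 = x := by field_simp
    have e2 : (x * t0⁻¹)⁻¹ * u0 = x⁻¹ * (t0 * u0) := by field_simp
    rwa [e1, e2] at h4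
  have h5 : P.f ((z⁻¹ + 1 - (z + 1)⁻¹) * (t0 * u0)) ∈ Y := by
    have h6 := Y.sub_mem (Y.add_mem (h3 z hz0) (h3 1 one_ne_zero)) (h3 (z + 1) hz1')
    have e : P.f ((z⁻¹ + 1 - (z + 1)⁻¹) * (t0 * u0)) = P.e z + P.f (z⁻¹ * (t0 * u0)) +
        (P.e 1 + P.f (1⁻¹ * (t0 * u0))) - (P.e (z + 1) + P.f ((z + 1)⁻¹ * (t0 * u0))) := by
      rw [inv_one, sub_mul, add_mul, map_sub, map_add, map_add]
      abel
    rw [e]
    exact h6
  have hs : (z⁻¹ + 1 - (z + 1)⁻¹) * (t0 * u0) ≠ 0 := by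
    refine mul_ne_zero ?_ (mul_ne_zero hg1 hg2)
    intro h0
    apply hz
    have h6 : z ^ 2 + z + 1 = 0 := by
      have h7 : z * (z + 1) * (z⁻¹ + 1 - (z + 1)⁻¹) = z ^ 2 + z + 1 := by
        field_simp
        ring
      rw [← h7, h0, mul_zero]
    linear_combination (z ^ 2 - z) * h6
  have hf : ∀ x, P.f x ∈ Y := by
    intro x
    by_cases hx : x = 0
    · rw [hx, map_zero]; exact Y.zero_mem
    set s := (z⁻¹ + 1 - (z + 1)⁻¹) * (t0 * u0) with hs'
    have hc : s * x⁻¹ ≠ 0 := mul_ne_zero hs (inv_ne_zero hx)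
    have h4 := hYc (Units.mk0 _ hc) _ h5
    rw [P.S_f, Units.val_inv_eq_inv_val, Units.val_mk0] at h4
    have e1 : (s * x⁻¹)⁻¹ * s = x := by field_simp
    rwa [e1] at h4
  have he : ∀ x, P.e x ∈ Y := by
    intro x
    by_cases hx : x = 0
    · rw [hx, map_zero]; exact Y.zero_mem
    have := Y.sub_mem (h3 x hx) (hf (x⁻¹ * (t0 * u0)))
    rwa [add_sub_cancel_right] at this
  refine ⟨he, hf, ?_⟩
  have := Y.sub_mem h (Y.add_mem (he 1) (hf 1))
  rwa [add_sub_cancel_left] at this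

/-- **the Singer case** -/
theorem exists_b_singer [Finite F] [FiniteDimensional F V] (h2 : (2 : F) = 0) (hG : Good Q) {k : ℕ} (hk : 2 ≤ k)
    (hq : 4 < Nat.card F ^ k) {ev fv : Fin (k + 1) → V} (h : HypFam Q ev fv) {d0 d : V}
    (hd0 : Perp Q ev fv d0) (hd : Perp Q ev fv d) (hQ0 : Q d0 ≠ 0) (hdd : polar Q d0 d ≠ 0)
    (hspan : ∀ v, Perp Q ev fv v → v ∈ Submodule.span F {d0, d}) :
    ∃ y, polar Q (ev 0) y = 0 ∧ polar Q (fv 0) y = 0 ∧ y ≠ 0 ∧
      ∃ b ∈ E Q, E Q ≤ Subgroup.closure {T Q (ev 0) y, b} := by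
  obtain ⟨K, _, _, _, hK⟩ := exists_ext F k (by omega)
  have : FiniteDimensional F K := Module.finite_of_finrank_pos (by omega)
  have : Algebra.IsSeparable F K := inferInstance
  let b : Module.Basis (Fin k) F K := (Module.finBasis F K).reindex (finCongr hK)
  have hfam : HypFam Q (fun i : Fin k => ev i.succ) (fun i : Fin k => fv i.succ) := by
    refine ⟨fun i => h.Qe _, fun i => h.Qf _, fun i j => h.ee _ _, fun i j => h.ff _ _, fun i j => ?_⟩
    rw [h.ef]
    simp only [Fin.succ_inj]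
  set P := mkPair b hfam with hP
  have hpe : ∀ v, P.Perp v ↔ (∀ i : Fin k, polar Q (ev i.succ) v = 0) ∧ ∀ i : Fin k, polar Q (fv i.succ) v = 0 :=
    fun v => perp_mkPair b hfam v
  have hyp : Hyp Q (ev 0) (fv 0) := ⟨h.Qe _, h.Qf _, by rw [h.ef, if_pos rfl]⟩
  have he0 : P.Perp (ev 0) := (hpe _).2 ⟨fun i => h.ee _ _, fun i => by
    rw [polar_comm, h.ef, if_neg (Fin.succ_ne_zero i).symm]⟩
  have hf0 : P.Perp (fv 0) := (hpe _).2 ⟨fun i => by
    rw [h.ef, if_neg (Fin.succ_ne_zero i)], fun i => h.ff _ _⟩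
  have hPd0 : P.Perp d0 := (hpe d0).2 ⟨fun i => hd0.1 _, fun i => hd0.2 _⟩
  have hPd : P.Perp d := (hpe d).2 ⟨fun i => hd.1 _, fun i => hd.2 _⟩
  have hcard : 4 < Nat.card K := by
    rw [Module.natCard_eq_pow_finrank (K := F) (V := K), hK]
    exact hq
  have h2K : (2 : K) = 0 := by
    have := congrArg (algebraMap F K) h2
    rwa [map_ofNat, map_zero] at this
  have hch : ringChar F = 2 := CharP.ringChar_of_prime_eq_zero Nat.prime_two (by exact_mod_cast h2)
  have hcop : Nat.Coprime (Nat.card Kˣ) 2 := by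
    have := coprime_card_units F K
    rwa [hch] at this
  obtain ⟨g, hg⟩ := IsCyclic.exists_generator (α := Kˣ)
  have hSN : P.S g ^ Nat.card Kˣ = 1 := by rw [← P.S_pow, pow_card_eq_one', P.S_one]
  have hSE : P.S g ∈ E Q := by
    obtain ⟨j, hj⟩ : Odd (Nat.card Kˣ) := Nat.coprime_two_right.1 hcop
    have e : g = g ^ (j + 1) * g ^ (j + 1) := by
      rw [← pow_add]
      have h4 : j + 1 + (j + 1) = Nat.card Kˣ + 1 := by omega
      rw [h4, pow_succ, pow_card_eq_one', one_mul]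
    rw [e, P.S_mul]
    exact sq_mem_E hG (P.S_mem_O _)
  let i0 : Fin k := ⟨0, by omega⟩
  have htr : Algebra.trace F K (b i0 * b.traceDual i0) = 1 := by rw [b.trace_mul_traceDual, if_pos rfl]
  have hH2 : Hyp2 Q (ev 0) (fv 0) (P.e (b i0)) (P.f (b.traceDual i0)) :=
    ⟨hyp, ⟨P.Qe _, P.Qf _, by rw [P.polar_e_f, htr]⟩, P.polar_e' he0 _, P.polar_f' he0 _, P.polar_e' hf0 _,
      P.polar_f' hf0 _⟩
  let U : Submodule F V := LinearMap.range P.e ⊔ LinearMap.range P.f
  have hUe : ∀ x, P.e x ∈ U := fun x => (le_sup_left : _ ≤ U) ⟨x, rfl⟩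
  have hUf : ∀ x, P.f x ∈ U := fun x => (le_sup_right : _ ≤ U) ⟨x, rfl⟩
  have hUp : ∀ {w : V}, P.Perp w → ∀ u ∈ U, polar Q w u = 0 := by
    intro w hw u hu
    obtain ⟨_, ⟨x, rfl⟩, _, ⟨x', rfl⟩, rfl⟩ := Submodule.mem_sup.1 hu
    rw [polar_add_right, P.polar_e' hw, P.polar_f' hw, add_zero]
  refine ⟨P.e 1 + P.f 1 + d, ?_, ?_, ?_, ?_⟩
  · rw [polar_add_right, polar_add_right, P.polar_e' he0, P.polar_f' he0, hd.1, add_zero, add_zero]
  · rw [polar_add_right, polar_add_right, P.polar_e' hf0, P.polar_f' hf0, hd.2, add_zero, add_zero]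
  · intro h0
    have h1 := congrArg P.pe h0
    rw [map_add, map_add, P.pe_e, P.pe_f, hPd.1, map_zero, add_zero, add_zero] at h1
    exact one_ne_zero h1
  refine exists_b hG hH2 (U := U) (hUe _) (hUf _) (fun u hu => ⟨hUp he0 u hu, hUp hf0 u hu⟩) (d0 := d0) (d := d)
    ⟨hd0.1 _, hd0.2 _, fun u hu => by rw [polar_comm]; exact hUp hPd0 u hu⟩
    ⟨hd.1 _, hd.2 _, fun u hu => by rw [polar_comm]; exact hUp hPd u hu⟩ hQ0 hdd ?_ hSE hcop hSN
    (P.S_perp g he0) (P.S_perp g hf0) (P.S_perp g hPd0) (U.add_mem (hUe 1) (hUf 1)) ?_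
  · intro v hv1 hv2
    refine ⟨P.e (P.pe v) + P.f (P.pf v), U.add_mem (hUe _) (hUf _), ?_⟩
    rw [← sub_sub]
    have h3 := P.perp_sub v
    refine hspan _ ⟨fun i => ?_, fun i => ?_⟩
    · refine Fin.cases ?_ (fun j => ((hpe _).1 h3).1 j) i
      rw [polar_sub_right, polar_sub_right, hv1, P.polar_e' he0, P.polar_f' he0, sub_zero, sub_zero]
    · refine Fin.cases ?_ (fun j => ((hpe _).1 h3).2 j) i
      rw [polar_sub_right, polar_sub_right, hv2, P.polar_e' hf0, P.polar_f' hf0, sub_zero, sub_zero]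
  · intro Y hY hy
    obtain ⟨h3, h4, h5⟩ := singer_add P h2K hcard hg hPd Y hY hy
    refine ⟨fun u hu => ?_, h5⟩
    obtain ⟨_, ⟨x, rfl⟩, _, ⟨x', rfl⟩, rfl⟩ := Submodule.mem_sup.1 hu
    exact Y.add_mem (h3 x) (h4 x')

end Cfsg.Agent.H79.DG
end

-- part: H79/DG/EvenTwo
section
/-!
# Generation of `E Q` by an involution and another element: dimension 8 over the field with two elements
(helper79, for `S4180`)
-/

set_option autoImplicit false

namespace Cfsg.Agent.H79.DG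

open QuadraticMap Cfsg.Agent.LieClassical.OrthCore Cfsg.Agent.LieClassical.OrthTrans
  Cfsg.Agent.LieClassical.OrthSimple Cfsg.Agent.ClassicalGeometry.OrthAutBasic
  Cfsg.Agent.H887.SiegelMethod Cfsg.Agent.H137

variable {F V : Type*} [Field F] [AddCommGroup V] [Module F V] {Q : QuadraticForm F V}

theorem perp_span {S : Set V} {x : V} (h : ∀ s ∈ S, polar Q x s = 0) : ∀ u ∈ Submodule.span F S, polar Q x u = 0 := by
  intro u hu
  induction hu using Submodule.span_induction with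
  | mem s hs => exact h s hs
  | zero => exact polar_zero_right Q x
  | add a b _ _ ha hb => rw [polar_add_right, ha, hb, add_zero]
  | smul c a _ ha => rw [polar_smul_right, ha, smul_zero]

/-- two hyperbolic pairs, an anisotropic plane and another plane -/
theorem exists_b_conf [Finite F] [FiniteDimensional F V] (h2 : (2 : F) = 0) (hF : ∀ a : F, a = 0 ∨ a = 1)
    (hG : Good Q) {e0 f0 e1 f1 u1 u2 d0 d : V} (h : Hyp2 Q e0 f0 e1 f1) (q1 : Q u1 = 1) (q2 : Q u2 = 1)
    (q12 : polar Q u1 u2 = 1)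
    (hu1 : polar Q e0 u1 = 0 ∧ polar Q f0 u1 = 0 ∧ polar Q e1 u1 = 0 ∧ polar Q f1 u1 = 0)
    (hu2 : polar Q e0 u2 = 0 ∧ polar Q f0 u2 = 0 ∧ polar Q e1 u2 = 0 ∧ polar Q f1 u2 = 0)
    (hd0 : polar Q e0 d0 = 0 ∧ polar Q f0 d0 = 0 ∧ polar Q e1 d0 = 0 ∧ polar Q f1 d0 = 0 ∧ polar Q u1 d0 = 0 ∧
      polar Q u2 d0 = 0)
    (hd : polar Q e0 d = 0 ∧ polar Q f0 d = 0 ∧ polar Q e1 d = 0 ∧ polar Q f1 d = 0 ∧ polar Q u1 d = 0 ∧
      polar Q u2 d = 0)
    (hQ0 : Q d0 ≠ 0) (hdd : polar Q d0 d ≠ 0)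
    (hspan : ∀ v, polar Q e0 v = 0 → polar Q f0 v = 0 → polar Q e1 v = 0 → polar Q f1 v = 0 → polar Q u1 v = 0 →
      polar Q u2 v = 0 → v ∈ Submodule.span F {d0, d}) :
    ∃ y, polar Q e0 y = 0 ∧ polar Q f0 y = 0 ∧ y ≠ 0 ∧
      ∃ b ∈ E Q, E Q ≤ Subgroup.closure {T Q e0 y, b} := by
  have hxx : ∀ x : V, x + x = 0 := fun x => by rw [← two_smul F, h2, zero_smul]
  have hneg : ∀ x : V, -x = x := fun x => neg_eq_of_add_eq_zero_left (hxx x)
  have hTap : ∀ {x w : V}, Q x = 0 → polar Q x w = 0 → ∀ v,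
      T Q x w v = v + polar Q x v • w + polar Q w v • x + (Q w * polar Q x v) • x := by
    intro x w hx hw v
    rw [T_apply hx hw, sub_eq_add_neg, sub_eq_add_neg, hneg, hneg]
  -- the polar form
  have p11 : polar Q e1 e1 = 0 := polar_self_of_sing h.hy.left
  have p22 : polar Q f1 f1 = 0 := polar_self_of_sing h.hy.right
  have p12 : polar Q e1 f1 = 1 := h.hy.pair
  have p21 : polar Q f1 e1 = 1 := h.hy.pair'
  have p33 : polar Q u1 u1 = 0 := by rw [polar_self', h2, zero_mul]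
  have p44 : polar Q u2 u2 = 0 := by rw [polar_self', h2, zero_mul]
  have p43 : polar Q u2 u1 = 1 := by rw [polar_comm]; exact q12
  obtain ⟨a1, a2, p13, p23⟩ := hu1
  obtain ⟨b1, b2, p14, p24⟩ := hu2
  have p31 : polar Q u1 e1 = 0 := by rw [polar_comm]; exact p13
  have p32 : polar Q u1 f1 = 0 := by rw [polar_comm]; exact p23
  have p41 : polar Q u2 e1 = 0 := by rw [polar_comm]; exact p14
  have p42 : polar Q u2 f1 = 0 := by rw [polar_comm]; exact p24
  -- the element of order 5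
  set S : V ≃ₗ[F] V := T Q e1 u1 * T Q f1 u2 with hS
  have hSE : S ∈ E Q := E_mul (T_mem_E _ _) (T_mem_E _ _)
  have key : ∀ v, S v = T Q e1 u1 (T Q f1 u2 v) := fun v => rfl
  have t1 : ∀ v, T Q e1 u1 v = v + polar Q e1 v • u1 + polar Q u1 v • e1 + (Q u1 * polar Q e1 v) • e1 :=
    hTap h.hy.left p13
  have t2 : ∀ v, T Q f1 u2 v = v + polar Q f1 v • u2 + polar Q u2 v • f1 + (Q u2 * polar Q f1 v) • f1 :=
    hTap h.hy.right p24
  have c1 : T Q e1 u1 e1 = e1 := by rw [t1, p11, p31]; simp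
  have c2 : T Q e1 u1 f1 = f1 + u1 + e1 := by rw [t1, p12, p32, q1]; simp
  have c3 : T Q e1 u1 u1 = u1 := by rw [t1, p13, p33]; simp
  have c4 : T Q e1 u1 u2 = u2 + e1 := by rw [t1, p14, q12]; simp
  have s1 : S e1 = e1 + f1 + u1 + u2 := by
    rw [key, t2, p21, p41, q2]
    simp only [one_smul, zero_smul, add_zero, mul_one, map_add, c1, c2, c4]
    have e : e1 + (u2 + e1) + (f1 + u1 + e1) = e1 + f1 + u1 + u2 + (e1 + e1) := by abel
    rw [e, hxx, add_zero]
  have s2 : S f1 = e1 + f1 + u1 := by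
    rw [key, t2, p22, p42]
    simp only [zero_smul, add_zero, mul_zero, c2]
    abel
  have s3 : S u1 = e1 + f1 := by
    rw [key, t2, p23, p43]
    simp only [one_smul, zero_smul, add_zero, mul_zero, map_add, c2, c3]
    have e : u1 + (f1 + u1 + e1) = e1 + f1 + (u1 + u1) := by abel
    rw [e, hxx, add_zero]
  have s4 : S u2 = e1 + u2 := by
    rw [key, t2, p24, p44]
    simp only [zero_smul, add_zero, mul_zero, c4]
    abel
  have s5 : ∀ v, polar Q e1 v = 0 → polar Q f1 v = 0 → polar Q u1 v = 0 → polar Q u2 v = 0 → S v = v := by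
    intro v v1 v2 v3 v4
    rw [key, t2, v2, v4]
    simp only [zero_smul, add_zero, mul_zero]
    rw [t1, v1, v3]
    simp
  -- its order
  have hSN : S ^ 5 = 1 := by
    have k5 : ∀ v, (S ^ 5) v = S (S (S (S (S v)))) := fun v => by
      simp only [pow_succ, pow_zero, one_mul]
      rfl
    have o1 : S (S e1) = f1 := by
      rw [s1, map_add, map_add, map_add, s1, s2, s3, s4]
      have e : e1 + f1 + u1 + u2 + (e1 + f1 + u1) + (e1 + f1) + (e1 + u2) =
        f1 + ((e1 + e1) + (e1 + e1) + (f1 + f1) + (u1 + u1) + (u2 + u2)) := by abel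
      rw [e]
      simp only [hxx, add_zero]
    have o2 : S (e1 + f1 + u1) = e1 + f1 + u2 := by
      rw [map_add, map_add, s1, s2, s3]
      have e : e1 + f1 + u1 + u2 + (e1 + f1 + u1) + (e1 + f1) =
        e1 + f1 + u2 + ((e1 + e1) + (f1 + f1) + (u1 + u1)) := by abel
      rw [e]
      simp only [hxx, add_zero]
    have o3 : S (e1 + f1 + u2) = e1 := by
      rw [map_add, map_add, s1, s2, s4]
      have e : e1 + f1 + u1 + u2 + (e1 + f1 + u1) + (e1 + u2) =
        e1 + ((e1 + e1) + (f1 + f1) + (u1 + u1) + (u2 + u2)) := by abel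
      rw [e]
      simp only [hxx, add_zero]
    have h5e : (S ^ 5) e1 = e1 := by rw [k5, o1, s2, o2, o3]
    have hcomm : ∀ v, (S ^ 5) (S v) = S ((S ^ 5) v) := fun v => by rw [k5, k5]
    have h5f : (S ^ 5) f1 = f1 := by rw [← o1, hcomm, hcomm, h5e]
    have h5u1 : (S ^ 5) u1 = u1 := by
      have e : u1 = S f1 + e1 + f1 := by
        rw [s2]
        have e' : e1 + f1 + u1 + e1 + f1 = u1 + ((e1 + e1) + (f1 + f1)) := by abel
        rw [e']
        simp only [hxx, add_zero]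
      rw [e, map_add, map_add, hcomm, h5f, h5e]
    have h5u2 : (S ^ 5) u2 = u2 := by
      have e : u2 = S e1 + e1 + f1 + u1 := by
        rw [s1]
        have e' : e1 + f1 + u1 + u2 + e1 + f1 + u1 = u2 + ((e1 + e1) + (f1 + f1) + (u1 + u1)) := by abel
        rw [e']
        simp only [hxx, add_zero]
      rw [e, map_add, map_add, map_add, hcomm, h5e, h5f, h5u1]
    ext v
    show (S ^ 5) v = v
    set v' := v - polar Q f1 v • e1 - polar Q e1 v • f1 - polar Q u2 v • u1 - polar Q u1 v • u2 with hv'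
    have w1 : polar Q e1 v' = 0 := by
      simp only [hv', polar_sub_right, polar_smul_right, p11, p12, p13, p14, smul_eq_mul]; ring
    have w2 : polar Q f1 v' = 0 := by
      simp only [hv', polar_sub_right, polar_smul_right, p21, p22, p23, p24, smul_eq_mul]; ring
    have w3 : polar Q u1 v' = 0 := by
      simp only [hv', polar_sub_right, polar_smul_right, p31, p32, p33, q12, smul_eq_mul]; ring
    have w4 : polar Q u2 v' = 0 := by
      simp only [hv', polar_sub_right, polar_smul_right, p41, p42, p43, p44, smul_eq_mul]; ring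
    have h5v : (S ^ 5) v' = v' := by
      have := s5 v' w1 w2 w3 w4
      rw [k5, this, this, this, this, this]
    have e : v = v' + polar Q f1 v • e1 + polar Q e1 v • f1 + polar Q u2 v • u1 + polar Q u1 v • u2 := by
      rw [hv']; abel
    rw [e]
    simp only [map_add, map_smul, h5v, h5e, h5f, h5u1, h5u2]
  have hu0e : ∀ s ∈ ({e1, f1, u1, u2} : Set V), polar Q e0 s = 0 := by
    rintro s (rfl | rfl | rfl | rfl)
    · exact h.xy
    · exact h.xy'
    · exact a1
    · exact b1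
  have hu0f : ∀ s ∈ ({e1, f1, u1, u2} : Set V), polar Q f0 s = 0 := by
    rintro s (rfl | rfl | rfl | rfl)
    · exact h.x'y
    · exact h.x'y'
    · exact a2
    · exact b2
  have hperp : ∀ {w : V}, polar Q e1 w = 0 → polar Q f1 w = 0 → polar Q u1 w = 0 → polar Q u2 w = 0 →
      ∀ u ∈ Submodule.span F {e1, f1, u1, u2}, polar Q u w = 0 := by
    intro w w1 w2 w3 w4 u hu
    rw [polar_comm]
    refine perp_span ?_ u hu
    rintro s (rfl | rfl | rfl | rfl) <;> rw [polar_comm] <;> assumption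
  have m1 : e1 ∈ Submodule.span F {e1, f1, u1, u2} := Submodule.subset_span (by simp)
  have m2 : f1 ∈ Submodule.span F {e1, f1, u1, u2} := Submodule.subset_span (by simp)
  have m3 : u1 ∈ Submodule.span F {e1, f1, u1, u2} := Submodule.subset_span (by simp)
  have m4 : u2 ∈ Submodule.span F {e1, f1, u1, u2} := Submodule.subset_span (by simp)
  refine ⟨e1 + d, ?_, ?_, ?_, ?_⟩
  · rw [polar_add_right, h.xy, hd.1, add_zero]
  · rw [polar_add_right, h.x'y, hd.2.1, add_zero]
  · intro h0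
    have h1 : polar Q f1 (e1 + d) = 0 := by rw [h0, polar_zero_right]
    rw [polar_add_right, p21, hd.2.2.2.1, add_zero] at h1
    exact one_ne_zero h1
  refine exists_b hG h (U := Submodule.span F {e1, f1, u1, u2}) m1 m2
    (fun u hu => ⟨perp_span hu0e u hu, perp_span hu0f u hu⟩) (d0 := d0) (d := d)
    ⟨hd0.1, hd0.2.1, hperp hd0.2.2.1 hd0.2.2.2.1 hd0.2.2.2.2.1 hd0.2.2.2.2.2⟩
    ⟨hd.1, hd.2.1, hperp hd.2.2.1 hd.2.2.2.1 hd.2.2.2.2.1 hd.2.2.2.2.2⟩ hQ0 hdd ?_ hSE (N := 5) (by decide) hSN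
    (s5 e0 (by rw [polar_comm]; exact h.xy) (by rw [polar_comm]; exact h.xy') (by rw [polar_comm]; exact a1)
      (by rw [polar_comm]; exact b1))
    (s5 f0 (by rw [polar_comm]; exact h.x'y) (by rw [polar_comm]; exact h.x'y') (by rw [polar_comm]; exact a2)
      (by rw [polar_comm]; exact b2))
    (s5 d0 hd0.2.2.1 hd0.2.2.2.1 hd0.2.2.2.2.1 hd0.2.2.2.2.2) m1 ?_
  · intro v v1 v2
    refine ⟨polar Q f1 v • e1 + polar Q e1 v • f1 + polar Q u2 v • u1 + polar Q u1 v • u2,
      Submodule.add_mem _ (Submodule.add_mem _ (Submodule.add_mem _ (Submodule.smul_mem _ _ m1)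
        (Submodule.smul_mem _ _ m2)) (Submodule.smul_mem _ _ m3)) (Submodule.smul_mem _ _ m4), ?_⟩
    apply hspan
    · simp only [polar_sub_right, polar_add_right, polar_smul_right, v1, h.xy, h.xy', a1, b1, smul_eq_mul]; ring
    · simp only [polar_sub_right, polar_add_right, polar_smul_right, v2, h.x'y, h.x'y', a2, b2, smul_eq_mul]; ring
    · simp only [polar_sub_right, polar_add_right, polar_smul_right, p11, p12, p13, p14, smul_eq_mul]; ring
    · simp only [polar_sub_right, polar_add_right, polar_smul_right, p21, p22, p23, p24, smul_eq_mul]; ring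
    · simp only [polar_sub_right, polar_add_right, polar_smul_right, p31, p32, p33, q12, smul_eq_mul]; ring
    · simp only [polar_sub_right, polar_add_right, polar_smul_right, p41, p42, p43, p44, smul_eq_mul]; ring
  · intro Y hY hy
    have hSd : S d = d := s5 d hd.2.2.1 hd.2.2.2.1 hd.2.2.2.2.1 hd.2.2.2.2.2
    have z0 : f1 + u1 + u2 ∈ Y := by
      have h3 := Y.sub_mem (hY _ hy) hy
      rw [map_add, s1, hSd] at h3
      have e : f1 + u1 + u2 = e1 + f1 + u1 + u2 + d - (e1 + d) := by abel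
      rw [e]; exact h3
    have z1 : e1 + u1 + u2 ∈ Y := by
      have h3 := hY _ z0
      rw [map_add, map_add, s2, s3, s4] at h3
      have e : e1 + f1 + u1 + (e1 + f1) + (e1 + u2) = e1 + u1 + u2 + ((e1 + e1) + (f1 + f1)) := by abel
      rwa [e, hxx, hxx, add_zero, add_zero] at h3
    have z2 : e1 + u1 ∈ Y := by
      have h3 := hY _ z1
      rw [map_add, map_add, s1, s3, s4] at h3
      have e : e1 + f1 + u1 + u2 + (e1 + f1) + (e1 + u2) = e1 + u1 + ((e1 + e1) + (f1 + f1) + (u2 + u2)) := by abel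
      rw [e] at h3
      simpa only [hxx, add_zero] using h3
    have z3 : u1 + u2 ∈ Y := by
      have h3 := hY _ z2
      rw [map_add, s1, s3] at h3
      have e : e1 + f1 + u1 + u2 + (e1 + f1) = u1 + u2 + ((e1 + e1) + (f1 + f1)) := by abel
      rwa [e, hxx, hxx, add_zero, add_zero] at h3
    have y1 : f1 ∈ Y := by
      have h3 := Y.sub_mem z0 z3
      have e : f1 + u1 + u2 - (u1 + u2) = f1 := by abel
      rwa [e] at h3
    have y2 : e1 ∈ Y := by
      have h3 := Y.sub_mem z1 z3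
      have e : e1 + u1 + u2 - (u1 + u2) = e1 := by abel
      rwa [e] at h3
    have y3 : u1 ∈ Y := by
      have h3 := Y.sub_mem z2 y2
      rwa [add_sub_cancel_left] at h3
    have y4 : u2 ∈ Y := by
      have h3 := Y.sub_mem z3 y3
      rwa [add_sub_cancel_left] at h3
    refine ⟨fun u hu => ?_, ?_⟩
    · induction hu using Submodule.span_induction with
      | mem s hs =>
        rcases hs with rfl | rfl | rfl | rfl
        · exact y2
        · exact y1
        · exact y3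
        · exact y4
      | zero => exact Y.zero_mem
      | add a b _ _ ha hb => exact Y.add_mem ha hb
      | smul c a _ ha =>
        rcases hF c with rfl | rfl
        · rw [zero_smul]; exact Y.zero_mem
        · rw [one_smul]; exact ha
    · have h3 := Y.sub_mem hy y2
      rwa [add_sub_cancel_left] at h3

/-- dimension 8 over the field with two elements -/
theorem exists_b_eight [Finite F] [FiniteDimensional F V] (h2 : (2 : F) = 0) (hF : ∀ a : F, a = 0 ∨ a = 1)
    (hG : Good Q) {ev fv : Fin 3 → V} (h : HypFam Q ev fv) {d0 d : V} (hd0 : Perp Q ev fv d0)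
    (hd : Perp Q ev fv d) (hQ0 : Q d0 ≠ 0) (hdd : polar Q d0 d ≠ 0)
    (hspan : ∀ v, Perp Q ev fv v → v ∈ Submodule.span F {d0, d}) :
    ∃ y, polar Q (ev 0) y = 0 ∧ polar Q (fv 0) y = 0 ∧ y ≠ 0 ∧
      ∃ b ∈ E Q, E Q ≤ Subgroup.closure {T Q (ev 0) y, b} := by
  have hQ1 : Q d0 = 1 := (hF _).resolve_left hQ0
  have hd1 : polar Q d0 d = 1 := (hF _).resolve_left hdd
  have hd1' : polar Q d d0 = 1 := by rw [polar_comm]; exact hd1
  have h1 : Hyp2 Q (ev 0) (fv 0) (ev 1) (fv 1) := hyp2 h (by decide)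
  have ef : ∀ i j, i ≠ j → polar Q (ev i) (fv j) = 0 := fun i j hij => by rw [h.ef, if_neg hij]
  have fe' : ∀ i j, i ≠ j → polar Q (fv i) (ev j) = 0 := fun i j hij => by rw [fe h, if_neg hij]
  have efs : ∀ i, polar Q (ev i) (fv i) = 1 := fun i => by rw [h.ef, if_pos rfl]
  have fes : ∀ i, polar Q (fv i) (ev i) = 1 := fun i => by rw [fe h, if_pos rfl]
  have ne02 : (0 : Fin 3) ≠ 2 := by decide
  have ne12 : (1 : Fin 3) ≠ 2 := by decide
  have p00 : polar Q d0 d0 = 0 := by rw [polar_self', h2, zero_mul]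
  have pdd : polar Q d d = 0 := by rw [polar_self', h2, zero_mul]
  have c2 : (1 : F) + 1 = 0 := by rw [one_add_one_eq_two]; exact h2
  have comm2 : ∀ x v, polar Q v x = polar Q x v := fun x v => polar_comm _ _ _
  -- the projection
  have proj : ∀ v, polar Q (ev 0) v = 0 → polar Q (fv 0) v = 0 → polar Q (ev 1) v = 0 → polar Q (fv 1) v = 0 →
      ∃ a b : F, v = a • d0 + b • d + polar Q (fv 2) v • ev 2 + polar Q (ev 2) v • fv 2 := by
    intro v v1 v2 v3 v4
    have h3 : Perp Q ev fv (v - polar Q (fv 2) v • ev 2 - polar Q (ev 2) v • fv 2) := by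
      refine ⟨fun i => ?_, fun i => ?_⟩
      · fin_cases i
        · show polar Q (ev 0) _ = 0
          simp only [polar_sub_right, polar_smul_right, v1, h.ee, ef 0 2 ne02, smul_zero, sub_zero]
        · show polar Q (ev 1) _ = 0
          simp only [polar_sub_right, polar_smul_right, v3, h.ee, ef 1 2 ne12, smul_zero, sub_zero]
        · show polar Q (ev 2) _ = 0
          simp only [polar_sub_right, polar_smul_right, h.ee, efs, smul_eq_mul, mul_zero, sub_zero, mul_one, sub_self]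
      · fin_cases i
        · show polar Q (fv 0) _ = 0
          simp only [polar_sub_right, polar_smul_right, v2, h.ff, fe' 0 2 ne02, smul_zero, sub_zero]
        · show polar Q (fv 1) _ = 0
          simp only [polar_sub_right, polar_smul_right, v4, h.ff, fe' 1 2 ne12, smul_zero, sub_zero]
        · show polar Q (fv 2) _ = 0
          simp only [polar_sub_right, polar_smul_right, h.ff, fes, smul_eq_mul, mul_zero, mul_one, sub_self]
    obtain ⟨a, b, hab⟩ := Submodule.mem_span_pair.1 (hspan _ h3)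
    exact ⟨a, b, by rw [hab]; abel⟩
  rcases hF (Q d) with hQd | hQd
  · -- `d` singular
    refine exists_b_conf h2 hF hG (u1 := ev 2 + fv 2) (u2 := ev 2 + d0) (d0 := d0) (d := ev 2 + fv 2 + d) h1
      ?_ ?_ ?_ ⟨?_, ?_, ?_, ?_⟩ ⟨?_, ?_, ?_, ?_⟩ ⟨?_, ?_, ?_, ?_, ?_, ?_⟩ ⟨?_, ?_, ?_, ?_, ?_, ?_⟩ hQ0 ?_ ?_
    · rw [Q_add, h.Qe, h.Qf, efs]; simp
    · rw [Q_add, h.Qe, hQ1, hd0.1]; simp
    · rw [polar_add_left, polar_add_right, polar_add_right, h.ee, hd0.1, fes, hd0.2]; simp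
    · rw [polar_add_right, h.ee, ef 0 2 ne02, add_zero]
    · rw [polar_add_right, h.ff, fe' 0 2 ne02, add_zero]
    · rw [polar_add_right, h.ee, ef 1 2 ne12, add_zero]
    · rw [polar_add_right, h.ff, fe' 1 2 ne12, add_zero]
    · rw [polar_add_right, h.ee, hd0.1, add_zero]
    · rw [polar_add_right, fe' 0 2 ne02, hd0.2, add_zero]
    · rw [polar_add_right, h.ee, hd0.1, add_zero]
    · rw [polar_add_right, fe' 1 2 ne12, hd0.2, add_zero]
    · exact hd0.1 _
    · exact hd0.2 _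
    · exact hd0.1 _
    · exact hd0.2 _
    · rw [polar_add_left, hd0.1, hd0.2, add_zero]
    · rw [polar_add_left, hd0.1, p00, add_zero]
    · rw [polar_add_right, polar_add_right, h.ee, ef 0 2 ne02, hd.1, add_zero, add_zero]
    · rw [polar_add_right, polar_add_right, h.ff, fe' 0 2 ne02, hd.2, add_zero, add_zero]
    · rw [polar_add_right, polar_add_right, h.ee, ef 1 2 ne12, hd.1, add_zero, add_zero]
    · rw [polar_add_right, polar_add_right, h.ff, fe' 1 2 ne12, hd.2, add_zero, add_zero]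
    · simp only [polar_add_left, polar_add_right, h.ee, h.ff, efs, fes, hd.1, hd.2, add_zero, zero_add, c2]
    · simp only [polar_add_left, polar_add_right, h.ee, efs, hd.1, comm2 (ev 2) d0, comm2 (fv 2) d0, hd0.1, hd0.2,
        hd1, add_zero, zero_add, c2]
    · simp only [polar_add_right, comm2 (ev 2) d0, comm2 (fv 2) d0, hd0.1, hd0.2, hd1, zero_add]
      exact one_ne_zero
    · intro v v1 v2 v3 v4 v5 v6
      obtain ⟨a, b, hv⟩ := proj v v1 v2 v3 v4
      -- `polar (fv 2) v = polar (ev 2) v = b`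
      have h5 : polar Q (ev 2) v + polar Q (fv 2) v = 0 := by rw [← polar_add_left]; exact v5
      have h6 : polar Q d0 v = b := by
        have h7 := congrArg (polar Q d0) hv
        simp only [polar_add_right, polar_smul_right, p00, hd1, comm2 (ev 2) d0, comm2 (fv 2) d0, hd0.1, hd0.2,
          smul_eq_mul, mul_zero, mul_one, add_zero, zero_add] at h7
        exact h7
      have h7 : polar Q (ev 2) v + b = 0 := by rw [← h6, ← polar_add_left]; exact v6
      have h8 : polar Q (ev 2) v = b := by linear_combination h7 - b * h2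
      have h9 : polar Q (fv 2) v = b := by linear_combination h5 - h8 - b * h2
      rw [h8, h9] at hv
      rw [hv, Submodule.mem_span_pair]
      exact ⟨a, b, by rw [smul_add, smul_add]; abel⟩
  · -- `d` nonsingular
    refine exists_b_conf h2 hF hG (u1 := d0) (u2 := d) (d0 := ev 2 + fv 2) (d := ev 2) h1
      hQ1 hQd hd1 ⟨hd0.1 _, hd0.2 _, hd0.1 _, hd0.2 _⟩ ⟨hd.1 _, hd.2 _, hd.1 _, hd.2 _⟩
      ⟨?_, ?_, ?_, ?_, ?_, ?_⟩ ⟨?_, ?_, ?_, ?_, ?_, ?_⟩ ?_ ?_ ?_
    · rw [polar_add_right, h.ee, ef 0 2 ne02, add_zero]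
    · rw [polar_add_right, h.ff, fe' 0 2 ne02, add_zero]
    · rw [polar_add_right, h.ee, ef 1 2 ne12, add_zero]
    · rw [polar_add_right, h.ff, fe' 1 2 ne12, add_zero]
    · rw [polar_add_right, polar_comm _ d0, polar_comm _ d0, hd0.1, hd0.2, add_zero]
    · rw [polar_add_right, polar_comm _ d, polar_comm _ d, hd.1, hd.2, add_zero]
    · exact h.ee _ _
    · exact fe' 0 2 ne02
    · exact h.ee _ _
    · exact fe' 1 2 ne12
    · rw [polar_comm]; exact hd0.1 _
    · rw [polar_comm]; exact hd.1 _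
    · rw [Q_add, h.Qe, h.Qf, efs]; simp
    · rw [polar_add_left, h.ee, fes, zero_add]; exact one_ne_zero
    · intro v v1 v2 v3 v4 v5 v6
      obtain ⟨a, b, hv⟩ := proj v v1 v2 v3 v4
      have h6 : polar Q d0 v = b := by
        have h7 := congrArg (polar Q d0) hv
        simp only [polar_add_right, polar_smul_right, p00, hd1, comm2 (ev 2) d0, comm2 (fv 2) d0, hd0.1, hd0.2,
          smul_eq_mul, mul_zero, mul_one, add_zero, zero_add] at h7
        exact h7
      have h7 : polar Q d v = a := by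
        have h7 := congrArg (polar Q d) hv
        simp only [polar_add_right, polar_smul_right, pdd, hd1', comm2 (ev 2) d, comm2 (fv 2) d, hd.1, hd.2,
          smul_eq_mul, mul_zero, mul_one, add_zero] at h7
        exact h7
      rw [v5] at h6
      rw [v6] at h7
      rw [← h6, ← h7, zero_smul, zero_smul, add_zero, zero_add] at hv
      rw [Submodule.mem_span_pair]
      refine ⟨polar Q (ev 2) v, polar Q (fv 2) v - polar Q (ev 2) v, ?_⟩
      calc polar Q (ev 2) v • (ev 2 + fv 2) + (polar Q (fv 2) v - polar Q (ev 2) v) • ev 2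
          = polar Q (fv 2) v • ev 2 + polar Q (ev 2) v • fv 2 := by
            rw [smul_add, sub_smul]
            abel
        _ = v := hv.symm

end Cfsg.Agent.H79.DG
end

-- part: H79/DG/Rows
section
/-!
# `CohAt p` for the orthogonal groups in defining characteristic (helper79, for `S4180`, K9d, K9e, K9f)
-/

set_option autoImplicit false

namespace Cfsg.Agent.H79.DG

open QuadraticMap Cfsg.Agent.LieClassical.OrthCore Cfsg.Agent.LieClassical.OrthTrans
  Cfsg.Agent.LieClassical.OrthForms Cfsg.Agent.LieClassical.OrthFinite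
  Cfsg.Agent.LieClassical.OrthSimple Cfsg.Agent.ClassicalGeometry.OrthAutBasic Cfsg.Agent.H137
  Cfsg.Agent.H891.DG

universe u

section

variable {ι : Type} [Fintype ι] [DecidableEq ι] {F : Type*} [Field F] {Q : QuadraticForm F (ι → F)}

omit [Fintype ι] [DecidableEq ι] in
/-- the quotient is not commutative -/
theorem not_comm_quot (hG : Good Q) {S : Type u} [Group S] {f : ↥(E Q) →* S} {c : ↥(E Q)}
    (hc : f c ≠ 1) : ¬ IsMulCommutative S := by
  intro hS
  apply hc
  have h1 : commutator ↥(E Q) = ⊤ := by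
    apply Subgroup.map_injective (E Q).subtype_injective
    rw [Subgroup.map_subtype_commutator, hG.E_perfect, ← MonoidHom.range_eq_map, Subgroup.range_subtype]
  have h2 : c ∈ commutator ↥(E Q) := h1 ▸ Subgroup.mem_top c
  have h3 : commutator ↥(E Q) ≤ f.ker := by
    rw [commutator_eq_closure, Subgroup.closure_le]
    rintro _ ⟨x, y, rfl⟩
    rw [SetLike.mem_coe, MonoidHom.mem_ker, map_commutatorElement, commutatorElement_def]
    have h4 : f x * f y = f y * f x := hS.is_comm.comm _ _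
    rw [h4, mul_inv_cancel_right, mul_inv_cancel]
  exact h3 h2

/-- `Coh` from an involution `T(e_0, y)` and `b` -/
theorem coh_of_pair [Finite F] (h2 : (2 : F) = 0) (hG : Good Q) {e0 f0 d0 : ι → F} (h : Hyp Q e0 f0)
    (h1 : polar Q e0 d0 = 0) (h1' : polar Q f0 d0 = 0) (hQ0 : Q d0 ≠ 0)
    (hex : ∃ y, polar Q e0 y = 0 ∧ polar Q f0 y = 0 ∧ y ≠ 0 ∧
      ∃ b ∈ E Q, E Q ≤ Subgroup.closure {T Q e0 y, b})
    {S : Type u} [Group S] [Finite S] [IsSimpleGroup S] (e : S ≃* Cfsg.POmega F ⇑Q) : Coh S := by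
  obtain ⟨y, hy1, hy2, hy0, b, hb, hgen⟩ := hex
  obtain ⟨f, hf, hker⟩ := exists_surj hG e
  have hcE : T Q e0 y ∈ E Q := T_mem_E _ _
  have hc : f ⟨T Q e0 y, hcE⟩ ≠ 1 := by
    intro h3
    obtain ⟨g, hg, hne⟩ := not_comm hG h h1 h1' hQ0 hy1 hy2 hy0
    apply hne
    have h4 := Subgroup.mem_center_iff.1 (hker _ h3) ⟨g, hg⟩
    exact congrArg Subtype.val h4
  refine Tools.coh_of_involution (not_comm_quot hG hc) (c := f ⟨T Q e0 y, hcE⟩) (b := f ⟨b, hb⟩) ?_ hc ?_
  · rw [← map_pow]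
    have h3 : (⟨T Q e0 y, hcE⟩ : ↥(E Q)) ^ 2 = 1 := by
      apply Subtype.ext
      show T Q e0 y ^ 2 = 1
      rw [T_pow h.left hy1, ← Nat.cast_smul_eq_nsmul F, Nat.cast_ofNat, h2, zero_smul, T_zero_right]
    rw [h3, map_one]
  · have h3 := map_sup_closure (H := ⊥) hf bot_le hcE hb (by rwa [bot_sup_eq])
    rwa [Subgroup.bot_subgroupOf, Subgroup.map_bot, bot_sup_eq] at h3

/-- `Coh` in characteristic 2 -/
theorem coh_even [Finite F] (h2 : (2 : F) = 0) (hG : Good Q) {k : ℕ} (hk : 2 ≤ k) (h : HasFam Q k)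
    {S : Type u} [Group S] [Finite S] [IsSimpleGroup S] (e : S ≃* Cfsg.POmega F ⇑Q) : Coh S := by
  obtain ⟨ev, fv, d0, d, hF, hd0, hd, hQ0, hdd, hspan⟩ := h
  refine coh_of_pair h2 hG (e0 := ev 0) (f0 := fv 0) (d0 := d0)
    ⟨hF.Qe _, hF.Qf _, by rw [hF.ef, if_pos rfl]⟩ (hd0.1 _) (hd0.2 _) hQ0 ?_ e
  have hF1 : 2 ≤ Nat.card F := Finite.one_lt_card
  by_cases hq : 4 < Nat.card F ^ k
  · exact exists_b_singer h2 hG hk hq hF hd0 hd hQ0 hdd hspan
  -- `|F| = 2`, `k = 2`
  have hk2 : k = 2 := by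
    by_contra hne
    apply hq
    calc 4 < 2 ^ 3 := by norm_num
      _ ≤ 2 ^ k := Nat.pow_le_pow_right (by norm_num) (by omega)
      _ ≤ Nat.card F ^ k := Nat.pow_le_pow_left hF1 k
  subst hk2
  have hF2 : Nat.card F = 2 := by
    by_contra hne
    apply hq
    have h3 : 3 ≤ Nat.card F := by omega
    calc 4 < 3 ^ 2 := by norm_num
      _ ≤ Nat.card F ^ 2 := Nat.pow_le_pow_left h3 2
  have hF01 : ∀ a : F, a = 0 ∨ a = 1 := by
    intro a
    by_contra hne
    push Not at hne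
    have h3 : ({0, 1, a} : Set F).ncard = 3 := by
      rw [Set.ncard_insert_of_notMem, Set.ncard_pair (Ne.symm hne.2)]
      rintro (h4 | h4)
      · exact zero_ne_one h4
      · exact hne.1 h4.symm
    have h4 := Set.ncard_le_card ({0, 1, a} : Set F)
    omega
  exact exists_b_eight h2 hF01 hG hF hd0 hd hQ0 hdd hspan

theorem cohAt_of_hasFam [Finite F] {p : ℕ} (hp : p.Prime) [CharP F p] (hG : Good Q) {k : ℕ} (hk : 2 ≤ k)
    (h : HasFam Q k) {S : Type u} [Group S] [Finite S] [IsSimpleGroup S] (e : S ≃* Cfsg.POmega F ⇑Q) :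
    CohAt p S := by
  by_cases hp2 : p = 2
  · subst hp2
    have h2 : (2 : F) = 0 := by exact_mod_cast CharP.cast_eq_zero F 2
    exact coh_even h2 hG hk h e 2 Nat.prime_two
  · exact cohAt_odd hp hp2 hG hk h e

end

variable {F : Type} [Field F] [Fintype F] {p : ℕ}

theorem two_ne_zero_of_odd (hodd : Odd (Fintype.card F)) : (2 : F) ≠ 0 := by
  intro h
  have hch : ringChar F = 2 := by
    refine CharP.ringChar_of_prime_eq_zero Nat.prime_two ?_
    exact_mod_cast h
  have h3 : ringChar F ∣ Fintype.card F := (ringChar.spec F _).1 (FiniteField.cast_card_eq_zero F)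
  rw [hch] at h3
  exact (Nat.not_even_iff_odd.2 hodd) (even_iff_two_dvd.2 h3)

/-- **K9d** -/
theorem cohAt_POmegaOdd {S : Type u} [Group S] [Finite S] [IsSimpleGroup S] (hp : p.Prime) [CharP F p]
    (hodd : Odd (Fintype.card F)) {m : ℕ} (hm : 3 ≤ m) (e : S ≃* Cfsg.POmega F (Cfsg.quadFormOdd m F)) :
    CohAt p S := by
  obtain ⟨k, rfl⟩ : ∃ k, m = k + 1 := ⟨m - 1, by omega⟩
  have h2 := two_ne_zero_of_odd hodd
  rw [← coe_oddForm] at e
  exact cohAt_of_hasFam hp (S2413.good_odd h2 k (by omega)) (by omega) (hasFam_odd h2 k) e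

/-- **K9e** -/
theorem cohAt_POmegaPlus {S : Type u} [Group S] [Finite S] [IsSimpleGroup S] (hp : p.Prime) [CharP F p]
    {m : ℕ} (hm : 4 ≤ m) (e : S ≃* Cfsg.POmega F (Cfsg.quadFormPlus m F)) : CohAt p S := by
  obtain ⟨k, rfl⟩ : ∃ k, m = k + 2 := ⟨m - 2, by omega⟩
  rw [← coe_plusForm] at e
  exact cohAt_of_hasFam hp (good_plus k (by omega)) (by omega) (hasFam_plus k) e

/-- **K9f** -/
theorem cohAt_POmegaMinus {S : Type u} [Group S] [Finite S] [IsSimpleGroup S] (hp : p.Prime) [CharP F p]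
    {m : ℕ} (hm : 4 ≤ m) {a b : F} (hab : ∀ z₁ z₂ : F, z₁ ^ 2 + a * z₁ * z₂ + b * z₂ ^ 2 = 0 → z₁ = 0 ∧ z₂ = 0)
    (e : S ≃* Cfsg.POmega F (Cfsg.quadFormMinus (m - 1) F a b)) : CohAt p S := by
  obtain ⟨k, rfl⟩ : ∃ k, m = k + 2 := ⟨m - 2, by omega⟩
  have e' : S ≃* Cfsg.POmega F (Cfsg.quadFormMinus (k + 1) F a b) := e
  rw [← coe_minusForm] at e'
  exact cohAt_of_hasFam hp (good_minus k (by omega) hab) (by omega) (hasFam_minus k hab) e'

end Cfsg.Agent.H79.DG
end

-- part: H902/DG/Crit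
section
/-!
# Criteria for `CohAt p T`, rank one groups (helper902, S4180)

`T = ⟨s, t w⟩`, `s` of order prime to `p`, `w` normalises `⟨s⟩`.

* `cohAt_of_inv` : some power of `s` inverts `t`;
* `cohAt_two_of_sq` : `p = 2` and some power `r` of `s` commutes with `t²` while `(t⁻¹ r t r⁻¹)² ≠ 1`;
* `cohAt_of_involution` : `T = ⟨A, c⟩`, `A` a `p'`-group, `c` an involution.
-/

set_option autoImplicit false

namespace Cfsg.Agent.H902.DG

open Cfsg.Agent.H440.TwoGen Cfsg.Agent.H891.Gen Cfsg.Agent.H891.DG Cfsg.Agent.H490.Der Subgroup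

universe u

section

variable {T : Type u} [Group T] [IsSimpleGroup T] {V : Type u} [AddCommGroup V] [DistribMulAction T V]

/-- A nontrivial module of a simple group is faithful. -/
theorem faithful (h : ∃ (g : T) (v : V), g • v ≠ v) {g : T} (hg : ∀ v : V, g • v = v) : g = 1 := by
  let K : Subgroup T :=
    { carrier := {g | ∀ v : V, g • v = v}
      mul_mem' := fun {a b} ha hb v => by rw [mul_smul, hb, ha]
      one_mem' := fun v => one_smul _ v
      inv_mem' := fun {a} ha v => by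
        show a⁻¹ • v = v
        rw [inv_smul_eq_iff]
        exact (ha v).symm }
  have hK : K.Normal := ⟨fun n hn g v => by
    rw [mul_smul, mul_smul, hn, smul_inv_smul]⟩
  rcases hK.eq_bot_or_eq_top with h1 | h1
  · have : g ∈ K := hg
    rw [h1, mem_bot] at this
    exact this
  · obtain ⟨a, v, hav⟩ := h
    exact absurd ((h1 ▸ mem_top a : a ∈ K) v) hav

omit [IsSimpleGroup T] in
theorem der_zpow {z : T → V} (hz : IsDer z) {s : T} (h : z s = 0) {g : T} (hg : g ∈ zpowers s) : z g = 0 := by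
  let K : Subgroup T :=
    { carrier := {g | z g = 0}
      mul_mem' := fun {a b} ha hb => by
        show z (a * b) = 0
        rw [hz, ha, hb, smul_zero, add_zero]
      one_mem' := hz.one
      inv_mem' := fun {a} ha => by
        show z a⁻¹ = 0
        rw [hz.inv, ha, smul_zero, neg_zero] }
  exact (zpowers_le.2 (show s ∈ K from h)) hg

omit [IsSimpleGroup T] in
/-- What remains to be shown for a generating pair `s, t w`. -/
theorem small_of_pair' [Finite T] [Finite V] {p : ℕ} (hp : p.Prime) (hV : ∀ v : V, p • v = 0) {s t w : T} {m : ℕ}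
    (hs : s ^ m = 1) (hpm : ¬ p ∣ m) (hgen : _root_.Subgroup.closure ({s, t * w} : Set T) = ⊤) (hw : w⁻¹ * s * w ∈ zpowers s)
    (h : ∃ x : V, ¬ ∃ z : T → V, IsDer z ∧ (∀ g ∈ zpowers s, z g = 0) ∧ z t = x) : Small T V := by
  by_cases h0 : ∃ v : V, v ≠ 0 ∧ s • v = v
  · obtain ⟨v, hv, hsv⟩ := h0
    exact small_of_fixed hp hV hgen hs hpm hv hsv
  push Not at h0
  obtain ⟨x, hx⟩ := h
  refine small_of_pair hgen ⟨0, x, ?_⟩
  rintro ⟨z, hz, hzs, hzx⟩
  have hz0 : ∀ g ∈ zpowers s, z g = 0 := fun g hg => der_zpow hz hzs hg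
  refine hx ⟨z, hz, hz0, ?_⟩
  have hzw : z w = 0 := by
    by_contra hne
    apply h0 _ hne
    have h1 : s * w = w * (w⁻¹ * s * w) := by group
    have h2 := congrArg z h1
    rw [hz, hz, hz0 _ (mem_zpowers s), hz0 _ hw, zero_add, smul_zero, add_zero] at h2
    exact h2
  rw [← hzx, hz, hzw, smul_zero, add_zero]

end

section

variable {T : Type u} [Group T] [Finite T] [IsSimpleGroup T] {p : ℕ}

theorem cohAt_of_inv (hp : p.Prime) {s t w c : T} {m : ℕ}
    (hs : s ^ m = 1) (hpm : ¬ p ∣ m) (hgen : _root_.Subgroup.closure ({s, t * w} : Set T) = ⊤) (hw : w⁻¹ * s * w ∈ zpowers s)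
    (hc : c ∈ zpowers s) (hct : c * t * c⁻¹ = t⁻¹) (hne : ∃ g : T, g * (t * c) ≠ (t * c) * g) : CohAt p T := by
  intro V _ _ _ hV _ hnt
  refine small_of_pair' hp hV hs hpm hgen hw ?_
  by_contra hall
  push Not at hall
  have key : ∀ x : V, (t * c) • x = -x := by
    intro x
    obtain ⟨z, hz, hz0, hzt⟩ := hall x
    have h1 : z (c * t * c⁻¹) = c • x := by
      rw [hz, hz, hz0 _ hc, hz0 _ (inv_mem hc), smul_zero, add_zero, zero_add, hzt]
    rw [hct, hz.inv, hzt] at h1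
    rw [mul_smul, ← h1, smul_neg, smul_inv_smul]
  obtain ⟨g, hg⟩ := hne
  apply hg
  have h2 : ∀ x : V, (g * (t * c)) • x = ((t * c) * g) • x := by
    intro x
    rw [mul_smul, key, mul_smul (t * c) g, key, smul_neg]
  have h3 : ((t * c) * g)⁻¹ * (g * (t * c)) = 1 := by
    apply faithful hnt
    intro v
    rw [mul_smul, h2, inv_smul_smul]
  exact (inv_mul_eq_one.1 h3).symm

theorem cohAt_two_of_sq {s t w r : T} {m : ℕ}
    (hs : s ^ m = 1) (hpm : ¬ 2 ∣ m) (hgen : _root_.Subgroup.closure ({s, t * w} : Set T) = ⊤) (hw : w⁻¹ * s * w ∈ zpowers s)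
    (hr : r ∈ zpowers s) (hrt : r * (t * t) = t * t * r) (hne : (t⁻¹ * (r * t * r⁻¹)) ^ 2 ≠ 1) : CohAt 2 T := by
  intro V _ _ _ hV _ hnt
  refine small_of_pair' Nat.prime_two hV hs hpm hgen hw ?_
  by_contra hall
  push Not at hall
  have h2 : ∀ v : V, v + v = 0 := fun v => by rw [← two_nsmul]; exact hV v
  have hneg : ∀ v : V, -v = v := fun v => neg_eq_of_add_eq_zero_left (h2 v)
  have key : ∀ x : V, r • (x + t • x) = x + t • x := by
    intro x
    obtain ⟨z, hz, hz0, hzt⟩ := hall x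
    have h3 : z (t * t) = x + t • x := by rw [hz, hzt]
    have h1 := congrArg z hrt
    rw [hz, hz _ r, hz0 _ hr, h3, zero_add, smul_zero, add_zero] at h1
    exact h1
  have key' : ∀ x : V, r⁻¹ • (x + t • x) = x + t • x := by
    intro x
    rw [inv_smul_eq_iff, key]
  apply hne
  apply faithful hnt
  intro x
  -- `n x = x + t⁻¹ (1 + t) (1 + r⁻¹) x`
  have hn : ∀ x : V, (t⁻¹ * (r * t * r⁻¹)) • x = x + t⁻¹ • ((x + r⁻¹ • x) + t • (x + r⁻¹ • x)) := by
    intro x
    have e1 : (r * t * r⁻¹) • x = x + ((r⁻¹ • x) + t • (r⁻¹ • x)) := by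
      have := key (r⁻¹ • x)
      rw [smul_add, smul_inv_smul] at this
      rw [← this, mul_smul, mul_smul, ← add_assoc, h2, zero_add]
    rw [mul_smul, e1, inv_smul_eq_iff, smul_add, smul_inv_smul, smul_add]
    have e3 : x + (r⁻¹ • x + t • r⁻¹ • x) = (t • x + t • x) + (x + (r⁻¹ • x + t • r⁻¹ • x)) := by
      rw [h2, zero_add]
    rw [e3]
    abel
  set n := t⁻¹ * (r * t * r⁻¹) with hndef
  have h4 : ∀ x : V, t⁻¹ • (x + t • x) = x + t⁻¹ • x := by
    intro x
    rw [smul_add, inv_smul_smul, add_comm]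
  have h5 : ∀ y : V, (t⁻¹ • (y + t • y)) + r⁻¹ • (t⁻¹ • (y + t • y)) = 0 := by
    intro y
    have e : t⁻¹ • (y + t • y) = (t⁻¹ • y) + t • (t⁻¹ • y) := by
      rw [h4, smul_inv_smul, add_comm]
    rw [e, key', h2]
  have h6 : ∀ y : V, n • (t⁻¹ • (y + t • y)) = t⁻¹ • (y + t • y) := by
    intro y
    rw [hn, h5, smul_zero, add_zero, smul_zero, add_zero]
  rw [pow_two, mul_smul]
  conv_lhs => rw [hn x, smul_add, h6, hn x]
  rw [add_assoc, h2, add_zero]

theorem cohAt_of_involution (hp : p.Prime) {A : Subgroup T} {c : T}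
    (hA : ¬ p ∣ Nat.card A) (hc : c ^ 2 = 1) (hne : ∃ g : T, g * c ≠ c * g) (h : A ⊔ _root_.Subgroup.closure {c} = ⊤) :
    CohAt p T := by
  intro V _ _ _ hV _ hnt
  classical
  -- `c` does not act as `-1`
  have hc1 : ∃ v : V, c • v ≠ -v := by
    by_contra hall
    push Not at hall
    obtain ⟨g, hg⟩ := hne
    apply hg
    have h2 : ∀ x : V, (g * c) • x = (c * g) • x := by
      intro x
      rw [mul_smul, hall, mul_smul, hall, smul_neg]
    have h3 : (c * g)⁻¹ * (g * c) = 1 := by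
      apply faithful hnt
      intro v
      rw [mul_smul, h2, inv_smul_smul]
    exact (inv_mul_eq_one.1 h3).symm
  let K : AddSubgroup V :=
    { carrier := {v | c • v = -v}
      add_mem' := fun {a b} ha hb => by
        show c • (a + b) = -(a + b)
        rw [smul_add, ha, hb, neg_add]
      zero_mem' := by
        show c • (0 : V) = -0
        rw [smul_zero, neg_zero]
      neg_mem' := fun {a} ha => by
        show c • (-a) = - -a
        rw [smul_neg, ha] }
  have hK : Nat.card K < Nat.card V := by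
    obtain ⟨v, hv⟩ := hc1
    have : Fintype V := Fintype.ofFinite V
    rw [Nat.card_eq_fintype_card, Nat.card_eq_fintype_card]
    exact Fintype.card_subtype_lt (x := v) hv
  have hin : ∀ z : {z : T → V // ∀ g h : T, z (g * h) = z g + g • z h}, ∃ u : V, ∀ g ∈ A, z.1 g = u - g • u := by
    intro z
    obtain ⟨u, hu⟩ := exists_inner (H := A) hp hV hA (z := fun g => z.1 g) (fun g h => z.2 g h)
    exact ⟨u, fun g hg => hu ⟨g, hg⟩⟩
  choose u hu using hin
  have hcc : c * c = 1 := by rw [← pow_two]; exact hc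
  let F : {z : T → V // ∀ g h : T, z (g * h) = z g + g • z h} → V × K := fun z =>
    (u z, ⟨z.1 c - (u z - c • u z), by
      have hd : IsDer (fun g => z.1 g - (u z - g • u z)) := IsDer.sub z.2 (isDer_inner (u z))
      have h1 : (0 : V) = (z.1 c - (u z - c • u z)) + c • (z.1 c - (u z - c • u z)) := by
        have h0 := hd c c
        rw [hcc] at h0
        exact hd.one.symm.trans h0
      have h2 : c • (z.1 c - (u z - c • u z)) = -(z.1 c - (u z - c • u z)) :=
        eq_neg_of_add_eq_zero_right h1.symm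
      exact h2⟩)
  have hF : Function.Injective F := by
    intro z z' hzz
    have h1 : u z = u z' := congrArg Prod.fst hzz
    have h2 : z.1 c - (u z - c • u z) = z'.1 c - (u z' - c • u z') :=
      congrArg (fun a => ((a.2 : K) : V)) hzz
    apply Subtype.ext
    have hcl : _root_.Subgroup.closure ((A : Set T) ∪ {c}) = ⊤ := by
      rw [Subgroup.closure_union, Subgroup.closure_eq]
      exact h
    refine IsDer.ext hcl z.2 z'.2 ?_
    rintro g (hg | hg)
    · rw [hu z g hg, hu z' g hg, h1]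
    · rw [Set.mem_singleton_iff] at hg
      subst hg
      rw [h1] at h2
      exact sub_left_injective h2
  have h3 := Nat.card_le_card_of_injective F hF
  rw [Nat.card_prod] at h3
  unfold H891.Gen.Small
  have h4 : 0 < Nat.card V := Nat.card_pos
  calc _ ≤ Nat.card V * Nat.card K := h3
    _ < Nat.card V * Nat.card V := Nat.mul_lt_mul_of_pos_left hK h4
    _ = Nat.card V ^ 2 := (pow_two _).symm

end

end Cfsg.Agent.H902.DG
end

-- part: H902/DG/CohU3
section
/-!
# `Coh` for `PSU₃(q)`, `q ≥ 3` (helper902, S4180, task K4)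
-/

set_option autoImplicit false

namespace Cfsg.Agent.H902.DG.CohU3

open Cfsg Cfsg.Agent.LieClassical.HermBasic Cfsg.Agent.LieClassical.HermSiegel
  Cfsg.Agent.LieClassical.HermGen Cfsg.Agent.LieClassical.SUBasic
  Cfsg.Agent.ClassicalGeometry.PSUAutCount Cfsg.Agent.ClassicalGeometry.UnitAutBasic Matrix
open Cfsg.Agent.H903.SylSemi Cfsg.Agent.H177.MeetPSU Cfsg.Agent.H137.Herm Cfsg.Agent.H450.GenU
open Cfsg.Agent.H891.DG

universe u

section siegel

variable {F : Type*} [Field F] [Fintype F] {n q : ℕ}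

/-- The group of Siegel elements at `u`. -/
def sgAt (hF : Fintype.card F = q ^ 2) (u : Fin n → F) (hu : hermForm n F q u u = 0) : Subgroup (SU n F q) where
  carrier := {g | ∃ (w : Fin n → F) (μ : F) (h : IsSiegel q u w μ), g = siegel hF u w μ h}
  mul_mem' := by
    rintro _ _ ⟨w, μ, h, rfl⟩ ⟨w', μ', h', rfl⟩
    exact ⟨_, _, _, siegel_mul hF h h'⟩
  one_mem' := ⟨0, 0, IsSiegel.zero hF hu, (siegel_zero hF _).symm⟩
  inv_mem' := by
    rintro _ ⟨w, μ, h, rfl⟩
    exact ⟨_, _, _, siegel_inv hF h⟩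

theorem pow_card (hF : Fintype.card F = q ^ 2) {u w : Fin n → F} {μ : F}
    (h : IsSiegel q u w μ) : (siegel hF u w μ h) ^ Fintype.card F = 1 := by
  have h2 := two_le hF
  have hcube : (siegelMat q u w μ - 1) * (siegelMat q u w μ - 1) * (siegelMat q u w μ - 1) = 0 := by
    apply Matrix.ext_of_mulVec_single
    intro i
    set e : Fin n → F := Pi.single i 1
    have key : ∀ v : Fin n → F, (siegelMat q u w μ - 1).mulVec v =
        hermForm n F q v u • w + (μ * hermForm n F q v u - hermForm n F q v w) • u := by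
      intro v
      rw [Matrix.sub_mulVec, siegelMat_mulVec, Matrix.one_mulVec]
      abel
    rw [Matrix.zero_mulVec, ← Matrix.mulVec_mulVec, ← Matrix.mulVec_mulVec, key e, key, key]
    simp only [herm_add_left, herm_smul_left, h.iso, h.orth, h.orth' hF, mul_zero, add_zero,
      zero_sub, zero_smul, zero_add, sub_self]
  obtain ⟨p, hp⟩ := CharP.exists F
  obtain ⟨k, hprime, hcard⟩ := FiniteField.card F p
  have := Fact.mk hprime
  have h3 : 3 ≤ Fintype.card F := by rw [hF]; nlinarith only [h2]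
  apply mat_injective
  have hmat : ∀ m : ℕ, mat ((siegel hF u w μ h) ^ m) = siegelMat q u w μ ^ m := by
    intro m
    induction m with
    | zero => rw [pow_zero, pow_zero, mat_one]
    | succ m ih => rw [pow_succ, mat_mul, ih, pow_succ]; rfl
  rw [hmat, mat_one]
  rcases Nat.eq_zero_or_pos n with rfl | hn
  · exact Subsingleton.elim _ _
  have : Nonempty (Fin n) := ⟨⟨0, hn⟩⟩
  set M := siegelMat q u w μ
  have hc : (M - 1) ^ Fintype.card F = M ^ Fintype.card F - 1 := by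
    rw [hcard]
    have := sub_pow_char_pow_of_commute (R := Matrix (Fin n) (Fin n) F) (p := p) (n := (k : ℕ))
      (Commute.one_right M)
    rw [this, one_pow]
  have h0 : (M - 1) ^ Fintype.card F = 0 := by
    obtain ⟨m, hm⟩ := Nat.exists_eq_add_of_le h3
    rw [hm, pow_add, pow_succ, pow_two, hcube, zero_mul]
  rw [h0] at hc
  exact (sub_eq_zero.1 hc.symm)

theorem isPGroup_sgAt (hF : Fintype.card F = q ^ 2) {p f : ℕ} (hq : q = p ^ f)
    {u : Fin n → F} (hu : hermForm n F q u u = 0) : IsPGroup p (sgAt hF u hu) := by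
  rintro ⟨g, w, μ, h, rfl⟩
  refine ⟨f * 2, ?_⟩
  apply Subtype.ext
  change (siegel hF u w μ h) ^ p ^ (f * 2) = 1
  rw [pow_mul, ← hq, ← hF]
  exact pow_card hF h

end siegel

variable {F : Type} [Field F] [Fintype F] {q : ℕ}

/-- The elements `s` (a generator of the torus) and `w`. -/
structure Dat (hF : Fintype.card F = q ^ 2) (e f d : Fin 3 → F) (z : F) (s w : SU 3 F q) : Prop where
  B : Fr q e f d
  z0 : z ≠ 0
  z1 : ∀ y : F, y ≠ 0 → ∃ k : ℕ, z ^ k = y
  z2 : ∀ k : ℕ, 0 < k → k < q ^ 2 - 1 → z ^ k ≠ 1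
  se : act s e = z • e
  sf : act s f = (z ^ q)⁻¹ • f
  sd : act s d = (z ^ q * z⁻¹) • d
  we : act w e = f
  wf : act w f = e
  wd : act w d = (-1 : F) • d

theorem exists_dat (hF : Fintype.card F = q ^ 2) : ∃ (e f d : Fin 3 → F) (z : F) (s w : SU 3 F q),
    Dat hF e f d z s w := by
  obtain ⟨e, f, d, B⟩ := exists_fr (q := q) hF
  obtain ⟨z, hz0, hz1, hz2⟩ := exists_gen hF
  have hzq : z ^ q ≠ 0 := pow_ne_zero _ hz0
  set g0 : F := z ^ q * z⁻¹ with hg0
  have hg00 : g0 ≠ 0 := mul_ne_zero hzq (inv_ne_zero hz0)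
  have hg0n : g0 * g0 ^ q = 1 := by
    rw [hg0, mul_pow, pow_q_pow_q hF, inv_pow]
    field_simp
  obtain ⟨S, hS, hSe, hSf, hSd⟩ := exists_mono hF (1 : F ≃+* F) B (B.scale hF hz0 hg0n)
  have hSdt : Dt S 1 := by
    have h := B.dt_diag hS hSe hSf hSd
    have h2 : z * (z ^ q)⁻¹ * g0 = 1 := by
      rw [hg0]; field_simp
    rwa [h2] at h
  obtain ⟨s, rfl⟩ := exists_rho hS hSdt
  have hb : (-1 : F) * (-1) ^ q = 1 := by
    rw [neg_pow_q hF, one_pow, neg_mul_neg, one_mul]
  obtain ⟨W, hW, hWe, hWf, hWd⟩ := exists_mono hF (1 : F ≃+* F) B (B.swap hb)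
  have hWdt : Dt W 1 := by
    have h := B.dt_swap hW hWe hWf hWd
    rwa [neg_neg] at h
  obtain ⟨w, rfl⟩ := exists_rho hW hWdt
  exact ⟨e, f, d, z, s, w, B, hz0, hz1, hz2, hSe, hSf, hSd, hWe, hWf, hWd⟩

namespace Dat

variable {hF : Fintype.card F = q ^ 2} {e f d : Fin 3 → F} {z : F} {s w : SU 3 F q}

theorem ext (D : Dat hF e f d z s w) {x y : SU 3 F q} (he : act x e = act y e) (hf : act x f = act y f)
    (hd : act x d = act y d) : x = y :=
  rho_injective (D.B.ext (SI.rho x) (SI.rho y) he hf hd)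

theorem f0 (D : Dat hF e f d z s w) : f ≠ 0 := by
  rintro rfl
  have := D.B.fe
  rw [herm_zero_left] at this
  exact zero_ne_one this

theorem d0 (D : Dat hF e f d z s w) : d ≠ 0 := by
  rintro rfl
  have := D.B.dd
  rw [herm_zero_left] at this
  exact zero_ne_one this

theorem pow_e (D : Dat hF e f d z s w) (k : ℕ) : act (s ^ k) e = z ^ k • e := by
  induction k with
  | zero => rw [pow_zero, pow_zero, act_one, one_smul]
  | succ k ih => rw [pow_succ, act_mul, D.se, act_smul, ih, smul_smul, pow_succ, mul_comm]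

theorem pow_f (D : Dat hF e f d z s w) (k : ℕ) : act (s ^ k) f = ((z ^ q)⁻¹) ^ k • f := by
  induction k with
  | zero => rw [pow_zero, pow_zero, act_one, one_smul]
  | succ k ih => rw [pow_succ, act_mul, D.sf, act_smul, ih, smul_smul, pow_succ, mul_comm]

theorem pow_d (D : Dat hF e f d z s w) (k : ℕ) : act (s ^ k) d = (z ^ q * z⁻¹) ^ k • d := by
  induction k with
  | zero => rw [pow_zero, pow_zero, act_one, one_smul]
  | succ k ih => rw [pow_succ, act_mul, D.sd, act_smul, ih, smul_smul, pow_succ, mul_comm]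

theorem zpow_card (D : Dat hF e f d z s w) : z ^ (q ^ 2 - 1) = 1 := by
  have := FiniteField.pow_card_sub_one_eq_one z D.z0
  rwa [hF] at this

theorem s_pow (D : Dat hF e f d z s w) : s ^ (q ^ 2 - 1) = 1 := by
  have h := D.zpow_card
  refine D.ext ?_ ?_ ?_
  · rw [D.pow_e, h, one_smul, act_one]
  · rw [D.pow_f, inv_pow, ← pow_mul, mul_comm q, pow_mul, h, one_pow, inv_one, one_smul, act_one]
  · rw [D.pow_d, mul_pow, ← pow_mul, mul_comm q, pow_mul, inv_pow, h, one_pow, inv_one, mul_one, one_smul, act_one]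

theorem sws (D : Dat hF e f d z s w) : s * w * s ^ q = w := by
  have hz := D.z0
  have hzq : z ^ q ≠ 0 := pow_ne_zero _ hz
  have hqq := pow_q_pow_q hF z
  refine D.ext ?_ ?_ ?_
  · rw [act_mul, act_mul, D.pow_e, act_smul, D.we, act_smul, D.sf, smul_smul, mul_inv_cancel₀ hzq, one_smul]
  · rw [act_mul, act_mul, D.pow_f, act_smul, D.wf, act_smul, D.se, smul_smul, inv_pow, hqq, inv_mul_cancel₀ hz,
      one_smul]
  · rw [act_mul, act_mul, D.pow_d, act_smul, D.wd, act_smul, act_smul, D.sd, smul_smul, smul_smul]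
    congr 1
    rw [mul_pow, hqq, inv_pow]
    field_simp

theorem w_norm (D : Dat hF e f d z s w) : w⁻¹ * s * w = (s ^ q)⁻¹ := by
  have h := D.sws
  rw [eq_inv_iff_mul_eq_one]
  calc w⁻¹ * s * w * s ^ q = w⁻¹ * (s * w * s ^ q) := by group
    _ = 1 := by rw [h, inv_mul_cancel]

theorem w_sq (D : Dat hF e f d z s w) : w ^ 2 = 1 := by
  rw [pow_two]
  refine D.ext ?_ ?_ ?_
  · rw [act_mul, D.we, D.wf, act_one]
  · rw [act_mul, D.wf, D.we, act_one]
  · rw [act_mul, D.wd, act_smul, D.wd, smul_smul, neg_one_mul, neg_neg, one_smul, act_one]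

/-- `s` and `w` do not commute modulo scalars. -/
theorem not_comm (D : Dat hF e f d z s w) (hq : 3 ≤ q) : pr 3 F q (s * w) ≠ pr 3 F q (w * s) := by
  intro h
  obtain ⟨c, -, hc⟩ := exists_scalar_of_pr_eq hF le_rfl h
  have hz := D.z0
  have hzq : z ^ q ≠ 0 := pow_ne_zero _ hz
  have h1 := hc d
  rw [act_mul, act_mul, D.sd, D.wd, act_smul, act_smul, D.wd, D.sd, smul_smul, smul_smul, smul_smul] at h1
  have h2 := smul_left_injective F D.d0 h1
  have hc1 : c = 1 := by
    have h3 : z ^ q * z⁻¹ * -1 ≠ 0 := mul_ne_zero (mul_ne_zero hzq (inv_ne_zero hz)) (neg_ne_zero.2 one_ne_zero)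
    have h4 : c * (z ^ q * z⁻¹ * -1) = 1 * (z ^ q * z⁻¹ * -1) := by
      rw [one_mul]
      conv_rhs => rw [h2]
      ring
    exact mul_right_cancel₀ h3 h4
  have h5 := hc e
  rw [act_mul, act_mul, D.se, D.we, act_smul, D.we, D.sf, hc1, one_smul] at h5
  have h6 := smul_left_injective F D.f0 h5
  have h7 : z ^ (q + 1) = 1 := by
    have h8 : z * z ^ q = 1 := (mul_eq_one_iff_eq_inv₀ hzq).2 h6
    rw [pow_succ', h8]
  refine D.z2 (q + 1) (by omega) ?_ h7
  have : 3 * q ≤ q ^ 2 := by rw [pow_two]; exact Nat.mul_le_mul_right q hq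
  omega

/-- `SU₃(q)` is generated by the Siegel elements at `e` and `w`. -/
theorem sup_eq_top (D : Dat hF e f d z s w) : sgAt hF e D.B.ee ⊔ Subgroup.closure {w} = ⊤ := by
  set K := sgAt hF e D.B.ee ⊔ Subgroup.closure {w} with hK
  have hw : w ∈ K := (le_sup_right : Subgroup.closure {w} ≤ K) (Subgroup.subset_closure rfl)
  have hfull : Cfsg.Agent.H137.Herm.Full hF K e := fun x ν h =>
    ⟨h, (le_sup_left : sgAt hF e D.B.ee ≤ K) ⟨x, ν, h, rfl⟩⟩
  have hwf : act w⁻¹ f = e := by rw [← D.we, act_inv_act]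
  have hfull' : Cfsg.Agent.H137.Herm.Full hF K f := by
    intro x ν h
    have h1 : IsSiegel q e (act w⁻¹ x) ν := by
      have := h.map w⁻¹
      rwa [hwf] at this
    exact ((hfull _ _ h1).conj hw).congr D.we (act_act_inv _ _) rfl
  exact eq_top_of_full le_rfl D.B.ee D.B.ff (by rw [D.B.ef]; exact one_ne_zero) hfull hfull'

/-- `s` and `t w` generate `SU₃(q)` modulo scalars. -/
theorem gen (D : Dat hF e f d z s w) (hq : 3 ≤ q) {μ : F} (k : IsSiegel q e d μ)
    (hc : Subgroup.center (PSU 3 F q) = ⊥) :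
    Subgroup.closure ({pr 3 F q s, pr 3 F q (siegel hF e d μ k) * pr 3 F q w} : Set (PSU 3 F q)) = ⊤ := by
  set K := Subgroup.closure ({pr 3 F q s, pr 3 F q (siegel hF e d μ k) * pr 3 F q w} : Set (PSU 3 F q)) with hK
  set M : Subgroup (MulAut (PSU 3 F q)) := K.map MulAut.conj with hM
  have hinj : Function.Injective (MulAut.conj : PSU 3 F q →* MulAut (PSU 3 F q)) := by
    rw [injective_iff_map_eq_one]
    intro x hx
    have h1 : x ∈ Subgroup.center (PSU 3 F q) := by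
      rw [Subgroup.mem_center_iff]
      intro y
      have h2 : x * y * x⁻¹ = y := by
        have := DFunLike.congr_fun hx y
        rwa [MulAut.conj_apply] at this
      rw [mul_inv_eq_iff_eq_mul] at h2
      exact h2.symm
    rwa [hc, Subgroup.mem_bot] at h1
  have hmem : ∀ x : SU 3 F q, x ∈ KK M ↔ pr 3 F q x ∈ K := by
    intro x
    rw [mem_KK', hM, Subgroup.mem_map_iff_mem hinj]
  have h1 : s ∈ KK M := (hmem _).2 (Subgroup.subset_closure (by simp))
  have h2 : siegel hF e d μ k * w ∈ KK M := (hmem _).2 (by rw [map_mul]; exact Subgroup.subset_closure (by simp))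
  have h2' : rho 3 F q (siegel hF e d μ k) * rho 3 F q w ∈ LL M := by
    have := mem_KK.1 h2
    rwa [map_mul] at this
  obtain ⟨h3, -⟩ := gen_core (b := -1) hF hq D.B D.z0 D.z1 D.z2 (SI.rho s) D.se D.sf D.sd (SI.rho w) D.we D.wf D.wd
    (neg_ne_zero.2 one_ne_zero) (Or.inl rfl) k (mem_KK.1 h1) h2'
  rw [eq_top_iff]
  intro y _
  obtain ⟨x, rfl⟩ := pr_surjective y
  rw [← hmem, h3]
  exact Subgroup.mem_top _

section siegelact

variable {μ : F}

theorem te (D : Dat hF e f d z s w) (k : IsSiegel q e d μ) : act (siegel hF e d μ k) e = e :=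
  act_siegel_self hF k

theorem td (D : Dat hF e f d z s w) (k : IsSiegel q e d μ) : act (siegel hF e d μ k) d = d - e := by
  rw [act_siegel, D.B.de, D.B.dd, zero_smul, add_zero, mul_zero, zero_sub, neg_one_smul, sub_eq_add_neg]

theorem tf (D : Dat hF e f d z s w) (k : IsSiegel q e d μ) : act (siegel hF e d μ k) f = f + d + μ • e := by
  rw [act_siegel, D.B.fe, D.B.fd, one_smul, mul_one, sub_zero]

end siegelact

end Dat

end Cfsg.Agent.H902.DG.CohU3
end

-- part: H902/DG/CohPSU3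
section
/-!
# `Coh` for `PSU₃(q)`, `q ≥ 3`: assembly (helper902, S4180, task K4)
-/

set_option autoImplicit false

namespace Cfsg.Agent.H902.DG.CohU3

open Cfsg Cfsg.Agent.LieClassical.HermBasic Cfsg.Agent.LieClassical.HermSiegel
  Cfsg.Agent.LieClassical.HermGen Cfsg.Agent.LieClassical.SUBasic
  Cfsg.Agent.ClassicalGeometry.PSUAutCount Cfsg.Agent.ClassicalGeometry.UnitAutBasic Matrix
open Cfsg.Agent.H903.SylSemi Cfsg.Agent.H177.MeetPSU Cfsg.Agent.H137.Herm Cfsg.Agent.H450.GenU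
open Cfsg.Agent.H891.DG

universe u

variable {F : Type} [Field F] [Fintype F] {q : ℕ}

theorem center_bot {T : Type*} [Group T] [IsSimpleGroup T] {a b : T} (h : a * b ≠ b * a) :
    Subgroup.center T = ⊥ := by
  rcases (inferInstance : (Subgroup.center T).Normal).eq_bot_or_eq_top with h1 | h1
  · exact h1
  · exfalso
    apply h
    have : a ∈ Subgroup.center T := by rw [h1]; trivial
    exact (Subgroup.mem_center_iff.1 this b).symm

omit [Fintype F] in
theorem act_inv_of {g : SU 3 F q} {v v' : Fin 3 → F} (h : act g v = v') : act g⁻¹ v' = v := by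
  rw [← h, act_inv_act]

namespace Dat

variable {hF : Fintype.card F = q ^ 2} {e f d : Fin 3 → F} {z : F} {s w : SU 3 F q}

/-- Reading off the coefficients. -/
theorem coef (D : Dat hF e f d z s w) {a b c a' b' c' : F}
    (h : a • e + b • f + c • d = a' • e + b' • f + c' • d) : a = a' ∧ b = b' ∧ c = c' := by
  have h1 : ∀ x : Fin 3 → F, hermForm 3 F q (a • e + b • f + c • d) x =
      hermForm 3 F q (a' • e + b' • f + c' • d) x := fun x => by rw [h]
  have h2 := h1 f
  have h3 := h1 e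
  have h4 := h1 d
  simp only [herm_add_left, herm_smul_left, D.B.ee, D.B.ef, D.B.ed, D.B.fe, D.B.ff, D.B.fd, D.B.de, D.B.df, D.B.dd,
    mul_zero, mul_one, add_zero, zero_add] at h2 h3 h4
  exact ⟨h2, h3, h4⟩

/-- odd characteristic: the involution inverting `t`. -/
theorem tct (D : Dat hF e f d z s w) {μ : F} (k : IsSiegel q e d μ) (hμ : 2 * μ + 1 = 0) {c : SU 3 F q}
    (ce : act c e = -e) (cf : act c f = -f) (cd : act c d = d) :
    siegel hF e d μ k * c * siegel hF e d μ k = c := by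
  refine D.ext ?_ ?_ ?_
  · simp only [act_mul, act_neg, ce, D.te k]
  · simp only [act_mul, act_add, act_neg, act_smul, ce, cf, cd, D.te k, D.td k, D.tf k]
    funext i
    simp only [Pi.add_apply, Pi.neg_apply, Pi.smul_apply, Pi.sub_apply, smul_eq_mul]
    linear_combination (-(e i)) * hμ
  · simp only [act_mul, act_sub, act_neg, ce, cd, D.te k, D.td k]
    abel

theorem t_sq_ne (D : Dat hF e f d z s w) (h2 : (2 : F) ≠ 0) {μ : F} (k : IsSiegel q e d μ) :
    pr 3 F q (siegel hF e d μ k * siegel hF e d μ k) ≠ 1 := by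
  intro h
  rw [← map_one (pr 3 F q)] at h
  obtain ⟨c, -, hc⟩ := exists_scalar_of_pr_eq hF le_rfl h
  have h1 := hc d
  simp only [act_mul, act_one, D.td k, D.te k, act_sub, smul_sub] at h1
  have h3 : (0 : F) • e + (0 : F) • f + (1 : F) • d = (-(2 * c)) • e + (0 : F) • f + c • d := by
    rw [zero_smul, zero_smul, one_smul]
    conv_lhs => rw [h1]
    funext i
    simp only [Pi.add_apply, Pi.sub_apply, Pi.smul_apply, smul_eq_mul, Pi.zero_apply]
    ring
  obtain ⟨h4, -, h5⟩ := D.coef h3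
  rw [← h5, mul_one] at h4
  exact h2 (by linear_combination h4)

/-- characteristic 2: the element `r` commutes with `t²` -/
theorem r_comm (D : Dat hF e f d z s w) (h2 : (2 : F) = 0) {μ : F} (k : IsSiegel q e d μ) {r : SU 3 F q} {α β : F}
    (re : act r e = α • e) (rf : act r f = α • f) (rd : act r d = β • d) :
    r * (siegel hF e d μ k * siegel hF e d μ k) = siegel hF e d μ k * siegel hF e d μ k * r := by
  refine D.ext ?_ ?_ ?_
  · simp only [act_mul, act_smul, re, D.te k]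
  · simp only [act_mul, act_add, act_smul, act_sub, re, rf, rd, D.te k, D.td k, D.tf k]
    funext i
    simp only [Pi.add_apply, Pi.smul_apply, Pi.sub_apply, smul_eq_mul]
    linear_combination (β * d i - α * d i) * h2
  · simp only [act_mul, act_smul, act_sub, re, rd, D.te k, D.td k]
    funext i
    simp only [Pi.smul_apply, Pi.sub_apply, smul_eq_mul]
    linear_combination ((β - α) * e i) * h2

theorem n_sq_ne (D : Dat hF e f d z s w) (h2 : (2 : F) = 0) {μ : F} (k : IsSiegel q e d μ) {r : SU 3 F q} {α β : F}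
    (hα : α ≠ 0) (hβ : β ≠ 0) (hαβ : α ≠ β) (re : act r e = α • e) (rf : act r f = α • f) (rd : act r d = β • d) :
    pr 3 F q (((siegel hF e d μ k)⁻¹ * (r * siegel hF e d μ k * r⁻¹)) ^ 2) ≠ 1 := by
  intro h
  have tie : act (siegel hF e d μ k)⁻¹ e = e := act_inv_of (D.te k)
  have tid : act (siegel hF e d μ k)⁻¹ d = d + e := by
    have h3 : act (siegel hF e d μ k) (d + e) = d := by
      rw [act_add, D.te k, D.td k, sub_add_cancel]
    exact act_inv_of h3
  have tif : act (siegel hF e d μ k)⁻¹ f = f - d - e - μ • e := by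
    have h3 : act (siegel hF e d μ k) (f - d - e - μ • e) = f := by
      simp only [act_sub, act_smul, D.te k, D.td k, D.tf k]
      abel
    exact act_inv_of h3
  have rie : act r⁻¹ e = α⁻¹ • e := by
    have h3 : act r (α⁻¹ • e) = e := by rw [act_smul, re, smul_smul, inv_mul_cancel₀ hα, one_smul]
    exact act_inv_of h3
  have rif : act r⁻¹ f = α⁻¹ • f := by
    have h3 : act r (α⁻¹ • f) = f := by rw [act_smul, rf, smul_smul, inv_mul_cancel₀ hα, one_smul]
    exact act_inv_of h3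
  have rid : act r⁻¹ d = β⁻¹ • d := by
    have h3 : act r (β⁻¹ • d) = d := by rw [act_smul, rd, smul_smul, inv_mul_cancel₀ hβ, one_smul]
    exact act_inv_of h3
  set n := (siegel hF e d μ k)⁻¹ * (r * siegel hF e d μ k * r⁻¹) with hn
  have ne : act n e = e := by
    simp only [hn, act_mul, act_smul, rie, D.te k, re, tie, smul_smul, inv_mul_cancel₀ hα, one_smul]
  have nd : act n d = d + (1 - α * β⁻¹) • e := by
    simp only [hn, act_mul, act_smul, act_sub, rid, D.td k, re, rd, tie, tid]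
    funext i
    simp only [Pi.add_apply, Pi.smul_apply, Pi.sub_apply, smul_eq_mul]
    field_simp
    ring
  have nf : act n f = f + (α⁻¹ * β - 1) • d + (α⁻¹ * β - 1) • e := by
    simp only [hn, act_mul, act_smul, act_add, rif, D.tf k, re, rf, rd, tie, tid, tif]
    funext i
    simp only [Pi.add_apply, Pi.smul_apply, Pi.sub_apply, smul_eq_mul]
    field_simp
    ring
  rw [← map_one (pr 3 F q)] at h
  obtain ⟨c, -, hc⟩ := exists_scalar_of_pr_eq hF le_rfl h
  have h3 := hc f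
  have h4 : act (n ^ 2) f = (2 * (α⁻¹ * β - 1) + (α⁻¹ * β - 1) * (1 - α * β⁻¹)) • e + (1 : F) • f +
      (2 * (α⁻¹ * β - 1)) • d := by
    rw [pow_two]
    simp only [act_mul, act_smul, act_add, nf, nd, ne]
    funext i
    simp only [Pi.add_apply, Pi.smul_apply, smul_eq_mul]
    ring
  rw [h4, act_one, h2, zero_mul, zero_add] at h3
  have h5 : (0 : F) • e + (1 : F) • f + (0 : F) • d =
      (c * ((α⁻¹ * β - 1) * (1 - α * β⁻¹))) • e + (c * 1) • f + (c * 0) • d := by
    rw [zero_smul, zero_add, one_smul, zero_smul, add_zero]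
    conv_lhs => rw [h3]
    simp only [smul_add, smul_smul]
  obtain ⟨h6, h7, -⟩ := D.coef h5
  have hc0 : c ≠ 0 := by
    rintro rfl
    rw [zero_mul] at h7
    exact one_ne_zero h7
  rcases mul_eq_zero.1 h6.symm with h8 | h8
  · exact hc0 h8
  rcases mul_eq_zero.1 h8 with h9 | h9
  · apply hαβ
    have : α⁻¹ * β = 1 := sub_eq_zero.1 h9
    have h10 := congrArg (fun t => α * t) this
    simp only [mul_inv_cancel_left₀ hα, mul_one] at h10
    exact h10.symm
  · apply hαβ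
    have : α * β⁻¹ = 1 := (sub_eq_zero.1 h9).symm
    exact (mul_inv_eq_one₀ hβ).1 this

end Dat

/-- **K4**: `Rows.psu3` for `Coh`. -/
theorem coh_psu3 (T : Type u) [Group T] [Finite T] [IsSimpleGroup T] (F : Type) [Field F] [Fintype F] (q : ℕ)
    (hq : 3 ≤ q) (hF : Fintype.card F = q ^ 2) (E : Nonempty (T ≃* Cfsg.PSU 3 F q)) : Coh T := by
  obtain ⟨E⟩ := E
  obtain ⟨e, f, d, z, s, w, D⟩ := exists_dat hF
  obtain ⟨r, κ, hr, hchar, hqr, hκ⟩ := exists_prime_pow hF
  have hqq : 3 * q ≤ q ^ 2 := by rw [pow_two]; exact Nat.mul_le_mul_right q hq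
  let φ : SU 3 F q →* T := E.symm.toMonoidHom.comp (pr 3 F q)
  have hφ : ∀ x, φ x = E.symm (pr 3 F q x) := fun _ => rfl
  have hφs : Function.Surjective φ := E.symm.surjective.comp pr_surjective
  have hφ1 : ∀ x, pr 3 F q x ≠ 1 → φ x ≠ 1 := fun x hx h1 => hx (by
    rw [hφ, ← map_one E.symm] at h1
    exact E.symm.injective h1)
  have : Nontrivial (PSU 3 F q) := E.symm.toEquiv.nontrivial
  have : IsSimpleGroup (PSU 3 F q) := IsSimpleGroup.isSimpleGroup_of_surjective E.toMonoidHom E.surjective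
  have hcomm := D.not_comm hq
  have hcen : Subgroup.center (PSU 3 F q) = ⊥ :=
    center_bot (a := pr 3 F q s) (b := pr 3 F q w) (by rw [← map_mul, ← map_mul]; exact hcomm)
  have hcommT : φ s * φ w ≠ φ w * φ s := by
    rw [← map_mul, ← map_mul]
    intro h
    exact hcomm (E.symm.injective h)
  intro p hp
  by_cases hpr : p = r
  · subst hpr
    have hpq : ¬ p ∣ q ^ 2 - 1 := by
      intro h
      have h1 : p ∣ q ^ 2 := by
        rw [hqr]
        exact dvd_pow (dvd_pow_self p hκ.ne') two_ne_zero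
      have h2 := (Nat.dvd_sub h1 h)
      rw [Nat.sub_sub_self (by omega)] at h2
      exact hp.one_lt.ne' (Nat.dvd_one.1 h2)
    have hs : φ s ^ (q ^ 2 - 1) = 1 := by rw [← map_pow, D.s_pow, map_one]
    have hgen : ∀ {μ : F} (k : IsSiegel q e d μ),
        Subgroup.closure ({φ s, φ (siegel hF e d μ k) * φ w} : Set T) = ⊤ := by
      intro μ k
      have h := congrArg (Subgroup.map E.symm.toMonoidHom) (D.gen hq k hcen)
      rw [MonoidHom.map_closure, Set.image_pair, Subgroup.map_top_of_surjective _ E.symm.surjective, map_mul] at h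
      exact h
    have hw : (φ w)⁻¹ * φ s * φ w ∈ Subgroup.zpowers (φ s) := by
      rw [← map_inv, ← map_mul, ← map_mul, D.w_norm, map_inv, map_pow]
      exact inv_mem (pow_mem (Subgroup.mem_zpowers _) _)
    rcases hp.eq_two_or_odd' with rfl | hodd
    · -- characteristic 2
      have h2 : (2 : F) = 0 := by
        have := CharP.cast_eq_zero F 2
        exact_mod_cast this
      obtain ⟨μ, hμ⟩ := exists_trace_eq hF (c := (-1 : F)) (by rw [neg_pow_q hF, one_pow])
      have k : IsSiegel q e d μ := ⟨D.B.ee, D.B.de, by rw [D.B.dd, hμ]; ring⟩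
      have hz := D.z0
      have hα : z ^ (q - 1) ≠ 0 := pow_ne_zero _ hz
      have hβ' : z ^ q * z⁻¹ = z ^ (q - 1) := by
        have h5 : z ^ (q - 1) * z = z ^ q := by rw [← pow_succ, Nat.sub_add_cancel (by omega)]
        rw [← h5, mul_inv_cancel_right₀ hz]
      have hrf : ((z ^ q)⁻¹) ^ (q - 1) = z ^ (q - 1) := by
        have h5 : z ^ (q - 1) * (z ^ q) ^ (q - 1) = 1 := by
          rw [← pow_mul, ← pow_add]
          have : q - 1 + q * (q - 1) = q ^ 2 - 1 := by
            obtain ⟨m, rfl⟩ : ∃ m, q = m + 1 := ⟨q - 1, by omega⟩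
            rw [Nat.add_sub_cancel]
            have : (m + 1) ^ 2 = m + (m + 1) * m + 1 := by ring
            omega
          rw [this, D.zpow_card]
        rw [inv_pow]
        exact (eq_inv_of_mul_eq_one_left h5).symm
      have re := D.pow_e (q - 1)
      have rf := D.pow_f (q - 1)
      have rd := D.pow_d (q - 1)
      rw [hrf] at rf
      have hβ : (z ^ q * z⁻¹) ^ (q - 1) ≠ 0 := by rw [hβ']; exact pow_ne_zero _ hα
      have hαβ : z ^ (q - 1) ≠ (z ^ q * z⁻¹) ^ (q - 1) := by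
        rw [hβ', ← pow_mul]
        intro h
        obtain ⟨m, rfl⟩ : ∃ m, q = m + 3 := ⟨q - 3, by omega⟩
        have h6 : (m + 3 - 1) * (m + 3 - 1) = (m + 3 - 1) + (m + 2) * (m + 1) := by
          have : m + 3 - 1 = m + 2 := by omega
          rw [this]; ring
        rw [h6, pow_add] at h
        have h7 : z ^ ((m + 2) * (m + 1)) = 1 := mul_left_cancel₀ hα (by rw [mul_one]; exact h.symm)
        refine D.z2 _ (by (clear * -; positivity)) ?_ h7
        have : (m + 3) ^ 2 = (m + 2) * (m + 1) + 3 * m + 7 := by ring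
        omega
      have hrt := D.r_comm h2 k re rf rd
      have hn := hφ1 _ (D.n_sq_ne h2 k hα hβ hαβ re rf rd)
      refine cohAt_two_of_sq (r := φ (s ^ (q - 1))) hs hpq (hgen k) hw ?_ ?_ ?_
      · rw [map_pow]; exact pow_mem (Subgroup.mem_zpowers _) _
      · rw [← map_mul, ← map_mul, hrt, map_mul]
      · rwa [map_pow, map_mul, map_inv, map_mul, map_mul, map_inv] at hn
    · -- odd characteristic
      have h2 : (2 : F) ≠ 0 := by
        intro h
        have h3 : ((2 : ℕ) : F) = 0 := by exact_mod_cast h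
        rw [CharP.cast_eq_zero_iff F p] at h3
        have h4 := (Nat.prime_dvd_prime_iff_eq hp Nat.prime_two).1 h3
        rw [h4] at hodd
        exact absurd hodd (by decide)
      have hqodd : Odd q := by rw [hqr]; exact hodd.pow
      have hμ2 : 2 * (-(2 : F)⁻¹) + 1 = 0 := by field_simp; ring
      have k : IsSiegel q e d (-(2 : F)⁻¹) := by
        refine ⟨D.B.ee, D.B.de, ?_⟩
        have h3 : (2 : F) ^ q = 2 := by
          have h4 : (2 : F) = 1 + 1 := by norm_num
          rw [h4, add_pow_q hF, one_pow]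
        rw [D.B.dd, neg_pow_q hF, inv_pow, h3]
        linear_combination hμ2
      obtain ⟨j, hj⟩ : ∃ j, q ^ 2 - 1 = 2 * j := by
        obtain ⟨j, hj⟩ := Nat.Odd.sub_odd (hqodd.pow (n := 2)) odd_one
        exact ⟨j, by omega⟩
      have hzj : z ^ j = -1 := by
        have h3 : z ^ j * z ^ j = 1 := by
          rw [← pow_add, ← two_mul, ← hj, D.zpow_card]
        rcases mul_self_eq_one_iff.1 h3 with h4 | h4
        · exact absurd h4 (D.z2 j (by omega) (by omega))
        · exact h4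
      have ce : act (s ^ j) e = -e := by rw [D.pow_e, hzj, neg_one_smul]
      have hzqj : (z ^ q) ^ j = -1 := by
        rw [← pow_mul, mul_comm q, pow_mul, hzj, neg_pow_q hF, one_pow]
      have cf : act (s ^ j) f = -f := by
        rw [D.pow_f, inv_pow, hzqj, inv_neg, inv_one, neg_one_smul]
      have cd : act (s ^ j) d = d := by
        rw [D.pow_d, mul_pow, hzqj, inv_pow, hzj, inv_neg, inv_one, neg_mul_neg, one_mul, one_smul]
      have htct := D.tct k hμ2 ce cf cd
      have htt := hφ1 _ (D.t_sq_ne h2 k)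
      set t := siegel hF e d (-(2 : F)⁻¹) k with ht
      have h5 : φ t * φ (s ^ j) * φ t = φ (s ^ j) := by
        rw [← map_mul, ← map_mul, htct]
      refine cohAt_of_inv hp (c := φ (s ^ j)) hs hpq (hgen k) hw ?_ ?_ ⟨φ t, ?_⟩
      · rw [map_pow]; exact pow_mem (Subgroup.mem_zpowers _) _
      · rw [← ht]
        calc φ (s ^ j) * φ t * (φ (s ^ j))⁻¹ = (φ t)⁻¹ * (φ t * φ (s ^ j) * φ t) * (φ (s ^ j))⁻¹ := by group
          _ = (φ t)⁻¹ := by rw [h5]; group
      · rw [← ht]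
        intro h6
        rw [h5] at h6
        apply htt
        rw [map_mul]
        calc φ t * φ t = φ t * (φ t * φ (s ^ j)) * (φ (s ^ j))⁻¹ := by group
          _ = 1 := by rw [h6]; group
  · -- cross characteristic
    have hA : IsPGroup r (sgAt hF e D.B.ee) := isPGroup_sgAt hF hqr _
    refine cohAt_of_involution hp (A := (sgAt hF e D.B.ee).map φ) (c := φ w) ?_ ?_ ⟨φ s, hcommT⟩ ?_
    · have := Fact.mk hr
      obtain ⟨m, hm⟩ := IsPGroup.iff_card.1 (hA.map φ)
      rw [hm]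
      intro h
      exact hpr ((Nat.prime_dvd_prime_iff_eq hp hr).1 (hp.dvd_of_dvd_pow h))
    · rw [← map_pow, D.w_sq, map_one]
    · have h := congrArg (Subgroup.map φ) D.sup_eq_top
      rwa [Subgroup.map_sup, MonoidHom.map_closure, Set.image_singleton, Subgroup.map_top_of_surjective _ hφs] at h

end Cfsg.Agent.H902.DG.CohU3
end
end

-- part: H984/DG/Gasch
section
set_option linter.all false
open scoped Cfsg.Agent.FastGrp

/-!
# S4180, TEAM GEN, C2: Gaschütz' lemma and `Cos2` from 2-generation (helper984)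

* `gaschutz` : if the finite group `G` is 2-generated then every generating pair of `G ⧸ N` lifts to a generating pair;
* `cos2_of_sub` : `Cos2 L` if every group between `Inn L` and `Aut L` is 2-generated;
* `cos2_of_row` : the same from the abstract form (groups with a normal self-centralising copy of `L`);
* `cos2_congr` : transport.
-/

set_option autoImplicit false

namespace Cfsg.Agent.H984.DG

open Cfsg.Agent.H440.TwoGen Cfsg.Agent.H891.Gen Cfsg.Agent.H891.DG Subgroup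

universe u v w

section gasch

variable {G : Type u} [Group G] [Finite G] (N : Subgroup G) [N.Normal]

/-- the pairs of `N × N` correcting `(x, y)` to a pair generating `H` -/
def Pr (H : Subgroup G) (x y : G) : Set (↥N × ↥N) :=
  {p | closure ({x * (p.1 : G), y * (p.2 : G)} : Set G) = H}

omit [Finite G] [N.Normal] in
theorem sup_closure (x y : G) (s t : ↥N) :
    closure ({x * (s : G), y * (t : G)} : Set G) ⊔ N = closure ({x, y} : Set G) ⊔ N := by
  apply le_antisymm
  · refine sup_le ?_ le_sup_right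
    rw [closure_le]
    rintro z (rfl | hz)
    · exact mul_mem (mem_sup_left (subset_closure (by simp))) (mem_sup_right s.2)
    · rw [Set.mem_singleton_iff] at hz
      subst hz
      exact mul_mem (mem_sup_left (subset_closure (by simp))) (mem_sup_right t.2)
  · refine sup_le ?_ le_sup_right
    rw [closure_le]
    rintro z (rfl | hz)
    · have h1 : z = z * (s : G) * (s : G)⁻¹ := by rw [mul_inv_cancel_right]
      rw [h1]
      exact mul_mem (mem_sup_left (subset_closure (by simp))) (mem_sup_right (inv_mem s.2))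
    · rw [Set.mem_singleton_iff] at hz
      subst hz
      have h1 : z = z * (t : G) * (t : G)⁻¹ := by rw [mul_inv_cancel_right]
      rw [h1]
      exact mul_mem (mem_sup_left (subset_closure (by simp))) (mem_sup_right (inv_mem t.2))

omit [Finite G] in
/-- the number of corrections lying in a supplement `H` of `N` does not depend on the element -/
theorem card_corr (H : Subgroup G) (hH : H ⊔ N = ⊤) (x : G) :
    Nat.card {s : ↥N // x * (s : G) ∈ H} = Nat.card ↥(H ⊓ N) := by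
  have hx : x⁻¹ ∈ N ⊔ H := by rw [sup_comm, hH]; exact mem_top _
  rw [mem_sup_of_normal_left] at hx
  obtain ⟨n, hn, h, hh, hnh⟩ := hx
  -- x * n = h⁻¹ ∈ H
  have h1 : x * n = h⁻¹ := by
    have : x = h⁻¹ * n⁻¹ := by rw [← mul_inv_rev, hnh, inv_inv]
    rw [this, inv_mul_cancel_right]
  refine Nat.card_congr ⟨fun s => ⟨n⁻¹ * s.1.1, ?_, N.mul_mem (N.inv_mem hn) s.1.2⟩,
    fun s => ⟨⟨n * s.1, N.mul_mem hn s.2.2⟩, ?_⟩, fun s => ?_, fun s => ?_⟩
  · have h2 : n⁻¹ * s.1.1 = h * (x * s.1.1) := by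
      have h3 : h * x = n⁻¹ := by
        rw [eq_inv_iff_mul_eq_one, mul_assoc, h1, mul_inv_cancel]
      rw [← mul_assoc, h3]
    rw [h2]
    exact H.mul_mem hh s.2
  · show x * (n * s.1) ∈ H
    rw [← mul_assoc, h1]
    exact H.mul_mem (H.inv_mem hh) s.2.1
  · apply Subtype.ext
    apply Subtype.ext
    show n * (n⁻¹ * s.1.1) = s.1.1
    rw [mul_inv_cancel_left]
  · apply Subtype.ext
    show n⁻¹ * (n * s.1) = s.1
    rw [inv_mul_cancel_left]

theorem sum_card (H : Subgroup G) (hH : H ⊔ N = ⊤) (x y : G) [Fintype (Subgroup G)]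
    [DecidablePred fun K : Subgroup G => K ≤ H] :
    ∑ K ∈ Finset.univ.filter (fun K : Subgroup G => K ≤ H), Nat.card ↥(Pr N K x y) =
      Nat.card ↥(H ⊓ N) * Nat.card ↥(H ⊓ N) := by
  classical
  have := Fintype.ofFinite ↥N
  have h1 : Nat.card ↥(H ⊓ N) * Nat.card ↥(H ⊓ N) =
      (Finset.univ.filter (fun p : ↥N × ↥N => x * (p.1 : G) ∈ H ∧ y * (p.2 : G) ∈ H)).card := by
    have hx := card_corr N H hH x
    have hy := card_corr N H hH y
    have h2 : Nat.card ↥(H ⊓ N) * Nat.card ↥(H ⊓ N) =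
        Nat.card {s : ↥N // x * (s : G) ∈ H} * Nat.card {s : ↥N // y * (s : G) ∈ H} := by rw [hx, hy]
    rw [h2, ← Nat.card_prod, ← Fintype.card_subtype, ← Nat.card_eq_fintype_card]
    exact Nat.card_congr ⟨fun p => ⟨(p.1.1, p.2.1), p.1.2, p.2.2⟩, fun p => (⟨p.1.1, p.2.1⟩, ⟨p.1.2, p.2.2⟩),
      fun p => rfl, fun p => rfl⟩
  rw [h1, Finset.card_eq_sum_card_fiberwise (f := fun p : ↥N × ↥N => closure ({x * (p.1 : G), y * (p.2 : G)} : Set G))
    (t := Finset.univ.filter (fun K : Subgroup G => K ≤ H))]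
  · refine Finset.sum_congr rfl fun K hK => ?_
    rw [Finset.mem_filter] at hK
    rw [Nat.card_eq_fintype_card, ← Set.toFinset_card]
    congr 1
    ext p
    simp only [Set.mem_toFinset, Finset.mem_filter, Finset.mem_univ, true_and]
    constructor
    · intro hp
      have hp' : closure ({x * (p.1 : G), y * (p.2 : G)} : Set G) = K := hp
      refine ⟨⟨hK.2 ?_, hK.2 ?_⟩, hp'⟩
      · rw [← hp']; exact subset_closure (by simp)
      · rw [← hp']; exact subset_closure (by simp)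
    · exact fun hp => hp.2
  · intro p hp
    simp only [Finset.coe_filter, Finset.mem_univ, true_and, Set.mem_ofPred_eq] at hp ⊢
    rw [closure_le]
    rintro z (rfl | hz)
    · exact hp.1
    · rw [Set.mem_singleton_iff] at hz
      subst hz
      exact hp.2

/-- the number of corrections to a generating pair of `H` does not depend on the generating pair modulo `N` -/
theorem card_pr_eq {x y x' y' : G} (h : closure ({x, y} : Set G) ⊔ N = ⊤)
    (h' : closure ({x', y'} : Set G) ⊔ N = ⊤) : ∀ (k : ℕ) (H : Subgroup G), Nat.card ↥H = k →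
      Nat.card ↥(Pr N H x y) = Nat.card ↥(Pr N H x' y') := by
  classical
  have := Fintype.ofFinite (Subgroup G)
  intro k
  induction k using Nat.strong_induction_on with
  | _ k ih =>
    intro H hk
    by_cases hH : H ⊔ N = ⊤
    · have h1 := sum_card N H hH x y
      have h2 := sum_card N H hH x' y'
      have hmem : H ∈ Finset.univ.filter (fun K : Subgroup G => K ≤ H) := by simp
      rw [← Finset.add_sum_erase _ _ hmem] at h1 h2
      have h3 : ∑ K ∈ (Finset.univ.filter (fun K : Subgroup G => K ≤ H)).erase H, Nat.card ↥(Pr N K x y) =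
          ∑ K ∈ (Finset.univ.filter (fun K : Subgroup G => K ≤ H)).erase H, Nat.card ↥(Pr N K x' y') := by
        refine Finset.sum_congr rfl fun K hK => ?_
        rw [Finset.mem_erase, Finset.mem_filter] at hK
        refine ih (Nat.card ↥K) ?_ K rfl
        rw [← hk]
        exact Set.Finite.card_lt_card (Set.toFinite _) (SetLike.coe_ssubset_coe.2 (lt_of_le_of_ne hK.2.2 hK.1))
      omega
    · have key : ∀ a b : G, closure ({a, b} : Set G) ⊔ N = ⊤ → Pr N H a b = ∅ := by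
        intro a b hab
        rw [Set.eq_empty_iff_forall_notMem]
        intro p hp
        apply hH
        have hp' : closure ({a * (p.1 : G), b * (p.2 : G)} : Set G) = H := hp
        rw [← hp', sup_closure, hab]
      rw [key x y h, key x' y' h']

/-- **Gaschütz' lemma** for pairs. -/
theorem gaschutz (hG : TwoGen G) {x y : G} (h : closure ({x, y} : Set G) ⊔ N = ⊤) :
    ∃ s ∈ N, ∃ t ∈ N, closure ({x * s, y * t} : Set G) = ⊤ := by
  obtain ⟨a, b, hab⟩ := hG
  have h1 := card_pr_eq N (x := a) (y := b) (x' := x) (y' := y) (by rw [hab, top_sup_eq]) h _ ⊤ rfl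
  have h2 : (1 : ↥N × ↥N) ∈ Pr N ⊤ a b := by
    show closure ({a * 1, b * 1} : Set G) = ⊤
    rw [mul_one, mul_one, hab]
  have h3 : 0 < Nat.card ↥(Pr N ⊤ a b) := Nat.card_pos_iff.2 ⟨⟨⟨_, h2⟩⟩, inferInstance⟩
  rw [h1] at h3
  obtain ⟨⟨⟨p, hp⟩⟩, -⟩ := Nat.card_pos_iff.1 h3
  exact ⟨p.1, p.1.2, p.2, p.2.2, hp⟩

end gasch

section cos

/-- every pair of a finite group lifts if all overgroups of `N` are 2-generated -/
theorem lift_of_sub {G : Type u} [Group G] [Finite G] (N : Subgroup G) [N.Normal]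
    (h : ∀ S : Subgroup G, N ≤ S → TwoGen ↥S) (x y : G) : Lift N x y := by
  set S : Subgroup G := closure ({x, y} : Set G) ⊔ N with hS
  have hNS : N ≤ S := le_sup_right
  have hx : x ∈ S := mem_sup_left (subset_closure (by simp))
  have hy : y ∈ S := mem_sup_left (subset_closure (by simp))
  obtain ⟨s, hs, t, ht, hst⟩ := gaschutz (N.subgroupOf S) (h S hNS) (x := ⟨x, hx⟩) (y := ⟨y, hy⟩) (by
    apply Subgroup.map_injective S.subtype_injective
    rw [Subgroup.map_sup, MonoidHom.map_closure, Set.image_pair, Subgroup.subgroupOf_map_subtype,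
      inf_eq_left.2 hNS, ← MonoidHom.range_eq_map, Subgroup.range_subtype]
    rfl)
  refine ⟨s, mem_subgroupOf.1 hs, t, mem_subgroupOf.1 ht, ?_⟩
  have h1 := congrArg (Subgroup.map S.subtype) hst
  rw [MonoidHom.map_closure, Set.image_pair, ← MonoidHom.range_eq_map, Subgroup.range_subtype] at h1
  have h2 : closure ({x * (s : G), y * (t : G)} : Set G) = S := h1
  rw [h2]
  exact hNS

instance conj_range_normal {L : Type u} [Group L] : ((MulAut.conj : L →* MulAut L).range).Normal := by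
  refine ⟨?_⟩
  rintro _ ⟨x, rfl⟩ α
  refine ⟨α x, ?_⟩
  ext y
  simp [MulAut.conj_apply, MulAut.mul_apply]

/-- `Cos2 L` if every group between `Inn L` and `Aut L` is 2-generated. -/
theorem cos2_of_sub {L : Type u} [Group L] [Finite L]
    (h : ∀ S : Subgroup (MulAut L), (MulAut.conj : L →* MulAut L).range ≤ S → TwoGen ↥S) : Cos2 L := by
  have : Finite (MulAut L) := Finite.of_injective (fun f : MulAut L => (f : L → L)) DFunLike.coe_injective
  exact fun x y => lift_of_sub _ h x y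

/-- transport -/
theorem cos2_congr {L : Type u} [Group L] {M : Type v} [Group M] (e : L ≃* M) (h : Cos2 M) : Cos2 L := by
  intro x y
  have hinn : ∀ g : MulAut L, g ∈ (MulAut.conj : L →* MulAut L).range ↔
      MulAut.congr e g ∈ (MulAut.conj : M →* MulAut M).range := by
    intro g
    constructor
    · rintro ⟨a, rfl⟩
      refine ⟨e a, ?_⟩
      ext z
      simp [MulAut.congr]
    · rintro ⟨a, ha⟩
      refine ⟨e.symm a, ?_⟩
      ext z
      apply e.injective
      have h1 := DFunLike.congr_fun ha (e z)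
      simp only [MulAut.conj_apply] at h1
      rw [MulAut.conj_apply, map_mul, map_mul, map_inv, e.apply_symm_apply, h1]
      show e (g (e.symm (e z))) = e (g z)
      rw [e.symm_apply_apply]
  obtain ⟨s, hs, t, ht, hst⟩ := h (MulAut.congr e x) (MulAut.congr e y)
  refine ⟨(MulAut.congr e).symm s, ?_, (MulAut.congr e).symm t, ?_, ?_⟩
  · rw [hinn, (MulAut.congr e).apply_symm_apply]; exact hs
  · rw [hinn, (MulAut.congr e).apply_symm_apply]; exact ht
  · intro z hz
    have h1 := hst ((hinn z).1 hz)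
    have h2 : closure ({MulAut.congr e x * s, MulAut.congr e y * t} : Set (MulAut M)) =
        (closure ({x * (MulAut.congr e).symm s, y * (MulAut.congr e).symm t} : Set (MulAut L))).map
          (MulAut.congr e).toMonoidHom := by
      rw [MonoidHom.map_closure, Set.image_pair]
      have e1 : ∀ g : MulAut M, (MulAut.congr e).toMonoidHom ((MulAut.congr e).symm g) = g :=
        fun g => (MulAut.congr e).apply_symm_apply g
      rw [map_mul, map_mul, e1, e1]
      rfl
    rw [h2] at h1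
    obtain ⟨z', hz', h3⟩ := h1
    have h4 : z' = z := (MulAut.congr e).injective h3
    exact h4 ▸ hz'

/-- `Cos2 L` if all groups with a normal self-centralising subgroup isomorphic to `L` are 2-generated -/
theorem cos2_of_row {L : Type u} [Group L] [Finite L] [IsSimpleGroup L]
    (h : ∀ (G : Type u) [Group G] (N : Subgroup G), N.Normal → centralizer (N : Set G) = ⊥ →
      Nonempty (↥N ≃* L) → TwoGen G) : Cos2 L := by
  rcases (inferInstance : (center L).Normal).eq_bot_or_eq_top with hZ | hZ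
  · refine cos2_of_sub fun S hS => ?_
    have hinj : Function.Injective (MulAut.conj : L →* MulAut L) := by
      rw [injective_iff_map_eq_one]
      intro a ha
      have h1 : a ∈ center L := by
        rw [mem_center_iff]
        intro b
        have h2 := DFunLike.congr_fun ha b
        rw [MulAut.conj_apply, MulAut.one_apply] at h2
        exact (mul_inv_eq_iff_eq_mul.1 h2).symm
      rwa [hZ, mem_bot] at h1
    refine h ↥S ((MulAut.conj : L →* MulAut L).range.subgroupOf S) inferInstance ?_ ?_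
    · rw [eq_bot_iff]
      intro g hg
      rw [mem_bot]
      rw [mem_centralizer_iff] at hg
      apply Subtype.ext
      ext a
      have h1 := hg ⟨MulAut.conj a, hS ⟨a, rfl⟩⟩ (mem_subgroupOf.2 ⟨a, rfl⟩)
      have h2 : MulAut.conj a * (g : MulAut L) = (g : MulAut L) * MulAut.conj a := congrArg Subtype.val h1
      have h3 : MulAut.conj ((g : MulAut L) a) = MulAut.conj a := by
        have h4 : MulAut.conj ((g : MulAut L) a) = (g : MulAut L) * MulAut.conj a * (g : MulAut L)⁻¹ := by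
          ext b
          simp [MulAut.conj_apply, MulAut.mul_apply]
        rw [h4, ← h2, mul_inv_cancel_right]
      exact hinj h3
    · exact ⟨(subgroupOfEquivOfLe hS).trans (MonoidHom.ofInjective hinj).symm⟩
  · intro x y
    refine ⟨1, one_mem _, 1, one_mem _, ?_⟩
    rintro _ ⟨a, rfl⟩
    have h1 : MulAut.conj a = 1 := by
      ext b
      have h2 : a ∈ center L := by rw [hZ]; exact mem_top _
      rw [MulAut.conj_apply, MulAut.one_apply, (mem_center_iff.1 h2 b).symm, mul_inv_cancel_right]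
    rw [h1]
    exact one_mem _

end cos

end Cfsg.Agent.H984.DG
end

-- part: H891/DG/Nielsen
section
set_option linter.all false
open scoped Cfsg.Agent.FastGrp

/-!
# TEAM GEN, S4180: Nielsen moves and Gaschütz' lemma for `Lift` (helper891)

`Lift N x y` : some pair `(x s, y t)`, `s t ∈ N`, generates a subgroup containing `N`.

* `Lift.mul_right'`, … : the Nielsen moves (`N` normal);
* `lift_of_ker`, `cos2_of_ker` : for a homomorphism `φ` to a cyclic group it is enough to treat the pairs with `φ x = 1`;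
* `lift_of_twoGen` : Gaschütz: if `⟨x, y⟩ N` is 2-generated, then `Lift N x y`;
* `cos2_of_twoGen` : `Cos2 T` from the 2-generation of the almost simple groups;
* `cos2_of_out_one` : `Cos2 T` when `Out T = 1` and `T` is 2-generated.
-/

set_option autoImplicit false
set_option linter.unusedSectionVars false

namespace Cfsg.Agent.H891.DG.Nielsen

open Cfsg.Agent.H440.TwoGen Cfsg.Agent.H891.Gen Cfsg.Agent.H891.DG Subgroup

universe u v

section Moves

variable {G : Type u} [Group G] {N : Subgroup G}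

/-- depends only on the group generated -/
theorem lift_of_closure {x y x' y' : G}
    (h : ∀ s ∈ N, ∀ t ∈ N, ∃ s' ∈ N, ∃ t' ∈ N, closure ({x * s, y * t} : Set G) ≤ closure ({x' * s', y' * t'} : Set G))
    (hl : Lift N x y) : Lift N x' y' := by
  obtain ⟨s, hs, t, ht, hle⟩ := hl
  obtain ⟨s', hs', t', ht', h1⟩ := h s hs t ht
  exact ⟨s', hs', t', ht', hle.trans h1⟩

theorem pair_le {a b c d : G} (h1 : a ∈ closure ({c, d} : Set G)) (h2 : b ∈ closure ({c, d} : Set G)) :
    closure ({a, b} : Set G) ≤ closure ({c, d} : Set G) := by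
  rw [closure_le]
  rintro z (rfl | hz)
  · exact h1
  · rw [Set.mem_singleton_iff] at hz
    rw [hz]
    exact h2

/-- `(x, x y) → (x, y)` -/
theorem Lift.of_mul_left (hN : N.Normal) {x y : G} (h : Lift N x (x * y)) : Lift N x y := by
  refine lift_of_closure ?_ h
  intro s hs t ht
  refine ⟨s, hs, y⁻¹ * s⁻¹ * y * t, mul_mem (by simpa using hN.conj_mem s⁻¹ (inv_mem hs) y⁻¹) ht, pair_le ?_ ?_⟩
  · exact subset_closure (by simp)
  · have e : x * y * t = (x * s) * (y * (y⁻¹ * s⁻¹ * y * t)) := by group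
    rw [e]
    exact mul_mem (subset_closure (by simp)) (subset_closure (by simp))

/-- `(x, y) → (x, x y)` -/
theorem Lift.mul_left (hN : N.Normal) {x y : G} (h : Lift N x y) : Lift N x (x * y) := by
  refine lift_of_closure ?_ h
  intro s hs t ht
  refine ⟨s, hs, y⁻¹ * s * y * t, mul_mem (by simpa using hN.conj_mem s hs y⁻¹) ht, pair_le ?_ ?_⟩
  · exact subset_closure (by simp)
  · have e : y * t = (x * s)⁻¹ * (x * y * (y⁻¹ * s * y * t)) := by group
    rw [e]
    exact mul_mem (inv_mem (subset_closure (by simp))) (subset_closure (by simp))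

/-- changing representatives -/
theorem Lift.of_mul_mem {x y a b : G} (ha : a ∈ N) (hb : b ∈ N) (h : Lift N (x * a) (y * b)) :
    Lift N x y := by
  obtain ⟨s, hs, t, ht, h⟩ := h
  refine ⟨a * s, mul_mem ha hs, b * t, mul_mem hb ht, ?_⟩
  rwa [← mul_assoc, ← mul_assoc]

theorem Lift.congr {x y x' y' : G} (hx : x'⁻¹ * x ∈ N) (hy : y'⁻¹ * y ∈ N) (h : Lift N x y) :
    Lift N x' y' := by
  refine Lift.of_mul_mem hx hy ?_
  rwa [mul_inv_cancel_left, mul_inv_cancel_left]

/-- `(x⁻¹, y) → (x, y)` -/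
theorem Lift.of_inv (hN : N.Normal) {x y : G} (h : Lift N x⁻¹ y) : Lift N x y := by
  refine lift_of_closure ?_ h
  intro s hs t ht
  refine ⟨x⁻¹ * s⁻¹ * x, by simpa using hN.conj_mem s⁻¹ (inv_mem hs) x⁻¹, t, ht, pair_le ?_ ?_⟩
  · have e : x⁻¹ * s = (x * (x⁻¹ * s⁻¹ * x))⁻¹ := by group
    rw [e]
    exact inv_mem (subset_closure (by simp))
  · exact subset_closure (by simp)

/-- Euclid: for a homomorphism to a cyclic group it is enough to treat the pairs whose first member is in the kernel. -/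
theorem lift_of_ker (hN : N.Normal) {C : Type*} [Group C] [Finite C] [IsCyclic C] (φ : G →* C)
    (h : ∀ x y : G, φ x = 1 → Lift N x y) (x y : G) : Lift N x y := by
  obtain ⟨c, hc⟩ := IsCyclic.exists_generator (α := C)
  have hex : ∀ g : C, ∃ n : ℕ, g = c ^ n := by
    intro g
    obtain ⟨n, hn⟩ := (mem_powers_iff_mem_zpowers.2 (hc g))
    exact ⟨n, hn.symm⟩
  have key : ∀ k a b : ℕ, a + b ≤ k → ∀ x y : G, φ x = c ^ a → φ y = c ^ b → Lift N x y := by
    intro k
    induction k with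
    | zero =>
      intro a b hab x y hx hy
      have ha : a = 0 := by omega
      subst ha
      exact h x y (by rw [hx, pow_zero])
    | succ k ih =>
      intro a b hab x y hx hy
      rcases Nat.eq_zero_or_pos a with ha | ha
      · subst ha
        exact h x y (by rw [hx, pow_zero])
      rcases Nat.eq_zero_or_pos b with hb | hb
      · subst hb
        exact (h y x (by rw [hy, pow_zero])).symm
      rcases le_total a b with hle | hle
      · have h1 : Lift N x (x⁻¹ * y) := by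
          refine ih a (b - a) (by omega) _ _ hx ?_
          rw [map_mul, map_inv, hx, hy, inv_mul_eq_iff_eq_mul, ← pow_add, Nat.add_sub_cancel' hle]
        have h2 := Lift.mul_left hN h1
        rwa [mul_inv_cancel_left] at h2
      · have h1 : Lift N y (y⁻¹ * x) := by
          refine ih b (a - b) (by omega) _ _ hy ?_
          rw [map_mul, map_inv, hx, hy, inv_mul_eq_iff_eq_mul, ← pow_add, Nat.add_sub_cancel' hle]
        have h2 := Lift.mul_left hN h1
        rw [mul_inv_cancel_left] at h2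
        exact h2.symm
  obtain ⟨a, ha⟩ := hex (φ x)
  obtain ⟨b, hb⟩ := hex (φ y)
  exact key (a + b) a b le_rfl x y ha hb

end Moves

section Gaschutz

variable {G : Type u} [Group G]

theorem sup_eq_top_of_pair {N : Subgroup G} {x y : G} (h : closure ({x, y} : Set G) ⊔ N = ⊤) {a b : G}
    (h1 : x⁻¹ * a ∈ N) (h2 : y⁻¹ * b ∈ N) : closure ({a, b} : Set G) ⊔ N = ⊤ := by
  rw [eq_top_iff, ← h]
  refine sup_le ?_ le_sup_right
  rw [closure_le]
  have key : ∀ (c d : G), d ∈ closure ({a, b} : Set G) → c⁻¹ * d ∈ N → c ∈ closure ({a, b} : Set G) ⊔ N := by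
    intro c d hd hc
    have e : c = d * (c⁻¹ * d)⁻¹ := by group
    rw [e]
    exact mul_mem (mem_sup_left hd) (mem_sup_right (inv_mem hc))
  rintro z (rfl | hz)
  · exact key _ _ (subset_closure (by simp)) h1
  · rw [Set.mem_singleton_iff] at hz
    subst hz
    exact key _ _ (subset_closure (by simp)) h2

open Classical in
/-- the pairs in `x N × y N` generating `H` -/
noncomputable def prs [Fintype G] (N : Subgroup G) (x y : G) (H : Subgroup G) : Finset (G × G) :=
  {q | x⁻¹ * q.1 ∈ N ∧ y⁻¹ * q.2 ∈ N ∧ closure ({q.1, q.2} : Set G) = H}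

open Classical in
/-- the pairs in `x N × y N` inside `H` -/
noncomputable def ins [Fintype G] (N : Subgroup G) (x y : G) (H : Subgroup G) : Finset (G × G) :=
  {q | x⁻¹ * q.1 ∈ N ∧ y⁻¹ * q.2 ∈ N ∧ q.1 ∈ H ∧ q.2 ∈ H}

open Classical in
theorem card_coset_inf [Fintype G] {N H : Subgroup G} (hN : N.Normal) (hH : H ⊔ N = ⊤) (x : G) :
    (Finset.univ.filter fun g : G => x⁻¹ * g ∈ N ∧ g ∈ H).card = Nat.card ↥(N ⊓ H) := by
  obtain ⟨h, hh, n, hn, rfl⟩ : ∃ h ∈ H, ∃ n ∈ N, h * n = x := by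
    have h1 : x ∈ H ⊔ N := hH ▸ mem_top x
    exact mem_sup_of_normal_right.1 h1
  rw [← Fintype.card_subtype, ← Nat.card_eq_fintype_card]
  refine Nat.card_congr ⟨fun g => ⟨h⁻¹ * g.1, ?_, H.mul_mem (H.inv_mem hh) g.2.2⟩,
    fun k => ⟨h * k.1, ?_, mul_mem hh k.2.2⟩, fun g => Subtype.ext (by simp), fun k => Subtype.ext (by simp)⟩
  · have e : h⁻¹ * g.1 = n * ((h * n)⁻¹ * g.1) := by group
    rw [e]
    exact mul_mem hn g.2.1
  · have e : (h * n)⁻¹ * (h * k.1) = n⁻¹ * k.1 := by group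
    rw [e]
    exact mul_mem (inv_mem hn) k.2.1

open Classical in
theorem card_ins [Fintype G] {N H : Subgroup G} (hN : N.Normal) (hH : H ⊔ N = ⊤) (x y : G) :
    (ins N x y H).card = Nat.card ↥(N ⊓ H) ^ 2 := by
  have e : ins N x y H = (Finset.univ.filter fun g : G => x⁻¹ * g ∈ N ∧ g ∈ H) ×ˢ
      (Finset.univ.filter fun g : G => y⁻¹ * g ∈ N ∧ g ∈ H) := by
    ext q
    simp only [ins, Finset.mem_filter, Finset.mem_univ, true_and, Finset.mem_product]
    tauto
  rw [e, Finset.card_product, card_coset_inf hN hH, card_coset_inf hN hH, sq]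

open Classical in
theorem card_ins_eq_sum [Fintype G] {N : Subgroup G} (x y : G) (H : Subgroup G) :
    (ins N x y H).card = ∑ K ∈ (Finset.univ.filter fun K : Subgroup G => K ≤ H), (prs N x y K).card := by
  have h1 : ∀ q ∈ ins N x y H, closure ({q.1, q.2} : Set G) ∈ (Finset.univ.filter fun K : Subgroup G => K ≤ H) := by
    intro q hq
    simp only [ins, Finset.mem_filter, Finset.mem_univ, true_and] at hq ⊢
    rw [closure_le]
    rintro z (rfl | hz)
    · exact hq.2.2.1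
    · rw [Set.mem_singleton_iff] at hz
      rw [hz]
      exact hq.2.2.2
  rw [Finset.card_eq_sum_card_fiberwise h1]
  refine Finset.sum_congr rfl fun K hK => ?_
  congr 1
  ext q
  simp only [ins, prs, Finset.mem_filter, Finset.mem_univ, true_and] at hK ⊢
  constructor
  · rintro ⟨⟨h1, h2, -, -⟩, h3⟩
    exact ⟨h1, h2, h3⟩
  · rintro ⟨h1, h2, h3⟩
    exact ⟨⟨h1, h2, hK (h3 ▸ subset_closure (by simp)), hK (h3 ▸ subset_closure (by simp))⟩, h3⟩

theorem card_prs_eq [Fintype G] {N : Subgroup G} (hN : N.Normal) {x y x' y' : G}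
    (h : closure ({x, y} : Set G) ⊔ N = ⊤) (h' : closure ({x', y'} : Set G) ⊔ N = ⊤) (H : Subgroup G) :
    (prs N x y H).card = (prs N x' y' H).card := by
  classical
  induction H using WellFoundedLT.induction with
  | ind H ih =>
    have hz : ∀ {a b : G}, closure ({a, b} : Set G) ⊔ N = ⊤ → H ⊔ N ≠ ⊤ → (prs N a b H).card = 0 := by
      intro a b hab hH
      rw [Finset.card_eq_zero, Finset.eq_empty_iff_forall_notMem]
      intro q hq
      simp only [prs, Finset.mem_filter, Finset.mem_univ, true_and] at hq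
      exact hH (hq.2.2 ▸ sup_eq_top_of_pair hab hq.1 hq.2.1)
    by_cases hH : H ⊔ N = ⊤
    · have h1 := (card_ins_eq_sum (N := N) x y H).symm.trans
        ((card_ins hN hH x y).trans ((card_ins hN hH x' y').symm.trans (card_ins_eq_sum (N := N) x' y' H)))
      have h2 : (Finset.univ.filter fun K : Subgroup G => K ≤ H) =
          insert H (Finset.univ.filter fun K : Subgroup G => K < H) := by
        ext K
        simp only [Finset.mem_filter, Finset.mem_univ, true_and, Finset.mem_insert]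
        exact le_iff_eq_or_lt
      rw [h2, Finset.sum_insert (by simp), Finset.sum_insert (by simp),
        Finset.sum_congr rfl (fun K hK => ih K (by simpa using hK))] at h1
      exact add_right_cancel h1
    · rw [hz h hH, hz h' hH]

/-- Gaschütz' lemma for two generators. -/
theorem gaschutz [Finite G] {N : Subgroup G} (hN : N.Normal) (h2 : TwoGen G) {x y : G}
    (h : closure ({x, y} : Set G) ⊔ N = ⊤) : ∃ s ∈ N, ∃ t ∈ N, closure ({x * s, y * t} : Set G) = ⊤ := by
  classical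
  let _ := Fintype.ofFinite G
  obtain ⟨a, b, hab⟩ := h2
  have h1 : (prs N a b ⊤).Nonempty := by
    refine ⟨(a, b), ?_⟩
    simp only [prs, Finset.mem_filter, Finset.mem_univ, true_and]
    exact ⟨by simp, by simp, hab⟩
  have h3 : closure ({a, b} : Set G) ⊔ N = ⊤ := by rw [hab, top_sup_eq]
  have h4 := card_prs_eq hN h3 h ⊤
  have h5 : (prs N x y ⊤).Nonempty := by
    rw [← Finset.card_pos, ← h4]
    exact Finset.card_pos.2 h1
  obtain ⟨q, hq⟩ := h5
  simp only [prs, Finset.mem_filter, Finset.mem_univ, true_and] at hq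
  exact ⟨_, hq.1, _, hq.2.1, by rw [mul_inv_cancel_left, mul_inv_cancel_left]; exact hq.2.2⟩

/-- Gaschütz: if `⟨x, y⟩ N` is 2-generated then the pair lifts. -/
theorem lift_of_twoGen [Finite G] {N : Subgroup G} (hN : N.Normal) {x y : G}
    (h2 : TwoGen ↥(closure ({x, y} : Set G) ⊔ N)) : Lift N x y := by
  set A := closure ({x, y} : Set G) ⊔ N with hA
  have hNA : N ≤ A := le_sup_right
  have hx : x ∈ A := mem_sup_left (subset_closure (by simp))
  have hy : y ∈ A := mem_sup_left (subset_closure (by simp))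
  have h1 : closure ({(⟨x, hx⟩ : ↥A), ⟨y, hy⟩} : Set ↥A) ⊔ N.subgroupOf A = ⊤ := by
    apply Subgroup.map_injective A.subtype_injective
    rw [Subgroup.map_sup, MonoidHom.map_closure, Set.image_pair, Subgroup.subgroupOf_map_subtype,
      inf_eq_left.2 hNA, ← MonoidHom.range_eq_map, Subgroup.range_subtype]
    rfl
  obtain ⟨s, hs, t, ht, h3⟩ := gaschutz (N := N.subgroupOf A) (hN.subgroupOf A) h2 h1
  refine ⟨s, hs, t, ht, ?_⟩
  have h4 := congrArg (Subgroup.map A.subtype) h3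
  rw [MonoidHom.map_closure, Set.image_pair, ← MonoidHom.range_eq_map, Subgroup.range_subtype] at h4
  calc N ≤ A := hNA
    _ = _ := h4.symm

end Gaschutz

section Cos

variable {T : Type u} [Group T] [Finite T]

theorem inn_normal (T : Type u) [Group T] : (MulAut.conj : T →* MulAut T).range.Normal :=
  Cfsg.innNormal T

/-- `Cos2` from the 2-generation of the almost simple groups -/
theorem cos2_of_twoGen
    (h : ∀ A : Subgroup (MulAut T), (MulAut.conj : T →* MulAut T).range ≤ A →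
      (∃ x ∈ A, ∃ y ∈ A, A = closure ({x, y} : Set (MulAut T)) ⊔ (MulAut.conj : T →* MulAut T).range) → TwoGen ↥A) :
    Cos2 T := by
  have : Finite (MulAut T) := Finite.of_injective (fun f : MulAut T => (f : T → T)) DFunLike.coe_injective
  intro x y
  refine lift_of_twoGen (inn_normal T) (h _ le_sup_right ⟨x, mem_sup_left (subset_closure (by simp)), y,
    mem_sup_left (subset_closure (by simp)), rfl⟩)

/-- Euclid -/
theorem cos2_of_ker {C : Type*} [Group C] [Finite C] [IsCyclic C] (φ : MulAut T →* C)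
    (h : ∀ x y : MulAut T, φ x = 1 → Lift (MulAut.conj : T →* MulAut T).range x y) : Cos2 T :=
  fun x y => lift_of_ker (inn_normal T) φ h x y

/-- the trivial pair -/
theorem lift_one (h2 : TwoGen T) : Lift (MulAut.conj : T →* MulAut T).range 1 1 := by
  obtain ⟨a, b, hab⟩ := h2
  refine ⟨MulAut.conj a, ⟨a, rfl⟩, MulAut.conj b, ⟨b, rfl⟩, ?_⟩
  rw [one_mul, one_mul, ← Set.image_pair, ← MonoidHom.map_closure, hab, ← MonoidHom.range_eq_map]

/-- `|Out T| ≤ 2`: `T` and `Aut T` are 2-generated. -/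
theorem cos2_of_out_two (h2 : TwoGen T) (h : Nat.card (Cfsg.Out T) = 2) (h3 : TwoGen (MulAut T)) : Cos2 T := by
  refine cos2_of_twoGen fun A hA _ => ?_
  have : Finite (MulAut T) := Finite.of_injective (fun f : MulAut T => (f : T → T)) DFunLike.coe_injective
  have h4 : (MulAut.conj : T →* MulAut T).range.index = 2 := h
  have h5 := Subgroup.relIndex_mul_index hA
  rw [h4] at h5
  have h6 : A.index = 1 ∨ A.index = 2 := (Nat.dvd_prime Nat.prime_two).1 ⟨_, by rw [mul_comm]; exact h5.symm⟩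
  rcases h6 with h6 | h6
  · have h7 := Subgroup.index_eq_one.1 h6
    subst h7
    exact TwoGen.of_equiv Subgroup.topEquiv.symm h3
  · have h7 : (MulAut.conj : T →* MulAut T).range.relIndex A = 1 := by
      rw [h6] at h5
      omega
    have h8 : A = (MulAut.conj : T →* MulAut T).range := le_antisymm (Subgroup.relIndex_eq_one.1 h7) hA
    subst h8
    exact TwoGen.of_surjective (MulAut.conj : T →* MulAut T).rangeRestrict
      (MulAut.conj : T →* MulAut T).rangeRestrict_surjective h2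

end Cos

end Cfsg.Agent.H891.DG.Nielsen

private theorem dce_46a82c0652aa : _root_.True := by
  try have : _root_.True := by simp only [_root_.Cfsg.Agent.H891.DG.Nielsen.ins.eq_1]
  try have : _root_.True := by simp only [_root_.Cfsg.Agent.H891.DG.Nielsen.prs.eq_1]
  exact _root_.True.intro
end

-- part: H172/DG/PslRow_mg
section
prune_inst 0x11003564100010000000850450001c429200049000088000c00000440480ac0200400860802000101000000400310060130c0080420000000e000400011800800080000020000000000000000080000000000000000000000000000000000000200000000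
set_option linter.all false
open scoped Cfsg.Agent.FastGrp

-- part: H172/DG/Mono
section
/-!
# TEAM GEN, S4180, row `PSL_n(q)` of `Cos2`: inverse transpose on `GL`, monomial matrices, the trick (helper172)
-/

set_option autoImplicit false

namespace Cfsg.Agent.H172.DG

open Matrix Cfsg.Agent.H891.Gen Cfsg.Agent.H99.GenSL
open scoped Fin.NatCast Fin.CommRing

section Itg

variable {ι F : Type*} [Fintype ι] [DecidableEq ι] [Field F]

/-- inverse transpose on `GL` -/
def itg (A : GL ι F) : GL ι F where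
  val := ((A⁻¹ : GL ι F) : Matrix ι ι F)ᵀ
  inv := (A : Matrix ι ι F)ᵀ
  val_inv := by rw [← transpose_mul, ← Units.val_mul, mul_inv_cancel, Units.val_one, transpose_one]
  inv_val := by rw [← transpose_mul, ← Units.val_mul, inv_mul_cancel, Units.val_one, transpose_one]

theorem itg_itg (A : GL ι F) : itg (itg A) = A := by
  apply Units.ext
  show ((A : Matrix ι ι F)ᵀ)ᵀ = A
  exact transpose_transpose _

theorem itg_tv {i j : ι} (hij : i ≠ j) (s : F) : itg (tv hij s) = tv hij.symm (-s) := by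
  apply Units.ext
  show (((tv hij s)⁻¹ : GL ι F) : Matrix ι ι F)ᵀ = _
  rw [tv_inv, coe_tv, coe_tv, transpose_add, transpose_one, transpose_single]

theorem itg_dg (c : ι → Fˣ) : itg (dg c) = dg c⁻¹ := by
  apply Units.ext
  show (diagonal fun i => (((c i)⁻¹ : Fˣ) : F) : Matrix ι ι F)ᵀ = diagonal _
  rw [diagonal_transpose]
  rfl

theorem det_itg (A : GL ι F) : GeneralLinearGroup.det (itg A) = (GeneralLinearGroup.det A)⁻¹ := by
  apply Units.ext
  show (((A⁻¹ : GL ι F) : Matrix ι ι F)ᵀ).det = _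
  rw [det_transpose, ← map_inv]
  rfl

theorem itg_map (σ : F →+* F) (A : GL ι F) :
    itg (GeneralLinearGroup.map σ A) = GeneralLinearGroup.map σ (itg A) := by
  apply Units.ext
  ext i j
  show (((GeneralLinearGroup.map σ A)⁻¹ : GL ι F) : Matrix ι ι F) j i = _
  rw [← map_inv]
  rfl

theorem mono_mul {M N : GL ι F} {τ ρ : Equiv.Perm ι} {c e : ι → Fˣ} (hM : Mono M τ c) (hN : Mono N ρ e) :
    Mono (M * N) (τ * ρ) (fun b => c (ρ b) * e b) := by
  intro a b
  rw [GeneralLinearGroup.coe_mul, Matrix.mul_apply, Finset.sum_eq_single (ρ b)]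
  · rw [hM, hN, if_pos rfl, Equiv.Perm.mul_apply]
    by_cases h : a = τ (ρ b)
    · rw [if_pos h, if_pos h, Units.val_mul]
    · rw [if_neg h, if_neg h, zero_mul]
  · intro k _ hk
    rw [hN, if_neg hk, mul_zero]
  · intro h
    exact absurd (Finset.mem_univ _) h

theorem mono_itg {M : GL ι F} {τ : Equiv.Perm ι} {c : ι → Fˣ} (hM : Mono M τ c) : Mono (itg M) τ c⁻¹ := by
  obtain ⟨X, hX⟩ := exists_mono (F := F) τ c⁻¹
  have h1 : (X : Matrix ι ι F) * (M : Matrix ι ι F)ᵀ = 1 := by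
    ext a b
    rw [Matrix.mul_apply, Finset.sum_eq_single (τ.symm a)]
    · rw [transpose_apply, hX, hM, Equiv.apply_symm_apply, if_pos rfl, one_apply]
      by_cases h : a = b
      · rw [if_pos h, if_pos h.symm, Pi.inv_apply]
        exact (c _).inv_mul
      · rw [if_neg h, if_neg (fun e => h e.symm), mul_zero]
    · intro k _ hk
      rw [hX, if_neg (fun e => hk (by rw [e, Equiv.symm_apply_apply])), zero_mul]
    · intro h
      exact absurd (Finset.mem_univ _) h
  have h2 : X = itg M := by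
    apply Units.ext
    have h3 : (M : Matrix ι ι F)ᵀ * (itg M : Matrix ι ι F) = 1 := (itg M).inv_val
    calc (X : Matrix ι ι F) = X * ((M : Matrix ι ι F)ᵀ * (itg M : Matrix ι ι F)) := by rw [h3, mul_one]
      _ = (itg M : Matrix ι ι F) := by rw [← mul_assoc, h1, one_mul]
  rw [← h2]
  exact hX

theorem eq_dg_of_mono {M : GL ι F} {c : ι → Fˣ} (hM : Mono M 1 c) : M = dg c := by
  apply Units.ext
  ext a b
  rw [hM]
  show _ = diagonal _ a b
  rw [diagonal_apply, Equiv.Perm.one_apply]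
  by_cases h : a = b
  · rw [if_pos h, if_pos h, h]
  · rw [if_neg h, if_neg h]

/-- a monomial matrix with given permutation, given coefficients outside `i₀` and given determinant -/
theorem exists_mono_det (τ : Equiv.Perm ι) (c : ι → Fˣ) (i₀ : ι) (δ : Fˣ) :
    ∃ (m : ι → Fˣ) (M : GL ι F), Mono M τ m ∧ (∀ i, i ≠ i₀ → m i = c i) ∧ GeneralLinearGroup.det M = δ := by
  obtain ⟨W, hW⟩ := exists_mono (F := F) τ c
  refine ⟨_, _, mono_mul_dg hW (Pi.mulSingle i₀ ((GeneralLinearGroup.det W)⁻¹ * δ)), ?_, ?_⟩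
  · intro i hi
    rw [Pi.mul_apply, Pi.mulSingle_eq_of_ne hi, mul_one]
  · rw [map_mul, det_dg, Finset.prod_pi_mulSingle', if_pos (Finset.mem_univ _), mul_inv_cancel_left]

end Itg

/-! ### the trick -/

section Trick

variable {ι F : Type*} [Fintype ι] [DecidableEq ι] [Field F] {Γ : Type*} [Group Γ]

/-- the root group `X_{ab}` in `Γ` -/
def R (j : GL ι F →* Γ) {a b : ι} (hab : a ≠ b) : Subgroup Γ where
  carrier := {g | ∃ s : F, g = j (tv hab s)}
  mul_mem' := by
    rintro _ _ ⟨s, rfl⟩ ⟨t, rfl⟩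
    exact ⟨s + t, by rw [← map_mul, tv_mul]⟩
  one_mem' := ⟨0, by rw [tv_zero, map_one]⟩
  inv_mem' := by
    rintro _ ⟨s, rfl⟩
    exact ⟨-s, by rw [← map_inv, tv_inv]⟩

theorem R_irr [Finite F] (j : GL ι F →* Γ) {a b : ι} (hab : a ≠ b) {h : Γ} {α : F} {z : Fˣ}
    (hz : ∀ u : Fˣ, u ∈ Subgroup.zpowers z) (ha : α = z ∨ α = (z : F) ^ 2)
    (hc : ∀ s : F, h * j (tv hab s) * h⁻¹ = j (tv hab (α * s)))
    (Y : Subgroup Γ) (hY : Y ≤ R j hab) (hhY : ∀ y ∈ Y, h * y * h⁻¹ ∈ Y) : Y = ⊥ ∨ Y = R j hab := by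
  let A : AddSubgroup F :=
    { carrier := {s | j (tv hab s) ∈ Y}
      add_mem' := by
        intro s t hs ht
        have := Y.mul_mem hs ht
        rwa [← map_mul, tv_mul] at this
      zero_mem' := by
        change j (tv hab (0 : F)) ∈ Y
        rw [tv_zero, map_one]
        exact Y.one_mem
      neg_mem' := by
        intro s hs
        have h1 := Y.inv_mem hs
        rwa [← map_inv, tv_inv] at h1 }
  have hA : ∀ s, s ∈ A ↔ j (tv hab s) ∈ Y := fun s => Iff.rfl
  have hcl : ∀ s ∈ A, α * s ∈ A := by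
    intro s hs
    rw [hA] at hs ⊢
    rw [← hc]
    exact hhY _ hs
  rcases Cfsg.Agent.H136.FieldLem.eq_bot_or_top hz A (fun s hs => by
    rcases ha with ha | ha
    · have h1 := hcl _ (hcl s hs)
      rwa [ha, ← mul_assoc, ← pow_two] at h1
    · have h1 := hcl s hs
      rwa [ha] at h1) with h1 | h1
  · left
    rw [eq_bot_iff]
    intro y hy
    obtain ⟨s, rfl⟩ := hY hy
    have h2 : s ∈ A := hy
    rw [h1, AddSubgroup.mem_bot] at h2
    rw [h2, tv_zero, map_one]
    exact Subgroup.mem_bot.2 rfl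
  · right
    refine le_antisymm hY ?_
    rintro _ ⟨s, rfl⟩
    have h2 : s ∈ A := by rw [h1]; exact AddSubgroup.mem_top _
    exact h2

theorem inj_of {j : GL ι F →* Γ} {a b : ι} {hab : a ≠ b} (hj : ∀ s : F, j (tv hab s) = 1 → s = 0) {s t : F}
    (hst : j (tv hab s) = j (tv hab t)) : s = t := by
  have h1 : j (tv hab (s - t)) = 1 := by
    rw [sub_eq_add_neg, ← tv_mul, ← tv_inv, map_mul, hst, map_inv, mul_inv_cancel]
  exact sub_eq_zero.1 (hj _ h1)

/-- The trick: `M₀ ∋ h = diag c`, `x_{ab}(1) w`, and `w h w⁻¹ = diag c'`. -/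
theorem trick [Finite F] {j : GL ι F →* Γ} {a b : ι} (hab : a ≠ b) (hj : ∀ s : F, j (tv hab s) = 1 → s = 0)
    (M₀ : Subgroup Γ) {w : Γ} {c c' : ι → Fˣ} {z : Fˣ} (hz : ∀ u : Fˣ, u ∈ Subgroup.zpowers z)
    (hw : w * j (dg c) * w⁻¹ = j (dg c')) (hc : c a = c b * z ∨ c a = c b * z ^ 2) (hc1 : c a ≠ c b)
    (hc' : c' a ≠ c' b) (h1 : j (dg c) ∈ M₀) (h2 : j (tv hab 1) * w ∈ M₀) :
    (∀ s, j (tv hab s) ∈ M₀) ∧ w ∈ M₀ := by
  have hconj : ∀ s : F, j (dg c) * j (tv hab s) * (j (dg c))⁻¹ =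
      j (tv hab ((c a : F) * ((c b)⁻¹ : Fˣ) * s)) := by
    intro s
    rw [← map_mul, ← map_inv, ← map_mul, conj_dg_tv]
    congr 2
    ring
  have hconj' : ∀ s : F, j (dg c') * j (tv hab s) * (j (dg c'))⁻¹ =
      j (tv hab ((c' a : F) * s * ((c' b)⁻¹ : Fˣ))) := by
    intro s
    rw [← map_mul, ← map_inv, ← map_mul, conj_dg_tv]
  have ha : (c a : F) * ((c b)⁻¹ : Fˣ) = z ∨ (c a : F) * ((c b)⁻¹ : Fˣ) = (z : F) ^ 2 := by
    rcases hc with h3 | h3
    · left
      rw [h3, ← Units.val_mul, mul_comm (c b), mul_inv_cancel_right]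
    · right
      rw [h3, ← Units.val_mul, mul_comm (c b), mul_inv_cancel_right, Units.val_pow_eq_pow_val]
  have ha1 : (c a : F) * ((c b)⁻¹ : Fˣ) ≠ 1 := by
    rw [← Units.val_mul]
    intro e
    apply hc1
    have h3 : c a * (c b)⁻¹ = 1 := Units.ext e
    rw [mul_inv_eq_one] at h3
    exact h3
  have key := Cfsg.Agent.H136.TwoGen.torus_trick M₀ (R j hab) (h := j (dg c)) (w := w) (u := j (tv hab 1)) h1 h2
    ⟨1, rfl⟩
    (by
      rintro _ ⟨s, rfl⟩
      rw [hw]
      exact ⟨_, hconj' s⟩)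
    (by
      rintro _ ⟨s, rfl⟩
      rw [hw]
      refine ⟨((c' a)⁻¹ : Fˣ) * s * (c' b), ?_⟩
      have h3 := hconj' (((c' a)⁻¹ : Fˣ) * s * (c' b))
      have h4 : (c' a : F) * (((c' a)⁻¹ : Fˣ) * s * (c' b)) * ((c' b)⁻¹ : Fˣ) = s := by
        rw [← mul_assoc, ← mul_assoc, Units.mul_inv, one_mul, Units.mul_inv_cancel_right]
      rw [h4] at h3
      rw [← h3]
      group)
    (fun Y hY hhY => R_irr j hab hz ha hconj Y hY hhY)
    ⟨j (tv hab 1), ⟨1, rfl⟩, by
      intro e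
      have h3 := hconj 1
      rw [e, mul_inv_cancel_right] at h3
      have h4 := inj_of hj h3
      rw [mul_one] at h4
      exact ha1 h4.symm⟩
    (by
      rintro _ ⟨s, rfl⟩
      exact ⟨_, hconj s⟩)
    (by
      rw [hw, ← map_mul, ← map_mul, dg_comm])
    (by
      rw [hw]
      intro e
      have h3 := hconj' 1
      rw [e, mul_inv_cancel_right] at h3
      have h4 := inj_of hj h3
      rw [mul_one, ← Units.val_mul] at h4
      apply hc'
      rw [← mul_inv_eq_one]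
      exact (Units.ext h4).symm)
  exact ⟨fun s => key.1 ⟨s, rfl⟩, key.2⟩

end Trick

end Cfsg.Agent.H172.DG
end

-- part: H172/DG/Graph
section
/-!
# TEAM GEN, S4180, row `PSL_n(q)` of `Cos2`: the lifts with the graph automorphism (helper172)
-/

set_option autoImplicit false

namespace Cfsg.Agent.H172.DG

open Matrix Cfsg.Agent.H891.Gen Cfsg.Agent.H99.GenSL
open scoped Fin.NatCast Fin.CommRing commutatorElement

/-- steps of length two suffice in a cycle of odd length -/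
theorem iter_two {k : ℕ} (hk : Even k) (P : Fin (k + 1) → Prop) (h : ∀ i, P i → P (i + 1 + 1)) :
    ∀ i, P i → P (i + 1) := by
  intro i hi
  have h1 : ∀ m : ℕ, P (i + ((2 * m : ℕ) : Fin (k + 1))) := by
    intro m
    induction m with
    | zero => simpa using hi
    | succ m ih =>
      have h2 := h _ ih
      have h3 : i + ((2 * m : ℕ) : Fin (k + 1)) + 1 + 1 = i + ((2 * (m + 1) : ℕ) : Fin (k + 1)) := by
        rw [show 2 * (m + 1) = 2 * m + 1 + 1 by ring, Nat.cast_succ, Nat.cast_succ, ← add_assoc, ← add_assoc]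
      rwa [h3] at h2
  obtain ⟨l, hl⟩ := hk
  have h2 := h1 (l + 1)
  have h3 : ((2 * (l + 1) : ℕ) : Fin (k + 1)) = 1 := by
    rw [show 2 * (l + 1) = (k + 1) + 1 by omega, Nat.cast_add, Nat.cast_one]
    have h4 : ((k + 1 : ℕ) : Fin (k + 1)) = 0 := by
      apply Fin.ext
      rw [Fin.val_natCast, Nat.mod_self]
      rfl
    rw [h4, zero_add]
  rwa [h3] at h2

/-- all of a cycle -/
theorem iter_all {k : ℕ} (P : Fin (k + 1) → Prop) (h : ∀ i, P i → P (i + 1)) (h0 : P 0) : ∀ i, P i := by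
  have h1 : ∀ m : ℕ, P ((m : ℕ) : Fin (k + 1)) := by
    intro m
    induction m with
    | zero => simpa using h0
    | succ m ih =>
      rw [Nat.cast_succ]
      exact h _ ih
  intro i
  have h2 := h1 (i : ℕ)
  rwa [Fin.cast_val_eq_self] at h2

section Step

variable {ι F : Type*} [Fintype ι] [DecidableEq ι] [Field F] {Γ : Type*} [Group Γ]
  {j : GL ι F →* Γ} {σ : F ≃+* F} {f : Γ}

theorem conj_w (hf : ∀ A, f * j A * f⁻¹ = j (itg (GeneralLinearGroup.map (σ : F →+* F) A))) (M A : GL ι F) :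
    (j M * f) * j A * (j M * f)⁻¹ = j (M * itg (GeneralLinearGroup.map (σ : F →+* F) A) * M⁻¹) := by
  rw [map_mul, map_mul, map_inv, ← hf]
  group

/-- `w` maps `X_{ik}` onto `X_{τ k, τ i}` -/
theorem step (hf : ∀ A, f * j A * f⁻¹ = j (itg (GeneralLinearGroup.map (σ : F →+* F) A)))
    {M : GL ι F} {τ : Equiv.Perm ι} {m : ι → Fˣ} (hM : Mono M τ m) (M₀ : Subgroup Γ) (hw : j M * f ∈ M₀)
    {i k i' k' : ι} (h : i ≠ k) (h' : k' ≠ i') (hi : τ i = i') (hk : τ k = k')
    (hX : ∀ s : F, j (tv h s) ∈ M₀) : ∀ s : F, j (tv h' s) ∈ M₀ := by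
  subst hi
  subst hk
  intro s
  have h2 := hX (σ.symm (-(((m k)⁻¹ : Fˣ) * s * (m i : F))))
  have h3 := M₀.mul_mem (M₀.mul_mem hw h2) (M₀.inv_mem hw)
  rw [conj_w hf, map_tv, itg_tv, conj_tv hM] at h3
  have e1 := (m i).ne_zero
  have e2 := (m k).ne_zero
  have h4 : (m k : F) * (-((σ : F →+* F) (σ.symm (-(((m k)⁻¹ : Fˣ) * s * (m i : F)))))) * ((m i)⁻¹ : Fˣ) = s := by
    show (m k : F) * (-(σ (σ.symm _))) * _ = s
    rw [RingEquiv.apply_symm_apply, neg_neg, Units.val_inv_eq_inv_val, Units.val_inv_eq_inv_val]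
    field_simp
  rw [h4] at h3
  exact h3

end Step

section Gen

variable {F : Type*} [Field F] {Γ : Type*} [Group Γ] {σ : F ≃+* F} {f : Γ}

/-- generation in odd dimension -/
theorem range_le_odd {n : ℕ} (hn : 1 ≤ n) (he : Even n) {j : GL (Fin (n + 1)) F →* Γ}
    (hf : ∀ A, f * j A * f⁻¹ = j (itg (GeneralLinearGroup.map (σ : F →+* F) A)))
    {M : GL (Fin (n + 1)) F} {m : Fin (n + 1) → Fˣ} (hM : Mono M (cyc n) m) (M₀ : Subgroup Γ)
    (hX : ∀ s : F, j (tv (ne_succ hn 0) s) ∈ M₀) (hw : j M * f ∈ M₀) :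
    (j.comp SpecialLinearGroup.toGL).range ≤ M₀ := by
  have h1 : M₀.comap (j.comp SpecialLinearGroup.toGL) = ⊤ := by
    refine eq_top_of_step hn _ hX ?_
    refine iter_two he (fun i => ∀ a : F, Matrix.SpecialLinearGroup.transvection (ne_succ hn i) a ∈
      M₀.comap (j.comp SpecialLinearGroup.toGL)) ?_
    intro i hi
    have h2 : ∀ s : F, j (tv (ne_succ hn i) s) ∈ M₀ := hi
    have h3 := step hf hM M₀ hw (ne_succ hn i) (ne_succ hn (i + 1)).symm rfl rfl h2
    have h4 := step hf hM M₀ hw _ (ne_succ hn (i + 1 + 1)) rfl rfl h3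
    exact h4
  rintro _ ⟨A, rfl⟩
  have h2 : A ∈ M₀.comap (j.comp SpecialLinearGroup.toGL) := by rw [h1]; trivial
  exact h2

/-- the cycle of length `k + 1` on the nonzero indices -/
def cyc' (k : ℕ) : Equiv.Perm (Fin (k + 1 + 1)) := Equiv.Perm.decomposeFin.symm (0, cyc k)

theorem cyc'_zero (k : ℕ) : cyc' k 0 = 0 := by
  unfold cyc'
  rw [Equiv.Perm.decomposeFin_symm_apply_zero]

theorem cyc'_succ (k : ℕ) (i : Fin (k + 1)) : cyc' k i.succ = (i + 1).succ := by
  unfold cyc'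
  rw [Equiv.Perm.decomposeFin_symm_apply_succ, Equiv.swap_self, Equiv.refl_apply]
  rfl

/-- generation in even dimension -/
theorem range_le_even {k : ℕ} (he : Even k) {j : GL (Fin (k + 1 + 1)) F →* Γ}
    (hf : ∀ A, f * j A * f⁻¹ = j (itg (GeneralLinearGroup.map (σ : F →+* F) A)))
    {M : GL (Fin (k + 1 + 1)) F} {m : Fin (k + 1 + 1) → Fˣ} (hM : Mono M (cyc' k) m) (M₀ : Subgroup Γ)
    (hX : ∀ s : F, j (tv (Fin.succ_ne_zero (0 : Fin (k + 1))) s) ∈ M₀) (hw : j M * f ∈ M₀) :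
    (j.comp SpecialLinearGroup.toGL).range ≤ M₀ := by
  have hPQ : ∀ i : Fin (k + 1), (∀ s : F, j (tv (Fin.succ_ne_zero i) s) ∈ M₀) →
      ∀ s : F, j (tv (Fin.succ_ne_zero (i + 1)).symm s) ∈ M₀ := fun i hi =>
    step hf hM M₀ hw _ _ (cyc'_succ k i) (cyc'_zero k) hi
  have hQP : ∀ i : Fin (k + 1), (∀ s : F, j (tv (Fin.succ_ne_zero i).symm s) ∈ M₀) →
      ∀ s : F, j (tv (Fin.succ_ne_zero (i + 1)) s) ∈ M₀ := fun i hi =>
    step hf hM M₀ hw _ _ (cyc'_zero k) (cyc'_succ k i) hi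
  have hP : ∀ i : Fin (k + 1), ∀ s : F, j (tv (Fin.succ_ne_zero i) s) ∈ M₀ := by
    refine iter_all _ (iter_two he _ ?_) hX
    intro i hi
    exact hQP _ (hPQ i hi)
  have hQ : ∀ i : Fin (k + 1), ∀ s : F, j (tv (Fin.succ_ne_zero i).symm s) ∈ M₀ := by
    intro i
    have h1 := hPQ (i - 1) (hP _)
    rwa [sub_add_cancel] at h1
  have hall : ∀ (a b : Fin (k + 1 + 1)) (h : a ≠ b) (s : F), j (tv h s) ∈ M₀ := by
    intro a b h s
    induction a using Fin.cases with
    | zero =>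
      induction b using Fin.cases with
      | zero => exact absurd rfl h
      | succ b => exact hQ b s
    | succ a =>
      induction b using Fin.cases with
      | zero => exact hP a s
      | succ b =>
        have h6 := Cfsg.Agent.LieClassical.SLGen.commutator_transvection h (Fin.succ_ne_zero a)
          (Fin.succ_ne_zero b).symm s (1 : F)
        rw [mul_one] at h6
        have h7 : j (tv h s) = ⁅j (tv (Fin.succ_ne_zero a) s), j (tv (Fin.succ_ne_zero b).symm 1)⁆ := by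
          show j (SpecialLinearGroup.toGL (SpecialLinearGroup.transvection h s)) = _
          rw [← h6, map_commutatorElement, map_commutatorElement]
          rfl
        rw [h7, commutatorElement_def]
        have h4 := hP a s
        have h5 := hQ b 1
        exact M₀.mul_mem (M₀.mul_mem (M₀.mul_mem h4 h5) (M₀.inv_mem h4)) (M₀.inv_mem h5)
  have h1 : M₀.comap (j.comp SpecialLinearGroup.toGL) = ⊤ := by
    rw [eq_top_iff, ← Cfsg.Agent.LieClassical.SLGen.closure_transvections, Subgroup.closure_le]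
    rintro _ ⟨a, b, hab, c, rfl⟩
    exact hall a b hab c
  rintro _ ⟨A, rfl⟩
  have h2 : A ∈ M₀.comap (j.comp SpecialLinearGroup.toGL) := by rw [h1]; trivial
  exact h2

end Gen

/-! ### the lifts -/

section Lift

variable {F : Type*} [Field F] {Γ : Type*} [Group Γ] {σ : F ≃+* F} {f : Γ}

/-- diagonal entries with prescribed product in even dimension -/
theorem exists_diag_even [Fintype F] {k : ℕ} (hk : 2 ≤ k) (hF : 3 ≤ Fintype.card F) (δ : Fˣ) :
    ∃ (c : Fin (k + 1 + 1) → Fˣ) (z : Fˣ), (∀ u : Fˣ, u ∈ Subgroup.zpowers z) ∧ ∏ i, c i = δ ∧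
      (c 1 = c 0 * z) ∧ c 1 ≠ c 0 ∧ c (Fin.last (k + 1)) ≠ c 0 := by
  classical
  obtain ⟨z, hz⟩ := exists_gen (F := F)
  have ho := orderOf_gen hz
  have hz1 : z ≠ 1 := by
    intro e
    rw [← orderOf_eq_one_iff] at e
    omega
  obtain ⟨k, rfl⟩ : ∃ m, k = m + 2 := ⟨k - 2, by omega⟩
  have h01 : (0 : Fin (k + 2 + 1 + 1)) ≠ 1 := Fin.zero_ne_one
  have h0l : (0 : Fin (k + 2 + 1 + 1)) ≠ Fin.last _ := by
    intro e
    have := congrArg Fin.val e
    simp at this
  have h02 : (0 : Fin (k + 2 + 1 + 1)) ≠ (⟨2, by omega⟩ : Fin (k + 2 + 1 + 1)) := by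
    intro e
    have := congrArg Fin.val e
    simp at this
  have h12 : (1 : Fin (k + 2 + 1 + 1)) ≠ (⟨2, by omega⟩ : Fin (k + 2 + 1 + 1)) := by
    intro e
    have := congrArg Fin.val e
    simp at this
  have h1l : (1 : Fin (k + 2 + 1 + 1)) ≠ Fin.last _ := by
    intro e
    have := congrArg Fin.val e
    simp at this
  have h2l : (⟨2, by omega⟩ : Fin (k + 2 + 1 + 1)) ≠ Fin.last _ := by
    intro e
    have := congrArg Fin.val e
    simp at this
  refine ⟨Pi.mulSingle 1 z * Pi.mulSingle (Fin.last _) z *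
    Pi.mulSingle (⟨2, by omega⟩ : Fin (k + 2 + 1 + 1)) (δ * (z * z)⁻¹), z, hz, ?_, ?_, ?_, ?_⟩
  · simp only [Pi.mul_apply, Finset.prod_mul_distrib, Finset.prod_pi_mulSingle', Finset.mem_univ, if_true]
    rw [mul_comm, inv_mul_cancel_right]
  · simp only [Pi.mul_apply, Pi.mulSingle_eq_same, Pi.mulSingle_eq_of_ne h01, Pi.mulSingle_eq_of_ne h0l,
      Pi.mulSingle_eq_of_ne h02, Pi.mulSingle_eq_of_ne h1l, Pi.mulSingle_eq_of_ne h12, mul_one, one_mul]
  · simp only [Pi.mul_apply, Pi.mulSingle_eq_same, Pi.mulSingle_eq_of_ne h01, Pi.mulSingle_eq_of_ne h0l,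
      Pi.mulSingle_eq_of_ne h02, Pi.mulSingle_eq_of_ne h1l, Pi.mulSingle_eq_of_ne h12, mul_one]
    exact hz1
  · simp only [Pi.mul_apply, Pi.mulSingle_eq_same, Pi.mulSingle_eq_of_ne h01, Pi.mulSingle_eq_of_ne h0l,
      Pi.mulSingle_eq_of_ne h02, Pi.mulSingle_eq_of_ne h1l.symm, Pi.mulSingle_eq_of_ne h2l.symm, mul_one, one_mul]
    exact hz1

theorem det_tv {ι : Type*} [Fintype ι] [DecidableEq ι] {a b : ι} (h : a ≠ b) (s : F) :
    GeneralLinearGroup.det (tv h s) = 1 := by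
  apply Units.ext
  exact Matrix.det_transvection_of_ne _ _ h s

theorem two_elements [Fintype F] (hF : Fintype.card F < 3) (s : F) : s = 0 ∨ s = 1 := by
  by_contra hcon
  push Not at hcon
  classical
  have h3 : ({0, 1, s} : Finset F).card ≤ Fintype.card F := Finset.card_le_univ _
  rw [Finset.card_insert_of_notMem, Finset.card_insert_of_notMem, Finset.card_singleton] at h3
  · omega
  · rw [Finset.mem_singleton]
    exact fun e => hcon.2 e.symm
  · simp only [Finset.mem_insert, Finset.mem_singleton, not_or]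
    exact ⟨zero_ne_one, fun e => hcon.1 e.symm⟩

/-- the general form of the lift (case `x ∈ PGL`, `y` a graph automorphism), given a root group, a permutation and the
diagonal element -/
theorem lift_graph_of [Fintype F] {n : ℕ} {j : GL (Fin (n + 1)) F →* Γ}
    (hf : ∀ A, f * j A * f⁻¹ = j (itg (GeneralLinearGroup.map (σ : F →+* F) A)))
    {a b : Fin (n + 1)} (hab : a ≠ b) (hj : ∀ s : F, j (tv hab s) = 1 → s = 0) (τ : Equiv.Perm (Fin (n + 1)))
    (hgen : ∀ (M : GL (Fin (n + 1)) F) (m : Fin (n + 1) → Fˣ), Mono M τ m → ∀ M₀ : Subgroup Γ,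
      (∀ s : F, j (tv hab s) ∈ M₀) → j M * f ∈ M₀ → (j.comp SpecialLinearGroup.toGL).range ≤ M₀)
    (A B : GL (Fin (n + 1)) F)
    (hdiag : 3 ≤ Fintype.card F → ∃ (c : Fin (n + 1) → Fˣ) (z : Fˣ), (∀ u : Fˣ, u ∈ Subgroup.zpowers z) ∧
      ∏ i, c i = GeneralLinearGroup.det A ∧ (c a = c b * z ∨ c a = c b * z ^ 2) ∧ c a ≠ c b ∧
        c (τ.symm a) ≠ c (τ.symm b)) :
    Lift (j.comp SpecialLinearGroup.toGL).range (j A) (j B * f) := by
  obtain ⟨m, M, hM, -, hMd⟩ := exists_mono_det τ (fun _ => 1) 0 (GeneralLinearGroup.det B)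
  have hnorm : ∀ C : GL (Fin (n + 1)) F, GeneralLinearGroup.det C = 1 →
      f⁻¹ * j C * f ∈ (j.comp SpecialLinearGroup.toGL).range := by
    intro C hC
    have h3 := hf (GeneralLinearGroup.map (σ.symm : F →+* F) (itg C))
    have h4 : itg (GeneralLinearGroup.map (σ : F →+* F) (GeneralLinearGroup.map (σ.symm : F →+* F) (itg C))) = C := by
      have h5 : GeneralLinearGroup.map (σ : F →+* F) (GeneralLinearGroup.map (σ.symm : F →+* F) (itg C)) = itg C := by
        apply Units.ext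
        ext a b
        rw [GeneralLinearGroup.map_apply, GeneralLinearGroup.map_apply]
        exact σ.apply_symm_apply _
      rw [h5, itg_itg]
    rw [h4] at h3
    have h5 : f⁻¹ * j C * f = j (GeneralLinearGroup.map (σ.symm : F →+* F) (itg C)) := by
      rw [← h3]
      group
    rw [h5]
    apply mem_range
    rw [GeneralLinearGroup.map_det, det_itg, hC, inv_one]
    exact map_one _
  have hy : ∀ u : GL (Fin (n + 1)) F, GeneralLinearGroup.det u = 1 →
      (j B * f)⁻¹ * (j u * (j M * f)) ∈ (j.comp SpecialLinearGroup.toGL).range := by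
    intro u hu
    have h3 : (j B * f)⁻¹ * (j u * (j M * f)) = f⁻¹ * j (B⁻¹ * u * M) * f := by
      rw [map_mul, map_mul, map_inv]
      group
    rw [h3]
    apply hnorm
    rw [map_mul, map_mul, map_inv, hu, mul_one, hMd, inv_mul_cancel]
  rcases Nat.lt_or_ge (Fintype.card F) 3 with hF | hF
  · -- `|F| = 2`
    have hA : GeneralLinearGroup.det A = 1 := by
      apply Units.ext
      rcases two_elements hF (GeneralLinearGroup.det A : Fˣ) with h3 | h3
      · exact absurd h3 (Units.ne_zero _)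
      · exact h3
    refine lift_of (x' := j (tv hab 1)) (y' := j 1 * (j M * f)) ?_ (hy 1 (map_one _)) ?_
    · rw [← map_inv, ← map_mul]
      apply mem_range
      rw [map_mul, map_inv, hA, det_tv, inv_one, one_mul]
    · refine hgen M m hM _ ?_ ?_
      · intro s
        rcases two_elements hF s with rfl | rfl
        · rw [tv_zero, map_one]
          exact Subgroup.one_mem _
        · exact Subgroup.subset_closure (by simp)
      · rw [map_one, one_mul]
        exact Subgroup.subset_closure (by simp)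
  · obtain ⟨c, z, hz, hcd, hc, hc1, hc2⟩ := hdiag hF
    refine lift_of (x' := j (dg c)) (y' := j (tv hab 1) * (j M * f)) ?_ (hy _ (det_tv _ _)) ?_
    · rw [← map_inv, ← map_mul]
      apply mem_range
      rw [map_mul, map_inv, det_dg, hcd, inv_mul_cancel]
    · have hw : (j M * f) * j (dg c) * (j M * f)⁻¹ =
          j (dg fun i => ((fun i => Units.map ((σ : F →+* F) : F →* F) (c i))⁻¹ : Fin (n + 1) → Fˣ) (τ.symm i)) := by
        rw [conj_w hf, map_dg, itg_dg, conj_dg hM]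
      have key := trick hab hj (Subgroup.closure ({j (dg c), j (tv hab 1) * (j M * f)} : Set Γ)) hz hw hc hc1 (by
          intro e
          apply hc2
          have h5 : Units.map ((σ : F →+* F) : F →* F) (c (τ.symm a)) =
              Units.map ((σ : F →+* F) : F →* F) (c (τ.symm b)) := inv_injective e
          have h6 := congrArg Units.val h5
          exact Units.ext (σ.injective h6))
        (Subgroup.subset_closure (by simp)) (Subgroup.subset_closure (by simp))
      exact hgen M m hM _ key.1 key.2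

/-- **case 2**: `x ∈ PGL`, `y` a graph automorphism -/
theorem lift_graph [Fintype F] {n : ℕ} (hn : 2 ≤ n) {j : GL (Fin (n + 1)) F →* Γ}
    (hf : ∀ A, f * j A * f⁻¹ = j (itg (GeneralLinearGroup.map (σ : F →+* F) A)))
    (hj : ∀ (a b : Fin (n + 1)) (hab : a ≠ b) (s : F), j (tv hab s) = 1 → s = 0)
    (A B : GL (Fin (n + 1)) F) : Lift (j.comp SpecialLinearGroup.toGL).range (j A) (j B * f) := by
  rcases Nat.even_or_odd n with he | ho
  · have hn1 : 1 ≤ n := by omega
    refine lift_graph_of hf (ne_succ hn1 0) (hj _ _ _) (cyc n) ?_ A B ?_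
    · intro M m hM M₀ hX hw
      exact range_le_odd hn1 he hf hM M₀ hX hw
    · intro hF
      obtain ⟨c, z, hz, hcd, hc01, hcne, hcl⟩ := exists_diag hn1 hF (by omega) (GeneralLinearGroup.det A)
      refine ⟨c, z, hz, hcd, ?_, ?_, ?_⟩
      · rwa [zero_add]
      · rwa [zero_add]
      · rw [cyc_symm_apply]
        have h3 : (cyc n).symm 0 = Fin.last n := by
          rw [Equiv.symm_apply_eq]
          exact (Fin.last_add_one n).symm
        rwa [h3]
  · obtain ⟨k, rfl⟩ : ∃ k, n = k + 1 := ⟨n - 1, by omega⟩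
    have he : Even k := by
      rcases Nat.even_or_odd k with h | h
      · exact h
      · exact absurd ho (by rw [Nat.not_odd_iff_even]; exact h.add_one)
    have hk2 : 2 ≤ k := by
      obtain ⟨l, hl⟩ := he
      omega
    refine lift_graph_of hf (Fin.succ_ne_zero (0 : Fin (k + 1))) (hj _ _ _) (cyc' k) ?_ A B ?_
    · intro M m hM M₀ hX hw
      exact range_le_even he hf hM M₀ hX hw
    · intro hF
      obtain ⟨c, z, hz, hcd, hc01, hcne, hcl⟩ := exists_diag_even hk2 hF (GeneralLinearGroup.det A)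
      refine ⟨c, z, hz, hcd, Or.inl hc01, hcne, ?_⟩
      have h0 : (cyc' k).symm 0 = 0 := by
        rw [Equiv.symm_apply_eq, cyc'_zero]
      have h1 : (cyc' k).symm (Fin.succ 0) = Fin.last (k + 1) := by
        rw [Equiv.symm_apply_eq, ← Fin.succ_last, cyc'_succ, Fin.last_add_one]
      rw [h0, h1]
      exact hcl

/-- **case 3**: `x` a graph automorphism without field part, `y` semilinear -/
theorem lift_graph_left [Fintype F] {n : ℕ} (hn : 2 ≤ n) (hF : 3 ≤ Fintype.card F) {j : GL (Fin (n + 1)) F →* Γ}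
    {g : Γ} (hg : ∀ A, g * j A * g⁻¹ = j (itg A)) (hg2 : g * g = 1)
    (hf : ∀ A, f * j A * f⁻¹ = j (GeneralLinearGroup.map (σ : F →+* F) A))
    (hj : ∀ (a b : Fin (n + 1)) (hab : a ≠ b) (s : F), j (tv hab s) = 1 → s = 0)
    (A B : GL (Fin (n + 1)) F) : Lift (j.comp SpecialLinearGroup.toGL).range (j A * g) (j B * f) := by
  classical
  have hn1 : 1 ≤ n := by omega
  obtain ⟨z, hz⟩ := exists_gen (F := F)
  have ho := orderOf_gen hz
  have hz1 : z ≠ 1 := by
    intro e
    rw [← orderOf_eq_one_iff] at e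
    omega
  obtain ⟨n, rfl⟩ : ∃ l, n = l + 2 := ⟨n - 2, by omega⟩
  have h0l : (0 : Fin (n + 2 + 1)) ≠ Fin.last _ := by
    intro e
    have := congrArg Fin.val e
    simp at this
  have h1l : (1 : Fin (n + 2 + 1)) ≠ Fin.last _ := by
    intro e
    have := congrArg Fin.val e
    simp at this
  have h01 : (0 : Fin (n + 2 + 1)) ≠ 1 := Fin.zero_ne_one
  obtain ⟨y, Y, hY, hy, hYd⟩ := exists_mono_det (Equiv.swap (1 : Fin (n + 2 + 1)) (Fin.last _))
    (Pi.mulSingle (Fin.last (n + 2)) z⁻¹) 0 (GeneralLinearGroup.det A)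
  have hyl : y (Fin.last (n + 2)) = z⁻¹ := by rw [hy _ h0l.symm, Pi.mulSingle_eq_same]
  have hy1 : y 1 = 1 := by rw [hy _ h01.symm, Pi.mulSingle_eq_of_ne h1l]
  obtain ⟨m, M, hM, -, hMd⟩ := exists_mono_det (cyc (n + 2)) (fun _ => 1) 0 (GeneralLinearGroup.det B)
  -- the diagonal element
  set c : Fin (n + 2 + 1) → Fˣ := fun b => y (Equiv.swap (1 : Fin (n + 2 + 1)) (Fin.last _) b) * (y b)⁻¹ with hc
  have hYY : Y * itg Y = dg c := by
    have h1 := mono_mul hY (mono_itg hY)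
    rw [Equiv.swap_mul_self] at h1
    rw [eq_dg_of_mono h1]
    rfl
  have hc0 : c 0 = 1 := by
    rw [hc]
    show y (Equiv.swap (1 : Fin (n + 2 + 1)) (Fin.last _) 0) * (y 0)⁻¹ = 1
    rw [Equiv.swap_apply_of_ne_of_ne h01 h0l, mul_inv_cancel]
  have hc1 : c 1 = z⁻¹ := by
    rw [hc]
    show y (Equiv.swap (1 : Fin (n + 2 + 1)) (Fin.last _) 1) * (y 1)⁻¹ = z⁻¹
    rw [Equiv.swap_apply_left, hyl, hy1, inv_one, mul_one]
  have hcl : c (Fin.last (n + 2)) = z := by
    rw [hc]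
    show y (Equiv.swap (1 : Fin (n + 2 + 1)) (Fin.last _) (Fin.last _)) * (y (Fin.last _))⁻¹ = z
    rw [Equiv.swap_apply_right, hyl, hy1, inv_inv, one_mul]
  refine lift_of (x' := j Y * g) (y' := j (tv (ne_succ hn1 0) 1) * (j M * f)) ?_ ?_ ?_
  · have h3 : (j A * g)⁻¹ * (j Y * g) = j (itg (A⁻¹ * Y)) := by
      rw [← hg, map_mul, map_inv]
      have h4 : g⁻¹ = g := inv_eq_of_mul_eq_one_left hg2
      rw [h4, _root_.mul_inv_rev, h4]
      group
    rw [h3]
    apply mem_range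
    rw [det_itg, map_mul, map_inv, hYd, inv_mul_cancel, inv_one]
  · have h3 : (j B * f)⁻¹ * (j (tv (ne_succ hn1 0) 1) * (j M * f)) = f⁻¹ * j (B⁻¹ * tv (ne_succ hn1 0) 1 * M) * f := by
      rw [map_mul, map_mul, map_inv]
      group
    have h4 := hf (GeneralLinearGroup.map (σ.symm : F →+* F) (B⁻¹ * tv (ne_succ hn1 0) 1 * M))
    have h5 : GeneralLinearGroup.map (σ : F →+* F)
        (GeneralLinearGroup.map (σ.symm : F →+* F) (B⁻¹ * tv (ne_succ hn1 0) 1 * M)) =
        B⁻¹ * tv (ne_succ hn1 0) 1 * M := by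
      apply Units.ext
      ext a b
      rw [GeneralLinearGroup.map_apply, GeneralLinearGroup.map_apply]
      exact σ.apply_symm_apply _
    rw [h5] at h4
    have h6 : f⁻¹ * j (B⁻¹ * tv (ne_succ hn1 0) 1 * M) * f =
        j (GeneralLinearGroup.map (σ.symm : F →+* F) (B⁻¹ * tv (ne_succ hn1 0) 1 * M)) := by
      rw [← h4]
      group
    rw [h3, h6]
    apply mem_range
    have h7 : GeneralLinearGroup.det (B⁻¹ * tv (ne_succ hn1 0) 1 * M) = 1 := by
      rw [map_mul, map_mul, map_inv, det_tv, mul_one, hMd, inv_mul_cancel]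
    rw [GeneralLinearGroup.map_det, h7]
    exact map_one _
  · set M₀ := Subgroup.closure ({j Y * g, j (tv (ne_succ hn1 0) 1) * (j M * f)} : Set Γ) with hM₀
    have hx : j Y * g ∈ M₀ := Subgroup.subset_closure (by simp only [_root_.zero_add, _root_.Set.mem_insert_iff, _root_.Set.mem_singleton_iff, _root_.true_or])
    have hy' : j (tv (ne_succ hn1 0) 1) * (j M * f) ∈ M₀ := Subgroup.subset_closure (by simp only [_root_.zero_add, _root_.Set.mem_insert_iff, _root_.Set.mem_singleton_iff, _root_.or_true])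
    have hh : j (dg c) ∈ M₀ := by
      have h1 := M₀.mul_mem hx hx
      have h2 : j Y * g * (j Y * g) = j (dg c) := by
        rw [← hYY, map_mul, ← hg]
        have h4 : g⁻¹ = g := inv_eq_of_mul_eq_one_left hg2
        rw [h4]
        simp only [mul_assoc]
      rwa [h2] at h1
    have hw : (j M * f) * j (dg c) * (j M * f)⁻¹ =
        j (dg fun i => Units.map ((σ : F →+* F) : F →* F) (c ((cyc (n + 2)).symm i))) := by
      rw [Cfsg.Agent.H99.GenSL.conj_w hf, map_dg, conj_dg hM]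
    have key := trick (ne_succ hn1 0) (hj _ _ _) M₀ hz hw
      (Or.inl (by rw [zero_add, hc0, hc1, inv_mul_cancel]))
      (by
        rw [zero_add, hc0, hc1]
        intro e
        exact hz1 (inv_eq_one.1 e.symm)) (by
        intro e
        have h3 : (cyc (n + 2)).symm 0 = Fin.last (n + 2) := by
          rw [Equiv.symm_apply_eq]
          exact (Fin.last_add_one (n + 2)).symm
        replace e : Units.map ((σ : F →+* F) : F →* F) (c ((cyc (n + 2)).symm 0)) =
          Units.map ((σ : F →+* F) : F →* F) (c ((cyc (n + 2)).symm (0 + 1))) := e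
        rw [h3, cyc_symm_apply, hcl, hc0] at e
        apply hz1
        have h6 := congrArg Units.val e
        exact Units.ext (σ.injective h6)) hh hy'
    exact range_le hn1 hf hM _ (by
      rintro _ ⟨s, rfl⟩
      exact key.1 s) key.2

end Lift

end Cfsg.Agent.H172.DG
end

-- part: H172/DG/PslRow
section
/-!
# TEAM GEN, S4180: row `PSL_n(q)`, `n ≥ 3`, of `Rows Cos2` (helper172)
-/

set_option autoImplicit false

namespace Cfsg.Agent.H172.DG

open Matrix Cfsg.Agent.H891.Gen Cfsg.Agent.H891.DG Cfsg.Agent.H99.GenSL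
open Cfsg.Agent.ClassicalGeometry.AutPSL.Root Cfsg.Agent.ClassicalGeometry.AutPSL.Auto
open Cfsg.Agent.ClassicalGeometry.AutPSL.Main Cfsg.Agent.H230.GenPsl

universe u

/-! ### general facts on `Lift` and `Cos2` -/

theorem lift_of_mul_inv {G : Type*} [Group G] {N : Subgroup G} (hN : N.Normal) {x y : G} (h : Lift N x (y * x⁻¹)) :
    Lift N x y := by
  obtain ⟨s, hs, t, ht, h⟩ := h
  refine ⟨s, hs, x⁻¹ * t * x * s, N.mul_mem (by have := hN.conj_mem t ht x⁻¹; rwa [inv_inv] at this) hs,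
    h.trans ?_⟩
  rw [Subgroup.closure_le]
  have h1 : x * s ∈ Subgroup.closure ({x * s, y * (x⁻¹ * t * x * s)} : Set G) := Subgroup.subset_closure (by simp only [_root_.Set.mem_insert_iff, _root_.Set.mem_singleton_iff, _root_.true_or])
  have h2 : y * (x⁻¹ * t * x * s) ∈ Subgroup.closure ({x * s, y * (x⁻¹ * t * x * s)} : Set G) :=
    Subgroup.subset_closure (by simp only [_root_.Set.mem_insert_iff, _root_.Set.mem_singleton_iff, _root_.or_true])
  rintro z (rfl | hz)
  · exact h1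
  · rw [Set.mem_singleton_iff] at hz
    subst hz
    have h3 := mul_mem h2 (inv_mem h1)
    have h4 : y * (x⁻¹ * t * x * s) * (x * s)⁻¹ = y * x⁻¹ * t := by group
    rwa [h4] at h3

theorem inn_normal (T : Type*) [Group T] : (MulAut.conj : T →* MulAut T).range.Normal := by
  constructor
  rintro _ ⟨t, rfl⟩ a
  refine ⟨a t, ?_⟩
  apply MulEquiv.ext
  intro x
  simp only [MulAut.conj_apply, MulAut.mul_apply, map_mul, map_inv, _root_.MulAut.conj_apply, _root_.MulAut.mul_apply, _root_.MulAut.inv_apply, _root_.map_mul, _root_.MulEquiv.apply_symm_apply, _root_.map_inv]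

/-- `Cos2` is invariant under isomorphisms. -/
theorem cos2_congr {T T' : Type*} [Group T] [Group T'] (e : T ≃* T')
    (h : ∀ x y : MulAut T', Lift (MulAut.conj : T' →* MulAut T').range x y) :
    ∀ x y : MulAut T, Lift (MulAut.conj : T →* MulAut T).range x y := by
  intro x y
  refine lift_of_map (MulAut.congr e).toMonoidHom (MulAut.congr e).injective ?_
  have h1 : (MulAut.conj : T →* MulAut T).range.map (MulAut.congr e).toMonoidHom =
      (MulAut.conj : T' →* MulAut T').range := by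
    ext a
    constructor
    · rintro ⟨_, ⟨t, rfl⟩, rfl⟩
      refine ⟨e t, ?_⟩
      apply MulEquiv.ext
      intro b
      show e t * b * (e t)⁻¹ = e (t * e.symm b * t⁻¹)
      rw [map_mul, map_mul, map_inv, e.apply_symm_apply]
    · rintro ⟨t, rfl⟩
      refine ⟨MulAut.conj (e.symm t), ⟨_, rfl⟩, ?_⟩
      apply MulEquiv.ext
      intro b
      show e (e.symm t * e.symm b * (e.symm t)⁻¹) = t * b * t⁻¹
      rw [map_mul, map_mul, map_inv, e.apply_symm_apply, e.apply_symm_apply]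
  rw [h1]
  exact h _ _

/-! ### the automorphisms of `SL` -/

section Aut

variable {ι F : Type*} [Fintype ι] [DecidableEq ι] [Field F]

theorem itr_mul_cj (A : GL ι F) : (itr * cj A : MulAut (_root_.Matrix.SpecialLinearGroup ι F)) = cj (itg A) * itr := by
  apply MulEquiv.ext
  intro s
  apply Subtype.ext
  show (((cj A s)⁻¹ : _root_.Matrix.SpecialLinearGroup ι F) : Matrix ι ι F)ᵀ = _
  rw [← map_inv, coe_cj, transpose_mul, transpose_mul, ← mul_assoc]
  rfl

theorem itr_mul_fld (σ : F ≃+* F) : (itr * fld σ : MulAut (_root_.Matrix.SpecialLinearGroup ι F)) = fld σ * itr := by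
  apply MulEquiv.ext
  intro s
  apply Subtype.ext
  ext a b
  show (((fld σ s)⁻¹ : _root_.Matrix.SpecialLinearGroup ι F) : Matrix ι ι F) b a = _
  rw [← map_inv]
  rfl

end Aut

/-! ### the group `PSL` -/

section PSL

variable {F : Type} [Field F] {d : ℕ}

/-- automorphisms with field part `σ` -/
def FP (σ : F ≃+* F) (x : MulAut (ProjectiveSpecialLinearGroup (Fin d) F)) : Prop :=
  ∃ B : GL (Fin d) F, x = lift (cj B * fld σ) ∨ x = lift (cj B * fld σ * itr)

theorem fld_cj (σ τ : F ≃+* F) (B C : GL (Fin d) F) :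
    (cj B * fld σ * (cj C * fld τ) : MulAut (_root_.Matrix.SpecialLinearGroup (Fin d) F)) =
      cj (B * GeneralLinearGroup.map (σ : F →+* F) C) * fld (σ * τ) := by
  rw [map_mul, map_mul, mul_assoc, ← mul_assoc (fld σ), fld_mul_cj]
  simp only [mul_assoc]

theorem itr_cj_fld (τ : F ≃+* F) (C : GL (Fin d) F) :
    (itr * (cj C * fld τ) : MulAut (_root_.Matrix.SpecialLinearGroup (Fin d) F)) = cj (itg C) * fld τ * itr := by
  rw [← mul_assoc, itr_mul_cj, mul_assoc, itr_mul_fld, mul_assoc]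

theorem FP.mul {σ τ : F ≃+* F} {x y : MulAut (ProjectiveSpecialLinearGroup (Fin d) F)} (hx : FP σ x) (hy : FP τ y) :
    FP (σ * τ) (x * y) := by
  obtain ⟨B, hB⟩ := hx
  obtain ⟨C, hC⟩ := hy
  rcases hB with rfl | rfl <;> rcases hC with rfl | rfl
  · exact ⟨_, Or.inl (by rw [← map_mul, fld_cj])⟩
  · exact ⟨_, Or.inr (by rw [← map_mul, ← mul_assoc, fld_cj])⟩
  · exact ⟨_, Or.inr (by rw [← map_mul, mul_assoc _ itr, itr_cj_fld, ← mul_assoc, fld_cj])⟩
  · exact ⟨_, Or.inl (by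
      rw [← map_mul, ← mul_assoc, mul_assoc _ itr, itr_cj_fld, ← mul_assoc, fld_cj, mul_assoc _ itr, itr_mul_itr,
        mul_one])⟩

theorem FP.inv {σ : F ≃+* F} {x : MulAut (ProjectiveSpecialLinearGroup (Fin d) F)} (hx : FP σ x) :
    FP σ⁻¹ x⁻¹ := by
  obtain ⟨B, hB⟩ := hx
  have h1 : (cj B * fld σ : MulAut (_root_.Matrix.SpecialLinearGroup (Fin d) F))⁻¹ =
      cj (GeneralLinearGroup.map ((σ⁻¹ : F ≃+* F) : F →+* F) B⁻¹) * fld σ⁻¹ := by
    rw [_root_.mul_inv_rev, ← map_inv, ← map_inv, fld_mul_cj]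
  have h2 : (itr : MulAut (_root_.Matrix.SpecialLinearGroup (Fin d) F))⁻¹ = itr := inv_eq_of_mul_eq_one_left itr_mul_itr
  rcases hB with rfl | rfl
  · exact ⟨_, Or.inl (by rw [← map_inv, h1])⟩
  · exact ⟨_, Or.inr (by rw [← map_inv, _root_.mul_inv_rev, h1, h2, itr_cj_fld])⟩

theorem range_eq : ((lift.comp cj).comp SpecialLinearGroup.toGL :
      _root_.Matrix.SpecialLinearGroup (Fin d) F →* MulAut (ProjectiveSpecialLinearGroup (Fin d) F)).range =
      (MulAut.conj : ProjectiveSpecialLinearGroup (Fin d) F →* _).range := by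
  ext x
  constructor
  · rintro ⟨s, rfl⟩
    exact ⟨pr s, (lift_cj_toGL s).symm⟩
  · rintro ⟨p, rfl⟩
    obtain ⟨s, rfl⟩ := pr_surjective p
    exact ⟨s, lift_cj_toGL s⟩

theorem tv_inj {a b : Fin d} (hab : a ≠ b) (s : F) (hs : (lift.comp cj) (tv hab s) = 1) : s = 0 := by
  have : Nontrivial (Fin d) := ⟨⟨a, b, hab⟩⟩
  have h2 : lift (cj (tv hab s) * fld (1 : F ≃+* F)) = lift (fld (1 : F ≃+* F)) := by
    rw [map_mul]
    change (lift.comp cj) _ * _ = _
    rw [hs, one_mul]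
  obtain ⟨⟨r, hr⟩, -⟩ := injective_aux h2
  have h3 := congrFun (congrFun hr a) b
  rw [coe_tv] at h3
  simpa [hab] using h3.symm

variable [Fintype F]

/-- pairs with trivial field part of the first automorphism -/
theorem lift_base (hd : 3 ≤ d) {τ : F ≃+* F} {x y : MulAut (ProjectiveSpecialLinearGroup (Fin d) F)} (hx : FP 1 x)
    (hy : FP τ y) : Lift (MulAut.conj : ProjectiveSpecialLinearGroup (Fin d) F →* _).range x y := by
  obtain ⟨n, rfl⟩ : ∃ n, d = n + 1 := ⟨d - 1, by omega⟩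
  have hfg : ∀ (τ : F ≃+* F) (A : GL (Fin (n + 1)) F), lift (fld τ * itr) * (lift.comp cj) A * (lift (fld τ * itr))⁻¹ =
      (lift.comp cj) (itg (GeneralLinearGroup.map (τ : F →+* F) A)) := by
    intro τ A
    rw [mul_inv_eq_iff_eq_mul]
    change lift (fld τ * itr) * lift (cj A) = lift (cj _) * lift (fld τ * itr)
    rw [← map_mul, ← map_mul, mul_assoc, itr_mul_cj, ← mul_assoc, fld_mul_cj, itg_map, mul_assoc]
  have hff : ∀ (τ : F ≃+* F) (A : GL (Fin (n + 1)) F), lift (fld τ) * (lift.comp cj) A * (lift (fld τ))⁻¹ =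
      (lift.comp cj) (GeneralLinearGroup.map (τ : F →+* F) A) := by
    intro τ A
    rw [mul_inv_eq_iff_eq_mul]
    change lift (fld τ) * lift (cj A) = lift (cj _) * lift (fld τ)
    rw [← map_mul, ← map_mul, fld_mul_cj]
  have case2 : ∀ (A B : GL (Fin (n + 1)) F) (τ : F ≃+* F),
      Lift (MulAut.conj : ProjectiveSpecialLinearGroup (Fin (n + 1)) F →* _).range (lift (cj A))
        (lift (cj B * fld τ * itr)) := by
    intro A B τ
    have h1 := lift_graph (by omega) (hfg τ) (fun a b hab s hs => tv_inj hab s hs) A B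
    rw [range_eq] at h1
    change Lift _ (lift (cj A)) (lift (cj B) * lift (fld τ * itr)) at h1
    rwa [← map_mul, ← mul_assoc] at h1
  have case3 : ∀ (A B : GL (Fin (n + 1)) F) (τ : F ≃+* F),
      Lift (MulAut.conj : ProjectiveSpecialLinearGroup (Fin (n + 1)) F →* _).range (lift (cj A * itr))
        (lift (cj B * fld τ)) := by
    intro A B τ
    rcases Nat.lt_or_ge (Fintype.card F) 3 with hF | hF
    · have hτ : τ = 1 := by
        apply RingEquiv.ext
        intro s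
        rcases two_elements hF s with rfl | rfl
        · rw [map_zero, map_zero]
        · rw [map_one, map_one]
      subst hτ
      have h1 := (case2 B A 1).symm
      rwa [map_one, mul_one] at h1 ⊢
    · have h1 := lift_graph_left (by omega) hF (g := lift itr) (f := lift (fld τ)) (j := lift.comp cj)
        (fun A => by
          have h2 := hfg 1 A
          have h3 : GeneralLinearGroup.map ((1 : F ≃+* F) : F →+* F) A = A := by
            apply Units.ext
            ext a b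
            rfl
          rwa [map_one, one_mul, h3] at h2)
        (by rw [← map_mul, itr_mul_itr, map_one]) (hff τ) (fun a b hab s hs => tv_inj hab s hs) A B
      rw [range_eq] at h1
      change Lift _ (lift (cj A) * lift itr) (lift (cj B) * lift (fld τ)) at h1
      rwa [← map_mul, ← map_mul] at h1
  obtain ⟨A, hA⟩ := hx
  obtain ⟨B, hB⟩ := hy
  rw [map_one, mul_one] at hA
  rcases hA with rfl | rfl <;> rcases hB with rfl | rfl
  · exact (liftPSL F hd B A τ).symm
  · exact case2 A B τ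
  · exact case3 A B τ
  · refine lift_of_mul_inv (inn_normal _) ?_
    have h1 : (lift (cj B * fld τ * itr) * (lift (cj A * itr))⁻¹ :
        MulAut (ProjectiveSpecialLinearGroup (Fin (n + 1)) F)) =
        lift (cj (B * GeneralLinearGroup.map (τ : F →+* F) A⁻¹) * fld τ) := by
      rw [← map_inv, ← map_mul]
      congr 1
      have h2 : (cj B * fld τ * itr * (cj A * itr)⁻¹ : MulAut (_root_.Matrix.SpecialLinearGroup (Fin (n + 1)) F)) =
          cj B * fld τ * (cj A⁻¹ * fld 1) := by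
        rw [map_inv, map_one]
        group
      rw [h2, fld_cj, mul_one]
    rw [h1]
    exact case3 A _ τ

theorem cos2_psl (hd : 3 ≤ d) (x y : MulAut (ProjectiveSpecialLinearGroup (Fin d) F)) :
    Lift (MulAut.conj : ProjectiveSpecialLinearGroup (Fin d) F →* _).range x y := by
  have hfin : Finite (F ≃+* F) := Finite.of_injective (fun e : F ≃+* F => (e : F → F)) DFunLike.coe_injective
  have := isCyclic_ringAut F
  obtain ⟨σ₀, hσ₀⟩ := IsCyclic.exists_monoid_generator (α := F ≃+* F)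
  have hFP : ∀ x : MulAut (ProjectiveSpecialLinearGroup (Fin d) F), ∃ a : ℕ, FP (σ₀ ^ a) x := by
    intro x
    obtain ⟨p, hp⟩ := CharP.exists F
    have : Fact p.Prime := ⟨CharP.char_is_prime F p⟩
    rcases surj_three p hd x with ⟨B, σ, h⟩ | ⟨B, σ, h⟩
    · obtain ⟨a, ha⟩ := hσ₀ σ
      exact ⟨a, B, Or.inl (by rw [h, ← ha])⟩
    · obtain ⟨a, ha⟩ := hσ₀ σ
      exact ⟨a, B, Or.inr (by rw [h, ← ha])⟩
  have key : ∀ (N a b : ℕ), a + b ≤ N → ∀ x y : MulAut (ProjectiveSpecialLinearGroup (Fin d) F),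
      FP (σ₀ ^ a) x → FP (σ₀ ^ b) y →
        Lift (MulAut.conj : ProjectiveSpecialLinearGroup (Fin d) F →* _).range x y := by
    intro N
    induction N with
    | zero =>
      intro a b hab x y hx hy
      have ha : a = 0 := by omega
      subst ha
      rw [pow_zero] at hx
      exact lift_base hd hx hy
    | succ N ih =>
      have sub : ∀ (a b : ℕ) (x y : MulAut (ProjectiveSpecialLinearGroup (Fin d) F)), a ≤ b → FP (σ₀ ^ a) x →
          FP (σ₀ ^ b) y → FP (σ₀ ^ (b - a)) (y * x⁻¹) := by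
        intro a b x y hab hx hy
        have h1 := hy.mul hx.inv
        have h2 : σ₀ ^ b * (σ₀ ^ a)⁻¹ = σ₀ ^ (b - a) := by
          rw [mul_inv_eq_iff_eq_mul, ← pow_add]
          congr 1
          omega
        rwa [h2] at h1
      intro a b hab x y hx hy
      rcases Nat.eq_zero_or_pos a with rfl | ha
      · rw [pow_zero] at hx
        exact lift_base hd hx hy
      · rcases Nat.eq_zero_or_pos b with rfl | hb
        · rw [pow_zero] at hy
          exact (lift_base hd hy hx).symm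
        · rcases Nat.le_total a b with h | h
          · exact lift_of_mul_inv (inn_normal _) (ih a (b - a) (by omega) x _ hx (sub a b x y h hx hy))
          · exact (lift_of_mul_inv (inn_normal _) (ih b (a - b) (by omega) y _ hy (sub b a y x h hy hx))).symm
  obtain ⟨a, ha⟩ := hFP x
  obtain ⟨b, hb⟩ := hFP y
  exact key _ a b le_rfl x y ha hb

end PSL

/-- **the field `psl` of `Rows Cos2`** -/
theorem cos2_psl_row : ∀ (T : Type u) [Group T] [Finite T] [IsSimpleGroup T] (F : Type) [Field F] [Fintype F] (n : ℕ),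
    3 ≤ n → Nonempty (T ≃* Matrix.ProjectiveSpecialLinearGroup (Fin n) F) → Cos2 T := by
  rintro T _ _ _ F _ _ n hn ⟨e⟩
  exact cos2_congr e (cos2_psl hn)

end Cfsg.Agent.H172.DG
end

-- part: H875/DG/SpCore
section
/-!
# Generating pairs in `Sp_4(2^f).⟨γ⟩` (helper875, S4180, row C7)

`cj : Sp_4(F) →* Γ` is a homomorphism and `γ : Γ` induces the graph automorphism `graphHom F`.  For every `k` there
are `A`, `B` such that `⟨cj A, cj B * γ ^ k⟩` contains the range of `cj`.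
-/

set_option autoImplicit false
set_option linter.unusedSectionVars false

namespace Cfsg.Agent.H875.DG.SpCore

open Matrix Cfsg Subgroup
open Cfsg.Agent.ClassicalGeometry.Sp4Graph Cfsg.Agent.ClassicalGeometry.SympBasic
open Cfsg.Agent.ClassicalGeometry.Sp4GraphAut

variable {F : Type*} [Field F] [CharP F 2]

/-- vectors by coordinates -/
def v4 (p q r s : F) : I4 → F := Sum.elim ![p, q] ![r, s]

@[simp] theorem v4_0 (p q r s : F) : v4 p q r s (Sum.inl 0) = p := rfl
@[simp] theorem v4_1 (p q r s : F) : v4 p q r s (Sum.inl 1) = q := rfl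
@[simp] theorem v4_2 (p q r s : F) : v4 p q r s (Sum.inr 0) = r := rfl
@[simp] theorem v4_3 (p q r s : F) : v4 p q r s (Sum.inr 1) = s := rfl

theorem ext4 {x y : I4 → F} (h0 : x (.inl 0) = y (.inl 0)) (h1 : x (.inl 1) = y (.inl 1))
    (h2 : x (.inr 0) = y (.inr 0)) (h3 : x (.inr 1) = y (.inr 1)) : x = y := by
  funext i
  rcases i with i | i <;> fin_cases i
  · exact h0
  · exact h1
  · exact h2
  · exact h3

theorem eq_v4 (x : I4 → F) : x = v4 (x (.inl 0)) (x (.inl 1)) (x (.inr 0)) (x (.inr 1)) :=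
  ext4 rfl rfl rfl rfl

theorem sp_ext {A B : Matrix.symplecticGroup (Fin 2) F}
    (h : ∀ x : I4 → F, (A : Matrix I4 I4 F) *ᵥ x = (B : Matrix I4 I4 F) *ᵥ x) : A = B :=
  Subtype.ext (Matrix.mulVec_injective.eq_iff.1 (funext h))

/-! ### the elements -/

/-- diagonal matrices -/
def dg (a b : Fˣ) : Matrix.symplecticGroup (Fin 2) F :=
  ⟨Matrix.diagonal (v4 (a : F) (b : F) ((a⁻¹ : Fˣ) : F) ((b⁻¹ : Fˣ) : F)), by
    apply mem_of_row_rel
    intro i j
    rcases i with i | i <;> rcases j with j | j <;> (revert i j; simp only [_root_.Fin.forall_fin_succ, _root_.Units.val_inv_eq_inv_val, Fin.isValue, _root_.ne_eq, reduceCtorEq, _root_.not_false_eq_true, _root_.Matrix.diagonal_apply_ne, _root_.MulZeroClass.mul_zero, _root_.add_zero, _root_.Sum.swap_inr, _root_.Sum.inl.injEq, _root_.Matrix.diagonal_apply_eq, _root_.Cfsg.Agent.H875.DG.SpCore.v4_2, _root_.Sum.inr.injEq, _root_.zero_ne_one, _root_.Fin.succ_ne_zero, _root_.zero_add, _root_.Fin.succ_zero_eq_one,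 _root_.Cfsg.Agent.H875.DG.SpCore.v4_3, _root_.IsEmpty.forall_iff, _root_.and_true, _root_.Cfsg.Agent.H875.DG.SpCore.v4_0, _root_.Units.ne_zero, _root_.mul_inv_cancel₀, ↓reduceIte, _root_.MulZeroClass.zero_mul, _root_.and_self, _root_.true_and, _root_.Cfsg.Agent.H875.DG.SpCore.v4_1, _root_.Sum.swap_inl, _root_.inv_mul_cancel₀])⟩

theorem dg_mulVec (a b : Fˣ) (x : I4 → F) : (dg a b : Matrix I4 I4 F) *ᵥ x =
    v4 (a * x (.inl 0)) (b * x (.inl 1)) (((a⁻¹ : Fˣ) : F) * x (.inr 0)) (((b⁻¹ : Fˣ) : F) * x (.inr 1)) := by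
  unfold dg
  apply ext4 <;> simp only [Matrix.mulVec_diagonal, _root_.Units.val_inv_eq_inv_val, _root_.Fin.isValue, _root_.Matrix.mulVec_diagonal, _root_.Cfsg.Agent.H875.DG.SpCore.v4_0, _root_.Cfsg.Agent.H875.DG.SpCore.v4_1, _root_.Cfsg.Agent.H875.DG.SpCore.v4_2, _root_.Cfsg.Agent.H875.DG.SpCore.v4_3]

/-- the rotation -/
def wm : Matrix.symplecticGroup (Fin 2) F :=
  ⟨Matrix.of (Sum.elim ![v4 0 0 0 1, v4 1 0 0 0] ![v4 0 1 0 0, v4 0 0 1 0]), by
    apply mem_of_row_rel
    intro i j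
    rcases i with i | i <;> rcases j with j | j <;> (revert i j; simp only [_root_.Fin.forall_fin_succ, Fin.isValue, _root_.Matrix.of_apply, _root_.Sum.elim_inl, _root_.Matrix.cons_val', _root_.Cfsg.Agent.H875.DG.SpCore.v4_0, _root_.Matrix.cons_val_fin_one, _root_.Cfsg.Agent.H875.DG.SpCore.v4_2, _root_.Cfsg.Agent.H875.DG.SpCore.v4_1, _root_.Cfsg.Agent.H875.DG.SpCore.v4_3, _root_.Sum.swap_inl, reduceCtorEq, ↓reduceIte, _root_.Matrix.cons_val_zero, _root_.MulZeroClass.mul_zero, _root_.add_zero, _root_.mul_one, _root_.zero_add, _root_.Matrix.cons_val_succ, _root_.forall_const, _root_.and_self, _root_.implies_true, _root_.Sum.elim_inr, _root_.Sum.swap_inr, _root_.Sum.inl.injEq, _root_.Fin.succ_zero_eq_one, _root_.IsEmpty.forall_iff, _root_.and_true, _root_.zero_ne_one, _root_.Fin.succ_ne_zero, _root_.left_eq_ite_iff, _root_.one_ne_zero, _root_.imp_false, _root_.Decidable.not_not, _root_.true_and, _root_.Sum.inr.injEq])⟩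

theorem wm_mulVec (x : I4 → F) : ((wm : Matrix.symplecticGroup (Fin 2) F) : Matrix I4 I4 F) *ᵥ x =
    v4 (x (.inr 1)) (x (.inl 0)) (x (.inl 1)) (x (.inr 0)) := by
  unfold wm
  apply ext4 <;> simp [mulVec_eq]

/-- the reflection in the second long root -/
def pm : Matrix.symplecticGroup (Fin 2) F :=
  ⟨Matrix.of (Sum.elim ![v4 1 0 0 0, v4 0 0 0 1] ![v4 0 0 1 0, v4 0 1 0 0]), by
    apply mem_of_row_rel
    intro i j
    rcases i with i | i <;> rcases j with j | j <;> (revert i j; simp only [_root_.Fin.forall_fin_succ, Fin.isValue, _root_.Matrix.of_apply, _root_.Sum.elim_inl, _root_.Matrix.cons_val', _root_.Cfsg.Agent.H875.DG.SpCore.v4_0, _root_.Matrix.cons_val_fin_one, _root_.Cfsg.Agent.H875.DG.SpCore.v4_2, _root_.Cfsg.Agent.H875.DG.SpCore.v4_1, _root_.Cfsg.Agent.H875.DG.SpCore.v4_3, _root_.Sum.swap_inl, reduceCtorEq, ↓reduceIte, _root_.Matrix.cons_val_zero, _root_.MulZeroClass.mul_zero, _root_.mul_one, _root_.zero_add, _root_.add_zero,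 _root_.Matrix.cons_val_succ, _root_.forall_const, _root_.and_self, _root_.implies_true, _root_.Sum.elim_inr, _root_.Sum.swap_inr, _root_.Sum.inl.injEq, _root_.Fin.succ_zero_eq_one, _root_.IsEmpty.forall_iff, _root_.and_true, _root_.zero_ne_one, _root_.Fin.succ_ne_zero, _root_.left_eq_ite_iff, _root_.one_ne_zero, _root_.imp_false, _root_.Decidable.not_not, _root_.true_and, _root_.Sum.inr.injEq])⟩

theorem pm_mulVec (x : I4 → F) : ((pm : Matrix.symplecticGroup (Fin 2) F) : Matrix I4 I4 F) *ᵥ x =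
    v4 (x (.inl 0)) (x (.inr 1)) (x (.inr 0)) (x (.inl 1)) := by
  unfold pm
  apply ext4 <;> simp [mulVec_eq]

/-- the reflection in a short root -/
def rm : Matrix.symplecticGroup (Fin 2) F :=
  ⟨Matrix.of (Sum.elim ![v4 0 1 0 0, v4 1 0 0 0] ![v4 0 0 0 1, v4 0 0 1 0]), by
    apply mem_of_row_rel
    intro i j
    rcases i with i | i <;> rcases j with j | j <;> (revert i j; simp only [_root_.Fin.forall_fin_succ, Fin.isValue, _root_.Matrix.of_apply, _root_.Sum.elim_inl, _root_.Matrix.cons_val', _root_.Cfsg.Agent.H875.DG.SpCore.v4_0, _root_.Matrix.cons_val_fin_one, _root_.Cfsg.Agent.H875.DG.SpCore.v4_2, _root_.Cfsg.Agent.H875.DG.SpCore.v4_1, _root_.Cfsg.Agent.H875.DG.SpCore.v4_3, _root_.Sum.swap_inl, reduceCtorEq, ↓reduceIte, _root_.Matrix.cons_val_zero, _root_.MulZeroClass.mul_zero, _root_.add_zero, _root_.mul_one, _root_.zero_add, _root_.Matrix.cons_val_succ, _root_.forall_const, _root_.and_self, _root_.implies_true, _root_.Sum.elim_inr,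 _root_.Sum.swap_inr, _root_.Sum.inl.injEq, _root_.Fin.succ_zero_eq_one, _root_.IsEmpty.forall_iff, _root_.and_true, _root_.zero_ne_one, _root_.Fin.succ_ne_zero, _root_.left_eq_ite_iff, _root_.one_ne_zero, _root_.imp_false, _root_.Decidable.not_not, _root_.true_and, _root_.Sum.inr.injEq])⟩

theorem rm_mulVec (x : I4 → F) : ((rm : Matrix.symplecticGroup (Fin 2) F) : Matrix I4 I4 F) *ᵥ x =
    v4 (x (.inl 1)) (x (.inl 0)) (x (.inr 1)) (x (.inr 0)) := by
  unfold rm
  apply ext4 <;> simp [mulVec_eq]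

theorem transv_mulVec (v x : I4 → F) (c : F) : (transv v c : Matrix I4 I4 F) *ᵥ x =
    x + (c * sympForm 2 F x v) • v := by
  rw [coe_transv, sympTransvection_mulVec]

theorem e1_eq : e1 F = v4 1 0 0 0 := by
  apply ext4 <;> simp [e1]

theorem e2_eq : e2 F = v4 0 1 0 0 := by
  apply ext4 <;> simp [e2]

theorem S_mv (b : F) (x : I4 → F) : (S b : Matrix I4 I4 F) *ᵥ x =
    v4 (x (.inl 0) + b * x (.inr 1)) (x (.inl 1) + b * x (.inr 0)) (x (.inr 0)) (x (.inr 1)) := by
  rw [S_mulVec, e1_eq, e2_eq]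
  apply ext4 <;> simp

theorem t_mv (c : F) (x : I4 → F) : (transv (v4 1 0 0 0) c : Matrix I4 I4 F) *ᵥ x =
    v4 (x (.inl 0) + c * x (.inr 0)) (x (.inl 1)) (x (.inr 0)) (x (.inr 1)) := by
  rw [transv_mulVec, sympForm_eq]
  apply ext4 <;> simp


theorem transv_v4 (p q r s p' q' r' s' c : F) : (transv (v4 p q r s) c : Matrix I4 I4 F) *ᵥ (v4 p' q' r' s') =
    v4 (p' + c * (p' * r + r' * p + q' * s + s' * q) * p) (q' + c * (p' * r + r' * p + q' * s + s' * q) * q)
      (r' + c * (p' * r + r' * p + q' * s + s' * q) * r) (s' + c * (p' * r + r' * p + q' * s + s' * q) * s) := by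
  rw [transv_mulVec, sympForm_eq]
  apply ext4 <;> simp only [_root_.Fin.isValue, _root_.Cfsg.Agent.H875.DG.SpCore.v4_0, _root_.Cfsg.Agent.H875.DG.SpCore.v4_2, _root_.Cfsg.Agent.H875.DG.SpCore.v4_1, _root_.Cfsg.Agent.H875.DG.SpCore.v4_3, _root_.Pi.add_apply, _root_.Pi.smul_apply, _root_.smul_eq_mul]

/-! ### the graph homomorphism -/

theorem graph_dg (a b : Fˣ) : graphHom F (dg a b) = dg (a * b) (a * b⁻¹) := by
  apply Subtype.ext
  rw [graphHom_coe]
  unfold dg
  ext i j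
  rw [mn_apply]
  rcases i with i | i <;> rcases j with j | j <;> (revert i j; simp only [pa, pb, mul_comm, _root_.Fin.forall_fin_succ, _root_.Units.val_inv_eq_inv_val, Fin.isValue, _root_.Matrix.diagonal_apply_eq, _root_.Cfsg.Agent.H875.DG.SpCore.v4_0, _root_.Units.val_mul, _root_.mul_inv_rev, _root_.inv_inv, ↓reduceIte, _root_.ne_eq, _root_.Sum.inl.injEq, _root_.zero_ne_one, _root_.not_false_eq_true, _root_.Matrix.diagonal_apply_ne, _root_.MulZeroClass.zero_mul, _root_.add_zero, _root_.Fin.succ_ne_zero, reduceCtorEq, _root_.Fin.succ_zero_eq_one, _root_.IsEmpty.forall_iff, _root_.and_true, _root_.Cfsg.Agent.H875.DG.SpCore.v4_1, _root_.MulZeroClass.mul_zero, _root_.and_self, _root_.Cfsg.Agent.H875.DG.SpCore.v4_3, _root_.true_and, _root_.zero_add, _root_.mul_eq_zero, _root_.true_or, _root_.implies_true, _root_.Sum.inr.injEq, _root_.Cfsg.Agent.H875.DG.SpCore.v4_2])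

theorem graph_pm : graphHom F pm = rm := by
  apply Subtype.ext
  rw [graphHom_coe]
  unfold pm rm
  ext i j
  rw [mn_apply]
  rcases i with i | i <;> rcases j with j | j <;> (revert i j; simp only [pa, pb, _root_.Fin.forall_fin_succ, Fin.isValue, _root_.Matrix.of_apply, _root_.Sum.elim_inl, _root_.Matrix.cons_val', _root_.Cfsg.Agent.H875.DG.SpCore.v4_0, _root_.Matrix.cons_val_fin_one, _root_.Matrix.cons_val_zero, _root_.one_mul, ↓reduceIte, _root_.Cfsg.Agent.H875.DG.SpCore.v4_1, _root_.MulZeroClass.zero_mul, _root_.add_zero, _root_.Fin.succ_ne_zero, _root_.Cfsg.Agent.H875.DG.SpCore.v4_3, _root_.Fin.succ_zero_eq_one, _root_.IsEmpty.forall_iff, _root_.and_true, _root_.Matrix.cons_val_one, _root_.and_self, _root_.Sum.elim_inr, _root_.Matrix.cons_val_succ, _root_.implies_true, _root_.Cfsg.Agent.H875.DG.SpCore.v4_2, _root_.zero_add])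

/-- the powers of the field automorphism -/
def fr : ℕ → Matrix.symplecticGroup (Fin 2) F → Matrix.symplecticGroup (Fin 2) F
  | 0, A => A
  | j + 1, A => fr j (graphHom F (graphHom F A))

theorem fr_coe (j : ℕ) (A : Matrix.symplecticGroup (Fin 2) F) (i k : I4) :
    (fr j A : Matrix I4 I4 F) i k = (A : Matrix I4 I4 F) i k ^ (2 ^ j) := by
  induction j generalizing A with
  | zero => rw [pow_zero, pow_one]; rfl
  | succ j ih =>
    change (fr j (graphHom F (graphHom F A)) : Matrix I4 I4 F) i k = _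
    rw [ih, graphHom_graphHom, ← pow_mul, ← pow_succ']

theorem fr_dg (j : ℕ) (a b : Fˣ) : fr j (dg a b) = dg (a ^ (2 ^ j)) (b ^ (2 ^ j)) := by
  apply Subtype.ext
  ext i k
  rw [fr_coe]
  have h0 : (2 : ℕ) ^ j ≠ 0 := by positivity
  unfold dg
  rcases i with i | i <;> rcases k with k | k <;> (revert i k; simp [_root_.Fin.forall_fin_succ])

/-- the action of the field automorphism on vectors -/
def frv (j : ℕ) (v : I4 → F) : I4 → F := fun i => v i ^ (2 ^ j)

theorem fr_transv (j : ℕ) (v : I4 → F) (c : F) : fr j (transv v c) = transv (frv j v) (c ^ (2 ^ j)) := by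
  have h0 : (2 : ℕ) ^ j ≠ 0 := by positivity
  have hneg : ∀ z : F, -z = z := fun z => CharTwo.neg_eq z
  apply Subtype.ext
  ext i k
  rw [fr_coe, coe_transv, coe_transv, sympTransvection_def, sympTransvection_def]
  simp only [Matrix.add_apply, Matrix.smul_apply, Matrix.vecMulVec_apply, smul_eq_mul]
  rw [← iterateFrobenius_def (p := 2), map_add, map_mul, map_mul]
  congr 1
  · rw [iterateFrobenius_def, Matrix.one_apply]
    split_ifs
    · rw [one_pow]
    · rw [zero_pow h0]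
  · rw [iterateFrobenius_def, iterateFrobenius_def, iterateFrobenius_def]
    rcases k with k | k
    · rw [J_mulVec_inl, J_mulVec_inl, hneg, hneg]
      rfl
    · rw [J_mulVec_inr, J_mulVec_inr]
      rfl

theorem frv_v4 (j : ℕ) (p q r s : F) : frv j (v4 p q r s) =
    v4 (p ^ (2 ^ j)) (q ^ (2 ^ j)) (r ^ (2 ^ j)) (s ^ (2 ^ j)) := by
  apply ext4 <;> rfl

/-! ### relations -/

theorem wm_dg (a b : Fˣ) : wm * dg a b = dg b⁻¹ a * wm := by
  apply sp_ext
  intro x
  rw [coe_mul_mulVec, coe_mul_mulVec, dg_mulVec, wm_mulVec, wm_mulVec, dg_mulVec]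
  apply ext4 <;> simp only [_root_.Fin.isValue, _root_.Units.val_inv_eq_inv_val, _root_.Cfsg.Agent.H875.DG.SpCore.v4_3, _root_.Cfsg.Agent.H875.DG.SpCore.v4_0, _root_.Cfsg.Agent.H875.DG.SpCore.v4_1, _root_.Cfsg.Agent.H875.DG.SpCore.v4_2, _root_.inv_inv]

theorem pm_dg (a b : Fˣ) : pm * dg a b = dg a b⁻¹ * pm := by
  apply sp_ext
  intro x
  rw [coe_mul_mulVec, coe_mul_mulVec, dg_mulVec, pm_mulVec, pm_mulVec, dg_mulVec]
  apply ext4 <;> simp only [_root_.Fin.isValue, _root_.Units.val_inv_eq_inv_val, _root_.Cfsg.Agent.H875.DG.SpCore.v4_0, _root_.Cfsg.Agent.H875.DG.SpCore.v4_3, _root_.Cfsg.Agent.H875.DG.SpCore.v4_2, _root_.Cfsg.Agent.H875.DG.SpCore.v4_1, _root_.inv_inv]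

theorem pm_sq : (pm * pm : Matrix.symplecticGroup (Fin 2) F) = 1 := by
  apply sp_ext
  intro x
  rw [coe_mul_mulVec, pm_mulVec, pm_mulVec]
  change _ = (1 : Matrix I4 I4 F) *ᵥ x
  rw [Matrix.one_mulVec]
  apply ext4 <;> simp

/-- the unipotent element of the even case -/
def ue : Matrix.symplecticGroup (Fin 2) F := transv (v4 1 0 0 0) 1 * S 1

theorem ue_mv (x : I4 → F) : ((ue : Matrix.symplecticGroup (Fin 2) F) : Matrix I4 I4 F) *ᵥ x =
    v4 (x (.inl 0) + x (.inr 1) + x (.inr 0)) (x (.inl 1) + x (.inr 0)) (x (.inr 0)) (x (.inr 1)) := by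
  unfold ue
  rw [coe_mul_mulVec, S_mv, t_mv]
  apply ext4 <;> simp

attribute [-instance] instNoNatZeroDivisorsOfIsAddTorsionFree instIsCharPOfIsLeftCancelAddOfCharP in
theorem ue_sq : (ue * ue : Matrix.symplecticGroup (Fin 2) F) = 1 := by
  have h2 : (2 : F) = 0 := CharTwo.two_eq_zero
  apply sp_ext
  intro x
  rw [coe_mul_mulVec, ue_mv, ue_mv]
  change _ = (1 : Matrix I4 I4 F) *ᵥ x
  rw [Matrix.one_mulVec]
  apply ext4 <;> simp <;> grobner

attribute [-instance] instNoNatZeroDivisorsOfIsAddTorsionFree instIsCharPOfIsLeftCancelAddOfCharP in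
theorem even_rel (a b : Fˣ) : dg a a⁻¹ * (ue * (dg b b * ue)) =
    transv (v4 1 0 0 0) (((a : F) ^ 2 + 1) * ((b : F) ^ 2 + 1)) * ((ue * (dg b b * ue)) * dg a a⁻¹) := by
  have h2 : (2 : F) = 0 := CharTwo.two_eq_zero
  have ha : (a : F) * ((a⁻¹ : Fˣ) : F) = 1 := by rw [← Units.val_mul, mul_inv_cancel, Units.val_one]
  have hb : (b : F) * ((b⁻¹ : Fˣ) : F) = 1 := by rw [← Units.val_mul, mul_inv_cancel, Units.val_one]
  apply sp_ext
  intro x
  simp only [coe_mul_mulVec, dg_mulVec, ue_mv, t_mv, v4_0, v4_1, v4_2, v4_3, inv_inv]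
  set a' : F := ((a⁻¹ : Fˣ) : F)
  set b' : F := ((b⁻¹ : Fˣ) : F)
  set A : F := (a : F)
  set B : F := (b : F)
  apply ext4 <;> simp only [v4_0, v4_1, v4_2, v4_3] <;> grobner


attribute [-instance] instNoNatZeroDivisorsOfIsAddTorsionFree instIsCharPOfIsLeftCancelAddOfCharP in
/-- the unipotent element of the odd case -/
theorem t_sq : (transv (v4 1 0 0 0) 1 * transv (v4 1 0 0 0) 1 : Matrix.symplecticGroup (Fin 2) F) = 1 := by
  have h2 : (2 : F) = 0 := CharTwo.two_eq_zero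
  apply sp_ext
  intro x
  rw [coe_mul_mulVec, t_mv, t_mv]
  change _ = (1 : Matrix I4 I4 F) *ᵥ x
  rw [Matrix.one_mulVec]
  apply ext4 <;> simp <;> grobner

attribute [-instance] instNoNatZeroDivisorsOfIsAddTorsionFree instIsCharPOfIsLeftCancelAddOfCharP in
theorem odd_rel (a b : Fˣ) :
    dg a 1 * (transv (v4 1 0 0 0) 1 * (dg b b⁻¹ * transv (v4 1 0 0 0) 1)) =
    transv (v4 1 0 0 0) (((a : F) ^ 2 + 1) * ((b : F) ^ 2 + 1)) *
      ((transv (v4 1 0 0 0) 1 * (dg b b⁻¹ * transv (v4 1 0 0 0) 1)) * dg a 1) := by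
  have h2 : (2 : F) = 0 := CharTwo.two_eq_zero
  have ha : (a : F) * ((a⁻¹ : Fˣ) : F) = 1 := by rw [← Units.val_mul, mul_inv_cancel, Units.val_one]
  have hb : (b : F) * ((b⁻¹ : Fˣ) : F) = 1 := by rw [← Units.val_mul, mul_inv_cancel, Units.val_one]
  apply sp_ext
  intro x
  simp only [coe_mul_mulVec, dg_mulVec, t_mv, v4_0, v4_1, v4_2, v4_3, inv_inv, inv_one, Units.val_one, one_mul]
  set a' : F := ((a⁻¹ : Fˣ) : F)
  set b' : F := ((b⁻¹ : Fˣ) : F)
  set A : F := (a : F)
  set B : F := (b : F)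
  apply ext4 <;> simp only [v4_0, v4_1, v4_2, v4_3] <;> grobner

attribute [-instance] instNoNatZeroDivisorsOfIsAddTorsionFree instIsCharPOfIsLeftCancelAddOfCharP in
theorem transv_e_mem_of [Finite F] {H : Subgroup (Matrix.symplecticGroup (Fin 2) F)} {a b : Fˣ}
    (ha : ∀ x : Fˣ, x ∈ Subgroup.zpowers a) (hd : dg a b ∈ H) {c0 : F} (hc0 : c0 ≠ 0)
    (h0 : transv (v4 1 0 0 0) c0 ∈ H) (c : F) : transv (v4 1 0 0 0) c ∈ H := by
  -- conjugation by the powers of `dg a b`
  have hc : ∀ (a b : Fˣ) (c : F), dg a b * transv (v4 1 0 0 0) c * (dg a b)⁻¹ =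
      transv (v4 1 0 0 0) ((a : F) ^ 2 * c) := by
    intro a b c
    rw [mul_inv_eq_iff_eq_mul]
    have ha : (a : F) * ((a⁻¹ : Fˣ) : F) = 1 := by rw [← Units.val_mul, mul_inv_cancel, Units.val_one]
    apply sp_ext
    intro x
    simp only [coe_mul_mulVec, dg_mulVec, t_mv, v4_0, v4_1, v4_2, v4_3]
    set a' : F := ((a⁻¹ : Fˣ) : F)
    apply ext4 <;> simp only [v4_0, v4_1, v4_2, v4_3] <;> (clear * - ha; grobner)
  have hmul : ∀ a b c d : Fˣ, dg a b * dg c d = dg (a * c) (b * d) := by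
    intro a b c d
    apply sp_ext
    intro x
    simp only [coe_mul_mulVec, dg_mulVec, v4_0, v4_1, v4_2, v4_3, mul_inv, Units.val_mul]
    apply ext4 <;> simp only [v4_0, v4_1, v4_2, v4_3] <;> ring
  have hone : (dg 1 1 : Matrix.symplecticGroup (Fin 2) F) = 1 := by
    apply sp_ext
    intro x
    rw [dg_mulVec]
    change _ = (1 : Matrix I4 I4 F) *ᵥ x
    rw [Matrix.one_mulVec]
    apply ext4 <;> simp
  let D : Fˣ × Fˣ →* Matrix.symplecticGroup (Fin 2) F :=
    { toFun := fun p => dg p.1 p.2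
      map_one' := hone
      map_mul' := fun p q => (hmul p.1 p.2 q.1 q.2).symm }
  have hz : ∀ n : ℤ, dg (a ^ n) (b ^ n) ∈ H := by
    intro n
    have h1 : D ((a, b) ^ n) = (D (a, b)) ^ n := map_zpow D (a, b) n
    have h2 : D ((a, b) ^ n) = dg (a ^ n) (b ^ n) := rfl
    rw [← h2, h1]
    exact H.zpow_mem hd n
  by_cases hcz : c = 0
  · have : transv (v4 1 0 0 0) c = (1 : Matrix.symplecticGroup (Fin 2) F) := by
      rw [hcz]
      exact Subtype.ext (sympTransvection_zero _)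
    rw [this]
    exact H.one_mem
  · obtain ⟨t, ht⟩ := FiniteField.isSquare_of_char_two (ringChar.eq F 2) (c / c0)
    have ht0 : t ≠ 0 := by
      rintro rfl
      rw [mul_zero, div_eq_zero_iff] at ht
      exact ht.elim hcz hc0
    obtain ⟨n, hn⟩ := ha (Units.mk0 t ht0)
    have hn' : ((a ^ n : Fˣ) : F) = t := congrArg Units.val hn
    have h1 := H.mul_mem (H.mul_mem (hz n) h0) (H.inv_mem (hz n))
    rw [hc, hn'] at h1
    have h2 : t ^ 2 * c0 = c := by
      rw [sq, ← ht, div_mul_cancel₀ _ hc0]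
    rwa [h2] at h1

/-! ### all transvections -/

theorem pair_move {R : F → F → Prop} (h1 : ∀ p r c, R p r → R (p + c * r) r)
    (h2 : ∀ p r c, R p r → R p (r + c * p)) {p0 r0 : F} (h0 : R p0 r0) (hn : p0 ≠ 0 ∨ r0 ≠ 0) {p r : F}
    (hpr : p ≠ 0 ∨ r ≠ 0) : R p r := by
  -- reach a pair with nonzero second entry
  obtain ⟨p1, r1, hr1, hR1⟩ : ∃ p1 r1, r1 ≠ 0 ∧ R p1 r1 := by
    by_cases hr0 : r0 = 0
    · have hp0 : p0 ≠ 0 := hn.resolve_right (fun h => h hr0)
      refine ⟨p0, r0 + p0⁻¹ * p0, ?_, h2 _ _ _ h0⟩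
      rw [hr0, inv_mul_cancel₀ hp0, zero_add]
      exact one_ne_zero
    · exact ⟨p0, r0, hr0, h0⟩
  have hone : R 1 r1 := by
    have := h1 _ _ ((1 - p1) / r1) hR1
    rwa [div_mul_cancel₀ _ hr1, add_sub_cancel] at this
  have hone' : ∀ r, R 1 r := by
    intro r
    have := h2 _ _ (r - r1) hone
    rwa [mul_one, add_sub_cancel] at this
  have hall : ∀ p r, r ≠ 0 → R p r := by
    intro p r hr
    have := h1 _ _ ((p - 1) / r) (hone' r)
    rwa [div_mul_cancel₀ _ hr, add_sub_cancel] at this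
  by_cases hr : r = 0
  · have hp : p ≠ 0 := hpr.resolve_right (fun h => h hr)
    have := h2 _ _ (-p⁻¹) (hall p 1 one_ne_zero)
    rw [neg_mul, inv_mul_cancel₀ hp, add_neg_cancel] at this
    rwa [hr]
  · exact hall p r hr

theorem x_conj {H : Subgroup (Matrix.symplecticGroup (Fin 2) F)} {g : Matrix.symplecticGroup (Fin 2) F} (hg : g ∈ H)
    {v : I4 → F} (hv : ∀ c : F, transv v c ∈ H) (c : F) : transv ((g : Matrix I4 I4 F) *ᵥ v) c ∈ H := by
  have h1 := H.mul_mem (H.mul_mem hg (hv c)) (H.inv_mem hg)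
  have h2 : g * transv v c * g⁻¹ = transv ((g : Matrix I4 I4 F) *ᵥ v) c := by
    rw [mul_inv_eq_iff_eq_mul]
    exact Subtype.ext (mul_sympTransvection g.2 v c)
  rwa [h2] at h1

/-- moves in the second plane -/
theorem planeB {H : Subgroup (Matrix.symplecticGroup (Fin 2) F)}
    (h1 : ∀ c : F, transv (v4 0 1 0 0) c ∈ H)
    (h3 : ∀ c : F, transv (v4 0 0 0 1) c ∈ H) {q0 s0 : F} (p r : F)
    (hv : ∀ c : F, transv (v4 p q0 r s0) c ∈ H) (hn : q0 ≠ 0 ∨ s0 ≠ 0)
    (q s : F) (hqs : q ≠ 0 ∨ s ≠ 0) : ∀ c : F, transv (v4 p q r s) c ∈ H := by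
  have mv1 : ∀ (c : F) (x : I4 → F), (transv (v4 0 1 0 0) c : Matrix I4 I4 F) *ᵥ x =
      v4 (x (.inl 0)) (x (.inl 1) + c * x (.inr 1)) (x (.inr 0)) (x (.inr 1)) := by
    intro c x
    rw [transv_mulVec, sympForm_eq]
    apply ext4 <;> simp
  have mv3 : ∀ (c : F) (x : I4 → F), (transv (v4 0 0 0 1) c : Matrix I4 I4 F) *ᵥ x =
      v4 (x (.inl 0)) (x (.inl 1)) (x (.inr 0)) (x (.inr 1) + c * x (.inl 1)) := by
    intro c x
    rw [transv_mulVec, sympForm_eq]
    apply ext4 <;> simp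
  refine pair_move (R := fun q s => ∀ c : F, transv (v4 p q r s) c ∈ H) ?_ ?_ hv hn hqs
  · intro q s d h c
    have := x_conj (h1 d) h c
    rw [mv1] at this
    simpa using this
  · intro q s d h c
    have := x_conj (h3 d) h c
    rw [mv3] at this
    simpa using this

/-- moves in the first plane -/
theorem planeA {H : Subgroup (Matrix.symplecticGroup (Fin 2) F)}
    (h0 : ∀ c : F, transv (v4 1 0 0 0) c ∈ H)
    (h2 : ∀ c : F, transv (v4 0 0 1 0) c ∈ H) {p0 r0 : F} (q s : F)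
    (hv : ∀ c : F, transv (v4 p0 q r0 s) c ∈ H) (hn : p0 ≠ 0 ∨ r0 ≠ 0)
    (p r : F) (hpr : p ≠ 0 ∨ r ≠ 0) : ∀ c : F, transv (v4 p q r s) c ∈ H := by
  have mv2 : ∀ (c : F) (x : I4 → F), (transv (v4 0 0 1 0) c : Matrix I4 I4 F) *ᵥ x =
      v4 (x (.inl 0)) (x (.inl 1)) (x (.inr 0) + c * x (.inl 0)) (x (.inr 1)) := by
    intro c x
    rw [transv_mulVec, sympForm_eq]
    apply ext4 <;> simp
  refine pair_move (R := fun p r => ∀ c : F, transv (v4 p q r s) c ∈ H) ?_ ?_ hv hn hpr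
  · intro p r d h c
    have := x_conj (h0 d) h c
    rw [t_mv] at this
    simpa using this
  · intro p r d h c
    have := x_conj (h2 d) h c
    rw [mv2] at this
    simpa using this

/-- If the transvections in the directions of the basis vectors and of one mixed vector are in `H` then `H = ⊤`. -/
theorem top_of {H : Subgroup (Matrix.symplecticGroup (Fin 2) F)} (h0 : ∀ c : F, transv (v4 1 0 0 0) c ∈ H)
    (h1 : ∀ c : F, transv (v4 0 1 0 0) c ∈ H) (h2 : ∀ c : F, transv (v4 0 0 1 0) c ∈ H)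
    (h3 : ∀ c : F, transv (v4 0 0 0 1) c ∈ H) {p0 q0 r0 s0 : F} (hp : p0 ≠ 0 ∨ r0 ≠ 0) (hq : q0 ≠ 0 ∨ s0 ≠ 0)
    (hm : ∀ c : F, transv (v4 p0 q0 r0 s0) c ∈ H) : H = ⊤ := by
  have key : ∀ (v : I4 → F) (c : F), transv v c ∈ H := by
    intro v
    rw [eq_v4 v]
    generalize v (.inl 0) = p
    generalize v (.inl 1) = q
    generalize v (.inr 0) = r
    generalize v (.inr 1) = s
    by_cases hpr : p ≠ 0 ∨ r ≠ 0
    · by_cases hqs : q ≠ 0 ∨ s ≠ 0
      · exact planeB h1 h3 p r (planeA h0 h2 q0 s0 hm hp p r hpr) hq q s hqs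
      · push Not at hqs
        obtain ⟨rfl, rfl⟩ := hqs
        exact planeA h0 h2 0 0 h0 (Or.inl one_ne_zero) p r hpr
    · push Not at hpr
      obtain ⟨rfl, rfl⟩ := hpr
      by_cases hqs : q ≠ 0 ∨ s ≠ 0
      · exact planeB h1 h3 0 0 h1 (Or.inl one_ne_zero) q s hqs
      · push Not at hqs
        obtain ⟨rfl, rfl⟩ := hqs
        intro c
        have : transv (v4 0 0 0 0) c = (1 : Matrix.symplecticGroup (Fin 2) F) := by
          apply sp_ext
          intro x
          rw [transv_mulVec]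
          change _ = (1 : Matrix I4 I4 F) *ᵥ x
          rw [Matrix.one_mulVec]
          apply ext4 <;> simp
        rw [this]
        exact H.one_mem
  rw [eq_top_iff, ← Cfsg.Agent.S0765.result (F := F) 2, closure_le]
  rintro A ⟨w, c, hA⟩
  have : A = transv w c := Subtype.ext hA
  rw [this]
  exact key w c


/-! ### the abstract setting -/

section abstr

variable {Γ : Type*} [Group Γ] (cj : Matrix.symplecticGroup (Fin 2) F →* Γ) (γ : Γ)

include cj

theorem conj_even (hγ : ∀ A, γ * cj A * γ⁻¹ = cj (graphHom F A)) (j : ℕ) (A : Matrix.symplecticGroup (Fin 2) F) :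
    γ ^ (2 * j) * cj A * (γ ^ (2 * j))⁻¹ = cj (fr j A) := by
  induction j generalizing A with
  | zero => simp [fr]
  | succ j ih =>
    have h1 : γ ^ (2 * (j + 1)) = γ ^ (2 * j) * (γ * γ) := by rw [← sq, ← pow_add, mul_add, mul_one]
    rw [h1]
    change _ = cj (fr j (graphHom F (graphHom F A)))
    rw [← ih, ← hγ, ← hγ]
    group

/-- moving the set of good vectors with a semilinear element -/
theorem x_semi [Finite F] (hγ : ∀ A, γ * cj A * γ⁻¹ = cj (graphHom F A)) {M : Subgroup Γ} {j : ℕ}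
    {g : Matrix.symplecticGroup (Fin 2) F} (hg : cj g * γ ^ (2 * j) ∈ M) {v : I4 → F}
    (hv : ∀ c : F, transv v c ∈ M.comap cj) (c : F) :
    transv ((g : Matrix I4 I4 F) *ᵥ (frv j v)) c ∈ M.comap cj := by
  obtain ⟨d, hd⟩ : ∃ d : F, d ^ (2 ^ j) = c := by
    have h1 : Function.Surjective (iterateFrobenius F 2 j) :=
      Finite.injective_iff_surjective.1 (iterateFrobenius F 2 j).injective
    obtain ⟨d, hd⟩ := h1 c
    exact ⟨d, by rwa [iterateFrobenius_def] at hd⟩
  have h1 := M.mul_mem (M.mul_mem hg (mem_comap.1 (hv d))) (M.inv_mem hg)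
  have h2 : cj g * γ ^ (2 * j) * cj (transv v d) * (cj g * γ ^ (2 * j))⁻¹ =
      cj (transv ((g : Matrix I4 I4 F) *ᵥ (frv j v)) c) := by
    have h3 : cj g * γ ^ (2 * j) * cj (transv v d) * (cj g * γ ^ (2 * j))⁻¹ =
        cj g * (γ ^ (2 * j) * cj (transv v d) * (γ ^ (2 * j))⁻¹) * (cj g)⁻¹ := by group
    rw [h3, conj_even cj γ hγ, fr_transv, hd, ← map_inv, ← map_mul, ← map_mul]
    congr 1
    rw [mul_inv_eq_iff_eq_mul]
    exact Subtype.ext (mul_sympTransvection g.2 _ c)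
  rw [h2] at h1
  exact mem_comap.2 h1

theorem two_ne [Fintype F] (h3 : 3 ≤ Fintype.card F) {a : Fˣ} (ha : ∀ x : Fˣ, x ∈ Subgroup.zpowers a) (j : ℕ) :
    (a : F) ^ 2 + 1 ≠ 0 ∧ ((a ^ (2 ^ j) : Fˣ) : F) ^ 2 + 1 ≠ 0 := by
  classical
  have hneg : ∀ z : F, -z = z := fun z => CharTwo.neg_eq z
  -- `a ≠ 1`
  have ha1 : a ≠ 1 := by
    rintro rfl
    have h1 : Fintype.card Fˣ ≤ 1 := by
      rw [Fintype.card_le_one_iff]
      intro x y
      have hx := ha x
      have hy := ha y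
      rw [Subgroup.zpowers_one_eq_bot, Subgroup.mem_bot] at hx hy
      rw [hx, hy]
    rw [Fintype.card_units] at h1
    omega
  have hsq : ∀ b : Fˣ, b ≠ 1 → (b : F) ^ 2 + 1 ≠ 0 := by
    intro b hb h0
    apply hb
    have h1 : (b : F) ^ 2 = 1 ^ 2 := by
      rw [one_pow, ← hneg 1]
      exact eq_neg_of_add_eq_zero_left h0
    exact Units.ext (CharTwo.sq_injective h1)
  refine ⟨hsq a ha1, hsq _ ?_⟩
  intro h0
  apply ha1
  have h1 : iterateFrobenius F 2 j (a : F) = iterateFrobenius F 2 j 1 := by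
    rw [iterateFrobenius_def, iterateFrobenius_def, one_pow]
    have h2 := congrArg Units.val h0
    rwa [Units.val_pow_eq_pow_val, Units.val_one] at h2
  exact Units.ext ((iterateFrobenius F 2 j).injective h1)

/-- The even case. -/
theorem even_case [Fintype F] (h3 : 3 ≤ Fintype.card F) (hγ : ∀ A, γ * cj A * γ⁻¹ = cj (graphHom F A)) (j : ℕ) :
    ∃ A B : Matrix.symplecticGroup (Fin 2) F, cj.range ≤ _root_.Subgroup.closure ({cj A, cj B * γ ^ (2 * j)} : Set Γ) := by
  obtain ⟨a, ha⟩ := IsCyclic.exists_generator (α := Fˣ)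
  refine ⟨dg a a⁻¹, ue * wm, ?_⟩
  set M : Subgroup Γ := _root_.Subgroup.closure ({cj (dg a a⁻¹), cj (ue * wm) * γ ^ (2 * j)} : Set Γ) with hM
  set H := M.comap cj with hH
  have hh : dg a a⁻¹ ∈ H := mem_comap.2 (_root_.Subgroup.subset_closure (by simp))
  have hy : cj (ue * wm) * γ ^ (2 * j) ∈ M := _root_.Subgroup.subset_closure (by simp)
  set b : Fˣ := a ^ (2 ^ j) with hb
  have hne := two_ne cj h3 ha j
  -- `u h₁ u ∈ H`
  have hK : ue * (dg b b * ue) ∈ H := by
    have h1 := M.mul_mem (M.mul_mem hy (mem_comap.1 hh)) (M.inv_mem hy)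
    have h2 : cj (ue * wm) * γ ^ (2 * j) * cj (dg a a⁻¹) * (cj (ue * wm) * γ ^ (2 * j))⁻¹ =
        cj (ue * (dg b b * ue)) := by
      have h4 : cj (ue * wm) * γ ^ (2 * j) * cj (dg a a⁻¹) * (cj (ue * wm) * γ ^ (2 * j))⁻¹ =
          cj (ue * wm) * (γ ^ (2 * j) * cj (dg a a⁻¹) * (γ ^ (2 * j))⁻¹) * (cj (ue * wm))⁻¹ := by group
      rw [h4, conj_even cj γ hγ, fr_dg, ← map_inv, ← map_mul, ← map_mul]
      congr 1
      have h5 : wm * dg (a ^ (2 ^ j)) (a⁻¹ ^ (2 ^ j)) = dg b b * wm := by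
        rw [wm_dg, inv_pow, inv_inv]
      calc ue * wm * dg (a ^ (2 ^ j)) (a⁻¹ ^ (2 ^ j)) * (ue * wm)⁻¹
          = ue * (wm * dg (a ^ (2 ^ j)) (a⁻¹ ^ (2 ^ j))) * (ue * wm)⁻¹ := by group
        _ = ue * (dg b b * wm) * (ue * wm)⁻¹ := by rw [h5]
        _ = ue * (dg b b * ue⁻¹) := by group
        _ = ue * (dg b b * ue) := by rw [inv_eq_of_mul_eq_one_left ue_sq]
    rw [h2] at h1
    exact mem_comap.2 h1
  have h0 : ∀ c : F, transv (v4 1 0 0 0) c ∈ H := by
    refine transv_e_mem_of ha hh (mul_ne_zero hne.1 hne.2) ?_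
    have h1 := H.mul_mem (H.mul_mem hh hK) (H.inv_mem (H.mul_mem hK hh))
    rw [even_rel a b, mul_assoc, mul_inv_cancel, mul_one] at h1
    exact h1
  -- the element `σ'`
  have hs : cj (S 1 * wm) * γ ^ (2 * j) ∈ M := by
    have h1 := M.mul_mem (M.inv_mem (mem_comap.1 (h0 1))) hy
    have h2 : (cj (transv (v4 1 0 0 0) 1))⁻¹ * (cj (ue * wm) * γ ^ (2 * j)) = cj (S 1 * wm) * γ ^ (2 * j) := by
      unfold ue
      rw [map_mul, map_mul, map_mul]
      group
    rwa [h2] at h1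
  have hstep : ∀ {p q r s : F}, (∀ c : F, transv (v4 p q r s) c ∈ H) → frv j (v4 p q r s) = v4 p q r s →
      ∀ c : F, transv (v4 (s + r) (p + q) q r) c ∈ H := by
    intro p q r s hv hf c
    have h1 := x_semi cj γ hγ hs hv c
    rw [hf, coe_mul_mulVec, wm_mulVec, S_mv] at h1
    simp only [v4_0, v4_1, v4_2, v4_3, one_mul] at h1
    exact h1
  have hz : (0 : F) ^ (2 ^ j) = 0 := zero_pow (by positivity)
  have h1 : ∀ c : F, transv (v4 0 1 0 0) c ∈ H := by
    have := hstep h0 (by rw [frv_v4, one_pow, hz])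
    simpa using this
  have h2 : ∀ c : F, transv (v4 0 1 1 0) c ∈ H := by
    have := hstep h1 (by rw [frv_v4, one_pow, hz])
    simpa using this
  have h3' : ∀ c : F, transv (v4 1 1 1 1) c ∈ H := by
    have := hstep h2 (by rw [frv_v4, one_pow, hz])
    simpa using this
  have h2' : (1 : F) + 1 = 0 := CharTwo.add_self_eq_zero 1
  have h4 : ∀ c : F, transv (v4 0 0 1 1) c ∈ H := by
    have := hstep h3' (by rw [frv_v4, one_pow])
    simpa [h2'] using this
  have h5 : ∀ c : F, transv (v4 0 0 0 1) c ∈ H := by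
    have := hstep h4 (by rw [frv_v4, one_pow, hz])
    simpa [h2'] using this
  -- the remaining basis vector
  have ha1 : (a : F) + 1 ≠ 0 := by
    intro h0
    apply hne.1
    have h6 : (a : F) ^ 2 + 1 = ((a : F) + 1) ^ 2 := by rw [CharTwo.add_sq, one_pow]
    rw [h6, h0, zero_pow (by norm_num)]
  have h6 : ∀ c : F, transv (v4 0 (a : F) 1 0) c ∈ H :=
    planeB h1 h5 0 1 h2 (Or.inl one_ne_zero) _ _ (Or.inl a.ne_zero)
  have h7 : ∀ c : F, transv (v4 1 1 1 0) c ∈ H := by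
    intro c
    have := x_conj (h2 1) h0 c
    rw [transv_v4] at this
    simpa using this
  have h8 : ∀ c : F, transv (v4 1 (1 + (a : F)) 0 0) c ∈ H := by
    intro c
    have := x_conj (h6 1) h7 c
    rw [transv_v4] at this
    simp only [mul_zero, zero_mul, mul_one, one_mul, add_zero, zero_add, h2'] at this
    exact this
  have h9 : ∀ c : F, transv (v4 1 1 0 0) c ∈ H :=
    planeB h1 h5 1 0 h8 (Or.inl (by rwa [add_comm])) 1 0 (Or.inl one_ne_zero)
  have h10 : ∀ c : F, transv (v4 1 0 1 0) c ∈ H := by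
    intro c
    have := x_conj (h9 1) h2 c
    rw [transv_v4] at this
    simpa [h2'] using this
  have h11 : ∀ c : F, transv (v4 0 0 1 0) c ∈ H := by
    intro c
    have := x_conj (h0 1) h10 c
    rw [t_mv] at this
    simpa [h2'] using this
  have htop : H = ⊤ := top_of h0 h1 h11 h5 (Or.inl one_ne_zero) (Or.inl one_ne_zero) h9
  rintro _ ⟨A, rfl⟩
  have : A ∈ H := by rw [htop]; exact mem_top A
  exact mem_comap.1 this

/-- The odd case. -/
theorem odd_case [Fintype F] (h3 : 3 ≤ Fintype.card F) (hγ : ∀ A, γ * cj A * γ⁻¹ = cj (graphHom F A)) (j : ℕ) :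
    ∃ A B : Matrix.symplecticGroup (Fin 2) F, cj.range ≤ _root_.Subgroup.closure ({cj A, cj B * γ ^ (2 * j + 1)} : Set Γ) := by
  obtain ⟨a, ha⟩ := IsCyclic.exists_generator (α := Fˣ)
  refine ⟨dg a 1, transv (v4 1 0 0 0) 1 * pm, ?_⟩
  set M : Subgroup Γ := _root_.Subgroup.closure ({cj (dg a 1), cj (transv (v4 1 0 0 0) 1 * pm) * γ ^ (2 * j + 1)} : Set Γ) with hM
  set H := M.comap cj with hH
  have hh : dg a 1 ∈ H := mem_comap.2 (_root_.Subgroup.subset_closure (by simp))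
  have hy : cj (transv (v4 1 0 0 0) 1 * pm) * γ ^ (2 * j + 1) ∈ M := _root_.Subgroup.subset_closure (by simp)
  set b : Fˣ := a ^ (2 ^ j) with hb
  have hne := two_ne cj h3 ha j
  have hodd : ∀ A, γ ^ (2 * j + 1) * cj A * (γ ^ (2 * j + 1))⁻¹ = cj (fr j (graphHom F A)) := by
    intro A
    rw [← conj_even cj γ hγ, ← hγ, pow_succ]
    group
  set t1 : Matrix.symplecticGroup (Fin 2) F := transv (v4 1 0 0 0) 1 with ht1
  have hK : t1 * (dg b b⁻¹ * t1) ∈ H := by
    have h1 := M.mul_mem (M.mul_mem hy (mem_comap.1 hh)) (M.inv_mem hy)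
    have h2 : cj (t1 * pm) * γ ^ (2 * j + 1) * cj (dg a 1) * (cj (t1 * pm) * γ ^ (2 * j + 1))⁻¹ =
        cj (t1 * (dg b b⁻¹ * t1)) := by
      have h4 : cj (t1 * pm) * γ ^ (2 * j + 1) * cj (dg a 1) * (cj (t1 * pm) * γ ^ (2 * j + 1))⁻¹ =
          cj (t1 * pm) * (γ ^ (2 * j + 1) * cj (dg a 1) * (γ ^ (2 * j + 1))⁻¹) * (cj (t1 * pm))⁻¹ := by group
      rw [h4, hodd, graph_dg, fr_dg, ← map_inv, ← map_mul, ← map_mul]
      congr 1
      have h5 : pm * dg ((a * 1) ^ (2 ^ j)) ((a * 1⁻¹) ^ (2 ^ j)) = dg b b⁻¹ * pm := by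
        rw [pm_dg, inv_one, mul_one]
      calc t1 * pm * dg ((a * 1) ^ (2 ^ j)) ((a * 1⁻¹) ^ (2 ^ j)) * (t1 * pm)⁻¹
          = t1 * (pm * dg ((a * 1) ^ (2 ^ j)) ((a * 1⁻¹) ^ (2 ^ j))) * (t1 * pm)⁻¹ := by group
        _ = t1 * (dg b b⁻¹ * pm) * (t1 * pm)⁻¹ := by rw [h5]
        _ = t1 * (dg b b⁻¹ * t1⁻¹) := by group
        _ = t1 * (dg b b⁻¹ * t1) := by rw [inv_eq_of_mul_eq_one_left t_sq]
    rw [h2] at h1
    exact mem_comap.2 h1
  have h0 : ∀ c : F, transv (v4 1 0 0 0) c ∈ H := by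
    refine transv_e_mem_of ha hh (mul_ne_zero hne.1 hne.2) ?_
    have h1 := H.mul_mem (H.mul_mem hh hK) (H.inv_mem (H.mul_mem hK hh))
    rw [ht1, odd_rel a b, mul_assoc, mul_inv_cancel, mul_one] at h1
    exact h1
  -- the element `σ`
  have hs : cj pm * γ ^ (2 * j + 1) ∈ M := by
    have h1 := M.mul_mem (M.inv_mem (mem_comap.1 (h0 1))) hy
    have h2 : (cj (transv (v4 1 0 0 0) 1))⁻¹ * (cj (t1 * pm) * γ ^ (2 * j + 1)) = cj pm * γ ^ (2 * j + 1) := by
      rw [← ht1, map_mul, ← mul_assoc, ← mul_assoc, inv_mul_cancel, one_mul]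
    rwa [h2] at h1
  have hz : ∀ n : ℕ, (0 : F) ^ (2 ^ n) = 0 := fun n => zero_pow (by positivity)
  -- `σ ^ 2`
  have hs2 : cj (pm * rm) * γ ^ (2 * (2 * j + 1)) ∈ M := by
    have h1 := M.mul_mem hs hs
    have h2 : cj pm * γ ^ (2 * j + 1) * (cj pm * γ ^ (2 * j + 1)) = cj (pm * rm) * γ ^ (2 * (2 * j + 1)) := by
      have h4 : cj pm * γ ^ (2 * j + 1) * (cj pm * γ ^ (2 * j + 1)) =
          cj pm * (γ ^ (2 * j + 1) * cj pm * (γ ^ (2 * j + 1))⁻¹) * (γ ^ (2 * j + 1) * γ ^ (2 * j + 1)) := by group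
      have h5 : fr j (rm : Matrix.symplecticGroup (Fin 2) F) = rm := by
        apply Subtype.ext
        ext i k
        rw [fr_coe]
        unfold rm
        rcases i with i | i <;> rcases k with k | k <;> (revert i k; simp only [_root_.Fin.forall_fin_succ, _root_.Matrix.of_apply, _root_.Sum.elim_inl, _root_.Matrix.cons_val', _root_.Matrix.cons_val_fin_one, Fin.isValue, _root_.Cfsg.Agent.H875.DG.SpCore.v4_0, _root_.Fin.succ_zero_eq_one, _root_.Cfsg.Agent.H875.DG.SpCore.v4_1, _root_.IsEmpty.forall_iff, _root_.and_true, _root_.Matrix.cons_val_zero, _root_.ne_eq, _root_.Nat.pow_eq_zero, _root_.OfNat.ofNat_ne_zero, _root_.false_and, _root_.not_false_eq_true, _root_.zero_pow, _root_.one_pow, _root_.and_self, _root_.Matrix.cons_val_succ, _root_.implies_true, _root_.Cfsg.Agent.H875.DG.SpCore.v4_2, _root_.Cfsg.Agent.H875.DG.SpCore.v4_3, _root_.Sum.elim_inr])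
      rw [h4, hodd, graph_pm, h5, ← map_mul, ← pow_add]
      congr 2
      omega
    rwa [h2] at h1
  have hstep : ∀ {p q r s : F}, (∀ c : F, transv (v4 p q r s) c ∈ H) → frv (2 * j + 1) (v4 p q r s) = v4 p q r s →
      ∀ c : F, transv (v4 q r s p) c ∈ H := by
    intro p q r s hv hf c
    have h1 := x_semi cj γ hγ hs2 hv c
    rw [hf, coe_mul_mulVec, rm_mulVec, pm_mulVec] at h1
    simp only [v4_0, v4_1, v4_2, v4_3, one_mul] at h1
    exact h1
  have h1 : ∀ c : F, transv (v4 0 0 0 1) c ∈ H := by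
    have := hstep h0 (by rw [frv_v4, one_pow, hz])
    simpa using this
  have h2 : ∀ c : F, transv (v4 0 0 1 0) c ∈ H := by
    have := hstep h1 (by rw [frv_v4, one_pow, hz])
    simpa using this
  have h3' : ∀ c : F, transv (v4 0 1 0 0) c ∈ H := by
    have := hstep h2 (by rw [frv_v4, one_pow, hz])
    simpa using this
  -- the short root element
  have hD : pm * S 1 * pm ∈ H := by
    have h4 := M.mul_mem (M.mul_mem hs (mem_comap.1 (h0 1))) (M.inv_mem hs)
    have h5 : cj pm * γ ^ (2 * j + 1) * cj (transv (v4 1 0 0 0) 1) * (cj pm * γ ^ (2 * j + 1))⁻¹ =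
        cj (pm * S 1 * pm) := by
      have h6 : cj pm * γ ^ (2 * j + 1) * cj (transv (v4 1 0 0 0) 1) * (cj pm * γ ^ (2 * j + 1))⁻¹ =
          cj pm * (γ ^ (2 * j + 1) * cj (transv (v4 1 0 0 0) 1) * (γ ^ (2 * j + 1))⁻¹) * (cj pm)⁻¹ := by group
      have h7 : fr j (S 1 : Matrix.symplecticGroup (Fin 2) F) = S 1 := by
        apply Subtype.ext
        ext i k
        rw [fr_coe, S_coe]
        rcases i with i | i <;> rcases k with k | k <;> (revert i k; simp only [_root_.Fin.forall_fin_succ, Fin.isValue, _root_.Matrix.of_apply, reduceCtorEq, ↓reduceIte, _root_.Sum.inl.injEq, _root_.Sum.inr.injEq, _root_.zero_add, _root_.zero_ne_one, _root_.and_false, _root_.and_true, _root_.ite_pow, _root_.one_pow, _root_.ne_eq, _root_.Nat.pow_eq_zero, _root_.OfNat.ofNat_ne_zero, _root_.false_and, _root_.not_false_eq_true, _root_.zero_pow, _root_.Fin.succ_ne_zero, _root_.add_zero, _root_.implies_true, _root_.and_self])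
      rw [h6, hodd, ← e1_eq, graphHom_transv, h7, ← map_inv, ← map_mul, ← map_mul, inv_eq_of_mul_eq_one_left pm_sq]
    rw [h5] at h4
    exact mem_comap.2 h4
  have h8 : ∀ c : F, transv (v4 0 0 1 1) c ∈ H := by
    intro c
    have := x_conj hD h2 c
    rw [coe_mul_mulVec, coe_mul_mulVec, pm_mulVec, S_mv, pm_mulVec] at this
    simpa using this
  have htop : H = ⊤ := top_of h0 h3' h2 h1 (Or.inr one_ne_zero) (Or.inr one_ne_zero) h8
  rintro _ ⟨A, rfl⟩
  have : A ∈ H := by rw [htop]; exact mem_top A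
  exact mem_comap.1 this

end abstr

end Cfsg.Agent.H875.DG.SpCore
end

-- part: H875/DG/Sp4Even
section
/-!
# TEAM GEN, S4180, row C7: `Cos2` for `PSp_4(2^f)`, `f ≥ 2` (helper875)

`cos2_psp4_even` : `Cos2 T` for `T ≅ PSp_4(F)`, `F` a finite field of characteristic 2 with more than two elements.
-/

set_option autoImplicit false

namespace Cfsg.Agent.H875.DG.Sp4Even

open Cfsg.Agent.H440.TwoGen Cfsg.Agent.H891.Gen Cfsg.Agent.H891.DG Cfsg.Agent.H891.DG.Nielsen Subgroup
open Cfsg.Agent.ClassicalGeometry.Sp4Graph Cfsg.Agent.ClassicalGeometry.SympBasic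
open Cfsg.Agent.ClassicalGeometry.Sp4GraphAut
open Cfsg.Agent.H875.DG.SpCore

universe u v

/-- `Cos2` is invariant under isomorphisms. -/
theorem cos2_equiv {S : Type u} {T : Type v} [Group S] [Group T] (e : S ≃* T) (h : Cos2 T) : Cos2 S := by
  intro x y
  obtain ⟨_, ⟨s, rfl⟩, _, ⟨t, rfl⟩, hle⟩ := h (MulAut.congr e x) (MulAut.congr e y)
  have key : ∀ s : S, MulAut.congr e (MulAut.conj s) = MulAut.conj (e s) := by
    intro s
    apply MulEquiv.ext
    intro z
    simp only [MulAut.congr, MulAut.conj_apply, _root_.MulAut.congr, _root_.MulEquiv.coe_mk, _root_.Equiv.coe_fn_mk, _root_.MulEquiv.trans_apply, _root_.MulAut.conj_apply, _root_.map_mul, _root_.MulEquiv.apply_symm_apply, _root_.map_inv]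
  refine ⟨MulAut.conj (e.symm s), ⟨_, rfl⟩, MulAut.conj (e.symm t), ⟨_, rfl⟩, ?_⟩
  have h2 : (_root_.Subgroup.closure ({x * MulAut.conj (e.symm s), y * MulAut.conj (e.symm t)} : Set (MulAut S))).map
      (MulAut.congr e).toMonoidHom = _root_.Subgroup.closure ({MulAut.congr e x * MulAut.conj s, MulAut.congr e y * MulAut.conj t} :
        Set (MulAut T)) := by
    rw [MonoidHom.map_closure, Set.image_pair]
    change _root_.Subgroup.closure ({MulAut.congr e (x * MulAut.conj (e.symm s)), MulAut.congr e (y * MulAut.conj (e.symm t))} :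
      Set (MulAut T)) = _
    rw [map_mul, map_mul, key, key, e.apply_symm_apply, e.apply_symm_apply]
  rintro _ ⟨a, rfl⟩
  have h3 := hle ⟨e a, rfl⟩
  rw [← key, ← h2] at h3
  obtain ⟨b, hb, hb2⟩ := h3
  have h4 : b = MulAut.conj a := (MulAut.congr e).injective hb2
  rwa [h4] at hb

section even

variable {F : Type v} [Field F] [Fintype F] [CharP F 2]

/-- Every automorphism of `PSp_4(2^f)` is a product of a power of the graph automorphism and an inner
automorphism. -/
theorem exists_gamma_pow (y : MulAut (PSp 2 F)) :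
    ∃ k : ℕ, (gamma F ^ k)⁻¹ * y ∈ (MulAut.conj : PSp 2 F →* MulAut (PSp 2 F)).range := by
  obtain ⟨f, hF⟩ : ∃ f : ℕ, Fintype.card F = 2 ^ f := by
    obtain ⟨n, -, hn⟩ := FiniteField.card F 2
    exact ⟨n, hn⟩
  have hf : 1 ≤ f := by
    have h1 : 1 < Fintype.card F := Fintype.one_lt_card
    rcases Nat.eq_zero_or_pos f with rfl | h
    · rw [hF, pow_zero] at h1
      omega
    · exact h
  have hfin : Finite (PSp 2 F) := Finite.of_surjective _ (QuotientGroup.mk_surjective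
    (s := Subgroup.center (Matrix.symplecticGroup (Fin 2) F)))
  have hfinA : Finite (MulAut (PSp 2 F)) :=
    Finite.of_injective (fun α : MulAut (PSp 2 F) => (α : PSp 2 F → PSp 2 F))
      (fun α β h => MulEquiv.ext fun x => congrFun h x)
  have hfinO : Finite (Cfsg.Out (PSp 2 F)) := inferInstance
  set g : Cfsg.Out (PSp 2 F) := QuotientGroup.mk (gamma F) with hg
  have hdvd : 2 * f ∣ orderOf g := by
    have h1 : gamma F ^ (orderOf g) ∈ Cfsg.Inn (PSp 2 F) := by
      rw [← QuotientGroup.eq_one_iff, QuotientGroup.mk_pow]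
      exact pow_orderOf_eq_one g
    rcases Nat.even_or_odd' (orderOf g) with ⟨j, hj | hj⟩
    · rw [hj] at h1 ⊢
      exact Nat.mul_dvd_mul_left 2 (Cfsg.Agent.H183.OutSp4.dvd_of_pow_eq hf hF
        (fun t => Cfsg.Agent.H183.OutSp4.pow_eq_of_inn h1 t))
    · exfalso
      rw [hj] at h1
      exact Cfsg.Agent.H183.OutSp4.gamma_pow_odd_not_inn j h1
  have hcard := (Cfsg.Agent.H183.OutSp4.out_psp4 hf hF).2
  have htop : zpowers g = ⊤ := by
    apply Subgroup.eq_top_of_card_eq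
    rw [Nat.card_zpowers, hcard]
    exact le_antisymm (by rw [← hcard]; exact Nat.le_of_dvd Nat.card_pos (_root_.orderOf_dvd_natCard g))
      (Nat.le_of_dvd ((orderOf_pos g :)) hdvd)
  have h1 : (QuotientGroup.mk y : Cfsg.Out (PSp 2 F)) ∈ Submonoid.powers g := by
    rw [mem_powers_iff_mem_zpowers, htop]
    exact mem_top _
  obtain ⟨k, hk⟩ := h1
  refine ⟨k, ?_⟩
  have h2 : (QuotientGroup.mk (gamma F ^ k) : Cfsg.Out (PSp 2 F)) = QuotientGroup.mk y := hk
  exact QuotientGroup.eq.1 h2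

/-- `Cos2` for `PSp_4(2^f)`, `f ≥ 2`. -/
theorem cos2_psp4 (h3 : 3 ≤ Fintype.card F) : Cos2 (PSp 2 F) := by
  have hfin : Finite (PSp 2 F) := Finite.of_surjective _ (QuotientGroup.mk_surjective
    (s := Subgroup.center (Matrix.symplecticGroup (Fin 2) F)))
  have hfinA : Finite (MulAut (PSp 2 F)) :=
    Finite.of_injective (fun α : MulAut (PSp 2 F) => (α : PSp 2 F → PSp 2 F))
      (fun α β h => MulEquiv.ext fun x => congrFun h x)
  have hfinO : Finite (Cfsg.Out (PSp 2 F)) := inferInstance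
  have hcyc : IsCyclic (Cfsg.Out (PSp 2 F)) := by
    obtain ⟨n, -, hn⟩ := FiniteField.card F 2
    exact (Cfsg.Agent.H183.OutSp4.out_psp4 n.2 hn).1
  refine cos2_of_ker (QuotientGroup.mk' (Cfsg.Inn (PSp 2 F))) ?_
  intro x y hx
  have hx' : x ∈ (MulAut.conj : PSp 2 F →* MulAut (PSp 2 F)).range := (QuotientGroup.eq_one_iff x).1 hx
  obtain ⟨k, hk⟩ := exists_gamma_pow y
  have hN := inn_normal (PSp 2 F)
  refine Lift.congr (x := 1) (y := gamma F ^ k) ?_ ?_ ?_
  · rw [mul_one]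
    exact inv_mem hx'
  · have := inv_mem hk
    rwa [mul_inv_rev, inv_inv] at this
  set cj : Matrix.symplecticGroup (Fin 2) F →* MulAut (PSp 2 F) :=
    (MulAut.conj : PSp 2 F →* MulAut (PSp 2 F)).comp
      (QuotientGroup.mk' (Subgroup.center (Matrix.symplecticGroup (Fin 2) F))) with hcj
  have hr : cj.range = (MulAut.conj : PSp 2 F →* MulAut (PSp 2 F)).range := by
    rw [hcj, MonoidHom.range_comp, MonoidHom.range_eq_top.2 (QuotientGroup.mk'_surjective _),
      ← MonoidHom.range_eq_map]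
  have hγ : ∀ A, gamma F * cj A * (gamma F)⁻¹ = cj (graphHom F A) := by
    intro A
    apply MulEquiv.ext
    intro z
    change gamma F (QuotientGroup.mk A * (gamma F)⁻¹ z * (QuotientGroup.mk A)⁻¹) =
      QuotientGroup.mk (graphHom F A) * z * (QuotientGroup.mk (graphHom F A))⁻¹
    rw [map_mul, map_mul, map_inv, gamma_mk]
    have : gamma F ((gamma F)⁻¹ z) = z := MulEquiv.apply_symm_apply (gamma F) z
    rw [this]
  have hfinal : ∀ A B : Matrix.symplecticGroup (Fin 2) F,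
      cj.range ≤ _root_.Subgroup.closure ({cj A, cj B * gamma F ^ k} : Set (MulAut (PSp 2 F))) →
      Lift (MulAut.conj : PSp 2 F →* MulAut (PSp 2 F)).range 1 (gamma F ^ k) := by
    intro A B h
    refine ⟨cj A, ⟨_, rfl⟩, (gamma F ^ k)⁻¹ * cj B * gamma F ^ k, ?_, ?_⟩
    · have := hN.conj_mem (cj B) ⟨_, rfl⟩ (gamma F ^ k)⁻¹
      rwa [inv_inv] at this
    · rw [one_mul, ← hr]
      have e : gamma F ^ k * ((gamma F ^ k)⁻¹ * cj B * gamma F ^ k) = cj B * gamma F ^ k := by group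
      rwa [e]
  rcases Nat.even_or_odd' k with ⟨j, rfl | rfl⟩
  · obtain ⟨A, B, h⟩ := even_case cj (gamma F) h3 hγ j
    exact hfinal A B h
  · obtain ⟨A, B, h⟩ := odd_case cj (gamma F) h3 hγ j
    exact hfinal A B h

/-- Row C7 of S4180. -/
theorem cos2_psp4_even {T : Type u} [Group T] (h3 : 3 ≤ Fintype.card F) (e : Nonempty (T ≃* PSp 2 F)) : Cos2 T := by
  obtain ⟨e⟩ := e
  exact cos2_equiv e (cos2_psp4 h3)

end even

/-- The same, with `Even (Fintype.card F)` in place of `CharP F 2`. -/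
theorem cos2_psp4_even' {T : Type u} [Group T] (F : Type v) [Field F] [Fintype F] (hev : Even (Fintype.card F))
    (h3 : 3 ≤ Fintype.card F) (e : Nonempty (T ≃* PSp 2 F)) : Cos2 T := by
  obtain ⟨p, hp⟩ := CharP.exists F
  have hpp : Fact p.Prime := ⟨CharP.char_is_prime F p⟩
  obtain ⟨n, -, hn⟩ := FiniteField.card F p
  have h2 : p = 2 := by
    rw [hn] at hev
    have h4 : 2 ∣ p := Nat.prime_two.dvd_of_dvd_pow hev.two_dvd
    exact ((Nat.prime_dvd_prime_iff_eq Nat.prime_two hpp.out).1 h4).symm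
  subst h2
  exact cos2_psp4_even h3 e

end Cfsg.Agent.H875.DG.Sp4Even
end

-- part: H306/DG/GenFrame
section
/-!
# Monomial semi-isometries of a Witt basis (helper306, S4180 C8)
-/

set_option autoImplicit false

namespace Cfsg.Agent.H306.DG.PSU

open Cfsg Cfsg.Agent.LieClassical.HermBasic Cfsg.Agent.LieClassical.HermSiegel
  Cfsg.Agent.LieClassical.HermGen Cfsg.Agent.LieClassical.SUBasic
  Cfsg.Agent.ClassicalGeometry.PSUAutCount Cfsg.Agent.ClassicalGeometry.UnitAutBasic Matrix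
open Cfsg.Agent.H903.SylSemi Cfsg.Agent.H177.MeetPSU Cfsg.Agent.H137.Herm Cfsg.Agent.H450.GenU

variable {F : Type} [Field F] {n q : ℕ} {ι : Type} [DecidableEq ι] [Fintype ι] {σ : ι → ι}
  {v : ι → Fin n → F}

theorem SI.sum {ρ : F ≃+* F} {y : Equiv.Perm (Fin n → F)} (h : SI n q ρ y) {κ : Type} (s : Finset κ)
    (f : κ → Fin n → F) : y (∑ i ∈ s, f i) = ∑ i ∈ s, y (f i) := by
  classical
  have h0 : y 0 = 0 := by
    have := h.smul 0 (0 : Fin n → F)
    rwa [zero_smul, map_zero ρ, zero_smul] at this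
  induction s using Finset.induction_on with
  | empty => rw [Finset.sum_empty, Finset.sum_empty, h0]
  | insert a s ha ih => rw [Finset.sum_insert ha, Finset.sum_insert ha, h.add, ih]

/-- Two `ρ`-semilinear isometries which agree on a Witt basis are equal. -/
theorem witt_ext (W : Witt q σ v) (hc : Fintype.card ι = n) {ρ : F ≃+* F} {y y' : Equiv.Perm (Fin n → F)}
    (h : SI n q ρ y) (h' : SI n q ρ y') (he : ∀ i, y (v i) = y' (v i)) : y = y' := by
  ext1 x
  rw [W.expand hc x, SI.sum h, SI.sum h']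
  exact Finset.sum_congr rfl fun i _ => by rw [h.smul, h'.smul, he]

/-- Monomial semi-isometries. -/
theorem exists_smono [Fintype F] (hF : Fintype.card F = q ^ 2) (ρ : F ≃+* F) (W : Witt q σ v)
    (hc : Fintype.card ι = n) (π : Equiv.Perm ι) (hπ : ∀ i, σ (π i) = π (σ i)) (γ : ι → F)
    (hγ : ∀ i, γ i * γ (σ i) ^ q = 1) :
    ∃ y : Equiv.Perm (Fin n → F), SI n q ρ y ∧ ∀ i, y (v i) = γ i • v (π i) := by
  let Y : (Fin n → F) → (Fin n → F) := fun x =>
    ∑ i, ρ (hermForm n F q x (v (σ i))) • γ i • v (π i)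
  have hY : ∀ x, Y x = ∑ i, ρ (hermForm n F q x (v (σ i))) • γ i • v (π i) := fun _ => rfl
  have hadd : ∀ a b, Y (a + b) = Y a + Y b := by
    intro a b
    rw [hY, hY, hY, ← Finset.sum_add_distrib]
    exact Finset.sum_congr rfl fun i _ => by rw [herm_add_left, map_add, add_smul]
  have hsmul : ∀ (c : F) a, Y (c • a) = ρ c • Y a := by
    intro c a
    rw [hY, hY, Finset.smul_sum]
    exact Finset.sum_congr rfl fun i _ => by rw [herm_smul_left, map_mul, mul_smul]
  have hYv : ∀ i, Y (v i) = γ i • v (π i) := by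
    intro i
    rw [hY, Finset.sum_eq_single i]
    · rw [W.gram, if_pos rfl, map_one, one_smul]
    · intro j _ hj
      rw [W.gram, if_neg, map_zero, zero_smul]
      intro h
      apply hj
      rw [← W.inv j, h, W.inv]
    · intro h
      exact absurd (Finset.mem_univ i) h
  have hY0 : Y 0 = 0 := by
    have := hsmul 0 0
    rwa [zero_smul, map_zero, zero_smul] at this
  have hYsum : ∀ (s : Finset ι) (f : ι → Fin n → F), Y (∑ i ∈ s, f i) = ∑ i ∈ s, Y (f i) := by
    intro s f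
    induction s using Finset.induction_on with
    | empty => rw [Finset.sum_empty, Finset.sum_empty, hY0]
    | insert a s ha ih => rw [Finset.sum_insert ha, Finset.sum_insert ha, hadd, ih]
  have hherm : ∀ a b, hermForm n F q (Y a) (Y b) = ρ (hermForm n F q a b) := by
    intro a b
    have key : ∀ i j, hermForm n F q (Y (v i)) (Y (v j)) = ρ (hermForm n F q (v i) (v j)) := by
      intro i j
      rw [hYv, hYv, herm_smul_left, herm_smul_right, W.gram, W.gram, hπ]
      by_cases h : j = σ i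
      · rw [if_pos (by rw [h]), if_pos h, h, mul_one, hγ, map_one]
      · rw [if_neg (fun h' => h (π.injective h')), if_neg h, mul_zero, mul_zero, map_zero]
    conv_rhs => rw [W.expand hc a, W.expand hc b]
    conv_lhs => rw [W.expand hc a, W.expand hc b]
    rw [hYsum, hYsum, herm_sum_left, herm_sum_left, map_sum]
    refine Finset.sum_congr rfl fun i _ => ?_
    rw [herm_sum_right hF, herm_sum_right hF, map_sum]
    refine Finset.sum_congr rfl fun j _ => ?_
    rw [hsmul, hsmul, herm_smul_left, herm_smul_right, herm_smul_left, herm_smul_right, key, map_mul, map_mul,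
      map_pow]
  have hinj : Function.Injective Y := by
    intro a b hab
    have h1 : ∀ w, hermForm n F q a w = hermForm n F q b w := by
      intro w
      apply ρ.injective
      rw [← hherm, ← hherm, hab]
    rw [W.expand hc a, W.expand hc b]
    exact Finset.sum_congr rfl fun i _ => by rw [h1]
  exact ⟨Equiv.ofBijective Y (Finite.injective_iff_bijective.1 hinj), ⟨⟨hadd, hsmul⟩, hherm⟩, hYv⟩

/-- The determinant of a monomial map. -/
theorem witt_dt (W : Witt q σ v) (hc : Fintype.card ι = n) {y : Equiv.Perm (Fin n → F)}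
    (hy : SI n q (1 : F ≃+* F) y) (π : Equiv.Perm ι) (γ : ι → F) (h : ∀ i, y (v i) = γ i • v (π i)) :
    Dt y (((Equiv.Perm.sign π : ℤ) : F) * ∏ i, γ i) := by
  obtain ⟨b, hb⟩ := W.exists_basis hc
  obtain ⟨L, hL⟩ : ∃ L : (Fin n → F) →ₗ[F] (Fin n → F), ∀ v, L v = y v :=
    ⟨{ toFun := y, map_add' := hy.add, map_smul' := hy.smul }, fun _ => rfl⟩
  refine ⟨L, hL, ?_⟩
  rw [← LinearMap.det_toMatrix b]
  have hM : LinearMap.toMatrix b b L =
      (Matrix.diagonal γ).submatrix (π⁻¹ : Equiv.Perm ι) id := by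
    ext i j
    rw [LinearMap.toMatrix_apply, hL, hb, h, map_smul, ← hb, b.repr_self,
      Matrix.submatrix_apply, Matrix.diagonal_apply, Finsupp.smul_apply, Finsupp.single_apply, id]
    by_cases h : π j = i
    · have h1 : (π⁻¹ : Equiv.Perm ι) i = j := by rw [← h]; simp
      rw [if_pos h, if_pos h1, h1, smul_eq_mul, mul_one]
    · have h1 : (π⁻¹ : Equiv.Perm ι) i ≠ j := by
        intro h2
        apply h
        rw [← h2]; simp
      rw [if_neg h, if_neg h1, smul_zero]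
  rw [hM, Matrix.det_permute, Matrix.det_diagonal, Equiv.Perm.sign_inv]

/-! ### general facts -/

theorem SI.semi_inv {y : Equiv.Perm (Fin n → F)} (h : SI n q (1 : F ≃+* F) y) : Semi F y⁻¹ (1 : F ≃+* F) := by
  have h1 := h.inv.1
  rwa [inv_one] at h1

theorem SI.inv1 {y : Equiv.Perm (Fin n → F)} (h : SI n q (1 : F ≃+* F) y) : SI n q (1 : F ≃+* F) y⁻¹ := by
  have := h.inv
  rwa [inv_one] at this

theorem SI.mul1 {y y' : Equiv.Perm (Fin n → F)} (h : SI n q (1 : F ≃+* F) y) (h' : SI n q (1 : F ≃+* F) y') :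
    SI n q (1 : F ≃+* F) (y * y') := by
  have := h.mul h'
  rwa [mul_one] at this

theorem SI.pow1 {y : Equiv.Perm (Fin n → F)} (h : SI n q (1 : F ≃+* F) y) (m : ℕ) :
    SI n q (1 : F ≃+* F) (y ^ m) := by
  induction m with
  | zero => rw [pow_zero]; exact SI.one
  | succ m ih => rw [pow_succ]; exact SI.mul1 ih h

variable [Fintype F]

omit [Fintype F] in
/-- Elements with the same determinant. -/
theorem exists_rho_mul {y y' : Equiv.Perm (Fin n → F)} {ρ : F ≃+* F} (hy : SI n q ρ y) (hy' : SI n q ρ y')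
    (h : Dt (y' * y⁻¹) 1) : ∃ s : SU n F q, y' = rho n F q s * y := by
  have h1 : SI n q (1 : F ≃+* F) (y' * y⁻¹) := by
    have := hy'.mul hy.inv
    rwa [mul_inv_cancel] at this
  obtain ⟨s, hs⟩ := exists_rho h1 h
  exact ⟨s, by rw [hs, inv_mul_cancel_right]⟩

omit [Fintype F] in
theorem exists_rho_mul1 {y y' : Equiv.Perm (Fin n → F)} (hy : SI n q (1 : F ≃+* F) y)
    (hy' : SI n q (1 : F ≃+* F) y') {δ : F} (h : Dt y δ) (h' : Dt y' δ) :
    ∃ s : SU n F q, y' = rho n F q s * y := by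
  refine exists_rho_mul hy hy' ?_
  have := h'.mul (h.inv (SI.semi_inv hy))
  rwa [mul_inv_cancel₀ (h'.ne_zero (SI.semi_inv hy'))] at this

end Cfsg.Agent.H306.DG.PSU
end

-- part: H306/DG/Shift
section
/-!
# Root subgroups and semilinear Weyl elements (helper306, S4180 C8)
-/

set_option autoImplicit false

namespace Cfsg.Agent.H306.DG.PSU

open Cfsg Cfsg.Agent.LieClassical.HermBasic Cfsg.Agent.LieClassical.HermSiegel
  Cfsg.Agent.LieClassical.HermGen Cfsg.Agent.LieClassical.SUBasic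
  Cfsg.Agent.ClassicalGeometry.PSUAutCount Cfsg.Agent.ClassicalGeometry.UnitAutBasic Matrix
open Cfsg.Agent.H903.SylSemi Cfsg.Agent.H177.MeetPSU Cfsg.Agent.H137.Herm Cfsg.Agent.H450.GenU

variable {F : Type} [Field F] [Fintype F] {n q : ℕ} {hF : Fintype.card F = q ^ 2}
  {M : Subgroup (MulAut (PSU n F q))} {ρ : F ≃+* F} {y w S : Equiv.Perm (Fin n → F)}

omit [Fintype F] in
theorem inv_apply_self' (y : Equiv.Perm (Fin n → F)) (x : Fin n → F) : y⁻¹ (y x) = x := by
  rw [← Equiv.Perm.mul_apply, inv_mul_cancel, Equiv.Perm.one_apply]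

omit [Fintype F] in
theorem apply_inv_self' (y : Equiv.Perm (Fin n → F)) (x : Fin n → F) : y (y⁻¹ x) = x := by
  rw [← Equiv.Perm.mul_apply, mul_inv_cancel, Equiv.Perm.one_apply]

/-- Conjugates of diagonal elements. -/
theorem conj_eig_semi (hw : SI n q ρ w) {x x' : Fin n → F} {g s : F} (hg : g ≠ 0)
    (hwx : w x = g • x') (hS1 : SI n q (1 : F ≃+* F) S) (hS : S x = s • x) :
    (w * S * w⁻¹) x' = ρ s • x' := by
  have h1 : (w * S * w⁻¹) (g • x') = ρ s • (g • x') := by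
    rw [← hwx, Equiv.Perm.mul_apply, inv_apply_self', Equiv.Perm.mul_apply, hS, hw.smul]
  have hI : SI n q (1 : F ≃+* F) (w * S * w⁻¹) := by
    have h := (hw.mul hS1).mul hw.inv
    rwa [mul_one, mul_inv_cancel] at h
  rw [hI.smul, RingAut.one_apply, smul_comm (ρ s) g x'] at h1
  have h2 := congrArg (fun t => g⁻¹ • t) h1
  simpa only [smul_smul, ← mul_assoc, inv_mul_cancel₀ hg, _root_.Equiv.Perm.coe_mul, _root_.Equiv.Perm.coe_inv, _root_.Function.comp_apply, _root_.one_smul, _root_.one_mul] using h2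

theorem full_semi {u : Fin n → F} (hyM : y ∈ LL M) (hy : SI n q ρ y) (h : Full hF (KK M) u) :
    Full hF (KK M) (y u) := by
  intro x ν hx
  have h2 : IsSiegel q u (y⁻¹ x) (ρ⁻¹ ν) := by
    have := isSiegel_map hy.inv hx
    rwa [inv_apply_self'] at this
  refine (SM_semi hyM hy (h _ _ h2)).congr rfl ?_ ?_
  · rw [apply_inv_self']
  · rw [← RingAut.mul_apply, mul_inv_cancel, RingAut.one_apply]

section Roots

variable {m : ℕ} {v : ZMod (2 * m) → Fin n → F} {γ : ZMod (2 * m) → F}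

theorem R_shift (hyM : y ∈ LL M) (hy : SI n q ρ y) (hγ : ∀ j, γ j ≠ 0)
    (hyv : ∀ j, y (v j) = γ j • v (j + 1)) {i j : ZMod (2 * m)} (h : R hF (KK M) v i j) :
    R hF (KK M) v (i + 1) (j + 1) := by
  intro b
  have hi : γ i ^ q ≠ 0 := pow_ne_zero _ (hγ i)
  have h1 := (SM_semi hyM hy (h (ρ.symm (b / (γ i ^ q * γ j))))).congr (hyv i) (by
    rw [hy.smul, hyv, RingEquiv.apply_symm_apply]) rfl
  refine (h1.smul (hγ i)).congr rfl ?_ (by rw [map_zero, mul_zero])
  rw [smul_smul, smul_smul]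
  congr 1
  have := hγ j
  field_simp

variable [NeZero m]

theorem shift_all {H : Subgroup (SU n F q)}
    (hsh : ∀ i j, R hF H v i j → R hF H v (i + 1) (j + 1))
    {i j : ZMod (2 * m)} (h : R hF H v i j) (k : ZMod (2 * m)) : R hF H v (i + k) (j + k) := by
  have hm : 0 < m := Nat.pos_of_ne_zero (NeZero.ne m)
  have : NeZero (2 * m) := ⟨by omega⟩
  have key : ∀ k : ℕ, R hF H v (i + (k : ZMod (2 * m))) (j + (k : ZMod (2 * m))) := by
    intro k
    induction k with
    | zero => simpa using h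
    | succ k ih =>
      have := hsh _ _ ih
      rwa [add_assoc, add_assoc, ← Nat.cast_succ] at this
  rw [← ZMod.natCast_zmod_val k]
  exact key _

theorem R_all {H : Subgroup (SU n F q)} (hm : 2 ≤ m) (hv : Std q v)
    (hsh : ∀ i j, R hF H v i j → R hF H v (i + 1) (j + 1))
    (h0 : R hF H v 0 ((m : ZMod (2 * m)) + 1)) (i j : ZMod (2 * m)) (hij : j ≠ i)
    (hij' : j ≠ i + (m : ZMod (2 * m))) : R hF H v i j := by
  have : NeZero (2 * m) := ⟨by omega⟩
  have A : ∀ k : ℕ, 1 ≤ k → k < m → R hF H v 0 ((m : ZMod (2 * m)) + (k : ZMod (2 * m))) := by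
    intro k hk
    induction k, hk using Nat.le_induction with
    | base => intro _; rw [Nat.cast_one]; exact h0
    | succ k hk ih =>
      intro hkm
      have ih' := ih (by omega)
      have h1 := (shift_all hsh h0 (k : ZMod (2 * m))).symm hv
      rw [zero_add] at h1
      have e1 : (m : ZMod (2 * m)) + 1 + (k : ZMod (2 * m)) =
          (m : ZMod (2 * m)) + ((k + 1 : ℕ) : ZMod (2 * m)) := by
        rw [Nat.cast_succ]; ring
      rw [e1] at h1
      rw [add_comm (m : ZMod (2 * m)) (k : ZMod (2 * m))] at ih'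
      refine R.comp hv h1 ih' ?_ ?_ ?_
      · rw [← Nat.cast_add, Ne, cast_inj (by omega) (by omega)]
        omega
      · rw [← Nat.cast_add, ← Nat.cast_zero, Ne, cast_inj (by omega) (by omega)]
        omega
      · rw [add_comm (m : ZMod (2 * m)), add_half_half, ← Nat.cast_zero, Ne,
          cast_inj (by omega) (by omega)]
        omega
  have B : ∀ j : ZMod (2 * m), j ≠ 0 → j ≠ (m : ZMod (2 * m)) → R hF H v 0 j := by
    intro j hj0 hjm
    have hlt := j.val_lt
    have hj := ZMod.natCast_zmod_val j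
    have h1 : j.val ≠ 0 := by
      intro h; rw [h, Nat.cast_zero] at hj; exact hj0 hj.symm
    have h2 : j.val ≠ m := by
      intro h; rw [h] at hj; exact hjm hj.symm
    by_cases h3 : m < j.val
    · have := A (j.val - m) (by omega) (by omega)
      rwa [← Nat.cast_add, show m + (j.val - m) = j.val by omega, hj] at this
    · have h4 := A (m - j.val) (by omega) (by omega)
      have e : (m : ZMod (2 * m)) + ((m - j.val : ℕ) : ZMod (2 * m)) = -j := by
        rw [Nat.cast_sub (by omega), hj]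
        linear_combination two_half (m := m)
      rw [e] at h4
      have h5 := shift_all hsh (h4.symm hv) j
      rwa [neg_add_cancel, zero_add] at h5
  have h1 := shift_all hsh (B (j - i) (sub_ne_zero.2 hij) (by
    intro h
    apply hij'
    rw [← h]; ring)) i
  rwa [zero_add, sub_add_cancel] at h1

omit [NeZero m] in
theorem full_shift (hyM : y ∈ LL M) (hy : SI n q ρ y) (hγ : ∀ j, γ j ≠ 0)
    (hyv : ∀ j, y (v j) = γ j • v (j + 1)) (h : Full hF (KK M) (v 0)) (k : ℕ) :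
    Full hF (KK M) (v (k : ZMod (2 * m))) := by
  induction k with
  | zero => rw [Nat.cast_zero]; exact h
  | succ k ih =>
    have h1 := full_semi hyM hy ih
    rw [hyv] at h1
    have h2 := h1.smul (inv_ne_zero (hγ (k : ZMod (2 * m))))
    rwa [smul_smul, inv_mul_cancel₀ (hγ _), one_smul, ← Nat.cast_succ] at h2

/-- The end of all cases. -/
theorem top_of_WS (hn : 3 ≤ n) (hv : Std q v) (hyM : y ∈ LL M) (hy : SI n q ρ y) (hγ : ∀ j, γ j ≠ 0)
    (hyv : ∀ j, y (v j) = γ j • v (j + 1))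
    (h : ∀ x, hermForm n F q x (v 0) = 0 → x ∈ WS hF (KK M) (v 0) (hv.iso 0)) : KK M = ⊤ := by
  have h0 : v 0 ≠ 0 := by
    intro h0
    have := hv.pair 0
    rw [h0, herm_zero_left] at this
    exact zero_ne_one this
  have hfull := full_of_WS hn (hv.iso 0) h0 h
  refine eq_top_of_full hn (hv.iso 0) (hv.iso (m : ZMod (2 * m))) ?_ hfull
    (full_shift hyM hy hγ hyv hfull m)
  have := hv.pair 0
  rw [zero_add] at this
  rw [this]
  exact one_ne_zero

end Roots

/-- **The torus trick** with a semilinear monomial element, isotropic root. -/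
theorem torus_semi0 {u r : Fin n → F} (hr : hermForm n F q r r = 0)
    (hSI : SI n q (1 : F ≃+* F) S) (hwI : SI n q ρ w) (hS : S ∈ LL M)
    (k : IsSiegel q u r 0) (hy : rho n F q (siegel hF u r 0 k) * w ∈ LL M)
    {s s' c c' : F} (hSu : S u = s • u) (hSr : S r = s' • r)
    (hwu : (w * S * w⁻¹) u = c • u) (hwr : (w * S * w⁻¹) r = c' • r)
    (hcomm : S * (w * S * w⁻¹) = (w * S * w⁻¹) * S) :
    SM hF (KK M) u (((s ^ q * s' - 1) * (1 - c ^ q * c')) • r) 0 := by
  set t := rho n F q (siegel hF u r 0 k) with ht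
  have hhI : SI n q (1 : F ≃+* F) (w * S * w⁻¹) := by
    have h := (hwI.mul hSI).mul hwI.inv
    rwa [mul_one, mul_inv_cancel] at h
  set h := w * S * w⁻¹ with hh
  have hb : S * ((t * w) * S * (t * w)⁻¹) * S⁻¹ * ((t * w) * S * (t * w)⁻¹)⁻¹ ∈ LL M := by
    have h1 := mul_mem (mul_mem hy hS) (inv_mem hy)
    exact mul_mem (mul_mem (mul_mem hS h1) (inv_mem hS)) (inv_mem h1)
  have hsplit : S * ((t * w) * S * (t * w)⁻¹) * S⁻¹ * ((t * w) * S * (t * w)⁻¹)⁻¹ =
      (S * t * S⁻¹) * (h * (S * t * S⁻¹) * h⁻¹)⁻¹ * (h * t * h⁻¹) * t⁻¹ := by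
    have e1 : (t * w) * S * (t * w)⁻¹ = t * h * t⁻¹ := by rw [hh]; group
    rw [e1]
    have e2 : S * (t * h * t⁻¹) * S⁻¹ = (S * t * S⁻¹) * h * (S * t⁻¹ * S⁻¹) := by
      have : S * h * S⁻¹ = h := by rw [hcomm, mul_inv_cancel_right]
      calc S * (t * h * t⁻¹) * S⁻¹ = (S * t * S⁻¹) * (S * h * S⁻¹) * (S * t⁻¹ * S⁻¹) := by group
        _ = _ := by rw [this]
    rw [e2]
    group
  rw [hsplit] at hb
  have hq0 : q ≠ 0 := by
    rintro rfl
    have h0 : 1 < Fintype.card F := Fintype.one_lt_card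
    rw [hF] at h0
    norm_num at h0
  have key : ∀ {x x' : Equiv.Perm (Fin n → F)} {a a' : F}, SEP hF x u (a • r) 0 → SEP hF x' u (a' • r) 0 →
      SEP hF (x * x') u ((a + a') • r) 0 := by
    intro x x' a a' h1 h2
    refine (h1.mul h2).congr rfl (add_smul a a' r).symm ?_
    rw [herm_smul_left, herm_smul_right, hr]; ring
  have keyi : ∀ {x : Equiv.Perm (Fin n → F)} {a : F}, SEP hF x u (a • r) 0 → SEP hF x⁻¹ u ((-a) • r) 0 := by
    intro x a h1
    exact h1.inv.congr rfl (neg_smul a r).symm (zero_pow hq0)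
  have hSt : SEP hF t u ((1 : F) • r) 0 := SEP.congr ⟨k, rfl⟩ rfl (one_smul F r).symm rfl
  have keyc : ∀ {x y : Equiv.Perm (Fin n → F)} {a g g' : F}, SI n q (1 : F ≃+* F) y → y u = g • u →
      y r = g' • r → SEP hF x u (a • r) 0 → SEP hF (y * x * y⁻¹) u ((g ^ q * g' * a) • r) 0 := by
    intro x y a g g' hyI hyu hyr h1
    refine (h1.conj_eig hyI (s := g) (t := g') hyu ?_).congr rfl ?_ ?_
    · rw [hyI.smul, hyr, smul_smul, smul_smul, RingAut.one_apply, mul_comm]
    · rw [smul_smul]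
    · rw [RingAut.one_apply, mul_zero]
  have a1 := keyc hSI hSu hSr hSt
  have a2 := keyc hhI hwu hwr hSt
  have a3 := keyc hhI hwu hwr a1
  obtain ⟨k', hk'⟩ := key (key (key a1 (keyi a3)) a2) (keyi hSt)
  rw [hk'] at hb
  refine SM.congr ⟨k', hb⟩ rfl ?_ rfl
  congr 1
  ring

end Cfsg.Agent.H306.DG.PSU
end

-- part: H306/DG/Core
section
/-!
# Two elements generating `SU_n(q)` modulo a semilinear monomial element (helper306, S4180 C8)
-/

set_option autoImplicit false

namespace Cfsg.Agent.H306.DG.PSU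

open Cfsg Cfsg.Agent.LieClassical.HermBasic Cfsg.Agent.LieClassical.HermSiegel
  Cfsg.Agent.LieClassical.HermGen Cfsg.Agent.LieClassical.SUBasic
  Cfsg.Agent.ClassicalGeometry.PSUAutCount Cfsg.Agent.ClassicalGeometry.UnitAutBasic Matrix
open Cfsg.Agent.H903.SylSemi Cfsg.Agent.H177.MeetPSU Cfsg.Agent.H137.Herm Cfsg.Agent.H450.GenU

variable {F : Type} [Field F] [Fintype F] {q : ℕ}

/-- The core in even dimension. -/
theorem core_even (hF : Fintype.card F = q ^ 2) {m : ℕ} [NeZero m] (hm : 2 ≤ m)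
    {v : ZMod (2 * m) → Fin (2 * m) → F} (W : Witt q (fun j => j + (m : ZMod (2 * m))) v)
    {M : Subgroup (MulAut (PSU (2 * m) F q))} {ρ : F ≃+* F} {S w : Equiv.Perm (Fin (2 * m) → F)}
    {δ γ : ZMod (2 * m) → F} (hδ0 : δ 0 ≠ 0) (hγ : ∀ j, γ j ≠ 0)
    (hS : SI (2 * m) q (1 : F ≃+* F) S) (hSv : ∀ j, S (v j) = δ j • v j)
    (hw : SI (2 * m) q ρ w) (hwv : ∀ j, w (v j) = γ j • v (j + 1))
    (hx1 : δ 0 ^ q * δ ((m : ZMod (2 * m)) + 1) ≠ 1) (hne : δ (-1) ^ q * δ (m : ZMod (2 * m)) ≠ 1)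
    (hsq : ∀ c : F, c ≠ 0 → ∃ k : ℕ, (δ 0 ^ q * δ ((m : ZMod (2 * m)) + 1)) ^ k = c ^ 2)
    (hk : IsSiegel q (v 0) (v ((m : ZMod (2 * m)) + 1)) (0 : F))
    (hSM : S ∈ LL M)
    (hyM : rho (2 * m) F q (siegel hF (v 0) (v ((m : ZMod (2 * m)) + 1)) 0 hk) * w ∈ LL M) :
    KK M = ⊤ ∧ w ∈ LL M := by
  have : NeZero (2 * m) := ⟨by omega⟩
  have hv : Std q v := W.gram
  have hc : Fintype.card (ZMod (2 * m)) = 2 * m := ZMod.card _
  have hh : ∀ j, (w * S * w⁻¹) (v (j + 1)) = ρ (δ j) • v (j + 1) := fun j =>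
    conj_eig_semi hw (hγ j) (hwv j) hS (hSv j)
  have hh0 : (w * S * w⁻¹) (v 0) = ρ (δ (-1)) • v 0 := by
    have := hh (-1)
    rwa [neg_add_cancel] at this
  have hhI : SI (2 * m) q (1 : F ≃+* F) (w * S * w⁻¹) := by
    have h := (hw.mul hS).mul hw.inv
    rwa [mul_one, mul_inv_cancel] at h
  have hcomm : S * (w * S * w⁻¹) = (w * S * w⁻¹) * S := by
    refine witt_ext W hc (ρ := 1) (SI.mul1 hS hhI) (SI.mul1 hhI hS) ?_
    intro i
    have e1 : (w * S * w⁻¹) (v i) = ρ (δ (i - 1)) • v i := by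
      have := hh (i - 1)
      rwa [sub_add_cancel] at this
    rw [Equiv.Perm.mul_apply S, Equiv.Perm.mul_apply (w * S * w⁻¹) S, e1, hSv, hS.smul, hhI.smul, hSv, e1,
      smul_smul, smul_smul, RingAut.one_apply, RingAut.one_apply, mul_comm (ρ (δ (i - 1)))]
  have h1 := torus_semi0 (hF := hF) (hv.iso _) hS hw hSM hk hyM (hSv 0) (hSv _) hh0 (hh _) hcomm
  set x := δ 0 ^ q * δ ((m : ZMod (2 * m)) + 1) with hx
  have hcne : ρ (δ (-1)) ^ q * ρ (δ (m : ZMod (2 * m))) ≠ 1 := by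
    rw [← map_pow, ← map_mul]
    intro h
    apply hne
    apply ρ.injective
    rw [h, map_one]
  have hne0 : (x - 1) * (1 - ρ (δ (-1)) ^ q * ρ (δ (m : ZMod (2 * m)))) ≠ 0 :=
    mul_ne_zero (sub_ne_zero.2 hx1) (sub_ne_zero.2 (Ne.symm hcne))
  have hRmul : ∀ a ∈ RS hF (KK M) (v 0) (v ((m : ZMod (2 * m)) + 1)) (hv.iso 0) (hv.iso _), ∀ k : ℕ,
      x ^ k * a ∈ RS hF (KK M) (v 0) (v ((m : ZMod (2 * m)) + 1)) (hv.iso 0) (hv.iso _) := by
    intro a ha k
    induction k with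
    | zero => rwa [pow_zero, one_mul]
    | succ k ih =>
      have h2 := SM_eig hSM hS (mem_RS.1 ih) (hSv 0) (t := δ ((m : ZMod (2 * m)) + 1)) (by
        rw [hS.smul, hSv, smul_smul, smul_smul, RingAut.one_apply, mul_comm (x ^ k * a)])
      refine mem_RS.2 (h2.congr rfl ?_ ?_)
      · rw [smul_smul, pow_succ, hx]
        congr 1
        ring
      · rw [RingAut.one_apply, mul_zero]
  have hall : ∀ a, a ∈ RS hF (KK M) (v 0) (v ((m : ZMod (2 * m)) + 1)) (hv.iso 0) (hv.iso _) := by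
    refine mem_of_sq _ ?_ (mem_RS.2 h1) hne0
    intro c hc0 y hy
    obtain ⟨k, hk⟩ := hsq c hc0
    rw [← hk]
    exact hRmul y hy k
  have h0 : R hF (KK M) v 0 ((m : ZMod (2 * m)) + 1) := fun a => hall a
  have hwM : w ∈ LL M := by
    obtain ⟨k', hk'⟩ := (mem_RS.1 (hall 1)).congr rfl (one_smul F _) rfl
    have := mul_mem (inv_mem (mem_KK.1 hk')) hyM
    rwa [inv_mul_cancel_left] at this
  refine ⟨?_, hwM⟩
  have hR := R_all hm hv (fun i j h => R_shift hwM hw hγ hwv h) h0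
  refine top_of_WS (hF := hF) (by omega) hv hwM hw hγ hwv ?_
  intro x hx
  rw [W.expand hc x]
  apply AddSubgroup.sum_mem
  intro j _
  by_cases hj0 : j = 0
  · rw [hj0]; exact mem_WS_self _ _
  · by_cases hjm : j = (m : ZMod (2 * m))
    · rw [hjm, two_half, hx, zero_smul]
      exact AddSubgroup.zero_mem _
    · exact ⟨0, hR 0 j hj0 (by rwa [zero_add]) _⟩

/-- The core in odd dimension. -/
theorem core_odd (hF : Fintype.card F = q ^ 2) {m : ℕ} [NeZero m] (hm : 2 ≤ m) (D : Odd' q m F)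
    {M : Subgroup (MulAut (PSU (2 * m + 1) F q))} {ρ : F ≃+* F} {S w : Equiv.Perm (Fin (2 * m + 1) → F)}
    {δ γ : ZMod (2 * m) → F} {c b : F} (hb : b ≠ 0) (hγ : ∀ j, γ j ≠ 0)
    (hS : SI (2 * m + 1) q (1 : F ≃+* F) S) (hSv : ∀ j, S (D.v j) = δ j • D.v j) (hSd : S D.d = c • D.d)
    (hw : SI (2 * m + 1) q ρ w) (hwv : ∀ j, w (D.v j) = γ j • D.v (j + 1)) (hwd : w D.d = b • D.d)
    (hx1 : δ 0 ^ q * c ≠ 1) (hne : δ (-1) ^ q * c ≠ 1)
    (hgen : ∀ y : F, y ≠ 0 → ∃ k : ℕ, (δ 0 ^ q * c) ^ k = y)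
    {μ : F} (hk : IsSiegel q (D.v 0) D.d μ)
    (hSM : S ∈ LL M)
    (hyM : rho (2 * m + 1) F q (siegel hF (D.v 0) D.d μ hk) * w ∈ LL M) :
    KK M = ⊤ ∧ w ∈ LL M := by
  have : NeZero (2 * m) := ⟨by omega⟩
  have hc : Fintype.card (Option (ZMod (2 * m))) = 2 * m + 1 := by rw [Fintype.card_option, ZMod.card]
  have hv : Std q D.v := D.std
  have hh : ∀ j, (w * S * w⁻¹) (D.v (j + 1)) = ρ (δ j) • D.v (j + 1) := fun j =>
    conj_eig_semi hw (hγ j) (hwv j) hS (hSv j)
  have hh0 : (w * S * w⁻¹) (D.v 0) = ρ (δ (-1)) • D.v 0 := by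
    have := hh (-1)
    rwa [neg_add_cancel] at this
  have hhd : (w * S * w⁻¹) D.d = ρ c • D.d := conj_eig_semi hw hb hwd hS hSd
  have hhI : SI (2 * m + 1) q (1 : F ≃+* F) (w * S * w⁻¹) := by
    have h := (hw.mul hS).mul hw.inv
    rwa [mul_one, mul_inv_cancel] at h
  have hcomm : S * (w * S * w⁻¹) = (w * S * w⁻¹) * S := by
    refine witt_ext D.W hc (ρ := 1) (SI.mul1 hS hhI) (SI.mul1 hhI hS) ?_
    rintro (_ | i)
    · change (S * (w * S * w⁻¹)) D.d = ((w * S * w⁻¹) * S) D.d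
      rw [Equiv.Perm.mul_apply S, Equiv.Perm.mul_apply (w * S * w⁻¹) S, hhd, hSd, hS.smul, hhI.smul, hSd, hhd,
        smul_smul, smul_smul, RingAut.one_apply, RingAut.one_apply, mul_comm (ρ c)]
    · change (S * (w * S * w⁻¹)) (D.v i) = ((w * S * w⁻¹) * S) (D.v i)
      have e1 : (w * S * w⁻¹) (D.v i) = ρ (δ (i - 1)) • D.v i := by
        have := hh (i - 1)
        rwa [sub_add_cancel] at this
      rw [Equiv.Perm.mul_apply S, Equiv.Perm.mul_apply (w * S * w⁻¹) S, e1, hSv, hS.smul, hhI.smul, hSv, e1,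
        smul_smul, smul_smul, RingAut.one_apply, RingAut.one_apply, mul_comm (ρ (δ (i - 1)))]
  obtain ⟨μ', h1⟩ := torus_semi hS hw hSM hk hyM (hSv 0) hSd hh0 hhd hcomm
  set x := δ 0 ^ q * c with hx
  have hcne : ρ (δ (-1)) ^ q * ρ c ≠ 1 := by
    rw [← map_pow, ← map_mul]
    intro h
    apply hne
    apply ρ.injective
    rw [h, map_one]
  have hne0 : (x - 1) * (1 - ρ (δ (-1)) ^ q * ρ c) ≠ 0 :=
    mul_ne_zero (sub_ne_zero.2 hx1) (sub_ne_zero.2 (Ne.symm hcne))
  -- all multiples of `d`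
  have hYmul : ∀ a : F, a • D.d ∈ WS hF (KK M) (D.v 0) (hv.iso 0) → ∀ k : ℕ,
      (x ^ k * a) • D.d ∈ WS hF (KK M) (D.v 0) (hv.iso 0) := by
    intro a ha k
    induction k with
    | zero => rwa [pow_zero, one_mul]
    | succ k ih =>
      obtain ⟨ν, hν⟩ := ih
      have h2 := SM_eig hSM hS hν (hSv 0) (t := c) (by
        rw [hS.smul, hSd, smul_smul, smul_smul, RingAut.one_apply, mul_comm (x ^ k * a)])
      refine ⟨_, h2.congr rfl ?_ rfl⟩
      rw [smul_smul, pow_succ, hx]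
      congr 1
      ring
  have hall : ∀ a : F, a • D.d ∈ WS hF (KK M) (D.v 0) (hv.iso 0) := by
    intro a
    by_cases ha : a = 0
    · rw [ha, zero_smul]; exact AddSubgroup.zero_mem _
    · obtain ⟨k, hk⟩ := hgen _ (div_ne_zero ha hne0)
      have h3 := hYmul _ ⟨μ', h1⟩ k
      rwa [hk, div_mul_cancel₀ _ hne0] at h3
  -- the centre
  have hcen : ∀ ν : F, ν + ν ^ q = 0 → SM hF (KK M) (D.v 0) 0 ν := fun ν hν =>
    SM.center (w := D.d) (w' := D.d) one_ne_zero (hv.iso 0) hall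
      (by have := hall 1; rwa [one_smul] at this) D.hdd hν
  have htau : SM hF (KK M) (D.v 0) D.d μ := by
    obtain ⟨ν, hν⟩ := hall 1
    rw [one_smul] at hν
    have h3 : SM hF (KK M) (D.v 0) 0 (μ - ν) := by
      apply hcen
      obtain ⟨k', -⟩ := hν
      rw [sub_pow_q hF]
      linear_combination hk.tr - k'.tr
    refine (hν.mul h3).congr rfl (add_zero _) ?_
    rw [herm_zero_left]
    ring
  have hwM : w ∈ LL M := by
    obtain ⟨k', hk'⟩ := htau
    have := mul_mem (inv_mem (mem_KK.1 hk')) hyM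
    rwa [inv_mul_cancel_left] at this
  refine ⟨?_, hwM⟩
  -- translates
  have hshift : ∀ k : ℕ, ∃ (e ν : F), e ≠ 0 ∧ SM hF (KK M) (D.v (k : ZMod (2 * m))) (e • D.d) ν := by
    intro k
    induction k with
    | zero => exact ⟨1, μ, one_ne_zero, htau.congr (by rw [Nat.cast_zero]) (one_smul F _).symm rfl⟩
    | succ k ih =>
      obtain ⟨e, ν, he, h⟩ := ih
      have h2 := (SM_semi hwM hw h).congr (hwv _) rfl rfl
      have hq' : (γ (k : ZMod (2 * m))) ^ q ≠ 0 := pow_ne_zero _ (hγ _)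
      refine ⟨γ (k : ZMod (2 * m)) ^ q * (ρ e * b), _, mul_ne_zero hq' (mul_ne_zero ?_ hb), (h2.smul (hγ _)).congr ?_ ?_ rfl⟩
      · exact (map_ne_zero ρ).2 he
      · rw [Nat.cast_succ]
      · rw [hw.smul, hwd, smul_smul, smul_smul, mul_assoc]
  have hR0 : R hF (KK M) D.v 0 ((m : ZMod (2 * m)) + 1) := by
    intro a
    obtain ⟨e, ν, he, h⟩ := hshift (m + 1)
    have hcast : ((m + 1 : ℕ) : ZMod (2 * m)) = (m : ZMod (2 * m)) + 1 := by push_cast; ring
    rw [hcast] at h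
    have h10 : (1 : ZMod (2 * m)) ≠ 0 := by
      rw [← Nat.cast_one, ← Nat.cast_zero, Ne, cast_inj (by omega) (by omega)]; omega
    have hne : (m : ZMod (2 * m)) + 1 ≠ 0 + (m : ZMod (2 * m)) := by
      rw [zero_add]
      intro h
      exact h10 (add_eq_left.1 h)
    have heq : e ^ q ≠ 0 := pow_ne_zero _ he
    obtain ⟨ν', h'⟩ := hall (-a / e ^ q)
    refine (h.comm2 h' (D.std.orth hne) ?_ ?_).congr rfl ?_ rfl
    · rw [herm_smul_right, D.hvd, mul_zero]
    · rw [herm_smul_left, D.hdv, mul_zero]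
    · rw [herm_smul_left, herm_smul_right, D.hdd, mul_one, div_mul_cancel₀ _ heq, neg_neg]
  have hR := R_all hm hv (fun i j h => R_shift hwM hw hγ hwv h) hR0
  refine top_of_WS (hF := hF) (by omega) hv hwM hw hγ hwv ?_
  intro x hx
  rw [D.expand x]
  refine AddSubgroup.add_mem _ (hall _) (AddSubgroup.sum_mem _ fun j _ => ?_)
  by_cases hj0 : j = 0
  · rw [hj0]; exact mem_WS_self _ _
  · by_cases hjm : j = (m : ZMod (2 * m))
    · rw [hjm, two_half, hx, zero_smul]
      exact AddSubgroup.zero_mem _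
    · exact ⟨0, hR 0 j hj0 (by rwa [zero_add]) _⟩

end Cfsg.Agent.H306.DG.PSU
end

-- part: H306/DG/Setup
section
/-!
# The groups between `PSU_n(q)` and its automorphism group: set-up (helper306, S4180 C8)
-/

set_option autoImplicit false

namespace Cfsg.Agent.H306.DG.PSU

open Cfsg Cfsg.Agent.LieClassical.HermBasic Cfsg.Agent.LieClassical.HermSiegel
  Cfsg.Agent.LieClassical.HermGen Cfsg.Agent.LieClassical.SUBasic
  Cfsg.Agent.ClassicalGeometry.PSUAutCount Cfsg.Agent.ClassicalGeometry.UnitAutBasic Matrix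
open Cfsg.Agent.H903.SylSemi Cfsg.Agent.H177.MeetPSU Cfsg.Agent.H137.Herm Cfsg.Agent.H450.GenU

variable {F : Type} [Field F] [Fintype F] {n q : ℕ}

theorem zpow_SI {ρ : F ≃+* F} {w : Equiv.Perm (Fin n → F)} (hw : SI n q ρ w) (m : ℤ) : SI n q (ρ ^ m) (w ^ m) := by
  induction m using Int.induction_on with
  | zero => rw [zpow_zero, zpow_zero]; exact SI.one
  | succ i ih => rw [_root_.zpow_add_one, _root_.zpow_add_one]; exact ih.mul hw
  | pred i ih => rw [_root_.zpow_sub_one, _root_.zpow_sub_one]; exact ih.mul hw.inv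

theorem dt_zpow {y : Equiv.Perm (Fin n → F)} (hy : SI n q (1 : F ≃+* F) y) {δ : F} (h : Dt y δ) (m : ℤ) :
    Dt (y ^ m) (δ ^ m) := by
  have hδ := h.ne_zero (SI.semi_inv hy)
  obtain ⟨k, rfl | rfl⟩ := Int.eq_nat_or_neg m
  · rw [zpow_natCast, zpow_natCast]; exact h.pow k
  · rw [_root_.zpow_neg, _root_.zpow_neg, zpow_natCast, zpow_natCast]
    exact (h.pow k).inv (SI.semi_inv (SI.pow1 hy k))

/-- Norm one elements are powers of `z ^ (1 - q)`. -/
theorem norm_gen (hF : Fintype.card F = q ^ 2) {z : F} (hz0 : z ≠ 0)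
    (hz1 : ∀ y : F, y ≠ 0 → ∃ k : ℕ, z ^ k = y)
    (hz2 : ∀ k : ℕ, 0 < k → k < q ^ 2 - 1 → z ^ k ≠ 1) {x : F} (hx : x ^ (q + 1) = 1) :
    ∃ j : ℕ, 1 ≤ j ∧ j ≤ q + 1 ∧ x = (z * (z ^ q)⁻¹) ^ j := by
  have h2 := two_le hF
  have hzq : z ^ q ≠ 0 := pow_ne_zero _ hz0
  have hg : (z * (z ^ q)⁻¹) ^ (q + 1) = 1 := by
    rw [pow_succ, mul_pow, inv_pow, pow_q_pow_q hF]
    field_simp
  have key : ∀ x : F, x ^ (q + 1) = 1 → ∃ j : ℕ, x = (z * (z ^ q)⁻¹) ^ j := by
    intro x hx
    have hx0 : x ≠ 0 := by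
      rintro rfl
      rw [zero_pow (by omega)] at hx
      exact zero_ne_one hx
    obtain ⟨k, hk⟩ := hz1 x⁻¹ (inv_ne_zero hx0)
    have hx' : z ^ (k * (q + 1)) = 1 := by
      rw [pow_mul, hk, inv_pow, hx, inv_one]
    have hord : (q ^ 2 - 1) ∣ k * (q + 1) := by
      by_contra hnd
      have h1 : z ^ (k * (q + 1) % (q ^ 2 - 1)) = 1 := by
        have h2 : z ^ (q ^ 2 - 1) = 1 := by
          have := FiniteField.pow_card_sub_one_eq_one z hz0
          rwa [hF] at this
        have h3 := hx'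
        rw [← Nat.div_add_mod (k * (q + 1)) (q ^ 2 - 1), pow_add, pow_mul, h2, one_pow, one_mul] at h3
        exact h3
      have hqq : 2 * 2 ≤ q ^ 2 := by rw [pow_two]; exact Nat.mul_le_mul h2 h2
      refine hz2 _ (Nat.pos_of_ne_zero fun h0 => hnd (Nat.dvd_of_mod_eq_zero h0)) (Nat.mod_lt _ (by omega)) h1
    have hfac : q ^ 2 - 1 = (q - 1) * (q + 1) := by
      have := Nat.sq_sub_sq q 1
      rw [one_pow] at this
      rw [this, mul_comm]
    rw [hfac] at hord
    obtain ⟨j, hj⟩ := Nat.dvd_of_mul_dvd_mul_right (by omega : 0 < q + 1) hord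
    refine ⟨j, ?_⟩
    have h5 : z ^ (q - 1) * z = z ^ q := by rw [← pow_succ, Nat.sub_add_cancel (by omega)]
    have h6 : x = (z ^ k)⁻¹ := by rw [hk, inv_inv]
    rw [h6, hj, pow_mul, ← inv_pow]
    congr 1
    rw [← h5, mul_inv, mul_comm (z ^ (q - 1))⁻¹, ← mul_assoc, mul_inv_cancel₀ hz0, one_mul]
  obtain ⟨j, hj⟩ := key x hx
  have hjj : (z * (z ^ q)⁻¹) ^ j = (z * (z ^ q)⁻¹) ^ (j % (q + 1)) := by
    conv_lhs => rw [← Nat.div_add_mod j (q + 1), pow_add, pow_mul, hg, one_pow, one_mul]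
  have hlt := Nat.mod_lt j (by omega : 0 < q + 1)
  by_cases h0 : j % (q + 1) = 0
  · refine ⟨q + 1, by omega, le_rfl, ?_⟩
    rw [hj, hjj, h0, pow_zero, hg]
  · exact ⟨j % (q + 1), by omega, by omega, by rw [hj, hjj]⟩

/-- The set-up. -/
theorem exists_setup (hF : Fintype.card F = q ^ 2) {z : F} (hz0 : z ≠ 0)
    (hz1 : ∀ y : F, y ≠ 0 → ∃ k : ℕ, z ^ k = y)
    (hz2 : ∀ k : ℕ, 0 < k → k < q ^ 2 - 1 → z ^ k ≠ 1) (H : Subgroup (MulAut (PSU n F q))) :
    ∃ (ρ : F ≃+* F) (y0 S0 : Equiv.Perm (Fin n → F)) (D : ℕ), y0 ∈ LL H ∧ SI n q ρ y0 ∧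
      (∀ (θ : F ≃+* F) (y : Equiv.Perm (Fin n → F)), y ∈ LL H → SI n q θ y → ∃ k : ℤ, ρ ^ k = θ) ∧
      S0 ∈ LL H ∧ SI n q (1 : F ≃+* F) S0 ∧ Dt S0 ((z * (z ^ q)⁻¹) ^ D) ∧ 1 ≤ D ∧ D ≤ q + 1 ∧
      ∀ (y : Equiv.Perm (Fin n → F)) (ε : F), y ∈ LL H → SI n q (1 : F ≃+* F) y → Dt y ε →
        ∃ k : ℤ, ((z * (z ^ q)⁻¹) ^ D) ^ k = ε := by
  classical
  have hcyc : IsCyclic (F ≃+* F) := Cfsg.Agent.H206.FieldKill.isCyclic_aut F
  let R : Subgroup (F ≃+* F) :=
    { carrier := {ρ | ∃ y ∈ LL H, SI n q ρ y}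
      mul_mem' := by
        rintro ρ ρ' ⟨y, h1, h2⟩ ⟨y', h1', h2'⟩
        exact ⟨_, mul_mem h1 h1', h2.mul h2'⟩
      one_mem' := ⟨1, one_mem _, SI.one⟩
      inv_mem' := by
        rintro ρ ⟨y, h1, h2⟩
        exact ⟨_, inv_mem h1, h2.inv⟩ }
  have hR : ∀ ρ, ρ ∈ R ↔ ∃ y ∈ LL H, SI n q ρ y := fun _ => Iff.rfl
  obtain ⟨⟨ρ0, hρ0⟩, hgen⟩ := IsCyclic.exists_generator (α := ↥R)
  obtain ⟨y0, hy0, hy0I⟩ := (hR _).1 hρ0
  let Δ : Subgroup Fˣ :=
    { carrier := {u | ∃ y ∈ LL H, SI n q (1 : F ≃+* F) y ∧ Dt y (u : F)}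
      mul_mem' := by
        rintro a b ⟨y, h1, h2, h3⟩ ⟨y', h1', h2', h3'⟩
        exact ⟨_, mul_mem h1 h1', SI.mul1 h2 h2', by rw [Units.val_mul]; exact h3.mul h3'⟩
      one_mem' := ⟨1, one_mem _, SI.one, by rw [Units.val_one]; exact Dt.one⟩
      inv_mem' := by
        rintro a ⟨y, h1, h2, h3⟩
        exact ⟨_, inv_mem h1, SI.inv1 h2, by rw [Units.val_inv_eq_inv_val]; exact h3.inv (SI.semi_inv h2)⟩ }
  have hΔ : ∀ u, u ∈ Δ ↔ ∃ y ∈ LL H, SI n q (1 : F ≃+* F) y ∧ Dt y (u : F) := fun _ => Iff.rfl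
  obtain ⟨⟨u0, hu0⟩, hgen'⟩ := IsCyclic.exists_generator (α := ↥Δ)
  obtain ⟨S0, hS0, hS0I, hS0d⟩ := (hΔ _).1 hu0
  obtain ⟨D, hD1, hD2, hD⟩ := norm_gen hF hz0 hz1 hz2 (hS0d.norm hF hS0I)
  refine ⟨ρ0, y0, S0, D, hy0, hy0I, ?_, hS0, hS0I, by rw [← hD]; exact hS0d, hD1, hD2, ?_⟩
  · intro θ y hy hyI
    obtain ⟨k, hk⟩ := hgen ⟨θ, (hR θ).2 ⟨y, hy, hyI⟩⟩
    exact ⟨k, congrArg Subtype.val hk⟩
  · intro y ε hy hyI hyd
    have hε : ε ≠ 0 := hyd.ne_zero (SI.semi_inv hyI)
    obtain ⟨k, hk⟩ := hgen' ⟨Units.mk0 ε hε, (hΔ _).2 ⟨y, hy, hyI, hyd⟩⟩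
    refine ⟨k, ?_⟩
    have h1 : u0 ^ k = Units.mk0 ε hε := congrArg Subtype.val hk
    have h2 := congrArg Units.val h1
    rw [Units.val_zpow_eq_zpow_val, Units.val_mk0] at h2
    rw [← hD, h2]

/-- The end. -/
theorem le_of_gen (hF : Fintype.card F = q ^ 2) (hn : 3 ≤ n) (h32 : ¬ (n = 3 ∧ q = 2))
    {H M : Subgroup (MulAut (PSU n F q))} {S w : Equiv.Perm (Fin n → F)} {ρ : F ≃+* F} {δ : F}
    (hw : SI n q ρ w) (hS : SI n q (1 : F ≃+* F) S) (hSd : Dt S δ)
    (hgenρ : ∀ (θ : F ≃+* F) (y : Equiv.Perm (Fin n → F)), y ∈ LL H → SI n q θ y → ∃ k : ℤ, ρ ^ k = θ)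
    (hgend : ∀ (y : Equiv.Perm (Fin n → F)) (ε : F), y ∈ LL H → SI n q (1 : F ≃+* F) y → Dt y ε →
        ∃ k : ℤ, δ ^ k = ε)
    (hwH : w ∈ LL H) (hSM : S ∈ LL M) (hwM : w ∈ LL M) (htop : KK M = ⊤) : H ≤ M := by
  have hrhoM : ∀ s, rho n F q s ∈ LL M := fun s => mem_KK.1 (by rw [htop]; trivial)
  intro β hβ
  obtain ⟨A, θ, hA⟩ := ClassicalGeometry.PSUAutMain.exists_toAut hF hn h32 β
  have hyI : SI n q θ (yy A θ) := SI.yy A θ
  have hyH : yy A θ ∈ LL H := ⟨⟨_, hyI⟩, β, hβ, by rw [hA]; exact ind_yy A θ⟩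
  obtain ⟨k, hk⟩ := hgenρ θ _ hyH hyI
  have h1 : SI n q (1 : F ≃+* F) (yy A θ * (w ^ k)⁻¹) := by
    have := hyI.mul (zpow_SI hw k).inv
    rwa [hk, mul_inv_cancel] at this
  have h1H : yy A θ * (w ^ k)⁻¹ ∈ LL H := mul_mem hyH (inv_mem (zpow_mem hwH k))
  obtain ⟨ε, hε⟩ := Dt.exists h1.1
  obtain ⟨j, hj⟩ := hgend _ ε h1H h1 hε
  have hSj : SI n q (1 : F ≃+* F) (S ^ j) := by
    have := zpow_SI hS j
    rwa [_root_.one_zpow] at this
  obtain ⟨s, hs⟩ := exists_rho_mul1 hSj h1 (dt_zpow hS hSd j) (by rw [hj]; exact hε)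
  have h2 : yy A θ * (w ^ k)⁻¹ ∈ LL M := by
    rw [hs]
    exact mul_mem (hrhoM s) (zpow_mem hSM j)
  have h3 : yy A θ ∈ LL M := by
    have := mul_mem h2 (zpow_mem hwM k)
    rwa [inv_mul_cancel_right] at this
  obtain ⟨-, β', hβ', hi⟩ := h3
  rw [hA, ← Ind.unique pr_surjective rho_injective hi (ind_yy A θ)]
  exact hβ'

end Cfsg.Agent.H306.DG.PSU
end

-- part: H306/DG/Main
section
/-!
# Every group between `PSU_n(q)`, `n ≥ 4`, and its automorphism group is 2-generated (helper306, S4180 C8)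
-/

set_option autoImplicit false

namespace Cfsg.Agent.H306.DG.PSU

open Cfsg Cfsg.Agent.LieClassical.HermBasic Cfsg.Agent.LieClassical.HermSiegel
  Cfsg.Agent.LieClassical.HermGen Cfsg.Agent.LieClassical.SUBasic
  Cfsg.Agent.ClassicalGeometry.PSUAutCount Cfsg.Agent.ClassicalGeometry.UnitAutBasic Matrix
open Cfsg.Agent.H903.SylSemi Cfsg.Agent.H177.MeetPSU Cfsg.Agent.H137.Herm Cfsg.Agent.H450.GenU
open Cfsg.Agent.H440.TwoGen

variable {F : Type} [Field F] [Fintype F] {q : ℕ}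

section

variable {m : ℕ} [NeZero m]

omit [Fintype F] [NeZero m] in
theorem h10 (hm : 2 ≤ m) : (1 : ZMod (2 * m)) ≠ 0 := by
  have : NeZero m := ⟨by omega⟩
  rw [← Nat.cast_one, ← Nat.cast_zero, Ne, cast_inj (by omega) (by omega)]; omega

omit [Fintype F] [NeZero m] in
theorem h1m (hm : 2 ≤ m) : (1 : ZMod (2 * m)) ≠ (m : ZMod (2 * m)) := by
  have : NeZero m := ⟨by omega⟩
  rw [← Nat.cast_one, Ne, cast_inj (by omega) (by omega)]; omega

/-- The diagonal entries. -/
def dd (a0 b0 a1 b1 : F) (j : ZMod (2 * m)) : F := dg 0 a0 b0 j * dg 1 a1 b1 j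

omit [Fintype F] in
theorem dd_zero (hm : 2 ≤ m) (a0 b0 a1 b1 : F) : dd (m := m) a0 b0 a1 b1 0 = a0 := by
  rw [dd, dg_self, dg_other, mul_one]
  · exact (h10 hm).symm
  · intro h
    apply h1m hm
    have := congrArg (fun t => t + (m : ZMod (2 * m))) h
    simp only [zero_add, add_half_half] at this
    exact this.symm

omit [Fintype F] in
theorem dd_m (hm : 2 ≤ m) (a0 b0 a1 b1 : F) : dd (m := m) a0 b0 a1 b1 (m : ZMod (2 * m)) = b0 := by
  have := dg_half (m := m) 0 a0 b0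
  rw [zero_add] at this
  rw [dd, this, dg_other, mul_one]
  · exact (h1m hm).symm
  · intro h
    exact h10 hm (right_eq_add.1 h)

omit [Fintype F] in
theorem dd_m1 (hm : 2 ≤ m) (a0 b0 a1 b1 : F) :
    dd (m := m) a0 b0 a1 b1 ((m : ZMod (2 * m)) + 1) = b1 := by
  have := dg_half (m := m) 1 a1 b1
  rw [add_comm] at this
  rw [dd, this, dg_other, one_mul]
  · intro h
    apply h1m hm
    have h' := congrArg (fun t => t + (m : ZMod (2 * m))) h
    simp only [zero_add] at h'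
    rw [← h']
    linear_combination -two_half (m := m)
  · rw [zero_add]
    intro h
    exact h10 hm (add_eq_left.1 h)

omit [Fintype F] in
/-- the entry at `-1` -/
theorem dd_neg (hm : 2 ≤ m) (a0 b0 a1 b1 : F) :
    (m = 2 ∧ dd (m := m) a0 b0 a1 b1 (-1) = b1) ∨ (3 ≤ m ∧ dd (m := m) a0 b0 a1 b1 (-1) = 1) := by
  by_cases hm2 : m = 2
  · left
    have e : (-1 : ZMod (2 * m)) = (m : ZMod (2 * m)) + 1 := by
      have h4 : ((2 * m : ℕ) : ZMod (2 * m)) = 0 := ZMod.natCast_self _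
      have h5 : (m : ZMod (2 * m)) = 2 := by
        have : ((m : ℕ) : ZMod (2 * m)) = ((2 : ℕ) : ZMod (2 * m)) := congrArg _ hm2
        rw [this]; norm_num
      rw [Nat.cast_mul, h5] at h4
      rw [h5]
      push_cast at h4
      linear_combination -h4
    exact ⟨hm2, by rw [e, dd_m1 hm]⟩
  · right
    refine ⟨by omega, ?_⟩
    have hneg : (-1 : ZMod (2 * m)) = ((2 * m - 1 : ℕ) : ZMod (2 * m)) := by
      rw [Nat.cast_sub (by omega), ZMod.natCast_self]; simp
    have hone : (1 : ZMod (2 * m)) = ((1 : ℕ) : ZMod (2 * m)) := Nat.cast_one.symm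
    rw [dd, dg_other, dg_other, mul_one]
    · rw [hneg, hone, Ne, cast_inj (by omega) (by omega)]; omega
    · rw [hneg, hone, ← Nat.cast_add, Ne, cast_inj (by omega) (by omega)]; omega
    · rw [hneg, ← Nat.cast_zero, Ne, cast_inj (by omega) (by omega)]; omega
    · rw [zero_add, hneg, Ne, cast_inj (by omega) (by omega)]; omega

omit [Fintype F] in
theorem dd_norm {a0 b0 a1 b1 : F} (h0 : a0 * b0 ^ q = 1) (h0' : b0 * a0 ^ q = 1) (h1 : a1 * b1 ^ q = 1)
    (h1' : b1 * a1 ^ q = 1) (i : ZMod (2 * m)) :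
    dd (m := m) a0 b0 a1 b1 i * dd (m := m) a0 b0 a1 b1 (i + (m : ZMod (2 * m))) ^ q = 1 := by
  have e1 := dg_norm (m := m) (i0 := 0) h0 h0' i
  have e2 := dg_norm (m := m) (i0 := 1) h1 h1' i
  rw [dd, dd, mul_pow]
  linear_combination (dg 1 a1 b1 i * dg 1 a1 b1 (i + (m : ZMod (2 * m))) ^ q) * e1 + e2

omit [Fintype F] [NeZero m] in
theorem dd_prod [Fintype (ZMod (2 * m))] (a0 b0 a1 b1 : F) :
    ∏ j, dd (m := m) a0 b0 a1 b1 j = a0 * b0 * (a1 * b1) := by
  simp only [dd]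
  rw [Finset.prod_mul_distrib, dg_prod, dg_prod]

end

/-- Even dimension. -/
theorem twoGen_even (hF : Fintype.card F = q ^ 2) {m : ℕ} (hm : 2 ≤ m)
    (H : Subgroup (MulAut (PSU (2 * m) F q))) (hH : ∀ x, MulAut.conj x ∈ H) : TwoGen ↥H := by
  have : NeZero m := ⟨by omega⟩
  have : NeZero (2 * m) := ⟨by omega⟩
  have h2 := two_le hF
  have hqq : 2 * q ≤ q ^ 2 := by rw [pow_two]; exact Nat.mul_le_mul_right q h2
  obtain ⟨z, hz0, hz1, hz2⟩ := exists_gen hF
  have hzq : z ^ q ≠ 0 := pow_ne_zero _ hz0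
  obtain ⟨v, W⟩ := exists_witt_even (q := q) hF m
  have hv : Std q v := W.gram
  have hc : Fintype.card (ZMod (2 * m)) = 2 * m := ZMod.card _
  have hrho : ∀ s, rho (2 * m) F q s ∈ LL H := fun s => mem_KK.1 (mem_KK'.2 (hH _))
  obtain ⟨ρ, y0, S0, D, hy0, hy0I, hgenρ, hS0, hS0I, hS0d, hD1, hD2, hgend⟩ := exists_setup hF hz0 hz1 hz2 H
  -- the Weyl element
  obtain ⟨γ, hγ0, w, hw, hwv, hwH⟩ : ∃ γ : ZMod (2 * m) → F, (∀ j, γ j ≠ 0) ∧
      ∃ w : Equiv.Perm (Fin (2 * m) → F), SI (2 * m) q ρ w ∧ (∀ j, w (v j) = γ j • v (j + 1)) ∧ w ∈ LL H := by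
    obtain ⟨w', hw', hw'v⟩ := exists_smono hF ρ W hc (Equiv.addRight 1) (by
      intro i
      simp only [Equiv.coe_addRight]
      ring) (fun _ => 1) (by intro i; simp)
    have h1 : SI (2 * m) q (1 : F ≃+* F) (w' * y0⁻¹) := by
      have := hw'.mul hy0I.inv
      rwa [mul_inv_cancel] at this
    obtain ⟨ε, hε⟩ := Dt.exists h1.1
    have hε0 : ε ≠ 0 := hε.ne_zero (SI.semi_inv h1)
    have hεn : ε ^ (q + 1) = 1 := hε.norm hF h1
    obtain ⟨j, -, -, hj⟩ := norm_gen hF hz0 hz1 hz2 (x := ε⁻¹) (by rw [inv_pow, hεn, inv_one])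
    have hg0 : z ^ j ≠ 0 := pow_ne_zero _ hz0
    have hgq : (z ^ j) ^ q ≠ 0 := pow_ne_zero _ hg0
    obtain ⟨T, hT, hTv⟩ := exists_smono hF (1 : F ≃+* F) W hc 1 (fun _ => rfl) (dg 0 (z ^ j) ((z ^ j) ^ q)⁻¹) (by
      apply dg_norm
      · rw [inv_pow, pow_q_pow_q hF, mul_inv_cancel₀ hg0]
      · exact inv_mul_cancel₀ hgq)
    have hTd : Dt T ε⁻¹ := by
      have := witt_dt W hc hT 1 _ hTv
      rw [dg_prod] at this
      rw [hj, mul_pow, inv_pow, ← pow_mul, mul_comm q j, pow_mul]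
      simpa using this
    refine ⟨fun j' => dg 0 (z ^ j) ((z ^ j) ^ q)⁻¹ (j' + 1), fun j' => dg_ne hg0 (inv_ne_zero hgq) _, T * w', ?_, ?_,
      ?_⟩
    · have := hT.mul hw'
      rwa [one_mul] at this
    · intro j'
      rw [Equiv.Perm.mul_apply, hw'v, one_smul]
      exact hTv _
    · have h3 : SI (2 * m) q (1 : F ≃+* F) (T * (w' * y0⁻¹)) := SI.mul1 hT h1
      have h4 : Dt (T * (w' * y0⁻¹)) 1 := by
        have := hTd.mul hε
        rwa [inv_mul_cancel₀ hε0] at this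
      obtain ⟨s, hs⟩ := exists_rho h3 h4
      have h5 := mul_mem (hrho s) hy0
      rwa [hs, ← mul_assoc, inv_mul_cancel_right] at h5
  -- the torus element
  obtain ⟨a, b, hab, hab', haD⟩ : ∃ a b : ℕ, a + b = D ∧ (a = b + 1 ∨ a = b + 2) ∧ a < q ^ 2 - 1 := by
    rcases Nat.even_or_odd' D with ⟨k, hk | hk⟩
    · exact ⟨k + 1, k - 1, by omega, by omega, by omega⟩
    · exact ⟨k + 1, k, by omega, by omega, by omega⟩
  have hza : ∀ a : ℕ, z ^ a ≠ 0 := fun a => pow_ne_zero _ hz0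
  have hzaq : ∀ a : ℕ, (z ^ a) ^ q ≠ 0 := fun a => pow_ne_zero _ (hza a)
  set δ : ZMod (2 * m) → F := dd (z ^ a) ((z ^ a) ^ q)⁻¹ (z ^ b) ((z ^ b) ^ q)⁻¹ with hδ
  have hnrm : ∀ a : ℕ, z ^ a * (((z ^ a) ^ q)⁻¹) ^ q = 1 := fun a => by
    rw [inv_pow, pow_q_pow_q hF, mul_inv_cancel₀ (hza a)]
  have hnrm' : ∀ a : ℕ, ((z ^ a) ^ q)⁻¹ * (z ^ a) ^ q = 1 := fun a => inv_mul_cancel₀ (hzaq a)
  obtain ⟨S, hS, hSv⟩ := exists_smono hF (1 : F ≃+* F) W hc 1 (fun _ => rfl) δ
    (dd_norm (hnrm a) (hnrm' a) (hnrm b) (hnrm' b))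
  have hSd : Dt S ((z * (z ^ q)⁻¹) ^ D) := by
    have := witt_dt W hc hS 1 _ hSv
    rw [hδ, dd_prod] at this
    have e : z ^ a * ((z ^ a) ^ q)⁻¹ * (z ^ b * ((z ^ b) ^ q)⁻¹) = (z * (z ^ q)⁻¹) ^ D := by
      rw [← hab, pow_add, mul_pow, mul_pow, inv_pow, inv_pow, ← pow_mul, ← pow_mul, ← pow_mul, ← pow_mul,
        mul_comm a q, mul_comm b q]
    rw [e] at this
    simpa using this
  have hSH : S ∈ LL H := by
    obtain ⟨s, hs⟩ := exists_rho_mul1 hS0I hS hS0d hSd
    rw [hs]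
    exact mul_mem (hrho s) hS0
  -- the powers of `z`
  have hzord : z ^ (q ^ 2 - 1) = 1 := by
    have := FiniteField.pow_card_sub_one_eq_one z hz0
    rwa [hF] at this
  have hdvd : ∀ k : ℕ, z ^ k = 1 → (q ^ 2 - 1) ∣ k := by
    intro k hk
    by_contra hnd
    have h1 : z ^ (k % (q ^ 2 - 1)) = 1 := by
      rw [← Nat.div_add_mod k (q ^ 2 - 1), pow_add, pow_mul, hzord, one_pow, one_mul] at hk
      exact hk
    exact hz2 _ (Nat.pos_of_ne_zero fun h0 => hnd (Nat.dvd_of_mod_eq_zero h0)) (Nat.mod_lt _ (by omega)) h1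
  have hfac : q ^ 2 - 1 = (q + 1) * (q - 1) := by
    have := Nat.sq_sub_sq q 1
    rwa [one_pow] at this
  -- the root element
  have hne : (m : ZMod (2 * m)) + 1 ≠ 0 + (m : ZMod (2 * m)) := by
    rw [zero_add]
    intro h
    exact h10 hm (add_eq_left.1 h)
  have hk : IsSiegel q (v 0) (v ((m : ZMod (2 * m)) + 1)) (0 : F) :=
    ⟨hv.iso 0, hv.orth' hne, by rw [hv.iso, zero_pow_q hF]; ring⟩
  have htH : rho (2 * m) F q (siegel hF (v 0) (v ((m : ZMod (2 * m)) + 1)) 0 hk) * w ∈ LL H :=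
    mul_mem (hrho _) hwH
  obtain ⟨-, β1, hβ1, hi1⟩ := hSH
  obtain ⟨-, β2, hβ2, hi2⟩ := htH
  refine Cfsg.Agent.H136.TwoGen.of_ambient H ⟨β1, β2, hβ1, hβ2, ?_⟩
  set M : Subgroup (MulAut (PSU (2 * m) F q)) := Subgroup.closure {β1, β2} with hM
  have hSM : S ∈ LL M := ⟨⟨_, hS⟩, β1, Subgroup.subset_closure (by simp), hi1⟩
  have htM : rho (2 * m) F q (siegel hF (v 0) (v ((m : ZMod (2 * m)) + 1)) 0 hk) * w ∈ LL M :=
    ⟨⟨_, (SI.rho _).mul hw⟩, β2, Subgroup.subset_closure (by simp), hi2⟩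
  obtain ⟨e, he, hae⟩ : ∃ e : ℕ, (e = 1 ∨ e = 2) ∧ a = b + e := by
    rcases hab' with h | h
    · exact ⟨1, Or.inl rfl, h⟩
    · exact ⟨2, Or.inr rfl, h⟩
  have hx : δ 0 ^ q * δ ((m : ZMod (2 * m)) + 1) = (z ^ q) ^ e := by
    rw [hδ, dd_zero hm, dd_m1 hm, hae, pow_add, mul_pow, ← pow_mul z e q, mul_comm e q, pow_mul z q e]
    field_simp
  obtain ⟨htop, hwM⟩ := core_even hF hm W (δ := δ) (by rw [hδ, dd_zero hm]; exact hza a) hγ0 hS hSv hw hwv
    (by
      rw [hx, ← pow_mul]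
      intro h
      have h3 := hdvd _ h
      have h4 : (q ^ 2 - 1) ∣ e := by
        have hco : Nat.Coprime (q ^ 2 - 1) q := by
          have h5 : Nat.Coprime (q ^ 2 - 1) (q ^ 2) :=
            (Nat.coprime_self_sub_left (by omega)).2 (Nat.coprime_one_left _)
          exact Nat.Coprime.coprime_dvd_right (Dvd.intro_left (q ^ 1) (by rw [← pow_succ])) h5
        exact hco.dvd_of_dvd_mul_left h3
      have h5 := Nat.le_of_dvd (by omega) h4
      omega)
    (by
      rw [hδ, dd_m hm]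
      rcases dd_neg hm (z ^ a) ((z ^ a) ^ q)⁻¹ (z ^ b) ((z ^ b) ^ q)⁻¹ with ⟨-, h⟩ | ⟨-, h⟩
      · rw [h, inv_pow, pow_q_pow_q hF, ← mul_inv]
        intro h
        rw [inv_eq_one, ← pow_mul, ← pow_add] at h
        have h3 := hdvd _ h
        rw [hae] at h3
        have h4 : (q + 1) ∣ b + (b + e) * q := Dvd.dvd.trans (Dvd.intro _ hfac.symm) h3
        have h5 : (q + 1) ∣ (b + (b + e) * q) + e := by
          have : (b + (b + e) * q) + e = (b + e) * (q + 1) := by ring
          rw [this]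
          exact Nat.dvd_mul_left _ _
        have h6 : (q + 1) ∣ e := (Nat.dvd_add_right h4).1 h5
        have h7 := Nat.le_of_dvd (by omega) h6
        omega
      · rw [h, one_pow, one_mul]
        intro h
        rw [inv_eq_one] at h
        have h3 : z ^ a = 1 := by
          have := congrArg (fun t => t ^ q) h
          simp only [pow_q_pow_q hF, one_pow] at this
          exact this
        exact hz2 a (by omega) haD h3)
    (by
      intro c hc0
      rw [hx]
      obtain ⟨k, hk⟩ := hz1 (c ^ q) (pow_ne_zero _ hc0)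
      have hpow : (z ^ q) ^ (k * 2) = c ^ 2 := by
        calc (z ^ q) ^ (k * 2) = ((z ^ k) ^ q) ^ 2 := by
              rw [← pow_mul, ← pow_mul, ← pow_mul]
              congr 1
              ring
          _ = c ^ 2 := by rw [hk, pow_q_pow_q hF]
      rcases he with rfl | rfl
      · exact ⟨k * 2, by rw [pow_one, hpow]⟩
      · exact ⟨k, by rw [← pow_mul, mul_comm 2 k, hpow]⟩)
    hk hSM htM
  exact le_of_gen hF (by omega) (by omega) hw hS hSd hgenρ hgend hwH hSM hwM htop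

/-- Odd dimension. -/
theorem twoGen_odd (hF : Fintype.card F = q ^ 2) {m : ℕ} (hm : 2 ≤ m)
    (H : Subgroup (MulAut (PSU (2 * m + 1) F q))) (hH : ∀ x, MulAut.conj x ∈ H) : TwoGen ↥H := by
  have : NeZero m := ⟨by omega⟩
  have : NeZero (2 * m) := ⟨by omega⟩
  have h2 := two_le hF
  have hqq : 2 * q ≤ q ^ 2 := by rw [pow_two]; exact Nat.mul_le_mul_right q h2
  obtain ⟨z, hz0, hz1, hz2⟩ := exists_gen hF
  have hzq : z ^ q ≠ 0 := pow_ne_zero _ hz0
  have hqpos : 0 < q := by omega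
  obtain ⟨Dt0⟩ := exists_odd (q := q) hF m
  have W := Dt0.W
  have hv : Std q Dt0.v := Dt0.std
  have hc : Fintype.card (Option (ZMod (2 * m))) = 2 * m + 1 := by rw [Fintype.card_option, ZMod.card]
  have hrho : ∀ s, rho (2 * m + 1) F q s ∈ LL H := fun s => mem_KK.1 (mem_KK'.2 (hH _))
  obtain ⟨ρ, y0, S0, D, hy0, hy0I, hgenρ, hS0, hS0I, hS0d, hD1, hD2, hgend⟩ := exists_setup hF hz0 hz1 hz2 H
  set g1 : F := z * (z ^ q)⁻¹ with hg1
  have hg1n : g1 * g1 ^ q = 1 := by
    rw [hg1, mul_pow, inv_pow, pow_q_pow_q hF]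
    field_simp
  have hg10 : g1 ≠ 0 := mul_ne_zero hz0 (inv_ne_zero hzq)
  have hg1q : g1 ^ (q + 1) = 1 := by rw [pow_succ']; exact hg1n
  have hnorm : ∀ {x : F}, x ^ (q + 1) = 1 → x * x ^ q = 1 := fun {x} h => by rwa [pow_succ'] at h
  -- the Weyl element
  obtain ⟨b, hb0, w, hw, hwv, hwd, hwH⟩ : ∃ b : F, b ≠ 0 ∧
      ∃ w : Equiv.Perm (Fin (2 * m + 1) → F), SI (2 * m + 1) q ρ w ∧
        (∀ j, w (Dt0.v j) = (1 : F) • Dt0.v (j + 1)) ∧ w Dt0.d = b • Dt0.d ∧ w ∈ LL H := by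
    have hcomm : ∀ i, sgO m (Equiv.optionCongr (Equiv.addRight 1) i) =
        Equiv.optionCongr (Equiv.addRight 1) (sgO m i) := by
      rintro (_ | j)
      · rfl
      · simp only [sgO, Equiv.optionCongr_apply, Option.map_some, Equiv.coe_addRight,
          Option.some.injEq]
        ring
    obtain ⟨w', hw', hw'v⟩ := exists_smono hF ρ W hc (Equiv.optionCongr (Equiv.addRight 1)) hcomm (fun _ => 1)
      (by intro i; simp)
    have h1 : SI (2 * m + 1) q (1 : F ≃+* F) (w' * y0⁻¹) := by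
      have := hw'.mul hy0I.inv
      rwa [mul_inv_cancel] at this
    obtain ⟨ε, hε⟩ := Dt.exists h1.1
    have hε0 : ε ≠ 0 := hε.ne_zero (SI.semi_inv h1)
    have hεn : ε ^ (q + 1) = 1 := hε.norm hF h1
    have hεn' : ε⁻¹ * (ε⁻¹) ^ q = 1 := hnorm (by rw [inv_pow, hεn, inv_one])
    obtain ⟨T, hT, hTv⟩ := exists_smono hF (1 : F ≃+* F) W hc 1 (fun _ => rfl)
      (fun o : Option (ZMod (2 * m)) => (o.elim ε⁻¹ (fun _ => 1) : F)) (by
        rintro (_ | j)
        · exact hεn'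
        · simp [sgO])
    have hTd : Dt T ε⁻¹ := by
      have := witt_dt W hc hT 1 _ hTv
      rw [Fintype.prod_option] at this
      simpa using this
    refine ⟨ε⁻¹, inv_ne_zero hε0, T * w', ?_, ?_, ?_, ?_⟩
    · have := hT.mul hw'
      rwa [one_mul] at this
    · intro j
      have e1 : w' (Dt0.v j) = Dt0.v (j + 1) := by
        have := hw'v (some j)
        rw [one_smul] at this
        exact this
      rw [Equiv.Perm.mul_apply, e1]
      exact hTv (some (j + 1))
    · have e1 : w' Dt0.d = Dt0.d := by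
        have := hw'v none
        rw [one_smul] at this
        exact this
      rw [Equiv.Perm.mul_apply, e1]
      exact hTv none
    · have h3 : SI (2 * m + 1) q (1 : F ≃+* F) (T * (w' * y0⁻¹)) := SI.mul1 hT h1
      have h4 : Dt (T * (w' * y0⁻¹)) 1 := by
        have := hTd.mul hε
        rwa [inv_mul_cancel₀ hε0] at this
      obtain ⟨s, hs⟩ := exists_rho h3 h4
      have h5 := mul_mem (hrho s) hy0
      rwa [hs, ← mul_assoc, inv_mul_cancel_right] at h5
  -- the powers of `z`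
  have hzord : z ^ (q ^ 2 - 1) = 1 := by
    have := FiniteField.pow_card_sub_one_eq_one z hz0
    rwa [hF] at this
  have hpow : ∀ k l : ℕ, l < k → k - l < q ^ 2 - 1 → z ^ k ≠ z ^ l := by
    intro k l hkl hlt h
    refine hz2 (k - l) (by omega) hlt ?_
    have h4 : z ^ (k - l) * z ^ l = 1 * z ^ l := by
      rw [← pow_add, Nat.sub_add_cancel hkl.le, h, one_mul]
    exact mul_right_cancel₀ (pow_ne_zero _ hz0) h4
  -- the exponent
  obtain ⟨b1, hb1, hb1D⟩ : ∃ b1 : ℕ, z ^ b1 ≠ z ^ (q - 1) ∧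
      (g1 ^ b1 = g1 ^ 2 * g1 ^ D ∨ g1 ^ b1 = g1 ^ 2 * (g1 ^ D)⁻¹) := by
    by_cases hq : q = 2
    · by_cases hD : z ^ (D + 2) = z ^ (q - 1)
      · refine ⟨5 - D, ?_, Or.inr ?_⟩
        · intro h
          have hz3 : z ^ 3 = 1 := by rw [hq] at hzord; exact hzord
          rw [hq] at hD h
          have : D = 1 ∨ D = 2 ∨ D = 3 := by omega
          rcases this with rfl | rfl | rfl
          · exact hpow 3 1 (by omega) (by omega) hD
          · exact hpow 3 1 (by omega) (by rw [hq]; norm_num) h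
          · have h5 : z ^ (3 + 2) = z ^ 2 := by rw [pow_add, hz3, one_mul]
            rw [h5] at hD
            exact hpow 2 1 (by omega) (by omega) hD
        · rw [eq_mul_inv_iff_mul_eq₀ (pow_ne_zero _ hg10), ← pow_add, Nat.sub_add_cancel (by omega)]
          have e : (5 : ℕ) = 2 + (q + 1) := by omega
          rw [e, pow_add, hg1q, mul_one]
      · exact ⟨D + 2, hD, Or.inl (by rw [pow_add, mul_comm])⟩
    · by_cases hD : z ^ (D + 2) = z ^ (q - 1)
      · refine ⟨D + 2 + (q + 1), ?_, Or.inl (by rw [pow_add, hg1q, mul_one, pow_add, mul_comm])⟩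
        rw [← hD]
        have hqq3 : 3 * q ≤ q ^ 2 := by rw [pow_two]; exact Nat.mul_le_mul_right q (by omega)
        exact hpow _ _ (by omega) (by omega)
      · exact ⟨D + 2, hD, Or.inl (by rw [pow_add, mul_comm])⟩
  -- the torus element
  have hzb : z ^ b1 ≠ 0 := pow_ne_zero _ hz0
  have hzbq : (z ^ b1) ^ q ≠ 0 := pow_ne_zero _ hzb
  set δ : ZMod (2 * m) → F := dd z⁻¹ (z ^ q) (z ^ b1) ((z ^ b1) ^ q)⁻¹ with hδ
  set c : F := z ^ q * z⁻¹ with hcc
  have hc0 : c ≠ 0 := mul_ne_zero hzq (inv_ne_zero hz0)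
  have hcn : c * c ^ q = 1 := by
    rw [hcc, mul_pow, pow_q_pow_q hF, inv_pow]
    field_simp
  have hc1 : c = z ^ (q - 1) := by
    have h5 : z ^ (q - 1) * z = z ^ q := by rw [← pow_succ, Nat.sub_add_cancel (by omega)]
    rw [hcc, ← h5, mul_inv_cancel_right₀ hz0]
  obtain ⟨S, hS, hSv⟩ := exists_smono hF (1 : F ≃+* F) W hc 1 (fun _ => rfl)
    (fun o : Option (ZMod (2 * m)) => (o.elim c δ : F)) (by
      rintro (_ | j)
      · exact hcn
      · refine dd_norm (m := m) ?_ ?_ ?_ ?_ j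
        · rw [pow_q_pow_q hF, inv_mul_cancel₀ hz0]
        · rw [inv_pow, mul_inv_cancel₀ hzq]
        · rw [inv_pow, pow_q_pow_q hF, mul_inv_cancel₀ hzb]
        · exact inv_mul_cancel₀ hzbq)
  have hSv' : ∀ j, S (Dt0.v j) = δ j • Dt0.v j := fun j => hSv (some j)
  have hSd' : S Dt0.d = c • Dt0.d := hSv none
  obtain ⟨δ', hSd, hδ'⟩ : ∃ δ' : F, Dt S δ' ∧ (δ' = g1 ^ D ∨ δ' = (g1 ^ D)⁻¹) := by
    refine ⟨g1 ^ b1 * (g1 ^ 2)⁻¹, ?_, ?_⟩
    · have := witt_dt W hc hS 1 _ hSv
      rw [Fintype.prod_option] at this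
      simp only [Option.elim] at this
      rw [hδ, dd_prod] at this
      have e : c * (z⁻¹ * z ^ q * (z ^ b1 * ((z ^ b1) ^ q)⁻¹)) = g1 ^ b1 * (g1 ^ 2)⁻¹ := by
        have e1 : z ^ b1 * ((z ^ b1) ^ q)⁻¹ = g1 ^ b1 := by
          rw [hg1, mul_pow, inv_pow, ← pow_mul, ← pow_mul, mul_comm b1 q]
        rw [e1, hcc, hg1]
        field_simp
      rw [e] at this
      simpa using this
    · rcases hb1D with h | h
      · left
        rw [h, mul_comm (g1 ^ 2), mul_assoc, mul_inv_cancel₀ (pow_ne_zero _ hg10), mul_one]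
      · right
        rw [h, mul_comm (g1 ^ 2), mul_assoc, mul_inv_cancel₀ (pow_ne_zero _ hg10), mul_one]
  have hSH : S ∈ LL H := by
    rcases hδ' with rfl | rfl
    · obtain ⟨s, hs⟩ := exists_rho_mul1 hS0I hS hS0d hSd
      rw [hs]
      exact mul_mem (hrho s) hS0
    · obtain ⟨s, hs⟩ := exists_rho_mul1 (SI.inv1 hS0I) hS (hS0d.inv (SI.semi_inv hS0I)) hSd
      rw [hs]
      exact mul_mem (hrho s) (inv_mem hS0)
  have hgend' : ∀ (y : Equiv.Perm (Fin (2 * m + 1) → F)) (ε : F), y ∈ LL H → SI (2 * m + 1) q (1 : F ≃+* F) y →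
      Dt y ε → ∃ k : ℤ, δ' ^ k = ε := by
    intro y ε h1 h2 h3
    obtain ⟨k, hk⟩ := hgend y ε h1 h2 h3
    rcases hδ' with rfl | rfl
    · exact ⟨k, hk⟩
    · exact ⟨-k, by rw [_root_.inv_zpow', neg_neg, hk]⟩
  obtain ⟨μ, hk⟩ := Dt0.exists_tau hF
  have htH : rho (2 * m + 1) F q (siegel hF (Dt0.v 0) Dt0.d μ hk) * w ∈ LL H := mul_mem (hrho _) hwH
  obtain ⟨-, β1, hβ1, hi1⟩ := hSH
  obtain ⟨-, β2, hβ2, hi2⟩ := htH
  refine Cfsg.Agent.H136.TwoGen.of_ambient H ⟨β1, β2, hβ1, hβ2, ?_⟩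
  set M : Subgroup (MulAut (PSU (2 * m + 1) F q)) := Subgroup.closure {β1, β2} with hM
  have hSM : S ∈ LL M := ⟨⟨_, hS⟩, β1, Subgroup.subset_closure (by simp), hi1⟩
  have htM : rho (2 * m + 1) F q (siegel hF (Dt0.v 0) Dt0.d μ hk) * w ∈ LL M :=
    ⟨⟨_, (SI.rho _).mul hw⟩, β2, Subgroup.subset_closure (by simp), hi2⟩
  have hx : δ 0 ^ q * c = z⁻¹ := by
    rw [hδ, dd_zero hm, hcc, inv_pow, ← mul_assoc, inv_mul_cancel₀ hzq, one_mul]
  obtain ⟨htop, hwM⟩ := core_odd hF hm Dt0 (δ := δ) (γ := fun _ => 1) hb0 (fun _ => one_ne_zero) hS hSv' hSd' hw hwv hwd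
    (by
      rw [hx]
      intro h
      rw [inv_eq_one] at h
      exact hz2 1 (by omega) (by omega) (by rw [pow_one, h]))
    (by
      rw [hδ]
      rcases dd_neg hm z⁻¹ (z ^ q) (z ^ b1) ((z ^ b1) ^ q)⁻¹ with ⟨-, h⟩ | ⟨-, h⟩
      · rw [h, inv_pow, pow_q_pow_q hF, hc1]
        intro h
        apply hb1
        have := congrArg (fun t => z ^ b1 * t) h
        simp only [mul_one, ← mul_assoc, mul_inv_cancel₀ hzb, one_mul] at this
        exact this.symm
      · rw [h, one_pow, one_mul, hc1]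
        exact hz2 _ (by omega) (by omega))
    (by
      intro y hy
      rw [hx]
      obtain ⟨k, hk⟩ := hz1 y⁻¹ (inv_ne_zero hy)
      exact ⟨k, by rw [inv_pow, hk, inv_inv]⟩)
    hk hSM htM
  exact le_of_gen hF (by omega) (by omega) hw hS hSd hgenρ hgend' hwH hSM hwM htop

/-- **Every group between `PSU_n(q)`, `n ≥ 4`, and its automorphism group is 2-generated.** -/
theorem twoGen (hF : Fintype.card F = q ^ 2) {n : ℕ} (hn : 4 ≤ n)
    (H : Subgroup (MulAut (PSU n F q))) (hH : ∀ x, MulAut.conj x ∈ H) : TwoGen ↥H := by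
  rcases Nat.even_or_odd' n with ⟨m, h | h⟩
  · subst h
    exact twoGen_even hF (by omega) H hH
  · subst h
    exact twoGen_odd hF (by omega) H hH

end Cfsg.Agent.H306.DG.PSU
end

-- part: H306/DG/RowPsu
section
/-!
# S4180, TEAM GEN, C8: the row `psu` of `Rows Cos2` (helper306)
-/

set_option autoImplicit false

namespace Cfsg.Agent.H306.DG

open Cfsg.Agent.H440.TwoGen Cfsg.Agent.H891.Gen Cfsg.Agent.H891.DG Subgroup

universe u

/-- **`Rows.psu` of `Rows Cos2`** -/
theorem cos2_psu : ∀ (T : Type u) [Group T] [Finite T] [IsSimpleGroup T] (F : Type) [Field F] [Fintype F] (n q : ℕ),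
    4 ≤ n → Fintype.card F = q ^ 2 → Nonempty (T ≃* Cfsg.PSU n F q) → Cos2 T := by
  rintro T _ _ _ F _ _ n q hn hF ⟨e⟩
  have : Finite (Cfsg.PSU n F q) := Finite.of_equiv T e.toEquiv
  exact Cfsg.Agent.H984.DG.cos2_congr e (Cfsg.Agent.H984.DG.cos2_of_sub fun S hS =>
    PSU.twoGen hF hn S fun x => hS ⟨x, rfl⟩)

end Cfsg.Agent.H306.DG
end

private theorem dce_ec2368e47daa : _root_.True := by
  try have : _root_.True := by simp only [_root_.Cfsg.Agent.H875.DG.SpCore.fr.eq_2]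
  try have : _root_.True := by simp only [_root_.Cfsg.Agent.H875.DG.SpCore.fr.eq_1]
  try have : _root_.True := by simp only [_root_.Cfsg.Agent.H875.DG.SpCore.fr.congr_simp]
  try have : _root_.True := by simp only [_root_.Cfsg.Agent.H875.DG.SpCore.fr.eq_def]
  try have : _root_.True := by simp only [_root_.Cfsg.Agent.ClassicalGeometry.Sp4Graph.graphHom.congr_simp]
  try have : _root_.True := by simp only [_root_.Cfsg.Agent.H875.DG.SpCore.wm.congr_simp]
  try have : _root_.True := by simp only [_root_.Cfsg.Agent.H875.DG.SpCore.dg.congr_simp]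
  try have : _root_.True := by simp only [_root_.Cfsg.Agent.H875.DG.SpCore.pm.congr_simp]
  try have : _root_.True := by simp only [_root_.Cfsg.Agent.H306.DG.PSU.dd.eq_1]
  exact _root_.True.intro
end

-- part: H20/Cos2/Core_mg
section
prune_inst 0x316035640c62100000188586f1003c66fe000590006b8001c0400a440680af4228010f61b4a01312101a224400390060131c00d0422000000e0004000119008000a81006b0480000000000008884000000000000000000000000000000000004200000000
set_option linter.all false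
open scoped Cfsg.Agent.FastGrp

-- part: H20/Cos2/Core
section
/-!
# Twisted Steinberg pairs in the automorphism groups of the untwisted Chevalley groups (S4180): generic part (helper20)

* `Mono W ω d σ` : the automorphism `W` maps `x_r(t)` to `x_{ω r}(d_r σ(t))` for all roots `r`;
* `core` : the torus trick in `MulAut G`;
* `tor`, `pr`, `mono_tor` : inner torus elements and the adjustment of two root values;
* `hat`, `run_sound'` : the closure computations with a general rotation.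
-/

set_option autoImplicit false

namespace Cfsg.Agent.H20.Cos2

open Cfsg.Lie Cfsg.Agent.ChevalleyStructure Cfsg.Agent.ChevalleyStructure.Elts
  Cfsg.Agent.ChevalleyStructure.NConj Cfsg.Agent.ChevalleyStructure.BNChev
  Cfsg.Agent.H70.ChevFix Cfsg.Agent.H70.ChevField Cfsg.Agent.H70.OutCount Cfsg.Agent.H135.TwoG

universe u

variable {D : ChevalleyDatum} {F : Type u} [Field F]

/-- `W (x_r(t)) = x_{ω r}(d_r σ(t))` for all roots `r` -/
structure Mono (hD : InList D) (W : MulAut ↥(D.group F)) (ω : ℕ → ℕ) (d : ℕ → Fˣ) (σ : F ≃+* F) : Prop where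
  lt : ∀ r < D.nroots, ω r < D.nroots
  surj : ∀ r < D.nroots, ∃ s < D.nroots, ω s = r
  eq : ∀ r < D.nroots, ∀ t : F, W (xe hD r t) = xe hD (ω r) ((d r : F) * σ t)

variable {hD : InList D}

theorem Mono.one : Mono hD (1 : MulAut ↥(D.group F)) id (fun _ => 1) (RingEquiv.refl F) where
  lt r hr := hr
  surj r hr := ⟨r, hr, rfl⟩
  eq r hr t := by simp

theorem Mono.mul {W W' : MulAut ↥(D.group F)} {ω ω' : ℕ → ℕ} {d d' : ℕ → Fˣ} {σ σ' : F ≃+* F}
    (h : Mono hD W ω d σ) (h' : Mono hD W' ω' d' σ') :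
    Mono hD (W * W') (fun r => ω (ω' r)) (fun r => d (ω' r) * Units.map (σ : F →* F) (d' r)) (σ'.trans σ) where
  lt r hr := h.lt _ (h'.lt r hr)
  surj r hr := by
    obtain ⟨s, hs, rfl⟩ := h.surj r hr
    obtain ⟨u, hu, rfl⟩ := h'.surj s hs
    exact ⟨u, hu, rfl⟩
  eq r hr t := by
    rw [MulAut.mul_apply, h'.eq r hr, h.eq _ (h'.lt r hr)]
    congr 1
    rw [map_mul, Units.val_mul, mul_assoc]
    rfl

/-- changing the description -/
theorem Mono.congr {W : MulAut ↥(D.group F)} {ω ω' : ℕ → ℕ} {d d' : ℕ → Fˣ} {σ : F ≃+* F}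
    (h : Mono hD W ω d σ) (h1 : ∀ r < D.nroots, ω' r = ω r) (h2 : ∀ r < D.nroots, d' r = d r) :
    Mono hD W ω' d' σ where
  lt r hr := by rw [h1 r hr]; exact h.lt r hr
  surj r hr := by
    obtain ⟨s, hs, h3⟩ := h.surj r hr
    exact ⟨s, hs, (h1 s hs).trans h3⟩
  eq r hr t := by rw [h1 r hr, h2 r hr]; exact h.eq r hr t

/-- the inverse on a root subgroup -/
theorem Mono.inv_apply {W : MulAut ↥(D.group F)} {ω : ℕ → ℕ} {d : ℕ → Fˣ} {σ : F ≃+* F}
    (h : Mono hD W ω d σ) {r : ℕ} (hr : r < D.nroots) (t : F) :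
    W⁻¹ (xe hD (ω r) t) = xe hD r (σ.symm ((d r : F)⁻¹ * t)) := by
  apply W.injective
  rw [MulAut.apply_inv_self, h.eq r hr, σ.apply_symm_apply, mul_inv_cancel_left₀ (d r).ne_zero]

/-! ### inner automorphisms -/

theorem conj_conj {G : Type*} [Group G] (φ : MulAut G) (g : G) :
    φ * MulAut.conj g * φ⁻¹ = MulAut.conj (φ g) := by
  ext x
  simp only [MulAut.mul_apply, MulAut.conj_apply, map_mul, map_inv, MulAut.apply_inv_self]

theorem conj_xe_comm {h : MulAut ↥(D.group F)} {χ : ℕ → Fˣ} (hh : Mono hD h id χ (RingEquiv.refl F))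
    {a : ℕ} (ha : a < D.nroots) (t : F) :
    h * MulAut.conj (xe hD a t) * h⁻¹ = MulAut.conj (xe hD a ((χ a : F) * t)) := by
  rw [conj_conj, hh.eq a ha]
  rfl

theorem conj_xe_inj (hD : InList D) {a : ℕ} (ha : a < D.nroots) {s t : F}
    (h : MulAut.conj (xe hD a s) = MulAut.conj (xe hD a t)) : s = t :=
  xe_inj hD ha (conj_injective hD h)

/-! ### the torus trick -/

/-- the conjugate of a diagonal automorphism by a monomial one, on the root subgroups -/
theorem conj_diag {h W : MulAut ↥(D.group F)} {χ d : ℕ → Fˣ} {ω : ℕ → ℕ} {σ : F ≃+* F}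
    (hh : Mono hD h id χ (RingEquiv.refl F)) (hW : Mono hD W ω d σ) {r : ℕ} (hr : r < D.nroots) (t : F) :
    (W * h * W⁻¹) (xe hD (ω r) t) = xe hD (ω r) (σ (χ r) * t) := by
  rw [MulAut.mul_apply, MulAut.mul_apply, hW.inv_apply hr, hh.eq r hr, id, hW.eq r hr]
  congr 1
  rw [RingEquiv.refl_apply, map_mul, σ.apply_symm_apply]
  have := (d r).ne_zero
  field_simp

theorem conj_diag_inv {h W : MulAut ↥(D.group F)} {χ d : ℕ → Fˣ} {ω : ℕ → ℕ} {σ : F ≃+* F}
    (hh : Mono hD h id χ (RingEquiv.refl F)) (hW : Mono hD W ω d σ) {r : ℕ} (hr : r < D.nroots) (t : F) :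
    (W * h * W⁻¹)⁻¹ (xe hD (ω r) t) = xe hD (ω r) ((σ (χ r))⁻¹ * t) := by
  apply (W * h * W⁻¹).injective
  rw [MulAut.apply_inv_self, conj_diag hh hW hr, mul_inv_cancel_left₀]
  exact (map_ne_zero σ).2 (χ r).ne_zero

/-- **the torus trick for the pair `h`, `u W`** -/
theorem core [Finite F] {M : Subgroup (MulAut ↥(D.group F))} {h W : MulAut ↥(D.group F)} {χ d : ℕ → Fˣ} {ω : ℕ → ℕ}
    {σ : F ≃+* F} (hh : Mono hD h id χ (RingEquiv.refl F)) (hW : Mono hD W ω d σ) {a a' : ℕ} (ha : a < D.nroots)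
    (ha' : a' < D.nroots) (haa : ω a' = a) (hk : ∀ x : Fˣ, x ∈ Subgroup.zpowers (χ a)) (hne : χ a ≠ 1)
    (hne' : χ a' ≠ 1) (hM : h ∈ M) (hWM : MulAut.conj (xe hD a 1) * W ∈ M) :
    (∀ t : F, MulAut.conj (xe hD a t) ∈ M) ∧ W ∈ M := by
  classical
  set X : Subgroup (MulAut ↥(D.group F)) := (XX D F a).map MulAut.conj with hX
  have memX : ∀ φ : MulAut ↥(D.group F), φ ∈ X ↔ ∃ t : F, φ = MulAut.conj (xe hD a t) := by
    intro φ
    rw [hX, Subgroup.mem_map]
    constructor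
    · rintro ⟨g, hg, rfl⟩
      obtain ⟨t, rfl⟩ := (mem_XX hD).1 hg
      exact ⟨t, rfl⟩
    · rintro ⟨t, rfl⟩
      exact ⟨_, xe_mem_XX hD a t, rfl⟩
  have hne0 : σ (χ a') ≠ 0 := (map_ne_zero σ).2 (χ a').ne_zero
  have hnek : (χ a : F) ≠ 1 := fun h0 => hne (Units.ext h0)
  have res := Cfsg.Agent.H136.TwoGen.torus_trick M X (h := h) (w := W) (u := MulAut.conj (xe hD a 1)) hM hWM
    ((memX _).2 ⟨1, rfl⟩) ?_ ?_ ?_ ?_ ?_ ?_ ?_
  · exact ⟨fun t => res.1 ((memX _).2 ⟨t, rfl⟩), res.2⟩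
  · intro x hx
    obtain ⟨t, rfl⟩ := (memX x).1 hx
    rw [conj_conj, ← haa, conj_diag hh hW ha', haa]
    exact (memX _).2 ⟨_, rfl⟩
  · intro x hx
    obtain ⟨t, rfl⟩ := (memX x).1 hx
    have e : (W * h * W⁻¹)⁻¹ * MulAut.conj (xe hD a t) * (W * h * W⁻¹) =
        (W * h * W⁻¹)⁻¹ * MulAut.conj (xe hD a t) * ((W * h * W⁻¹)⁻¹)⁻¹ := by rw [inv_inv]
    rw [e, conj_conj, ← haa, conj_diag_inv hh hW ha', haa]
    exact (memX _).2 ⟨_, rfl⟩
  · intro Y hYX hY
    let S : AddSubgroup F :=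
      { carrier := {t | MulAut.conj (xe hD a t) ∈ Y}
        zero_mem' := by
          show MulAut.conj (xe hD a 0) ∈ Y
          rw [xe_zero, map_one]; exact Y.one_mem
        add_mem' := by
          intro s t hs ht
          show MulAut.conj (xe hD a (s + t)) ∈ Y
          rw [xe_add, map_mul]; exact Y.mul_mem hs ht
        neg_mem' := by
          intro s hs
          show MulAut.conj (xe hD a (-s)) ∈ Y
          rw [xe_neg, map_inv]; exact Y.inv_mem hs }
    have hS : ∀ t, t ∈ S ↔ MulAut.conj (xe hD a t) ∈ Y := fun t => Iff.rfl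
    rcases Cfsg.Agent.H136.FieldLem.eq_bot_or_top hk S (by
      intro t ht
      have h1 : ∀ t ∈ S, (χ a : F) * t ∈ S := by
        intro t ht
        have := hY _ ht
        rwa [conj_xe_comm hh ha] at this
      have h2 := h1 _ (h1 _ ht)
      rwa [← mul_assoc, ← pow_two] at h2) with h1 | h1
    · left
      rw [Subgroup.eq_bot_iff_forall]
      intro y hy
      obtain ⟨t, rfl⟩ := (memX y).1 (hYX hy)
      have : t ∈ S := hy
      rw [h1, AddSubgroup.mem_bot] at this
      rw [this, xe_zero, map_one]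
    · right
      refine le_antisymm hYX fun y hy => ?_
      obtain ⟨t, rfl⟩ := (memX y).1 hy
      have : t ∈ S := by rw [h1]; exact AddSubgroup.mem_top t
      exact this
  · refine ⟨MulAut.conj (xe hD a 1), (memX _).2 ⟨1, rfl⟩, fun h0 => ?_⟩
    have h1 := conj_xe_comm hh ha 1
    rw [h0, mul_inv_cancel_right, mul_one] at h1
    exact hnek (conj_xe_inj hD ha h1).symm
  · intro x hx
    obtain ⟨t, rfl⟩ := (memX x).1 hx
    rw [conj_xe_comm hh ha]
    exact (memX _).2 ⟨_, rfl⟩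
  · -- the two diagonal automorphisms commute
    have key : ∀ r < D.nroots, ∃ c : F, ∀ t : F, (W * h * W⁻¹) (xe hD r t) = xe hD r (c * t) := by
      intro r hr
      obtain ⟨s, hs, rfl⟩ := hW.surj r hr
      exact ⟨_, conj_diag hh hW hs⟩
    have key2 : ∀ r < D.nroots, ∀ t : F, (h * (W * h * W⁻¹)) (xe hD r t) = ((W * h * W⁻¹) * h) (xe hD r t) := by
      intro r hr t
      obtain ⟨c, hc⟩ := key r hr
      have e1 : (h * (W * h * W⁻¹)) (xe hD r t) = h ((W * h * W⁻¹) (xe hD r t)) := rfl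
      have e2 : ((W * h * W⁻¹) * h) (xe hD r t) = (W * h * W⁻¹) (h (xe hD r t)) := rfl
      rw [e1, e2, hc, hh.eq r hr, hh.eq r hr]
      simp only [id, RingEquiv.refl_apply]
      rw [hc]
      congr 1
      ring
    exact ext_values hD (fun i t => key2 _ (Cfsg.Agent.S1042.simple_lt hD i.2) t) (fun i t => key2 _ (neg_simple_lt hD i.2) t)
  · intro h0
    have h1 : (W * h * W⁻¹) * MulAut.conj (xe hD a 1) * (W * h * W⁻¹)⁻¹ = MulAut.conj (xe hD a (σ (χ a') * 1)) := by
      rw [conj_conj, ← haa, conj_diag hh hW ha']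
    rw [h0, mul_inv_cancel_right, mul_one] at h1
    have h2 := conj_xe_inj hD ha h1
    apply hne'
    apply Units.ext
    have h3 : σ (χ a' : F) = σ 1 := by rw [map_one]; exact h2.symm
    exact σ.injective h3

/-! ### inner torus elements -/

/-- `∏ h_j(z ^ n_j)` -/
noncomputable def tor (hD : InList D) (n : ℕ → ℤ) (z : Fˣ) : ℕ → ↥(D.group F)
  | 0 => 1
  | k + 1 => tor hD n z k * he hD (D.simple k) ((z ^ n k : Fˣ) : F)

/-- `∑ n_j A_{j, s}` -/
def pr (D : ChevalleyDatum) (n : ℕ → ℤ) (s : ℕ) : ℕ → ℤ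
  | 0 => 0
  | k + 1 => pr D n s k + n k * D.cartan k s

theorem tor_conj {n : ℕ → ℤ} {z : Fˣ} {k : ℕ} (hk : k ≤ D.rank) {s : ℕ} (hs : s < D.nroots) (t : F) :
    tor hD n z k * xe hD s t * (tor hD n z k)⁻¹ = xe hD s (((z ^ pr D n s k : Fˣ) : F) * t) := by
  induction k generalizing t with
  | zero => simp [tor, pr]
  | succ k ih =>
    have h1 := he_conj (F := F) hD (show k < D.rank by omega) hs (c := ((z ^ n k : Fˣ) : F)) (Units.ne_zero _) t
    calc tor hD n z (k + 1) * xe hD s t * (tor hD n z (k + 1))⁻¹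
        = tor hD n z k * (he hD (D.simple k) ((z ^ n k : Fˣ) : F) * xe hD s t *
            (he hD (D.simple k) ((z ^ n k : Fˣ) : F))⁻¹) * (tor hD n z k)⁻¹ := by
          show tor hD n z k * he hD (D.simple k) ((z ^ n k : Fˣ) : F) * xe hD s t *
            (tor hD n z k * he hD (D.simple k) ((z ^ n k : Fˣ) : F))⁻¹ = _
          group
      _ = xe hD s (((z ^ pr D n s k : Fˣ) : F) * ((((z ^ n k : Fˣ) : F)) ^ D.cartan k s * t)) := by
          rw [h1, ih (by omega)]
      _ = _ := by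
          congr 1
          show _ = ((z ^ (pr D n s k + n k * D.cartan k s) : Fˣ) : F) * t
          rw [zpow_add, Units.val_mul, mul_assoc, zpow_mul]
          simp

theorem mono_tor (n : ℕ → ℤ) (z : Fˣ) :
    Mono hD (MulAut.conj (tor hD n z D.rank)) id (fun s => z ^ pr D n s D.rank) (RingEquiv.refl F) where
  lt r hr := hr
  surj r hr := ⟨r, hr, rfl⟩
  eq r hr t := by
    rw [MulAut.conj_apply, tor_conj le_rfl hr]
    rfl

theorem mono_word {l : List ℕ} (hl : ∀ i ∈ l, i < D.rank) :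
    ∃ d : ℕ → Fˣ, Mono hD (MulAut.conj (⟨wG hD F l, wG_mem_group hD l⟩ : ↥(D.group F))) (wact D l) d
      (RingEquiv.refl F) := by
  classical
  have h : ∀ r : ℕ, ∃ η : Fˣ, r < D.nroots → ∀ t : F, wG hD F l * xG hD r t * (wG hD F l)⁻¹ =
      xG hD (wact D l r) ((η : F) * t) := by
    intro r
    by_cases hr : r < D.nroots
    · obtain ⟨η, hη, h1⟩ := wG_conj (F := F) hD hl hr
      rcases hη with rfl | rfl
      · exact ⟨1, fun _ t => by rw [h1, Units.val_one]⟩
      · exact ⟨-1, fun _ t => by rw [h1, Units.val_neg, Units.val_one]⟩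
    · exact ⟨1, fun h => absurd h hr⟩
  choose d hd using h
  refine ⟨d, ⟨fun r hr => wact_lt hD hl hr, ?_, ?_⟩⟩
  · intro r hr
    have surj : ∀ {l : List ℕ} (_ : ∀ i ∈ l, i < D.rank) {r : ℕ} (_ : r < D.nroots),
        ∃ s < D.nroots, wact D l s = r := by
      intro l
      induction l with
      | nil => intro _ r hr; exact ⟨r, hr, rfl⟩
      | cons i l ih =>
        intro hl r hr
        have hi := hl i List.mem_cons_self
        obtain ⟨s, hs, h1⟩ := ih (fun j hj => hl j (List.mem_cons_of_mem _ hj))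
          (Cfsg.Agent.ChevalleyStructure.Reach.reflect_lt hD hi hr)
        refine ⟨s, hs, ?_⟩
        show D.reflectRoot i (wact D l s) = r
        rw [h1, Cfsg.Agent.ChevalleyStructure.Reach.reflect_reflect hD hi hr]
    exact surj hl hr
  · intro r hr t
    apply Subtype.ext
    exact hd r hr t

/-! ### adjusting the values of a diagonal automorphism -/

/-- **every coset of the inner automorphisms which contains a diagonal automorphism contains one with prescribed
values at two roots**; `n1`, `n2` are given by tables -/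
theorem adjust {h : MulAut ↥(D.group F)} {χ : ℕ → Fˣ} (hh : Mono hD h id χ (RingEquiv.refl F)) {a a' : ℕ}
    {n1 n2 : ℕ → ℤ} (h1 : pr D n1 a D.rank = 1) (h2 : pr D n1 a' D.rank = 0) (h3 : pr D n2 a D.rank = 0)
    (h4 : pr D n2 a' D.rank = 1) (k k' : Fˣ) :
    ∃ (g : ↥(D.group F)) (χ' : ℕ → Fˣ), Mono hD (h * MulAut.conj g) id χ' (RingEquiv.refl F) ∧ χ' a = k ∧
      χ' a' = k' := by
  have hm := (hh.mul (mono_tor (hD := hD) n1 ((χ a)⁻¹ * k))).mul (mono_tor (hD := hD) n2 ((χ a')⁻¹ * k'))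
  refine ⟨tor hD n1 ((χ a)⁻¹ * k) D.rank * tor hD n2 ((χ a')⁻¹ * k') D.rank,
    fun r => χ r * ((χ a)⁻¹ * k) ^ pr D n1 r D.rank * ((χ a')⁻¹ * k') ^ pr D n2 r D.rank, ?_, ?_, ?_⟩
  · rw [map_mul, ← mul_assoc]
    refine ⟨fun r hr => hr, fun r hr => ⟨r, hr, rfl⟩, fun r hr t => ?_⟩
    exact hm.eq r hr t
  · show χ a * ((χ a)⁻¹ * k) ^ pr D n1 a D.rank * ((χ a')⁻¹ * k') ^ pr D n2 a D.rank = k
    rw [h1, h3, zpow_one, zpow_zero, mul_one, mul_inv_cancel_left]
  · show χ a' * ((χ a)⁻¹ * k) ^ pr D n1 a' D.rank * ((χ a')⁻¹ * k') ^ pr D n2 a' D.rank = k'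
    rw [h2, h4, zpow_one, zpow_zero, mul_one, mul_inv_cancel_left]

/-- the same for plain statements -/
theorem adjust' (hD : InList D) {h : MulAut ↥(D.group F)} {χ : ℕ → Fˣ}
    (hh : ∀ r < D.nroots, ∀ t : F, h (xe hD r t) = xe hD r ((χ r : F) * t)) {a a' : ℕ}
    {n1 n2 : ℕ → ℤ} (h1 : pr D n1 a D.rank = 1) (h2 : pr D n1 a' D.rank = 0) (h3 : pr D n2 a D.rank = 0)
    (h4 : pr D n2 a' D.rank = 1) (k k' : Fˣ) :
    ∃ (g : ↥(D.group F)) (χ' : ℕ → Fˣ),
      (∀ r < D.nroots, ∀ t : F, (h * MulAut.conj g) (xe hD r t) = xe hD r ((χ' r : F) * t)) ∧ χ' a = k ∧ χ' a' = k' := by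
  obtain ⟨g, χ', h5, h6, h7⟩ := adjust (hD := hD) (h := h) (χ := χ) ⟨fun r hr => hr, fun r hr => ⟨r, hr, rfl⟩, hh⟩
    h1 h2 h3 h4 k k'
  exact ⟨g, χ', h5.eq, h6, h7⟩

/-- **adjustment of a graph type automorphism**: `x` with an involutory root permutation `ω`; the square of
`x * conj g` has prescribed values at two roots; `n1`, `n2` are given by tables. -/
theorem adjust_sq {x : MulAut ↥(D.group F)} {ω : ℕ → ℕ} {d : ℕ → Fˣ} (hx : Mono hD x ω d (RingEquiv.refl F))
    (hω : ∀ r < D.nroots, ω (ω r) = r) {a a' : ℕ}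
    {n1 n2 : ℕ → ℤ} (h1 : pr D n1 a D.rank + pr D n1 (ω a) D.rank = 1)
    (h2 : pr D n1 a' D.rank + pr D n1 (ω a') D.rank = 0) (h3 : pr D n2 a D.rank + pr D n2 (ω a) D.rank = 0)
    (h4 : pr D n2 a' D.rank + pr D n2 (ω a') D.rank = 1) (k k' : Fˣ) :
    ∃ (g : ↥(D.group F)) (χ' : ℕ → Fˣ), Mono hD ((x * MulAut.conj g) * (x * MulAut.conj g)) id χ' (RingEquiv.refl F) ∧
      χ' a = k ∧ χ' a' = k' := by
  set z1 : Fˣ := (d (ω a) * d a)⁻¹ * k with hz1
  set z2 : Fˣ := (d (ω a') * d a')⁻¹ * k' with hz2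
  have hm := (hx.mul (mono_tor (hD := hD) n1 z1)).mul (mono_tor (hD := hD) n2 z2)
  have hmm := hm.mul hm
  refine ⟨tor hD n1 z1 D.rank * tor hD n2 z2 D.rank,
    fun r => d (ω r) * z1 ^ pr D n1 (ω r) D.rank * z2 ^ pr D n2 (ω r) D.rank *
      (d r * z1 ^ pr D n1 r D.rank * z2 ^ pr D n2 r D.rank), ?_, ?_, ?_⟩
  · have e0 : x * MulAut.conj (tor hD n1 z1 D.rank * tor hD n2 z2 D.rank) =
        x * MulAut.conj (tor hD n1 z1 D.rank) * MulAut.conj (tor hD n2 z2 D.rank) := by
      rw [map_mul, ← mul_assoc]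
    rw [e0]
    refine ⟨fun r hr => hr, fun r hr => ⟨r, hr, rfl⟩, fun r hr t => ?_⟩
    rw [hmm.eq r hr]
    simp only [id, hω r hr]
    congr 1
  · show d (ω a) * z1 ^ pr D n1 (ω a) D.rank * z2 ^ pr D n2 (ω a) D.rank *
      (d a * z1 ^ pr D n1 a D.rank * z2 ^ pr D n2 a D.rank) = k
    have e : d (ω a) * z1 ^ pr D n1 (ω a) D.rank * z2 ^ pr D n2 (ω a) D.rank *
      (d a * z1 ^ pr D n1 a D.rank * z2 ^ pr D n2 a D.rank) =
      d (ω a) * d a * z1 ^ (pr D n1 a D.rank + pr D n1 (ω a) D.rank) *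
        z2 ^ (pr D n2 a D.rank + pr D n2 (ω a) D.rank) := by
      rw [zpow_add, zpow_add]
      simp only [mul_comm, mul_left_comm, mul_assoc]
    rw [e, h1, h3, zpow_one, zpow_zero, mul_one, hz1, mul_inv_cancel_left]
  · show d (ω a') * z1 ^ pr D n1 (ω a') D.rank * z2 ^ pr D n2 (ω a') D.rank *
      (d a' * z1 ^ pr D n1 a' D.rank * z2 ^ pr D n2 a' D.rank) = k'
    have e : d (ω a') * z1 ^ pr D n1 (ω a') D.rank * z2 ^ pr D n2 (ω a') D.rank *
      (d a' * z1 ^ pr D n1 a' D.rank * z2 ^ pr D n2 a' D.rank) =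
      d (ω a') * d a' * z1 ^ (pr D n1 a' D.rank + pr D n1 (ω a') D.rank) *
        z2 ^ (pr D n2 a' D.rank + pr D n2 (ω a') D.rank) := by
      rw [zpow_add, zpow_add]
      simp only [mul_comm, mul_left_comm, mul_assoc]
    rw [e, h2, h4, zpow_one, zpow_zero, mul_one, hz2, mul_inv_cancel_left]

end Cfsg.Agent.H20.Cos2
end

-- part: H65/Cos/Gen
section
/-!
# Generation of the inner automorphism group by two automorphisms: Chevalley groups (helper65)

`G = D.group F`, `F` finite, `h` an automorphism of `G` acting on `X_r` as the multiplication by `χ r`; `w` an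
automorphism mapping `x_r(t)` to `x_{W r}(c_r τ_r(t))`, `W a' = a`, `χ a` a generator of `Fˣ`, `χ a' ≠ 1`.

* `core`: a subgroup containing `h` and `x_a(1) w` contains `X_a` and `w`;
* `gen_one`: if the closure steps reach all roots from `a`, then `⟨h, x_a(1) w⟩ ≥ Inn G`;
* `gen_aut`: the same for `⟨h x_b(1), x_a(1) w⟩`, `χ b = 1`, starting from `a` and `b'`, `W b' = b`, `χ b' = k, k^2`.
-/

set_option autoImplicit false

namespace Cfsg.Agent.H65.Cos

open Cfsg.Lie Cfsg.Agent.ChevalleyStructure Cfsg.Agent.ChevalleyStructure.Elts Cfsg.Agent.H135.TwoG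
  Cfsg.Agent.H70.ChevFix

universe u

variable {D : ChevalleyDatum} {F : Type u} [Field F]

/-! ### closure steps with a general rotation -/

theorem step_sound' {hD : InList D} {M : Subgroup (GL D.Idx F)} {W : ℕ → ℕ}
    (hrot : ∀ s < D.nroots, Has hD M s → Has hD M (W s)) {S : ℕ} (hS : ∀ k, Nat.testBit S k = true → Has hD M k)
    (p : ℕ × ℕ) : ∀ k, Nat.testBit (step D W S p) k = true → Has hD M k := by
  intro k hk
  unfold step at hk
  split_ifs at hk with h1 h2 h3
  · rcases testBit_insert hk with h | rfl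
    · exact hS k h
    · exact hrot _ h2.2 (hS _ h2.1)
  · exact hS k hk
  · obtain ⟨ha, hb, hr, hs, hneg⟩ := h3
    split at hk
    · rename_i e he
      split_ifs at hk with hg
      · rcases testBit_insert hk with h | rfl
        · exact hS k h
        · intro v
          obtain ⟨t, u, rfl⟩ := good_spec (F := F) hg v
          have hm := comm_mem hD hr hs (Ne.symm h1) hneg (t := t) (u := u) (hS _ ha t) (hS _ hb u)
          exact mem_of_filter hD (P := fun k => Nat.testBit S k) hS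
            (fun c : ℤ × ℕ × ℕ => (c.1 : F) * (-t) ^ c.2.1 * u ^ c.2.2) _ he hm
      · exact hS k hk
    · exact hS k hk
  · exact hS k hk

theorem run_sound' {hD : InList D} {M : Subgroup (GL D.Idx F)} {W : ℕ → ℕ}
    (hrot : ∀ s < D.nroots, Has hD M s → Has hD M (W s)) (steps : List (ℕ × ℕ)) :
    ∀ {S : ℕ} (_ : ∀ k, Nat.testBit S k = true → Has hD M k),
    ∀ k, Nat.testBit (run D W S steps) k = true → Has hD M k := by
  induction steps with
  | nil => intro S hS; exact hS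
  | cons p steps ih =>
    intro S hS
    exact ih (step_sound' hrot hS p)

theorem group_le_of_run' {hD : InList D} {M : Subgroup (GL D.Idx F)} {W : ℕ → ℕ}
    (hrot : ∀ s < D.nroots, Has hD M s → Has hD M (W s)) {S : ℕ} (hS : ∀ k, Nat.testBit S k = true → Has hD M k)
    {steps : List (ℕ × ℕ)} (h : run D W S steps = 2 ^ D.nroots - 1) : D.group F ≤ M := by
  rw [group_le_iff hD]
  intro r hr
  refine run_sound' hrot steps hS r ?_
  rw [h, Nat.testBit_two_pow_sub_one]
  exact decide_eq_true hr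

/-! ### subgroups of the automorphism group -/

/-- the elements of the Chevalley group inducing elements of `M` -/
def pull (M : Subgroup (MulAut ↥(D.group F))) : Subgroup (GL D.Idx F) :=
  (M.comap (MulAut.conj : ↥(D.group F) →* MulAut ↥(D.group F))).map (D.group F).subtype

theorem mem_pull {M : Subgroup (MulAut ↥(D.group F))} {g : ↥(D.group F)} :
    (g : GL D.Idx F) ∈ pull M ↔ MulAut.conj g ∈ M := by
  constructor
  · rintro ⟨g', hg', h⟩
    have : g' = g := Subtype.ext h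
    rw [← this]; exact hg'
  · intro h; exact ⟨g, h, rfl⟩

theorem range_le_of {M : Subgroup (MulAut ↥(D.group F))} (h : D.group F ≤ pull M) :
    (MulAut.conj : ↥(D.group F) →* MulAut ↥(D.group F)).range ≤ M := by
  rintro _ ⟨g, rfl⟩
  exact mem_pull.1 (h g.2)

/-- the inner automorphism of `x_r(t)` -/
def xa (hD : InList D) (r : ℕ) (t : F) : MulAut ↥(D.group F) := MulAut.conj (xe hD r t)

theorem xa_add (hD : InList D) (r : ℕ) (s t : F) : xa hD r s * xa hD r t = xa hD r (s + t) := by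
  unfold xa
  rw [← map_mul, ← xe_add]

theorem xa_zero (hD : InList D) (r : ℕ) : xa hD r (0 : F) = 1 := by
  unfold xa
  rw [xe_zero, map_one]

theorem has_pull {hD : InList D} {M : Subgroup (MulAut ↥(D.group F))} {r : ℕ} :
    Has hD (pull M) r ↔ ∀ t : F, xa hD r t ∈ M :=
  forall_congr' fun t => mem_pull (g := xe hD r t)

theorem conj_conj {G : Type*} [Group G] (φ : MulAut G) (g : G) : φ * MulAut.conj g * φ⁻¹ = MulAut.conj (φ g) := by
  ext x
  simp only [MulAut.mul_apply, MulAut.conj_apply, map_mul, map_inv, MulAut.apply_inv_self]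

/-- the group of the `x_r(t)` -/
def XA (hD : InList D) (F : Type u) [Field F] (r : ℕ) : Subgroup (MulAut ↥(D.group F)) where
  carrier := {y | ∃ t : F, y = xa hD r t}
  mul_mem' := by
    rintro _ _ ⟨s, rfl⟩ ⟨t, rfl⟩
    exact ⟨s + t, xa_add hD r s t⟩
  one_mem' := ⟨0, (xa_zero hD r).symm⟩
  inv_mem' := by
    rintro _ ⟨s, rfl⟩
    refine ⟨-s, ?_⟩
    rw [inv_eq_iff_mul_eq_one, xa_add, add_neg_cancel, xa_zero]

/-- an action by scalars on the root group is irreducible if the scalar is `k` or `k ^ 2` -/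
theorem coeffs_bot_or_top' [Finite F] (hD : InList D) {k : Fˣ} (hk : ∀ x : Fˣ, x ∈ Subgroup.zpowers k) {r : ℕ}
    {z : Fˣ} (hz : z = k ∨ z = k ^ 2) {h : MulAut ↥(D.group F)} (hX : ∀ t : F, h * xa hD r t * h⁻¹ = xa hD r ((z : F) * t))
    {Y : Subgroup (MulAut ↥(D.group F))} (hY : ∀ y ∈ Y, (∃ t : F, y = xa hD r t) → h * y * h⁻¹ ∈ Y) :
    coeffs hD (pull Y) r = ⊥ ∨ coeffs hD (pull Y) r = ⊤ := by
  apply Cfsg.Agent.H136.FieldLem.eq_bot_or_top hk
  intro a ha
  have h1 : ∀ a ∈ coeffs hD (pull Y) r, (z : F) * a ∈ coeffs hD (pull Y) r := by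
    intro a ha
    have h2 := hY _ (mem_pull (g := xe hD r a) |>.1 ha) ⟨a, rfl⟩
    change h * xa hD r a * h⁻¹ ∈ Y at h2
    rw [hX] at h2
    exact (mem_pull (g := xe hD r _)).2 h2
  rcases hz with hz | hz
  · have h2 := h1 _ (h1 _ ha)
    rw [hz, ← mul_assoc, ← pow_two] at h2
    exact h2
  · have h2 := h1 _ ha
    rw [hz] at h2
    exact_mod_cast h2

theorem conj_xa {hD : InList D} {φ : MulAut ↥(D.group F)} {r s : ℕ} {t u : F} (h : φ (xe hD r t) = xe hD s u) :
    φ * xa hD r t * φ⁻¹ = xa hD s u := by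
  unfold xa
  rw [conj_conj, h]

theorem xa_inj (hD : InList D) (hinj : Function.Injective (MulAut.conj : ↥(D.group F) →* MulAut ↥(D.group F)))
    {r : ℕ} (hr : r < D.nroots) {s t : F} (hst : xa hD r s = xa hD r t) : s = t := xe_inj hD hr (hinj hst)

theorem aut_ext (hD : InList D) {φ ψ : MulAut ↥(D.group F)}
    (hφ : ∀ r < D.nroots, ∀ t : F, φ (xe hD r t) = ψ (xe hD r t)) : φ = ψ :=
  H79.SimpleGen.equiv_ext hD φ ψ (fun _ hi t => hφ _ (Cfsg.Agent.S1042.simple_lt hD hi) t)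
    (fun _ hi t => hφ _ (neg_simple_lt hD hi) t)

/-- **The torus trick.** -/
theorem core [Finite F] (hD : InList D) (hinj : Function.Injective (MulAut.conj : ↥(D.group F) →* MulAut ↥(D.group F)))
    {k : Fˣ} (hk : ∀ x : Fˣ, x ∈ Subgroup.zpowers k) (hk1 : k ≠ 1)
    {W : ℕ → ℕ} (hWs : ∀ s < D.nroots, ∃ r < D.nroots, W r = s)
    {χ : ℕ → Fˣ} {h w : MulAut ↥(D.group F)} {τ : ℕ → F ≃+* F}
    (hh : ∀ r < D.nroots, ∀ t : F, h (xe hD r t) = xe hD r ((χ r : F) * t))
    (hw : ∀ r < D.nroots, ∃ c : F, c ≠ 0 ∧ ∀ t : F, w (xe hD r t) = xe hD (W r) (c * τ r t))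
    {a a' : ℕ} (ha : a < D.nroots) (ha' : a' < D.nroots)
    (h1 : W a' = a) (c1 : χ a = k) (c2 : χ a' ≠ 1) {M : Subgroup (MulAut ↥(D.group F))} (hhM : h ∈ M)
    (m2 : xa hD a (1 : F) * w ∈ M) : (∀ t : F, xa hD a t ∈ M) ∧ w ∈ M := by
  classical
  have hX : ∀ r < D.nroots, ∀ t : F, h * xa hD r t * h⁻¹ = xa hD r ((χ r : F) * t) :=
    fun r hr t => conj_xa (hh r hr t)
  obtain ⟨c, hc, hwc⟩ := hw a' ha'
  rw [h1] at hwc
  have hwc0 : ∀ t : F, w * xa hD a' t * w⁻¹ = xa hD a (c * τ a' t) := fun t => conj_xa (hwc t)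
  have hpre : ∀ t : F, ∃ s : F, c * τ a' s = t := by
    intro t
    refine ⟨(τ a').symm (c⁻¹ * t), ?_⟩
    rw [RingEquiv.apply_symm_apply, ← mul_assoc, mul_inv_cancel₀ hc, one_mul]
  set κ : F := τ a' (χ a') with hκ
  have hκ0 : κ ≠ 0 := by
    rw [hκ]
    intro h0
    exact (χ a').ne_zero ((map_eq_zero (τ a')).1 h0)
  have hκ1 : κ ≠ 1 := by
    intro h0
    apply c2
    apply Units.ext
    apply (τ a').injective
    rw [Units.val_one, map_one]; exact h0
  have hk1' : (k : F) ≠ 1 := fun h0 => hk1 (Units.ext h0)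
  have hw1 : ∀ t : F, (w * h * w⁻¹) * xa hD a t * (w * h * w⁻¹)⁻¹ = xa hD a (κ * t) := by
    intro t
    obtain ⟨s, rfl⟩ := hpre t
    have h3 : xa hD a (c * τ a' s) = w * xa hD a' s * w⁻¹ := (hwc0 s).symm
    have h4 : (w * h * w⁻¹) * (w * xa hD a' s * w⁻¹) * (w * h * w⁻¹)⁻¹ = w * (h * xa hD a' s * h⁻¹) * w⁻¹ := by group
    rw [h3, h4, hX a' ha', hwc0, map_mul]
    congr 1
    ring
  have hw2 : ∀ t : F, (w * h * w⁻¹)⁻¹ * xa hD a t * (w * h * w⁻¹) = xa hD a (κ⁻¹ * t) := by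
    intro t
    have h3 := hw1 (κ⁻¹ * t)
    rw [mul_inv_cancel_left₀ hκ0] at h3
    rw [← h3]; group
  have hcomm : h * (w * h * w⁻¹) = (w * h * w⁻¹) * h := by
    apply aut_ext hD
    intro r hr t
    obtain ⟨r', hr', hrr⟩ := hWs r hr
    obtain ⟨d, hd, hdd⟩ := hw r' hr'
    rw [hrr] at hdd
    have hpre' : ∀ t : F, ∃ s : F, xe hD r t = w (xe hD r' s) ∧ d * τ r' s = t := by
      intro t
      refine ⟨(τ r').symm (d⁻¹ * t), ?_, ?_⟩
      · rw [hdd, RingEquiv.apply_symm_apply, ← mul_assoc, mul_inv_cancel₀ hd, one_mul]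
      · rw [RingEquiv.apply_symm_apply, ← mul_assoc, mul_inv_cancel₀ hd, one_mul]
    have hval : ∀ t : F, (w * h * w⁻¹) (xe hD r t) = xe hD r (τ r' (χ r') * t) := by
      intro t
      obtain ⟨s, hs, rfl⟩ := hpre' t
      rw [MulAut.mul_apply, MulAut.mul_apply, hs, MulAut.inv_apply_self, hh r' hr', hdd, map_mul]
      congr 1
      ring
    show h ((w * h * w⁻¹) (xe hD r t)) = (w * h * w⁻¹) (h (xe hD r t))
    rw [hval, hh r hr, hh r hr, hval]
    congr 1
    ring
  have hXM : XA hD F a ≤ M ∧ w ∈ M := by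
    refine Cfsg.Agent.H136.TwoGen.torus_trick M (XA hD F a) (h := h) (w := w) (u := xa hD a 1) hhM m2
      ⟨1, rfl⟩ ?_ ?_ ?_ ?_ ?_ hcomm ?_
    · rintro _ ⟨t, rfl⟩
      rw [hw1]; exact ⟨_, rfl⟩
    · rintro _ ⟨t, rfl⟩
      rw [hw2]; exact ⟨_, rfl⟩
    · intro Y hYX hY
      rcases coeffs_bot_or_top' hD hk (Or.inl rfl) (r := a) (z := k) (h := h) (fun t => by rw [hX a ha, c1]) (Y := Y)
        (fun y hy _ => hY y hy) with h3 | h3
      · left
        rw [eq_bot_iff]
        intro y hy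
        obtain ⟨t, rfl⟩ := hYX hy
        have : t ∈ coeffs hD (pull Y) a := (mem_pull (g := xe hD a t)).2 hy
        rw [h3, AddSubgroup.mem_bot] at this
        rw [this, xa_zero]
        exact Subgroup.mem_bot.2 rfl
      · right
        refine le_antisymm hYX ?_
        rintro _ ⟨t, rfl⟩
        have : t ∈ coeffs hD (pull Y) a := by rw [h3]; exact AddSubgroup.mem_top t
        exact (mem_pull (g := xe hD a t)).1 this
    · refine ⟨xa hD a 1, ⟨1, rfl⟩, fun h3 => ?_⟩
      have h4 := hX a ha 1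
      rw [h3, mul_inv_cancel_right, c1, mul_one] at h4
      exact hk1' (xa_inj hD hinj ha h4).symm
    · rintro _ ⟨t, rfl⟩
      rw [hX a ha]; exact ⟨_, rfl⟩
    · intro h3
      have h4 := hw1 1
      rw [h3, mul_inv_cancel_right, mul_one] at h4
      exact hκ1 (xa_inj hD hinj ha h4).symm
  exact ⟨fun t => hXM.1 ⟨t, rfl⟩, hXM.2⟩

/-- a monomial automorphism rotates the root subgroups of a subgroup containing it -/
theorem has_rot {hD : InList D} {W : ℕ → ℕ} {w : MulAut ↥(D.group F)} {τ : ℕ → F ≃+* F}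
    (hw : ∀ r < D.nroots, ∃ c : F, c ≠ 0 ∧ ∀ t : F, w (xe hD r t) = xe hD (W r) (c * τ r t))
    {M : Subgroup (MulAut ↥(D.group F))} (hwM : w ∈ M) :
    ∀ s < D.nroots, Has hD (pull M) s → Has hD (pull M) (W s) := by
  intro s hs hHs
  rw [has_pull] at hHs ⊢
  obtain ⟨d, hd, hdd⟩ := hw s hs
  intro t
  have h3 := conj_xa (hdd ((τ s).symm (d⁻¹ * t)))
  rw [RingEquiv.apply_symm_apply, ← mul_assoc, mul_inv_cancel₀ hd, one_mul] at h3
  rw [← h3]
  exact M.mul_mem (M.mul_mem hwM (hHs _)) (M.inv_mem hwM)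

/-- **Closure of one root subgroup.** -/
theorem range_le_of_one {hD : InList D} {W : ℕ → ℕ} {w : MulAut ↥(D.group F)} {τ : ℕ → F ≃+* F}
    (hw : ∀ r < D.nroots, ∃ c : F, c ≠ 0 ∧ ∀ t : F, w (xe hD r t) = xe hD (W r) (c * τ r t))
    {M : Subgroup (MulAut ↥(D.group F))} (hwM : w ∈ M) {a : ℕ} (hA : ∀ t : F, xa hD a t ∈ M)
    {steps : List (ℕ × ℕ)} (hrun : run D W (1 <<< a) steps = 2 ^ D.nroots - 1) :
    (MulAut.conj : ↥(D.group F) →* MulAut ↥(D.group F)).range ≤ M := by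
  refine range_le_of (group_le_of_run' (hD := hD) (has_rot hw hwM) (S := 1 <<< a) ?_ hrun)
  intro k hk
  rw [Nat.one_shiftLeft, Nat.testBit_two_pow] at hk
  have : a = k := by simpa using hk
  exact this ▸ has_pull.2 hA

/-- **Generation, one root.** -/
theorem gen_one [Finite F] (hD : InList D) (hinj : Function.Injective (MulAut.conj : ↥(D.group F) →* MulAut ↥(D.group F)))
    {k : Fˣ} (hk : ∀ x : Fˣ, x ∈ Subgroup.zpowers k) (hk1 : k ≠ 1)
    {W : ℕ → ℕ} (hWs : ∀ s < D.nroots, ∃ r < D.nroots, W r = s)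
    {χ : ℕ → Fˣ} {h w : MulAut ↥(D.group F)} {τ : ℕ → F ≃+* F}
    (hh : ∀ r < D.nroots, ∀ t : F, h (xe hD r t) = xe hD r ((χ r : F) * t))
    (hw : ∀ r < D.nroots, ∃ c : F, c ≠ 0 ∧ ∀ t : F, w (xe hD r t) = xe hD (W r) (c * τ r t))
    {a a' : ℕ} (ha : a < D.nroots) (ha' : a' < D.nroots)
    (h1 : W a' = a) (c1 : χ a = k) (c2 : χ a' ≠ 1) {steps : List (ℕ × ℕ)}
    (hrun : run D W (1 <<< a) steps = 2 ^ D.nroots - 1) :
    (MulAut.conj : ↥(D.group F) →* MulAut ↥(D.group F)).range ≤ Subgroup.closure {h, xa hD a 1 * w} := by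
  obtain ⟨hA, hwM⟩ := core hD hinj hk hk1 hWs hh hw ha ha' h1 c1 c2 (M := Subgroup.closure {h, xa hD a 1 * w})
    (Subgroup.subset_closure (by simp)) (Subgroup.subset_closure (by simp))
  exact range_le_of_one hw hwM hA hrun

end Cfsg.Agent.H65.Cos
end

private theorem dce_d2d0abd6c1e3 : _root_.True := by
  try have : _root_.True := by simp only [_root_.Cfsg.Agent.H20.Cos2.pr.eq_1]
  try have : _root_.True := by simp only [_root_.Cfsg.Agent.H20.Cos2.tor.eq_1]
  try have : _root_.True := by simp only [_root_.Cfsg.Agent.H65.Cos.xa.congr_simp]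
  try have : _root_.True := by simp only [_root_.Cfsg.Agent.H20.Cos2.tor.eq_def]
  try have : _root_.True := by simp only [_root_.Cfsg.Agent.H20.Cos2.pr.eq_2]
  try have : _root_.True := by simp only [_root_.Cfsg.Agent.H20.Cos2.tor.congr_simp]
  try have : _root_.True := by simp only [_root_.Cfsg.Agent.H20.Cos2.pr.eq_def]
  try have : _root_.True := by simp only [_root_.Cfsg.Agent.H20.Cos2.tor.eq_2]
  exact _root_.True.intro
end

-- part: H285/DG/AltCos_mg
section
prune_inst 0x16030640940120000188596f1003c46de000592006b8000c1c00a4406c0ef4208030f60b4e01312000a224400390040110c00d002300000040004004119018000aa5006b248000004000e000884000000000000000000000000000000000004200000000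
set_option linter.all false
open scoped Cfsg.Agent.FastGrp

-- part: H285/DG/Gasch
section
/-!
# S4180: Gaschütz' lemma on generators (helper285)

* `gaschutz` : generators of `E/N` lift to generators of a 2-generated group `E`;
* `cos2_of` : `Cos2 T` if all the subgroups of `Aut T` above `Inn T` are 2-generated.
-/

set_option autoImplicit false
set_option linter.unusedSectionVars false

namespace Cfsg.Agent.H285.DG

open Cfsg.Agent.H440.TwoGen Cfsg.Agent.H891.Gen Cfsg.Agent.H891.DG Subgroup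

universe u

section

variable {E : Type*} [Group E] [Fintype E]

open Classical in
/-- the pairs `(s, t)` in `N` with `⟨x s, y t⟩ = L` -/
noncomputable def pp (N : Subgroup E) (x y : E) (L : Subgroup E) : Finset (E × E) :=
  Finset.univ.filter fun p => p.1 ∈ N ∧ p.2 ∈ N ∧ _root_.Subgroup.closure ({x * p.1, y * p.2} : Set E) = L

open Classical in
/-- the pairs `(s, t)` in `N` with `x s, y t ∈ L` -/
noncomputable def aa (N : Subgroup E) (x y : E) (L : Subgroup E) : Finset (E × E) :=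
  Finset.univ.filter fun p => p.1 ∈ N ∧ p.2 ∈ N ∧ x * p.1 ∈ L ∧ y * p.2 ∈ L

theorem mem_pp {N : Subgroup E} {x y : E} {L : Subgroup E} {p : E × E} :
    p ∈ pp N x y L ↔ p.1 ∈ N ∧ p.2 ∈ N ∧ _root_.Subgroup.closure ({x * p.1, y * p.2} : Set E) = L := by
  classical
  simp only [pp, Finset.mem_filter, Finset.mem_univ, true_and]

theorem mem_aa {N : Subgroup E} {x y : E} {L : Subgroup E} {p : E × E} :
    p ∈ aa N x y L ↔ p.1 ∈ N ∧ p.2 ∈ N ∧ x * p.1 ∈ L ∧ y * p.2 ∈ L := by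
  classical
  simp only [aa, Finset.mem_filter, Finset.mem_univ, true_and]

theorem exists_mul_mem {N L : Subgroup E} [N.Normal] (h : L ⊔ N = ⊤) (x : E) : ∃ s ∈ N, x * s ∈ L := by
  have h1 : x ∈ L ⊔ N := by rw [h]; trivial
  obtain ⟨l, hl, n, hn, rfl⟩ := mem_sup_of_normal_right.1 h1
  exact ⟨n⁻¹, inv_mem hn, by rwa [mul_inv_cancel_right]⟩

theorem card_aa_le {N L : Subgroup E} [N.Normal] (h : L ⊔ N = ⊤) (x y x' y' : E) :
    (aa N x y L).card ≤ (aa N x' y' L).card := by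
  obtain ⟨s, hs, hsL⟩ := exists_mul_mem h x
  obtain ⟨t, ht, htL⟩ := exists_mul_mem h y
  obtain ⟨s', hs', hsL'⟩ := exists_mul_mem h x'
  obtain ⟨t', ht', htL'⟩ := exists_mul_mem h y'
  refine Finset.card_le_card_of_injOn (fun p => (s' * (s⁻¹ * p.1), t' * (t⁻¹ * p.2))) ?_ ?_
  · intro p hp
    obtain ⟨h1, h2, h3, h4⟩ := mem_aa.1 (Finset.mem_coe.1 hp)
    refine Finset.mem_coe.2 (mem_aa.2 ⟨mul_mem hs' (mul_mem (inv_mem hs) h1), mul_mem ht' (mul_mem (inv_mem ht) h2), ?_, ?_⟩)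
    · have h5 : x' * (s' * (s⁻¹ * p.1)) = (x' * s') * ((x * s)⁻¹ * (x * p.1)) := by group
      show x' * (s' * (s⁻¹ * p.1)) ∈ L
      rw [h5]
      exact mul_mem hsL' (mul_mem (inv_mem hsL) h3)
    · have h5 : y' * (t' * (t⁻¹ * p.2)) = (y' * t') * ((y * t)⁻¹ * (y * p.2)) := by group
      show y' * (t' * (t⁻¹ * p.2)) ∈ L
      rw [h5]
      exact mul_mem htL' (mul_mem (inv_mem htL) h4)
  · intro p _ q _ hpq
    have h1 : s' * (s⁻¹ * p.1) = s' * (s⁻¹ * q.1) := congrArg Prod.fst hpq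
    have h2 : t' * (t⁻¹ * p.2) = t' * (t⁻¹ * q.2) := congrArg Prod.snd hpq
    exact Prod.ext (mul_left_cancel (mul_left_cancel h1)) (mul_left_cancel (mul_left_cancel h2))

open Classical in
theorem card_aa_eq (N : Subgroup E) (x y : E) (L : Subgroup E) :
    (aa N x y L).card = ∑ M ∈ Finset.univ.filter (fun M : Subgroup E => M ≤ L), (pp N x y M).card := by
  have h1 : ∀ p ∈ aa N x y L, _root_.Subgroup.closure ({x * p.1, y * p.2} : Set E) ∈
      Finset.univ.filter (fun M : Subgroup E => M ≤ L) := by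
    intro p hp
    obtain ⟨-, -, h3, h4⟩ := mem_aa.1 hp
    rw [Finset.mem_filter]
    refine ⟨Finset.mem_univ _, ?_⟩
    rw [closure_le]
    rintro z (rfl | rfl)
    · exact h3
    · exact h4
  rw [Finset.card_eq_sum_card_fiberwise h1]
  refine Finset.sum_congr rfl fun M hM => ?_
  congr 1
  ext p
  rw [Finset.mem_filter, mem_aa, mem_pp]
  have hML : M ≤ L := (Finset.mem_filter.1 hM).2
  constructor
  · rintro ⟨⟨h2, h3, -, -⟩, h4⟩
    exact ⟨h2, h3, h4⟩
  · rintro ⟨h2, h3, h4⟩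
    refine ⟨⟨h2, h3, ?_, ?_⟩, h4⟩
    · apply hML
      rw [← h4]
      exact _root_.Subgroup.subset_closure (Or.inl rfl)
    · apply hML
      rw [← h4]
      exact _root_.Subgroup.subset_closure (Or.inr rfl)

theorem pp_sup {N : Subgroup E} {x y : E} (hxy : _root_.Subgroup.closure ({x, y} : Set E) ⊔ N = ⊤) {M : Subgroup E}
    (h : (pp N x y M).card ≠ 0) : M ⊔ N = ⊤ := by
  obtain ⟨p, hp⟩ := Finset.card_ne_zero.1 h
  obtain ⟨h1, h2, h3⟩ := mem_pp.1 hp
  rw [eq_top_iff, ← hxy]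
  refine sup_le ?_ le_sup_right
  rw [closure_le]
  have h4 : x * p.1 ∈ M := by rw [← h3]; exact _root_.Subgroup.subset_closure (Or.inl rfl)
  have h5 : y * p.2 ∈ M := by rw [← h3]; exact _root_.Subgroup.subset_closure (Or.inr rfl)
  rintro z (rfl | rfl)
  · have h6 : z = z * p.1 * (p.1)⁻¹ := by group
    rw [h6]
    exact mul_mem (mem_sup_left h4) (inv_mem (mem_sup_right h1))
  · have h6 : z = z * p.2 * (p.2)⁻¹ := by group
    rw [h6]
    exact mul_mem (mem_sup_left h5) (inv_mem (mem_sup_right h2))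

theorem card_pp_eq {N : Subgroup E} [N.Normal] {x y x' y' : E} (hxy : _root_.Subgroup.closure ({x, y} : Set E) ⊔ N = ⊤)
    (hxy' : closure ({x', y'} : Set E) ⊔ N = ⊤) (L : Subgroup E) : (pp N x y L).card = (pp N x' y' L).card := by
  classical
  induction hn : Nat.card L using Nat.strong_induction_on generalizing L with
  | _ n ih =>
  subst hn
  by_cases hL : L ⊔ N = ⊤
  · have h1 := card_aa_eq N x y L
    have h2 := card_aa_eq N x' y' L
    have h3 : (aa N x y L).card = (aa N x' y' L).card := le_antisymm (card_aa_le hL _ _ _ _) (card_aa_le hL _ _ _ _)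
    have hmem : L ∈ Finset.univ.filter (fun M : Subgroup E => M ≤ L) :=
      Finset.mem_filter.2 ⟨Finset.mem_univ _, le_rfl⟩
    rw [← Finset.add_sum_erase _ _ hmem] at h1 h2
    have h4 : ∑ M ∈ (Finset.univ.filter (fun M : Subgroup E => M ≤ L)).erase L, (pp N x y M).card =
        ∑ M ∈ (Finset.univ.filter (fun M : Subgroup E => M ≤ L)).erase L, (pp N x' y' M).card := by
      refine Finset.sum_congr rfl fun M hM => ?_
      obtain ⟨h5, h6⟩ := Finset.mem_erase.1 hM
      have h7 : M ≤ L := (Finset.mem_filter.1 h6).2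
      refine ih (Nat.card M) ?_ M rfl
      exact lt_of_le_of_ne (Subgroup.card_le_of_le h7) fun h8 => h5 (eq_of_le_of_card_ge h7 h8.ge)
    omega
  · have h1 : (pp N x y L).card = 0 := by
      by_contra h
      exact hL (pp_sup hxy h)
    have h2 : (pp N x' y' L).card = 0 := by
      by_contra h
      exact hL (pp_sup hxy' h)
    rw [h1, h2]

end

/-- **Gaschütz' lemma** for two generators. -/
theorem gaschutz {E : Type*} [Group E] [Finite E] {N : Subgroup E} [N.Normal] (h : TwoGen E) {x y : E}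
    (hxy : _root_.Subgroup.closure ({x, y} : Set E) ⊔ N = ⊤) : ∃ s ∈ N, ∃ t ∈ N, closure ({x * s, y * t} : Set E) = ⊤ := by
  have : Fintype E := Fintype.ofFinite E
  obtain ⟨a, b, hab⟩ := h
  have h1 : (pp N a b ⊤).card ≠ 0 := by
    rw [Finset.card_ne_zero]
    refine ⟨(1, 1), mem_pp.2 ⟨one_mem _, one_mem _, ?_⟩⟩
    rw [mul_one, mul_one]
    exact hab
  rw [card_pp_eq (x' := x) (y' := y) (by rw [hab, top_sup_eq]) hxy] at h1
  obtain ⟨p, hp⟩ := Finset.card_ne_zero.1 h1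
  obtain ⟨h2, h3, h4⟩ := mem_pp.1 hp
  exact ⟨p.1, h2, p.2, h3, h4⟩

/-- lifts in the subgroup generated -/
theorem lift_of {A : Type*} [Group A] [Finite A] {N : Subgroup A} [N.Normal] {x y : A}
    (h : TwoGen ↥(_root_.Subgroup.closure ({x, y} : Set A) ⊔ N)) : Lift N x y := by
  set S : Subgroup A := _root_.Subgroup.closure ({x, y} : Set A) ⊔ N with hS
  have hx : x ∈ S := mem_sup_left (_root_.Subgroup.subset_closure (Or.inl rfl))
  have hy : y ∈ S := mem_sup_left (_root_.Subgroup.subset_closure (Or.inr rfl))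
  have hNS : N ≤ S := le_sup_right
  have key : _root_.Subgroup.closure ({(⟨x, hx⟩ : ↥S), ⟨y, hy⟩} : Set ↥S) ⊔ N.subgroupOf S = ⊤ := by
    apply Subgroup.map_injective S.subtype_injective
    rw [Subgroup.map_sup, MonoidHom.map_closure, ← MonoidHom.range_eq_map, Subgroup.range_subtype,
      Subgroup.map_subgroupOf_eq_of_le hNS, Set.image_pair]
    rfl
  obtain ⟨s, hs, t, ht, hst⟩ := gaschutz h key
  refine ⟨s, mem_subgroupOf.1 hs, t, mem_subgroupOf.1 ht, ?_⟩
  have h1 := congrArg (Subgroup.map S.subtype) hst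
  rw [MonoidHom.map_closure, ← MonoidHom.range_eq_map, Subgroup.range_subtype, Set.image_pair] at h1
  have h2 : _root_.Subgroup.closure ({x * (s : A), y * (t : A)} : Set A) = S := h1
  rw [h2]
  exact hNS

/-- **`Cos2` from 2-generation.** -/
theorem cos2_of {T : Type u} [Group T] [Finite T]
    (h : ∀ S : Subgroup (MulAut T), (MulAut.conj : T →* MulAut T).range ≤ S → TwoGen ↥S) : Cos2 T := by
  intro x y
  have hn : ((MulAut.conj : T →* MulAut T).range).Normal := inferInstance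
  exact lift_of (h _ le_sup_right)

end Cfsg.Agent.H285.DG
end

-- part: H285/DG/AltCos
section
/-!
# S4180, C1: `Cos2` for the alternating groups (helper285)
-/

set_option autoImplicit false

namespace Cfsg.Agent.H285.DG

open Cfsg.Agent.H440.TwoGen Cfsg.Agent.H891.Gen Cfsg.Agent.H891.DG Subgroup

universe u

/-- `Cos2` from the groups with a normal subgroup isomorphic to `T` without centraliser. -/
theorem cos2_of_ext {T : Type u} [Group T] [Finite T] (hz : center T = ⊥)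
    (h : ∀ (G : Type u) [Group G] (M : Subgroup G), M.Normal → centralizer (M : Set G) = ⊥ → (M ≃* T) → TwoGen G) :
    Cos2 T := by
  refine cos2_of fun S hS => ?_
  have hinj : Function.Injective (MulAut.conj : T →* MulAut T) := by
    rw [← MonoidHom.ker_eq_bot_iff, eq_bot_iff, ← hz]
    intro x hx
    rw [mem_center_iff]
    intro y
    have h1 : MulAut.conj x y = y := by rw [(MonoidHom.mem_ker).1 hx]; rfl
    rw [MulAut.conj_apply, mul_inv_eq_iff_eq_mul] at h1
    exact h1.symm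
  set N : Subgroup ↥S := ((MulAut.conj : T →* MulAut T).range).subgroupOf S with hN
  have hn : N.Normal := inferInstance
  have e : ↥N ≃* T := (Subgroup.subgroupOfEquivOfLe hS).trans (MonoidHom.ofInjective hinj).symm
  refine h ↥S N hn ?_ e
  rw [eq_bot_iff]
  intro a ha
  rw [mem_bot]
  apply Subtype.ext
  show (a : MulAut T) = 1
  ext t
  have h1 : MulAut.conj t ∈ S := hS ⟨t, rfl⟩
  have h2 : (⟨MulAut.conj t, h1⟩ : ↥S) ∈ (N : Set ↥S) := mem_subgroupOf.2 ⟨t, rfl⟩
  have h3 := congrArg (fun z : ↥S => (z : MulAut T)) (mem_centralizer_iff.1 ha _ h2)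
  have h4 : (MulAut.conj t : MulAut T) * a = a * MulAut.conj t := h3
  have h5 : MulAut.conj ((a : MulAut T) t) = MulAut.conj t := by
    have h6 : (a : MulAut T) * MulAut.conj t * (a : MulAut T)⁻¹ = MulAut.conj ((a : MulAut T) t) := by
      ext x
      rw [MulAut.mul_apply, MulAut.mul_apply, MulAut.conj_apply, MulAut.conj_apply, map_mul, map_mul, map_inv,
        MulAut.apply_inv_self]
    rw [← h6, ← h4, mul_inv_cancel_right]
  exact hinj h5

/-- **C1** -/
theorem cos2_alt (T : Type u) [Group T] [Finite T] [IsSimpleGroup T] (h : Cfsg.IsAlternating T) : Cos2 T := by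
  obtain ⟨n, hn, ⟨e⟩⟩ := h
  refine cos2_of_ext ?_ fun G _ M hM hC f =>
    Cfsg.Agent.H487.Gen.AltRow.twoGen_alt hM hC n hn (f.trans e)
  have h4 : 4 ≤ Nat.card (Fin n) := by
    rw [Nat.card_eq_fintype_card, Fintype.card_fin]
    omega
  rw [eq_bot_iff]
  intro x hx
  rw [mem_bot]
  have h1 : e x ∈ center ↥(alternatingGroup (Fin n)) := by
    rw [mem_center_iff]
    intro y
    have h2 := mem_center_iff.1 hx (e.symm y)
    have h3 := congrArg e h2
    rwa [map_mul, map_mul, e.apply_symm_apply] at h3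
  rw [alternatingGroup.center_eq_bot h4, mem_bot] at h1
  rw [← e.symm_apply_apply x, h1, map_one]

end Cfsg.Agent.H285.DG
end

-- part: H20/Cos2/Graph
section
/-!
# Graph automorphisms on all the root subgroups (S4180, helper20)

`mono_graph`: an automorphism permuting the `x_{±p}(t)`, `p` fundamental, as a symmetry `π` of the diagram, is monomial
on all the root subgroups; the permutation of the roots is given by tables.
-/

set_option autoImplicit false

namespace Cfsg.Agent.H20.Cos2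

open Cfsg.Lie Cfsg.Agent.ChevalleyStructure Cfsg.Agent.ChevalleyStructure.Elts
  Cfsg.Agent.ChevalleyStructure.NConj Cfsg.Agent.ChevalleyStructure.BNChev
  Cfsg.Agent.H70.ChevFix Cfsg.Agent.H70.ChevField Cfsg.Agent.H70.OutCount Cfsg.Agent.H135.TwoG

universe u

variable {D : ChevalleyDatum} {F : Type u} [Field F]

/-- `n_{p_i}` as an element of the group -/
noncomputable def nE (hD : InList D) (F : Type u) [Field F] (i : ℕ) : ↥(D.group F) :=
  xe hD (D.simple i) 1 * (xe hD (D.neg (D.simple i)) (-1) * xe hD (D.simple i) 1)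

theorem coe_nE (hD : InList D) (i : ℕ) : ((nE hD F i : ↥(D.group F)) : GL D.Idx F) = nG hD (D.simple i) 1 := by
  rw [nG_def, inv_one]
  rfl

/-- a word in the `n_{p_i}` -/
noncomputable def wE (hD : InList D) (F : Type u) [Field F] (l : List ℕ) : ↥(D.group F) := (l.map (nE hD F)).prod

theorem coe_wE (hD : InList D) (l : List ℕ) : ((wE hD F l : ↥(D.group F)) : GL D.Idx F) = wG hD F l := by
  induction l with
  | nil => rfl
  | cons i l ih =>
    have e : wE hD F (i :: l) = nE hD F i * wE hD F l := by simp [wE]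
    have e' : wG hD F (i :: l) = nG hD (D.simple i) 1 * wG hD F l := by simp [wG]
    rw [e, e', Subgroup.coe_mul, ih, coe_nE]

theorem wE_conj (hD : InList D) {l : List ℕ} (hl : ∀ i ∈ l, i < D.rank) {s : ℕ} (hs : s < D.nroots) :
    ∃ η : Fˣ, ∀ t : F, wE hD F l * xe hD s t * (wE hD F l)⁻¹ = xe hD (wact D l s) ((η : F) * t) := by
  obtain ⟨η, hη, h⟩ := wG_conj (F := F) hD hl hs
  have h' : ∀ t : F, wE hD F l * xe hD s t * (wE hD F l)⁻¹ = xe hD (wact D l s) (η * t) := by
    intro t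
    apply Subtype.ext
    rw [Subgroup.coe_mul, Subgroup.coe_mul, Subgroup.coe_inv, coe_wE]
    exact h t
  rcases hη with rfl | rfl
  · exact ⟨1, fun t => by rw [h', Units.val_one]⟩
  · exact ⟨-1, fun t => by rw [h', Units.val_neg, Units.val_one]⟩

theorem map_wE {hD : InList D} {α : MulAut ↥(D.group F)} {π : ℕ → ℕ}
    (h2 : ∀ i < D.rank, ∀ t : F, α (xe hD (D.simple i) t) = xe hD (D.simple (π i)) t)
    (h3 : ∀ i < D.rank, ∀ t : F, α (xe hD (D.neg (D.simple i)) t) = xe hD (D.neg (D.simple (π i))) t)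
    {l : List ℕ} (hl : ∀ i ∈ l, i < D.rank) : α (wE hD F l) = wE hD F (l.map π) := by
  induction l with
  | nil => simp only [wE, _root_.List.map_nil, _root_.List.prod_nil, _root_.map_one]
  | cons i l ih =>
    have e : wE hD F (i :: l) = nE hD F i * wE hD F l := by simp [wE]
    have e' : wE hD F ((i :: l).map π) = nE hD F (π i) * wE hD F (l.map π) := by simp [wE]
    have hi := hl i List.mem_cons_self
    rw [e, e', map_mul, ih fun j hj => hl j (List.mem_cons_of_mem _ hj)]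
    congr 1
    rw [nE, nE, map_mul, map_mul, h2 i hi, h3 i hi]

/-- **the graph automorphisms are monomial on all the root subgroups** -/
theorem mono_graph {hD : InList D} {α : MulAut ↥(D.group F)} {π ω : ℕ → ℕ}
    (h1 : ∀ i < D.rank, π i < D.rank)
    (h2 : ∀ i < D.rank, ∀ t : F, α (xe hD (D.simple i) t) = xe hD (D.simple (π i)) t)
    (h3 : ∀ i < D.rank, ∀ t : F, α (xe hD (D.neg (D.simple i)) t) = xe hD (D.neg (D.simple (π i))) t)
    (words : ℕ → List ℕ × ℕ)
    (hw : ∀ r < D.nroots, (∀ j ∈ (words r).1, j < D.rank) ∧ (words r).2 < D.rank ∧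
      wact D (words r).1 (D.simple (words r).2) = r ∧
      wact D ((words r).1.map π) (D.simple (π (words r).2)) = ω r)
    (hsurj : ∀ r < D.nroots, ∃ s < D.nroots, ω s = r) :
    ∃ d : ℕ → Fˣ, Mono hD α ω d (RingEquiv.refl F) := by
  classical
  have hsl : ∀ i < D.rank, D.simple i < D.nroots := fun i hi => Cfsg.Agent.S1042.simple_lt hD hi
  have key : ∀ r : ℕ, ∃ c : Fˣ, r < D.nroots → ω r < D.nroots ∧ ∀ t : F, α (xe hD r t) = xe hD (ω r) ((c : F) * t) := by
    intro r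
    by_cases hr : r < D.nroots
    · obtain ⟨ha, hb, hc, hd⟩ := hw r hr
      have ha' : ∀ j ∈ (words r).1.map π, j < D.rank := by
        intro j hj
        rw [List.mem_map] at hj
        obtain ⟨i, hi, rfl⟩ := hj
        exact h1 i (ha i hi)
      have hb' := h1 _ hb
      obtain ⟨η, hη⟩ := wE_conj (F := F) hD ha (hsl _ hb)
      obtain ⟨ζ, hζ⟩ := wE_conj (F := F) hD ha' (hsl _ hb')
      rw [hc] at hη
      rw [hd] at hζ
      refine ⟨ζ * η⁻¹, fun _ => ⟨?_, fun t => ?_⟩⟩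
      · rw [← hd]; exact wact_lt hD ha' (hsl _ hb')
      · have e1 := hη ((η⁻¹ : Fˣ) * t)
        rw [← mul_assoc, ← Units.val_mul, mul_inv_cancel, Units.val_one, one_mul] at e1
        rw [← e1, map_mul, map_mul, map_inv, map_wE h2 h3 ha, h2 _ hb, hζ, Units.val_mul, mul_assoc]
    · exact ⟨1, fun h => absurd h hr⟩
  choose d hd using key
  exact ⟨d, ⟨fun r hr => (hd r hr).1, hsurj, fun r hr t => (hd r hr).2 t⟩⟩

end Cfsg.Agent.H20.Cos2
end

-- part: H20/Cos2/TabE6
section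
/-!
# Generating pairs in the cosets of the inner automorphisms of `E₆(q)` (S4180, helper20)
-/

set_option autoImplicit false

namespace Cfsg.Agent.H20.Cos2

open scoped Pointwise
open Cfsg Cfsg.Lie Cfsg.Agent.ChevalleyStructure Cfsg.Agent.ChevalleyStructure.Elts
  Cfsg.Agent.ChevalleyStructure.NConj Cfsg.Agent.ChevalleyStructure.BNChev
  Cfsg.Agent.H70.ChevFix Cfsg.Agent.H70.ChevField Cfsg.Agent.H70.OutCount Cfsg.Agent.H70.OutE Cfsg.Agent.H135.TwoG
open Cfsg.Agent.ChevalleyStructure.W0E6 (tabE6 tabE6_ok)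

universe u

/-! ### tables -/

/-- the graph automorphism on the roots -/
def flipTab : List ℕ :=
    [0, 1, 2, 5, 16, 3, 6, 17, 8, 19, 22, 11, 26, 30, 33, 35, 4, 7, 18, 9, 20, 23, 10, 21, 24, 25, 12, 27, 31, 34,
    13, 28, 32, 14, 29, 15, 56, 42, 57, 39, 43, 58, 37, 40, 44, 59, 46, 47, 50, 61, 48, 51, 62, 53, 64, 67, 36, 38,
    41, 45, 60, 49, 52, 63, 54, 65, 68, 55, 66, 69, 70, 71]

def flipR (r : ℕ) : ℕ := flipTab.getD r 0

/-- the symmetry of the diagram -/
def fl (i : ℕ) : ℕ := [5, 1, 4, 3, 2, 0].getD i 0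

/-- words for the roots -/
def wordTab : List (List ℕ × ℕ) :=
    [([1, 3, 4, 5, 2, 3, 4, 1, 3, 2, 0], 0), ([3, 4, 5, 2, 3, 4, 1, 3, 2, 0], 0), ([4, 5, 2, 3, 4, 1, 3, 2, 0], 0),
    ([5, 2, 3, 4, 1, 3, 2, 0], 0), ([2, 3, 4, 1, 3, 2, 0], 0), ([4, 5, 3, 4, 1, 3, 2, 0], 0), ([5, 3, 4, 1, 3, 2,
    0], 0), ([3, 4, 1, 3, 2, 0], 0), ([5, 4, 1, 3, 2, 0], 0), ([4, 1, 3, 2, 0], 0), ([1, 3, 2, 0], 0), ([5, 4, 3, 2,
    0], 0), ([4, 3, 2, 0], 0), ([3, 2, 0], 0), ([2, 0], 0), ([0], 0), ([4, 5, 3, 4, 2, 3, 1], 1), ([5, 3, 4, 2, 3,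
    1], 1), ([3, 4, 2, 3, 1], 1), ([5, 4, 2, 3, 1], 1), ([4, 2, 3, 1], 1), ([2, 3, 1], 1), ([5, 4, 3, 1], 1), ([4,
    3, 1], 1), ([3, 1], 1), ([1], 1), ([5, 4, 3, 2], 2), ([4, 3, 2], 2), ([3, 2], 2), ([2], 2), ([5, 4, 3], 3), ([4,
    3], 3), ([3], 3), ([5, 4], 4), ([4], 4), ([5], 5), ([], 5), ([], 4), ([5], 4), ([], 3), ([4], 3), ([5, 4], 3),
    ([], 2), ([3], 2), ([4, 3], 2), ([5, 4, 3], 2), ([], 1), ([3], 1), ([4, 3], 1), ([5, 4, 3], 1), ([2, 3], 1),
    ([4, 2, 3], 1), ([5, 4, 2, 3], 1), ([3, 4, 2, 3], 1), ([5, 3, 4, 2, 3], 1), ([4, 5, 3, 4, 2, 3], 1), ([], 0),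
    ([2], 0), ([3, 2], 0), ([4, 3, 2], 0), ([5, 4, 3, 2], 0), ([1, 3, 2], 0), ([4, 1, 3, 2], 0), ([5, 4, 1, 3, 2],
    0), ([3, 4, 1, 3, 2], 0), ([5, 3, 4, 1, 3, 2], 0), ([4, 5, 3, 4, 1, 3, 2], 0), ([2, 3, 4, 1, 3, 2], 0), ([5, 2,
    3, 4, 1, 3, 2], 0), ([4, 5, 2, 3, 4, 1, 3, 2], 0), ([3, 4, 5, 2, 3, 4, 1, 3, 2], 0), ([1, 3, 4, 5, 2, 3, 4, 1,
    3, 2], 0)]

def words (r : ℕ) : List ℕ × ℕ := wordTab.getD r ([], 0)

/-- closure steps, the rotation is `s_0 s_1 s_2 s_3 s_4 s_5` -/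
def stepsA : List (ℕ × ℕ) :=
    [(36, 36), (8, 8), (28, 28), (23, 23), (11, 11), (56, 56), (42, 42), (47, 47), (59, 59), (52, 52), (39, 39), (8,
    28), (3, 3), (18, 18), (5, 5), (26, 26), (57, 57), (50, 50), (64, 64), (69, 69), (54, 54), (40, 40), (38, 38),
    (3, 23), (0, 0), (1, 1), (16, 16), (30, 30), (61, 61), (67, 67), (71, 71), (70, 70), (55, 55), (41, 41), (10,
    10), (0, 47), (2, 2), (17, 17), (31, 31), (33, 33), (62, 62), (68, 68), (53, 53), (66, 66), (45, 45), (14, 14),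
    (21, 21), (0, 64), (19, 19), (32, 32), (34, 34), (35, 35), (63, 63), (43, 43), (48, 48), (60, 60), (15, 15),
    (29, 29), (24, 24), (0, 67), (22, 22), (46, 46), (58, 58), (51, 51), (65, 65), (44, 44), (49, 49), (25, 25),
    (13, 13), (20, 20), (6, 6)]

/-- closure steps, the rotation is `s_4 s_3 s_5 s_1` times the graph automorphism -/
def stepsB : List (ℕ × ℕ) :=
    [(0, 0), (3, 3), (6, 6), (10, 10), (37, 37), (44, 44), (55, 55), (69, 69), (70, 70), (71, 71), (68, 68), (65,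
    65), (61, 61), (34, 34), (27, 27), (16, 16), (2, 2), (0, 65), (20, 20), (26, 26), (5, 5), (4, 4), (17, 17), (8,
    8), (13, 13), (24, 24), (40, 40), (51, 51), (45, 45), (66, 66), (67, 67), (54, 54), (63, 63), (58, 58), (47,
    47), (0, 54), (9, 9), (28, 28), (22, 22), (14, 14), (32, 32), (25, 25), (48, 48), (42, 42), (41, 41), (62, 62),
    (43, 43), (49, 49), (57, 57), (39, 39), (46, 46), (23, 23), (29, 29), (0, 63), (18, 18), (19, 19), (11, 11), (7,
    7), (21, 21), (35, 35), (15, 15), (38, 38), (59, 59), (53, 53), (52, 52), (60, 60), (64, 64), (50, 50), (36,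
    36), (56, 56), (33, 33)]

theorem wT_E6 {l : List ℕ} (hl : ∀ i ∈ l, i < chevE6.rank) {s : ℕ} (hs : s < chevE6.nroots) :
    wact chevE6 l s = wT tabE6 l s := (wT_eq (by simp) tabE6_ok hl s hs).symm

theorem flipR_ok : ∀ r < chevE6.nroots, flipR r < chevE6.nroots ∧ flipR (flipR r) = r := by decide +kernel

theorem words_ok : ∀ r < chevE6.nroots, (∀ j ∈ (words r).1, j < chevE6.rank) ∧ (words r).2 < chevE6.rank ∧
    wT tabE6 (words r).1 (chevE6.simple (words r).2) = r ∧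
    wT tabE6 ((words r).1.map fl) (chevE6.simple (fl (words r).2)) = flipR r := by decide +kernel

theorem fl_lt : ∀ i < chevE6.rank, fl i < chevE6.rank := by decide

/-- the rotations -/
def WA (s : ℕ) : ℕ := wT tabE6 [0, 1, 2, 3, 4, 5] s
def WB (s : ℕ) : ℕ := wT tabE6 [4, 3, 5, 1] (flipR s)

theorem runA : run chevE6 WA (1 <<< 36) stepsA = 2 ^ chevE6.nroots - 1 := by decide +kernel

theorem runB : run chevE6 WB (1 <<< 0) stepsB = 2 ^ chevE6.nroots - 1 := by decide +kernel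

def nv (l : List ℤ) (i : ℕ) : ℤ := l.getD i 0

theorem prA : pr chevE6 (nv [-1, -1, -1, 1, 1, 1]) 36 chevE6.rank = 1 ∧
    pr chevE6 (nv [-1, -1, -1, 1, 1, 1]) 37 chevE6.rank = 0 ∧
    pr chevE6 (nv [-1, -1, -1, -1, 0, 0]) 36 chevE6.rank = 0 ∧
    pr chevE6 (nv [-1, -1, -1, -1, 0, 0]) 37 chevE6.rank = 1 := by decide +kernel

theorem prB : pr chevE6 (nv [-1, -1, -1, -1, -1, -1]) 0 chevE6.rank = 1 ∧
    pr chevE6 (nv [-1, -1, -1, -1, -1, -1]) 1 chevE6.rank = 0 ∧
    pr chevE6 (nv [-1, 0, -1, -1, -1, -1]) 0 chevE6.rank = 0 ∧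
    pr chevE6 (nv [-1, 0, -1, -1, -1, -1]) 1 chevE6.rank = 1 := by decide +kernel

theorem prAsq : pr chevE6 (nv [-1, -1, -1, -1, 0, 1]) 36 chevE6.rank +
      pr chevE6 (nv [-1, -1, -1, -1, 0, 1]) (flipR 36) chevE6.rank = 1 ∧
    pr chevE6 (nv [-1, -1, -1, -1, 0, 1]) 37 chevE6.rank +
      pr chevE6 (nv [-1, -1, -1, -1, 0, 1]) (flipR 37) chevE6.rank = 0 ∧
    pr chevE6 (nv [0, -1, 1, 1, 1, 1]) 36 chevE6.rank +
      pr chevE6 (nv [0, -1, 1, 1, 1, 1]) (flipR 36) chevE6.rank = 0 ∧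
    pr chevE6 (nv [0, -1, 1, 1, 1, 1]) 37 chevE6.rank +
      pr chevE6 (nv [0, -1, 1, 1, 1, 1]) (flipR 37) chevE6.rank = 1 := by decide +kernel

end Cfsg.Agent.H20.Cos2
end

-- part: H20/Cos2/ESix
section
/-!
# Generating pairs in the cosets of the inner automorphisms of `E₆(q)` (S4180, helper20)

`lift_E6` : any two automorphisms `x`, `y` of `E₆(q)`, `x` with trivial field part, can be changed by inner
automorphisms so that the group generated by them contains the inner automorphisms.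
-/

set_option autoImplicit false

namespace Cfsg.Agent.H20.Cos2

open scoped Pointwise
open Cfsg Cfsg.Lie Cfsg.Agent.ChevalleyStructure Cfsg.Agent.ChevalleyStructure.Elts
  Cfsg.Agent.ChevalleyStructure.NConj Cfsg.Agent.ChevalleyStructure.BNChev
  Cfsg.Agent.H70.ChevFix Cfsg.Agent.H70.ChevField Cfsg.Agent.H70.OutCount Cfsg.Agent.H70.OutE Cfsg.Agent.H135.TwoG
  Cfsg.Agent.H891.DG Cfsg.Agent.H891.Gen Cfsg.Agent.H891.DG.Nielsen
open Cfsg.Agent.ChevalleyStructure.W0E6 (tabE6 tabE6_ok)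
open Cfsg.Agent.H65.Cos (xa)

universe u

/-! ### the automorphisms fixing the fundamental root subgroups -/

/-- an automorphism fixing the root subgroups of the fundamental roots and their negatives is monomial -/
theorem mono_of_perm_one {D : ChevalleyDatum} {F : Type u} [Field F] [Finite F] (hD : InList D)
    {φ : MulAut ↥(D.group F)} (h : Perm D F φ 1) :
    ∃ (χ : ℕ → Fˣ) (τ : F ≃+* F), Mono hD φ id χ τ := by
  obtain ⟨c, σ, hc, h1, h2, h3⟩ := exists_field hD h
  obtain ⟨τ, hτ⟩ := sigma_eq hD (σ := σ) h3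
  obtain ⟨χ, hχ, h4, h5⟩ := Cfsg.Agent.H70.ChevDiag.exists_diagAut (F := F) hD (fun i => Units.mk0 (c i) (hc i))
  obtain ⟨α, hα⟩ := exists_fieldAut hD τ
  have e : φ = Cfsg.Agent.H70.ChevDiag.diagAut hD hχ * α := by
    apply ext_values hD
    · intro i t
      rw [h1, hτ, MulAut.mul_apply, hα _ (Cfsg.Agent.S1042.simple_lt hD i.2), diagAut_xe, h4]
      rfl
    · intro i t
      rw [h2, hτ, MulAut.mul_apply, hα _ (neg_simple_lt hD i.2), diagAut_xe, h5, Units.val_inv_eq_inv_val]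
      rfl
  refine ⟨χ, τ, fun r hr => hr, fun r hr => ⟨r, hr, rfl⟩, fun r hr t => ?_⟩
  rw [e, MulAut.mul_apply, hα r hr, diagAut_xe]
  rfl

theorem isCyclic_ringAut (F : Type*) [Field F] [Finite F] : IsCyclic (F ≃+* F) := by
  obtain ⟨p, hp⟩ := CharP.exists F
  have hpp : Fact p.Prime := ⟨CharP.char_is_prime F p⟩
  let _ : Algebra (ZMod p) F := ZMod.algebra F p
  let φ : (F ≃ₐ[ZMod p] F) →* (F ≃+* F) :=
    { toFun := fun σ => σ.toRingEquiv
      map_one' := rfl
      map_mul' := fun _ _ => rfl }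
  have hφ : Function.Surjective φ := by
    intro σ
    refine ⟨AlgEquiv.ofRingEquiv (f := σ) ?_, ?_⟩
    · intro x
      have : (σ : F →+* F).comp (algebraMap (ZMod p) F) = algebraMap (ZMod p) F := Subsingleton.elim _ _
      exact RingHom.congr_fun this x
    · ext x
      rfl
  exact isCyclic_of_surjective φ hφ

section E6

variable {F : Type u} [Field F]

/-- the type of the root permutation -/
def om : Bool → ℕ → ℕ
  | false => id
  | true => flipR

theorem om_lt (b : Bool) : ∀ r < chevE6.nroots, om b r < chevE6.nroots := by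
  cases b
  · exact fun r hr => hr
  · exact fun r hr => (flipR_ok r hr).1

theorem om_om (b : Bool) : ∀ r < chevE6.nroots, om b (om b r) = r := by
  cases b
  · exact fun r _ => rfl
  · exact fun r hr => (flipR_ok r hr).2

/-- the graph automorphism -/
theorem exists_graph (F : Type u) [Field F] :
    ∃ (α : MulAut ↥(chevE6.group F)) (d : ℕ → Fˣ), Mono inList_E6 α flipR d (RingEquiv.refl F) ∧
      Perm chevE6 F α Cfsg.Agent.H70.OutE.flip := by
  obtain ⟨α, hα⟩ := S1081.result (F := F) (chevE6, [5, 1, 4, 3, 2, 0]) (by simp)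
  have h2 : ∀ i < chevE6.rank, ∀ t : F, α (xe inList_E6 (chevE6.simple i) t) =
      xe inList_E6 (chevE6.simple (fl i)) t := fun i hi t =>
    Subtype.ext (Units.ext ((hα (xe inList_E6 (chevE6.simple i) t) i t hi).1 rfl))
  have h3 : ∀ i < chevE6.rank, ∀ t : F, α (xe inList_E6 (chevE6.neg (chevE6.simple i)) t) =
      xe inList_E6 (chevE6.neg (chevE6.simple (fl i))) t := fun i hi t =>
    Subtype.ext (Units.ext ((hα (xe inList_E6 (chevE6.neg (chevE6.simple i)) t) i t hi).2 rfl))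
  have hw : ∀ r < chevE6.nroots, (∀ j ∈ (words r).1, j < chevE6.rank) ∧ (words r).2 < chevE6.rank ∧
      wact chevE6 (words r).1 (chevE6.simple (words r).2) = r ∧
      wact chevE6 ((words r).1.map fl) (chevE6.simple (fl (words r).2)) = flipR r := by
    intro r hr
    obtain ⟨h4, h5, h6, h7⟩ := words_ok r hr
    have h4' : ∀ j ∈ (words r).1.map fl, j < chevE6.rank := by
      intro j hj
      rw [List.mem_map] at hj
      obtain ⟨i, hi, rfl⟩ := hj
      exact fl_lt i (h4 i hi)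
    refine ⟨h4, h5, ?_, ?_⟩
    · rw [wT_E6 h4 (Cfsg.Agent.S1042.simple_lt inList_E6 h5)]; exact h6
    · rw [wT_E6 h4' (Cfsg.Agent.S1042.simple_lt inList_E6 (fl_lt _ h5))]; exact h7
  obtain ⟨d, hd⟩ := mono_graph (hD := inList_E6) (α := α) (π := fl) (ω := flipR) fl_lt h2 h3 words hw
    (fun r hr => ⟨flipR r, (flipR_ok r hr).1, (flipR_ok r hr).2⟩)
  refine ⟨α, d, hd, ?_, ?_⟩
  · intro i
    refine smul_XX inList_E6 fun t => ?_
    rw [h2 i i.2, flip_val i]
    rfl
  · intro i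
    refine smul_XX inList_E6 fun t => ?_
    rw [h3 i i.2, flip_val i]
    rfl

/-- every automorphism is inner times monomial -/
theorem decomp [Finite F] (θ : MulAut ↥(chevE6.group F)) :
    ∃ (g : ↥(chevE6.group F)) (b : Bool) (d : ℕ → Fˣ) (σ : F ≃+* F),
      Mono inList_E6 (MulAut.conj g * θ) (om b) d σ := by
  obtain ⟨g, π, -, -, h1, h2⟩ := exists_conj_perm (F := F) inList_E6 θ
  have hP : Perm chevE6 F (MulAut.conj g * θ) π := ⟨h1, h2⟩
  have h3 := Cfsg.Agent.H70.DiagSym.isDiagramSymmetry inList_E6 hP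
  have h4 := Cfsg.Agent.H79.DiagSymm.imgs_E6 h3
  simp only [List.mem_cons, List.not_mem_nil, or_false] at h4
  rcases h4 with h4 | h4
  · have h5 : π = 1 := Cfsg.Agent.H79.DiagSymm.eq_of_imgs (h4.trans (by rw [Cfsg.Agent.H79.DiagSymm.imgs_one]; rfl))
    subst h5
    obtain ⟨χ, τ, h6⟩ := mono_of_perm_one inList_E6 hP
    exact ⟨g, false, χ, τ, h6⟩
  · have h5 : π = Cfsg.Agent.H70.OutE.flip := Cfsg.Agent.H79.DiagSymm.eq_of_imgs (h4.trans imgs_flip.symm)
    subst h5
    obtain ⟨α, d, hα, hαP⟩ := exists_graph F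
    have h6 := hP.mul hαP.inv
    rw [mul_inv_cancel] at h6
    obtain ⟨χ, τ, h7⟩ := mono_of_perm_one inList_E6 h6
    have h8 := h7.mul hα
    rw [inv_mul_cancel_right] at h8
    exact ⟨g, true, _, _, h8⟩

/-! ### the pairs -/

/-- the words of the two types -/
def wd : Bool → List ℕ
  | false => [0, 1, 2, 3, 4, 5]
  | true => [4, 3, 5, 1]

theorem wd_lt (b : Bool) : ∀ i ∈ wd b, i < chevE6.rank := by cases b <;> decide

def Wb : Bool → ℕ → ℕ
  | false => WA
  | true => WB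

theorem Wb_eq (b : Bool) : ∀ r < chevE6.nroots, Wb b r = wact chevE6 (wd b) (om b r) := by
  intro r hr
  rw [wT_E6 (wd_lt b) (om_lt b r hr)]
  cases b <;> rfl

/-- the start roots -/
def sa : Bool → ℕ
  | false => 36
  | true => 0

def sa' : Bool → ℕ
  | false => 37
  | true => 1

def sts : Bool → List (ℕ × ℕ)
  | false => stepsA
  | true => stepsB

theorem sts_run (b : Bool) : run chevE6 (Wb b) (1 <<< sa b) (sts b) = 2 ^ chevE6.nroots - 1 := by
  cases b
  · exact runA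
  · exact runB

theorem sa_lt (b : Bool) : sa b < chevE6.nroots := by cases b <;> decide
theorem sa'_lt (b : Bool) : sa' b < chevE6.nroots := by cases b <;> decide

theorem Wb_sa' (b : Bool) : Wb b (sa' b) = sa b := by cases b <;> decide +kernel

/-- the monomial element `n_w y` -/
theorem exists_W {y : MulAut ↥(chevE6.group F)} {b : Bool} {d : ℕ → Fˣ} {σ : F ≃+* F}
    (hy : Mono inList_E6 y (om b) d σ) :
    ∃ (g : ↥(chevE6.group F)) (d' : ℕ → Fˣ), Mono inList_E6 (MulAut.conj g * y) (Wb b) d' σ := by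
  obtain ⟨e, he⟩ := mono_word (F := F) (hD := inList_E6) (wd_lt b)
  have h := he.mul hy
  exact ⟨_, _, h.congr (ω' := Wb b) (fun r hr => Wb_eq b r hr) (fun r _ => rfl)⟩

/-- the form used in `H65.Cos.Gen` -/
theorem Mono.hw {D : ChevalleyDatum} {hD : InList D} {W : MulAut ↥(D.group F)} {ω : ℕ → ℕ} {d : ℕ → Fˣ}
    {σ : F ≃+* F} (h : Mono hD W ω d σ) :
    ∀ r < D.nroots, ∃ c : F, c ≠ 0 ∧ ∀ t : F, W (xe hD r t) = xe hD (ω r) (c * σ t) :=
  fun r hr => ⟨(d r : F), (d r).ne_zero, h.eq r hr⟩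

/-- the general step: `h`, a diagonal automorphism in `M`, and `x_a(1) W ∈ M` -/
theorem range_le [Finite F] {k : Fˣ} (hk : ∀ x : Fˣ, x ∈ Subgroup.zpowers k) (hk1 : k ≠ 1) {b : Bool}
    {M : Subgroup (MulAut ↥(chevE6.group F))} {h W : MulAut ↥(chevE6.group F)} {χ d : ℕ → Fˣ} {σ : F ≃+* F}
    (hh : Mono inList_E6 h id χ (RingEquiv.refl F)) (hW : Mono inList_E6 W (Wb b) d σ)
    (h1 : χ (sa b) = k) (h2 : χ (sa' b) = k) (hM : h ∈ M) (hWM : xa inList_E6 (sa b) 1 * W ∈ M) :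
    (MulAut.conj : ↥(chevE6.group F) →* MulAut ↥(chevE6.group F)).range ≤ M := by
  obtain ⟨h3, h4⟩ := Cfsg.Agent.H65.Cos.core inList_E6 (_root_.Cfsg.Agent.H70.OutCount.conj_injective inList_E6) hk hk1 hW.surj (τ := fun _ => σ)
    hh.eq hW.hw (sa_lt b) (sa'_lt b) (Wb_sa' b) h1 (by rw [h2]; exact hk1) hM hWM
  exact Cfsg.Agent.H65.Cos.range_le_of_one (τ := fun _ => σ) hW.hw h4 h3 (sts_run b)

/-- a pair with a diagonal first component, at least three elements -/
theorem lift_diag [Finite F] {k : Fˣ} (hk : ∀ x : Fˣ, x ∈ Subgroup.zpowers k) (hk1 : k ≠ 1)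
    {x y : MulAut ↥(chevE6.group F)} {χ d : ℕ → Fˣ} {σ : F ≃+* F} {b : Bool}
    (hx : Mono inList_E6 x id χ (RingEquiv.refl F)) (hy : Mono inList_E6 y (om b) d σ) :
    Lift (MulAut.conj : ↥(chevE6.group F) →* MulAut ↥(chevE6.group F)).range x y := by
  obtain ⟨g, d', hW⟩ := exists_W hy
  have hadj : ∃ (g : ↥(chevE6.group F)) (χ' : ℕ → Fˣ), Mono inList_E6 (x * MulAut.conj g) id χ' (RingEquiv.refl F) ∧
      χ' (sa b) = k ∧ χ' (sa' b) = k := by
    cases b
    · exact adjust hx prA.1 prA.2.1 prA.2.2.1 prA.2.2.2 k k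
    · exact adjust hx prB.1 prB.2.1 prB.2.2.1 prB.2.2.2 k k
  obtain ⟨g', χ', h1, h2, h3⟩ := hadj
  have hN := inn_normal ↥(chevE6.group F)
  have e : xa inList_E6 (sa b) 1 * (MulAut.conj g * y) =
      y * (y⁻¹ * (xa inList_E6 (sa b) 1 * MulAut.conj g) * y) := by group
  refine ⟨MulAut.conj g', ⟨g', rfl⟩, y⁻¹ * (xa inList_E6 (sa b) 1 * MulAut.conj g) * y, ?_, ?_⟩
  · have h4 := hN.conj_mem (xa inList_E6 (sa b) (1 : F) * MulAut.conj g) ⟨xe inList_E6 (sa b) 1 * g, by
      rw [map_mul]; rfl⟩ y⁻¹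
    rwa [inv_inv] at h4
  · rw [← e]
    exact range_le hk hk1 h1 hW h2 h3 (Subgroup.subset_closure (by simp only [_root_.Set.mem_insert_iff, _root_.Set.mem_singleton_iff, _root_.true_or])) (Subgroup.subset_closure (by simp only [_root_.Set.mem_insert_iff, _root_.Set.mem_singleton_iff, _root_.or_true]))

/-- a pair with a first component of graph type and a second one not of graph type, at least three elements -/
theorem lift_flip [Finite F] {k : Fˣ} (hk : ∀ x : Fˣ, x ∈ Subgroup.zpowers k) (hk1 : k ≠ 1)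
    {x y : MulAut ↥(chevE6.group F)} {χ d : ℕ → Fˣ} {σ : F ≃+* F}
    (hx : Mono inList_E6 x (om true) χ (RingEquiv.refl F)) (hy : Mono inList_E6 y (om false) d σ) :
    Lift (MulAut.conj : ↥(chevE6.group F) →* MulAut ↥(chevE6.group F)).range x y := by
  obtain ⟨g, d', hW⟩ := exists_W hy
  obtain ⟨g', χ', h1, h2, h3⟩ := adjust_sq hx (om_om true) (n1 := nv [-1, -1, -1, -1, 0, 1])
    (n2 := nv [0, -1, 1, 1, 1, 1]) (a := sa false) (a' := sa' false) prAsq.1 prAsq.2.1 prAsq.2.2.1 prAsq.2.2.2 k k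
  have hN := inn_normal ↥(chevE6.group F)
  have e : xa inList_E6 (sa false) 1 * (MulAut.conj g * y) =
      y * (y⁻¹ * (xa inList_E6 (sa false) 1 * MulAut.conj g) * y) := by group
  refine ⟨MulAut.conj g', ⟨g', rfl⟩, y⁻¹ * (xa inList_E6 (sa false) 1 * MulAut.conj g) * y, ?_, ?_⟩
  · have h4 := hN.conj_mem (xa inList_E6 (sa false) (1 : F) * MulAut.conj g) ⟨xe inList_E6 (sa false) 1 * g, by
      rw [map_mul]; rfl⟩ y⁻¹
    rwa [inv_inv] at h4
  · rw [← e]
    have h5 : x * MulAut.conj g' ∈ Subgroup.closure ({x * MulAut.conj g',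
        xa inList_E6 (sa false) 1 * (MulAut.conj g * y)} : Set (MulAut ↥(chevE6.group F))) :=
      Subgroup.subset_closure (by simp only [_root_.Set.mem_insert_iff, _root_.Set.mem_singleton_iff, _root_.true_or])
    exact range_le hk hk1 h1 hW h2 h3 (mul_mem h5 h5) (Subgroup.subset_closure (by simp only [_root_.Set.mem_insert_iff, _root_.Set.mem_singleton_iff, _root_.or_true]))

/-- a pair with an inner first component, two elements -/
theorem lift_inner (hF : ∀ t : F, t = 0 ∨ t = 1)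
    {x y : MulAut ↥(chevE6.group F)} {d : ℕ → Fˣ} {σ : F ≃+* F} {b : Bool}
    (hx : x ∈ (MulAut.conj : ↥(chevE6.group F) →* MulAut ↥(chevE6.group F)).range)
    (hy : Mono inList_E6 y (om b) d σ) :
    Lift (MulAut.conj : ↥(chevE6.group F) →* MulAut ↥(chevE6.group F)).range x y := by
  obtain ⟨g, d', hW⟩ := exists_W hy
  have hN := inn_normal ↥(chevE6.group F)
  refine ⟨x⁻¹ * xa inList_E6 (sa b) 1, mul_mem (inv_mem hx) ⟨_, rfl⟩, y⁻¹ * MulAut.conj g * y, ?_, ?_⟩
  · have h4 := hN.conj_mem (MulAut.conj g) ⟨g, rfl⟩ y⁻¹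
    rwa [inv_inv] at h4
  · have e1 : x * (x⁻¹ * xa inList_E6 (sa b) 1) = xa inList_E6 (sa b) 1 := by group
    have e2 : y * (y⁻¹ * MulAut.conj g * y) = MulAut.conj g * y := by group
    rw [e1, e2]
    refine Cfsg.Agent.H65.Cos.range_le_of_one (τ := fun _ => σ) hW.hw (Subgroup.subset_closure (by simp only [_root_.Set.mem_insert_iff, _root_.Set.mem_singleton_iff, _root_.or_true]))
      (a := sa b) (fun t => ?_) (sts_run b)
    rcases hF t with rfl | rfl
    · rw [Cfsg.Agent.H65.Cos.xa_zero]; exact one_mem _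
    · exact Subgroup.subset_closure (by simp)

/-! ### automorphisms with trivial field part -/

theorem om_comp (b b' : Bool) : ∀ r < chevE6.nroots, om (xor b b') r = om b (om b' r) := by
  intro r hr
  cases b <;> cases b'
  · rfl
  · rfl
  · rfl
  · exact ((flipR_ok r hr).2).symm

theorem Mono.inv_om {W : MulAut ↥(chevE6.group F)} {b : Bool} {d : ℕ → Fˣ} {σ : F ≃+* F}
    (h : Mono inList_E6 W (om b) d σ) :
    ∃ d' : ℕ → Fˣ, Mono inList_E6 W⁻¹ (om b) d' σ.symm := by
  refine ⟨fun r => Units.map (σ.symm : F →* F) ((d (om b r))⁻¹), h.lt, h.surj, fun r hr t => ?_⟩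
  have h1 := h.inv_apply (om_lt b r hr) t
  rw [om_om b r hr] at h1
  rw [h1]
  congr 1
  rw [map_mul, Units.coe_map, Units.val_inv_eq_inv_val]
  rfl

/-- the automorphisms with trivial field part -/
def KE (F : Type u) [Field F] : Subgroup (MulAut ↥(chevE6.group F)) where
  carrier := {θ | ∃ (g : ↥(chevE6.group F)) (b : Bool) (d : ℕ → Fˣ),
    Mono inList_E6 (MulAut.conj g * θ) (om b) d (RingEquiv.refl F)}
  mul_mem' := by
    rintro θ θ' ⟨g, b, d, h⟩ ⟨g', b', d', h'⟩
    have h1 := h.mul h'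
    have e : MulAut.conj g * θ * (MulAut.conj g' * θ') = MulAut.conj (g * θ g') * (θ * θ') := by
      rw [map_mul, ← conj_conj]; group
    rw [e] at h1
    exact ⟨g * θ g', xor b b', _, (h1.congr (ω' := om (xor b b')) (fun r hr => om_comp b b' r hr) fun r _ => rfl)⟩
  one_mem' := ⟨1, false, _, by rw [map_one, one_mul]; exact Mono.one⟩
  inv_mem' := by
    rintro θ ⟨g, b, d, h⟩
    obtain ⟨d', h1⟩ := h.inv_om
    have e : (MulAut.conj g * θ)⁻¹ = MulAut.conj (θ⁻¹ g⁻¹) * θ⁻¹ := by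
      rw [← conj_conj, map_inv]; group
    rw [e] at h1
    exact ⟨_, b, d', h1⟩

theorem inn_le_KE : (MulAut.conj : ↥(chevE6.group F) →* MulAut ↥(chevE6.group F)).range ≤ KE F := by
  rintro _ ⟨g, rfl⟩
  refine ⟨g⁻¹, false, fun _ => 1, ?_⟩
  rw [← map_mul, inv_mul_cancel, map_one]
  exact Mono.one

theorem mono_mem_KE {W : MulAut ↥(chevE6.group F)} {b : Bool} {d : ℕ → Fˣ}
    (h : Mono inList_E6 W (om b) d (RingEquiv.refl F)) : W ∈ KE F :=
  ⟨1, b, d, by rwa [map_one, one_mul]⟩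

theorem normal_KE [Finite F] : (KE F).Normal := by
  constructor
  rintro θ ⟨g, b, d, h⟩ ψ
  obtain ⟨g', b', d', σ', h'⟩ := decomp ψ
  obtain ⟨d'', h''⟩ := h'.inv_om
  have h1 := (h'.mul h).mul h''
  have eσ : σ'.symm.trans ((RingEquiv.refl F).trans σ') = RingEquiv.refl F := by
    ext t; exact σ'.apply_symm_apply t
  rw [eσ] at h1
  have eb : ∀ r < chevE6.nroots, om b r = om b' (om b (om b' r)) := by
    intro r hr
    rw [← om_comp b b' r hr, ← om_comp b' (xor b b') r hr]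
    congr 1
    cases b <;> cases b' <;> rfl
  have h2 := mono_mem_KE (h1.congr (ω' := om b) eb fun r _ => rfl)
  have hc : ∀ x : ↥(chevE6.group F), MulAut.conj x ∈ KE F := fun x => inn_le_KE ⟨x, rfl⟩
  have e : ψ * θ * ψ⁻¹ = (MulAut.conj (g' * ψ g))⁻¹ *
      ((MulAut.conj g' * ψ) * (MulAut.conj g * θ) * (MulAut.conj g' * ψ)⁻¹) * MulAut.conj g' := by
    rw [map_mul, ← conj_conj]; group
  rw [e]
  exact mul_mem (mul_mem (inv_mem (hc _)) h2) (hc _)

/-- the quotient by the automorphisms with trivial field part is cyclic -/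
theorem cyclic_quot [Finite F] [(KE F).Normal] : IsCyclic (MulAut ↥(chevE6.group F) ⧸ KE F) := by
  have hcyc : IsCyclic (F ≃+* F) := isCyclic_ringAut F
  choose α hα using exists_fieldAut (F := F) inList_E6
  have hm : ∀ τ, Mono inList_E6 (α τ) (om false) (fun _ => 1) τ := fun τ =>
    ⟨fun r hr => hr, fun r hr => ⟨r, hr, rfl⟩, fun r hr t => by rw [hα τ r hr, Units.val_one, one_mul]; rfl⟩
  have hmul : ∀ τ τ', α (τ * τ') = α τ * α τ' := by
    intro τ τ'
    apply ext_values inList_E6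
    · intro i t
      have hi := Cfsg.Agent.S1042.simple_lt inList_E6 i.2
      rw [hα _ _ hi, MulAut.mul_apply, hα _ _ hi, hα _ _ hi]
      rfl
    · intro i t
      have hi := neg_simple_lt inList_E6 i.2
      rw [hα _ _ hi, MulAut.mul_apply, hα _ _ hi, hα _ _ hi]
      rfl
  let f : (F ≃+* F) →* MulAut ↥(chevE6.group F) ⧸ KE F :=
    MonoidHom.mk' (fun τ => QuotientGroup.mk' (KE F) (α τ)) (fun τ τ' => by rw [hmul, map_mul])
  refine isCyclic_of_surjective f ?_
  intro x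
  obtain ⟨θ, rfl⟩ := QuotientGroup.mk'_surjective (KE F) x
  obtain ⟨g, b, d, σ, h⟩ := decomp θ
  refine ⟨σ, ?_⟩
  show QuotientGroup.mk' (KE F) (α σ) = QuotientGroup.mk' (KE F) θ
  obtain ⟨e, he⟩ := (hm σ).inv_om
  have h1 := h.mul he
  have eσ : σ.symm.trans σ = RingEquiv.refl F := by
    ext t; exact σ.apply_symm_apply t
  rw [eσ] at h1
  have h2 : MulAut.conj g * θ * (α σ)⁻¹ ∈ KE F := mono_mem_KE (h1.congr (ω' := om b) (fun r _ => rfl) fun r _ => rfl)
  have h3 : θ * (α σ)⁻¹ ∈ KE F := by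
    have h4 := mul_mem (inv_mem (inn_le_KE (F := F) ⟨g, rfl⟩)) h2
    have e : (MulAut.conj g)⁻¹ * (MulAut.conj g * θ * (α σ)⁻¹) = θ * (α σ)⁻¹ := by group
    rwa [e] at h4
  have h5 : QuotientGroup.mk' (KE F) (θ * (α σ)⁻¹) = 1 := by
    rw [← MonoidHom.mem_ker, QuotientGroup.ker_mk']
    exact h3
  rw [map_mul, map_inv, mul_inv_eq_one] at h5
  exact h5.symm

/-! ### the result -/

/-- a pair whose first component has trivial field part -/
theorem lift_mono [Finite F] {x y : MulAut ↥(chevE6.group F)} {χ d : ℕ → Fˣ} {σ : F ≃+* F} {b b' : Bool}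
    (hx : Mono inList_E6 x (om b) χ (RingEquiv.refl F)) (hy : Mono inList_E6 y (om b') d σ) :
    Lift (MulAut.conj : ↥(chevE6.group F) →* MulAut ↥(chevE6.group F)).range x y := by
  have hN := inn_normal ↥(chevE6.group F)
  by_cases hq : ∃ t : F, t ≠ 0 ∧ t ≠ 1
  · obtain ⟨k, hk⟩ := IsCyclic.exists_generator (α := Fˣ)
    have hk1 : k ≠ 1 := by
      rintro rfl
      obtain ⟨t, h0, h1⟩ := hq
      have h2 := hk (Units.mk0 t h0)
      rw [Subgroup.zpowers_one_eq_bot, Subgroup.mem_bot] at h2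
      exact h1 (congrArg Units.val h2)
    cases b
    · exact lift_diag hk hk1 hx hy
    · cases b'
      · exact lift_flip hk hk1 hx hy
      · have h9 := (hx.mul hy).congr (ω' := om false) (fun r hr => (om_om true r hr).symm) fun r _ => rfl
        exact Lift.of_mul_left hN (lift_flip hk hk1 hx h9)
  · -- the field with two elements
    have hF : ∀ t : F, t = 0 ∨ t = 1 := by
      intro t
      by_contra h
      exact hq ⟨t, fun h0 => h (Or.inl h0), fun h1 => h (Or.inr h1)⟩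
    have hone : ∀ {z : MulAut ↥(chevE6.group F)} {e : ℕ → Fˣ} {τ : F ≃+* F}, Mono inList_E6 z (om false) e τ →
        z ∈ (MulAut.conj : ↥(chevE6.group F) →* MulAut ↥(chevE6.group F)).range := by
      intro z e τ hz
      have hu : ∀ u : Fˣ, (u : F) = 1 := fun u => (hF u).resolve_left u.ne_zero
      have hτ : ∀ t : F, τ t = t := by
        intro t
        rcases hF t with rfl | rfl
        · exact map_zero _
        · exact map_one _
      have h1 : z = 1 := by
        apply ext_values inList_E6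
        · intro i t
          rw [hz.eq _ (Cfsg.Agent.S1042.simple_lt inList_E6 i.2), hu, hτ, one_mul]
          rfl
        · intro i t
          rw [hz.eq _ (neg_simple_lt inList_E6 i.2), hu, hτ, one_mul]
          rfl
      rw [h1]
      exact one_mem _
    cases b
    · exact lift_inner hF (hone hx) hy
    · cases b'
      · exact (lift_inner hF (hone hy) hx).symm
      · have h9 := (hx.mul hy).congr (ω' := om false) (fun r hr => (om_om true r hr).symm) fun r _ => rfl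
        exact Lift.of_mul_left hN (lift_inner hF (hone h9) hx).symm

theorem cos2_group [Finite F] : Cos2 ↥(chevE6.group F) := by
  have := normal_KE (F := F)
  have := cyclic_quot (F := F)
  have hfin : Finite (MulAut ↥(chevE6.group F)) :=
    Finite.of_injective (fun f : MulAut ↥(chevE6.group F) => (f : ↥(chevE6.group F) → ↥(chevE6.group F)))
      DFunLike.coe_injective
  refine cos2_of_ker (QuotientGroup.mk' (KE F)) ?_
  intro x y hx
  rw [← MonoidHom.mem_ker, QuotientGroup.ker_mk'] at hx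
  obtain ⟨g, b, d, h⟩ := hx
  obtain ⟨g', b', d', σ', h'⟩ := decomp y
  have hN := inn_normal ↥(chevE6.group F)
  refine Lift.congr (x := MulAut.conj g * x) (y := MulAut.conj g' * y) ?_ ?_ (lift_mono h h')
  · have h1 := hN.conj_mem (MulAut.conj g) ⟨g, rfl⟩ x⁻¹
    rw [inv_inv] at h1
    rwa [← mul_assoc]
  · have h1 := hN.conj_mem (MulAut.conj g') ⟨g', rfl⟩ y⁻¹
    rw [inv_inv] at h1
    rwa [← mul_assoc]

end E6

/-- `Cos2` is invariant under isomorphisms. -/
theorem cos2_of_equiv {T : Type*} {M : Type*} [Group T] [Group M] (e : T ≃* M) (h : Cos2 M) : Cos2 T := by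
  intro x y
  obtain ⟨s, ⟨s', hs⟩, t, ⟨t', ht⟩, hst⟩ := h (MulAut.congr e x) (MulAut.congr e y)
  set f : MulAut M ≃* MulAut T := (MulAut.congr e).symm with hf
  have hconj : ∀ m : M, f (MulAut.conj m) = MulAut.conj (e.symm m) := by
    intro m
    rw [hf, MulEquiv.symm_apply_eq]
    refine MulEquiv.ext fun z => ?_
    change _ = e (MulAut.conj (e.symm m) (e.symm z))
    rw [MulAut.conj_apply, MulAut.conj_apply, map_mul, map_mul, map_inv, e.apply_symm_apply, e.apply_symm_apply]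
  have hx : f (MulAut.congr e x) = x := by rw [hf, MulEquiv.symm_apply_apply]
  have hy : f (MulAut.congr e y) = y := by rw [hf, MulEquiv.symm_apply_apply]
  refine ⟨f s, ⟨e.symm s', by rw [← hs, hconj]⟩, f t, ⟨e.symm t', by rw [← ht, hconj]⟩, ?_⟩
  have h1 := Subgroup.map_mono (f := (f : MulAut M →* MulAut T)) hst
  rw [MonoidHom.map_closure, Set.image_pair] at h1
  have h2 : (f : MulAut M →* MulAut T) (MulAut.congr e x * s) = x * f s := by
    change f (MulAut.congr e x * s) = _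
    rw [map_mul, hx]
  have h3 : (f : MulAut M →* MulAut T) (MulAut.congr e y * t) = y * f t := by
    change f (MulAut.congr e y * t) = _
    rw [map_mul, hy]
  rw [h2, h3] at h1
  refine le_trans ?_ h1
  rintro _ ⟨a, rfl⟩
  exact ⟨MulAut.conj (e a), ⟨e a, rfl⟩, by
    change f (MulAut.conj (e a)) = _
    rw [hconj, e.symm_apply_apply]⟩

/-- **`Cos2` for `E₆(q)`** (the field `e6` of `Rows Cos2`). -/
theorem cos2_e6 (T : Type*) [Group T] [Finite T] [IsSimpleGroup T] (h : Cfsg.Lie.IsoChevE6 T) : Cos2 T := by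
  obtain ⟨F, _, _, ⟨e⟩⟩ := h
  exact cos2_of_equiv e cos2_group

end Cfsg.Agent.H20.Cos2
end

private theorem dce_6dcd5cb33a99 : _root_.True := by
  try have : _root_.True := by simp only [_root_.Cfsg.Agent.H20.Cos2.nE.congr_simp]
  try have : _root_.True := by simp only [_root_.Cfsg.Agent.H20.Cos2.nE.eq_1]
  try have : _root_.True := by simp only [_root_.Cfsg.Agent.H285.DG.pp.eq_1]
  try have : _root_.True := by simp only [_root_.Cfsg.Agent.H20.Cos2.wE.eq_1]
  try have : _root_.True := by simp only [_root_.Cfsg.Agent.H285.DG.aa.eq_1]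
  exact _root_.True.intro
end

-- part: H989/DG/Semi
section
set_option linter.all false
open scoped Cfsg.Agent.FastGrp

/-!
# Siegel elements and semisimilitudes (helper989, TEAM GEN, S4180)

`H` is a subgroup of `O Q`, normalised by a semisimilitude `w`.
* `Sg Q H u y` : `T Q u (s y) ∈ H` for some `s ≠ 0`;
* `Sg.shift`, `Ts_shift` : transport by `w`;
* `comm_full` : commutators;
* `FamE`, `FamF` : one Siegel element gives the full family (Singer elements).
-/

set_option autoImplicit false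

namespace Cfsg.Agent.H989.DG

open QuadraticMap Cfsg.Agent.LieClassical.OrthCore Cfsg.Agent.LieClassical.OrthTrans
  Cfsg.Agent.LieClassical.OrthSimple Cfsg.Agent.ClassicalGeometry.OrthAutBasic
  Cfsg.Agent.ClassicalGeometry.OrthSemi Cfsg.Agent.ClassicalGeometry.OrthAut1
  Cfsg.Agent.H887.SiegelMethod Cfsg.Agent.H137 Cfsg.Agent.H989.OutOrth.Basic

variable {F V : Type*} [Field F] [AddCommGroup V] [Module F V] {Q : QuadraticForm F V}
  {H : Subgroup (V ≃ₗ[F] V)}

/-- some nonzero multiple of the Siegel element is in `H` -/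
def Sg (Q : QuadraticForm F V) (H : Subgroup (V ≃ₗ[F] V)) (u y : V) : Prop :=
  Q u = 0 ∧ polar Q u y = 0 ∧ ∃ s : F, s ≠ 0 ∧ T Q u (s • y) ∈ H

/-- `w` normalises `H` -/
def Nm (H : Subgroup (V ≃ₗ[F] V)) (w : Gam Q) : Prop := ∀ g ∈ H, conjLin w g ∈ H

theorem conjLin_T (w : Gam Q) {σ : F ≃+* F} {c : F} (h : IsSS Q σ c w.1) {u y : V} (hu : Q u = 0)
    (huy : polar Q u y = 0) : conjLin w (T Q u y) = T Q (w.1 u) (c⁻¹ • w.1 y) := by
  obtain ⟨h1, h2, h3⟩ := conjLin_siegel w h hu huy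
  rw [T_eq hu huy, h3, T_eq h1 h2]

theorem Sg.map {w : Gam Q} (hw : Nm H w) {u y : V} (h : Sg Q H u y) : Sg Q H (w.1 u) (w.1 y) := by
  obtain ⟨hu, huy, s, hs, hT⟩ := h
  obtain ⟨σ, c, hc⟩ := w.2
  refine ⟨by rw [hc.form, hu, map_zero, mul_zero], by rw [hc.polar, huy, map_zero, mul_zero], c⁻¹ * σ s,
    mul_ne_zero (inv_ne_zero hc.ne) (by simpa using hs), ?_⟩
  have h1 := hw _ hT
  rwa [conjLin_T w hc hu (by rw [polar_smul_right, huy, smul_zero]), hc.smul, smul_smul] at h1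

theorem Sg.of_smul {u y : V} {a b : F} (ha : a ≠ 0) (hb : b ≠ 0) (h : Sg Q H (a • u) (b • y)) : Sg Q H u y := by
  obtain ⟨hu, huy, s, hs, hT⟩ := h
  have hu' : Q u = 0 := by
    rw [QuadraticMap.map_smul, smul_eq_mul] at hu
    exact (mul_eq_zero.1 hu).resolve_left (mul_ne_zero ha ha)
  have huy' : polar Q u y = 0 := by
    rw [polar_smul_left, polar_smul_right, smul_eq_mul, smul_eq_mul] at huy
    exact (mul_eq_zero.1 ((mul_eq_zero.1 huy).resolve_left ha)).resolve_left hb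
  refine ⟨hu', huy', a * (s * b), mul_ne_zero ha (mul_ne_zero hs hb), ?_⟩
  rwa [smul_smul, T_smul_left a hu' (by rw [polar_smul_right, huy', smul_zero]), smul_smul] at hT

theorem Sg.shift {w : Gam Q} (hw : Nm H w) {u y u' y' : V} (h : Sg Q H u y) {a b : F} (ha : a ≠ 0) (hb : b ≠ 0)
    (hu : w.1 u = a • u') (hy : w.1 y = b • y') : Sg Q H u' y' := by
  have h1 := h.map hw
  rw [hu, hy] at h1
  exact h1.of_smul ha hb

theorem Sg.mem {u y : V} (h : Sg Q H u y) : ∃ s : F, s ≠ 0 ∧ T Q u (s • y) ∈ H := h.2.2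

theorem Sg.of_mem {u y : V} (hu : Q u = 0) (huy : polar Q u y = 0) (h : T Q u y ∈ H) : Sg Q H u y :=
  ⟨hu, huy, 1, one_ne_zero, by rwa [one_smul]⟩

theorem Sg.of_Ts {u y : V} (hu : Q u = 0) (h : y ∈ Ts Q H u) : Sg Q H u y :=
  Sg.of_mem hu h.1 (Ts_mem h)

theorem Sg.swap {u y : V} (h : Sg Q H u y) (hy : Q y = 0) : Sg Q H y u := by
  obtain ⟨hu, huy, s, hs, hT⟩ := h
  have hyu : polar Q y u = 0 := by rw [polar_comm]; exact huy
  refine ⟨hy, hyu, -s, neg_ne_zero.2 hs, ?_⟩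
  have hsy : Q (s • y) = 0 := by rw [QuadraticMap.map_smul, hy, smul_zero]
  rw [T_swap hu hsy (by rw [polar_smul_right, huy, smul_zero]),
    T_smul_left s hy (by rw [polar_neg_right, hyu, neg_zero]), smul_neg] at hT
  rwa [neg_smul]

theorem Ts_map {w : Gam Q} (hw : Nm H w) {u y : V} (hu : Q u = 0) (h : y ∈ Ts Q H u) :
    w.1 y ∈ Ts Q H (w.1 u) := by
  obtain ⟨σ, c, hc⟩ := w.2
  refine ⟨by rw [hc.polar, h.1, map_zero, mul_zero], fun t => ?_⟩
  have h1 := hw _ (h.2 (σ.symm (c * t)))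
  rw [conjLin_T w hc hu (by rw [polar_smul_right, h.1, smul_zero]), hc.smul, RingEquiv.apply_symm_apply,
    smul_smul, ← mul_assoc, inv_mul_cancel₀ hc.ne, one_mul] at h1
  exact h1

theorem Ts_shift {w : Gam Q} (hw : Nm H w) {u y u' y' : V} (hu0 : Q u = 0) (hu0' : Q u' = 0)
    (h : y ∈ Ts Q H u) {a b : F} (ha : a ≠ 0) (hb : b ≠ 0)
    (hu : w.1 u = a • u') (hy : w.1 y = b • y') : y' ∈ Ts Q H u' := by
  have h1 := Ts_map hw hu0 h
  rw [hu, hy, Ts_smul ha hu0'] at h1
  have h2 := (Ts Q H u').smul_mem b⁻¹ h1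
  rwa [smul_smul, inv_mul_cancel₀ hb, one_smul] at h2

/-- commutator of a full root group and a Siegel element -/
theorem comm_full {x y a b : V} (hx : Q x = 0) (hxy : polar Q x y = 0) (hya : polar Q y a = 0)
    (hxb : polar Q x b = 0) (ha : a ∈ Ts Q H x) (hb : Sg Q H y b) (hab : polar Q a b ≠ 0) :
    x ∈ Ts Q H y := by
  obtain ⟨hy, hyb, s, hs, hT⟩ := hb
  refine ⟨by rw [polar_comm]; exact hxy, fun c => ?_⟩
  have h1 := comm_T (Q := Q) (H := H) (x := x) (y := y) (a := (c / (s * polar Q a b)) • a) (b := s • b) hx hy hxy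
    (by rw [polar_smul_right, ha.1, smul_zero]) (by rw [polar_smul_right, hya, smul_zero])
    (by rw [polar_smul_right, hxb, smul_zero]) (by rw [polar_smul_right, hyb, smul_zero]) (ha.2 _) hT
  have e : polar Q ((c / (s * polar Q a b)) • a) (s • b) = c := by
    rw [polar_smul_left, polar_smul_right, smul_eq_mul, smul_eq_mul]
    field_simp
  rwa [e] at h1

/-- commutator of two Siegel elements -/
theorem comm_sg {x y a b : V} (hxy : polar Q x y = 0) (hya : polar Q y a = 0)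
    (hxb : polar Q x b = 0) (ha : Sg Q H x a) (hb : Sg Q H y b) (hab : polar Q a b ≠ 0) :
    Sg Q H y x := by
  obtain ⟨hy, hyb, s, hs, hT⟩ := hb
  obtain ⟨hx, hxa, t, ht, hT'⟩ := ha
  have h1 := comm_T (Q := Q) (H := H) (x := x) (y := y) (a := t • a) (b := s • b) hx hy hxy
    (by rw [polar_smul_right, hxa, smul_zero]) (by rw [polar_smul_right, hya, smul_zero])
    (by rw [polar_smul_right, hxb, smul_zero]) (by rw [polar_smul_right, hyb, smul_zero]) hT' hT
  refine ⟨hy, by rw [polar_comm]; exact hxy, _, ?_, h1⟩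
  rw [polar_smul_left, polar_smul_right, smul_eq_mul, smul_eq_mul]
  exact mul_ne_zero ht (mul_ne_zero hs hab)

/-! ### families -/

section Fam

variable {K : Type*} [Field K] [Algebra F K]

/-- one Siegel element gives the family -/
def FamE (Q : QuadraticForm F V) (H : Subgroup (V ≃ₗ[F] V)) (P : SPair Q K) (u : V) : Prop :=
  ∀ z, z ≠ 0 → Sg Q H u (P.e z) → ∀ z', P.e z' ∈ Ts Q H u

/-- one Siegel element gives the family -/
def FamF (Q : QuadraticForm F V) (H : Subgroup (V ≃ₗ[F] V)) (P : SPair Q K) (u : V) : Prop :=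
  ∀ z, z ≠ 0 → Sg Q H u (P.f z) → ∀ z', P.f z' ∈ Ts Q H u

/-- `κ` generates `K` over the prime field -/
def Irr (κ : K) : Prop := ∀ Y : AddSubgroup K, (∀ y ∈ Y, κ * y ∈ Y) → ∀ y ∈ Y, y ≠ 0 → ∀ z, z ∈ Y

theorem fam_of_irr (g : K →ₗ[F] V) {u : V} (hu : Q u = 0) (hg : ∀ z, polar Q u (g z) = 0) {κ : K}
    (hκ : Irr κ) (hc : ∀ z, T Q u (g z) ∈ H → T Q u (g (κ * z)) ∈ H) {z : K} (hz : z ≠ 0)
    (h : Sg Q H u (g z)) (z' : K) : g z' ∈ Ts Q H u := by
  let Y : AddSubgroup K :=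
    { carrier := {z | T Q u (g z) ∈ H}
      zero_mem' := by
        show T Q u (g 0) ∈ H
        rw [map_zero, T_zero_right]
        exact H.one_mem
      add_mem' := by
        intro a b ha hb
        show T Q u (g (a + b)) ∈ H
        rw [map_add, ← T_mul hu (hg a) (hg b)]
        exact H.mul_mem ha hb
      neg_mem' := by
        intro a ha
        show T Q u (g (-a)) ∈ H
        rw [map_neg, ← T_inv hu (hg a)]
        exact H.inv_mem ha }
  obtain ⟨-, -, s, hs, hT⟩ := h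
  have h1 : s • z ∈ Y := by
    show T Q u (g (s • z)) ∈ H
    rwa [map_smul]
  have h2 : s • z ≠ 0 := smul_ne_zero hs hz
  have h3 := hκ Y hc _ h1 h2
  refine ⟨hg z', fun c => ?_⟩
  have h4 : T Q u (g (c • z')) ∈ H := h3 (c • z')
  rwa [map_smul] at h4

/-- the family from a similitude acting on `e K` as multiplication -/
theorem famE_of {P : SPair Q K} {X : Gam Q} (hX : Nm H X) {c : F} (hc : IsSS Q (RingEquiv.refl F) c X.1) {a : K}
    (ha : ∀ z, X.1 (P.e z) = P.e (a * z)) {u : V} (hu : Q u = 0) (hu' : P.Perp u) {b : F}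
    (hb : X.1 u = b • u) (hκ : Irr (algebraMap F K (b * c⁻¹) * a)) : FamE Q H P u := by
  intro z hz h
  refine fam_of_irr P.e hu (fun z => P.polar_e' hu' z) hκ (fun z hT => ?_) hz h
  have h1 := hX _ hT
  rw [conjLin_T X hc hu (P.polar_e' hu' z), hb, ha, T_smul_left b hu (by
    rw [polar_smul_right, P.polar_e' hu', smul_zero]), smul_smul, ← map_smul] at h1
  rwa [mul_assoc, ← Algebra.smul_def]

/-- the family from a similitude acting on `f K` as multiplication -/
theorem famF_of {P : SPair Q K} {X : Gam Q} (hX : Nm H X) {c : F} (hc : IsSS Q (RingEquiv.refl F) c X.1) {a : K}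
    (ha : ∀ z, X.1 (P.f z) = P.f (a * z)) {u : V} (hu : Q u = 0) (hu' : P.Perp u) {b : F}
    (hb : X.1 u = b • u) (hκ : Irr (algebraMap F K (b * c⁻¹) * a)) : FamF Q H P u := by
  intro z hz h
  refine fam_of_irr P.f hu (fun z => P.polar_f' hu' z) hκ (fun z hT => ?_) hz h
  have h1 := hX _ hT
  rw [conjLin_T X hc hu (P.polar_f' hu' z), hb, ha, T_smul_left b hu (by
    rw [polar_smul_right, P.polar_f' hu', smul_zero]), smul_smul, ← map_smul] at h1
  rwa [mul_assoc, ← Algebra.smul_def]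

end Fam

end Cfsg.Agent.H989.DG
end
end

-- part: H989/DG/Plus_mg
section
set_option linter.all false
open scoped Cfsg.Agent.FastGrp

-- part: H989/DG/Irr
section
/-!
# Generators of a field extension (helper989, TEAM GEN, S4180)

`irr_of` : `κ` with `κ ^ (q - 1) = g ^ (q - 1)`, `g` a generator of `Kˣ`, `[K : F] ≥ 2`, generates `K` over the
prime field.
-/

set_option autoImplicit false
set_option linter.unusedSectionVars false

namespace Cfsg.Agent.H989.DG

section

variable {F K : Type*} [Field F] [Finite F] [Field K] [Finite K] [Algebra F K]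

/-- the multipliers of an additive subgroup -/
def mlt (Y : AddSubgroup K) : Subfield K where
  carrier := {r | ∀ y ∈ Y, r * y ∈ Y}
  mul_mem' := by
    intro a b ha hb y hy
    rw [mul_assoc]
    exact ha _ (hb _ hy)
  one_mem' := by
    intro y hy
    rwa [one_mul]
  add_mem' := by
    intro a b ha hb y hy
    rw [add_mul]
    exact Y.add_mem (ha _ hy) (hb _ hy)
  zero_mem' := by
    intro y _
    rw [zero_mul]
    exact Y.zero_mem
  neg_mem' := by
    intro a ha y hy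
    rw [neg_mul]
    exact Y.neg_mem (ha _ hy)
  inv_mem' := by
    intro a ha y hy
    by_cases h0 : a = 0
    · subst h0
      rw [inv_zero, zero_mul]
      exact Y.zero_mem
    have hpow : ∀ n : ℕ, ∀ y ∈ Y, a ^ n * y ∈ Y := by
      intro n
      induction n with
      | zero => intro y hy; rwa [pow_zero, one_mul]
      | succ n ih => intro y hy; rw [pow_succ, mul_assoc]; exact ih _ (ha _ hy)
    have _ := Fintype.ofFinite K
    have h1 : a ^ (Fintype.card K - 1) = 1 := FiniteField.pow_card_sub_one_eq_one a h0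
    have h2 : 1 < Fintype.card K := Fintype.one_lt_card
    have h3 : a⁻¹ = a ^ (Fintype.card K - 2) := by
      rw [inv_eq_of_mul_eq_one_right]
      rw [← pow_succ', show Fintype.card K - 2 + 1 = Fintype.card K - 1 by omega, h1]
    rw [h3]
    exact hpow _ _ hy

theorem sub_one_card {q Q r : ℕ} (hq : q ^ 2 ≤ Q) (hr : r ^ 2 ≤ Q) (hq0 : 1 < q) (hr0 : 1 < r)
    (h : Q - 1 ≤ (r - 1) * (q - 1)) : False := by
  obtain ⟨a, rfl⟩ : ∃ a, q = a + 1 := ⟨q - 1, by omega⟩
  obtain ⟨b, rfl⟩ : ∃ b, r = b + 1 := ⟨r - 1, by omega⟩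
  simp only [Nat.add_sub_cancel] at h
  have h1 : Q ≤ b * a + 1 := by omega
  linarith only [hq, hr, hr0, h1, sq_nonneg ((a : ℤ) - b)]

/-- A big subfield is everything. -/
theorem subfield_eq_top (hk : 2 ≤ Module.finrank F K) {g : Kˣ} (hg : ∀ c : Kˣ, c ∈ Subgroup.zpowers g)
    (R : Subfield K) (h : ((g : K) ^ (Nat.card F - 1)) ∈ R) : R = ⊤ := by
  by_contra hne
  have hQF : Nat.card K = Nat.card F ^ Module.finrank F K := Module.natCard_eq_pow_finrank
  have hQR : Nat.card K = Nat.card R ^ Module.finrank R K := Module.natCard_eq_pow_finrank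
  have hq1 : 1 < Nat.card F := Finite.one_lt_card
  have hr1 : 1 < Nat.card R := Finite.one_lt_card
  have hfr : 2 ≤ Module.finrank R K := by
    by_contra hlt
    have h0 : 0 < Module.finrank R K := Module.finrank_pos
    have h1 : Module.finrank R K = 1 := by omega
    rw [h1, pow_one] at hQR
    apply hne
    have h2 : (R : Set K) = Set.univ := by
      refine Set.eq_of_subset_of_ncard_le (Set.subset_univ _) ?_
      rw [Set.ncard_univ, hQR]
      exact le_of_eq (Nat.card_coe_set_eq _)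
    exact SetLike.coe_injective (h2.trans Subfield.coe_top.symm)
  have hqQ : Nat.card F ^ 2 ≤ Nat.card K := by
    rw [hQF]
    exact Nat.pow_le_pow_right (by omega) hk
  have hrQ : Nat.card R ^ 2 ≤ Nat.card K := by
    rw [hQR]
    exact Nat.pow_le_pow_right (by omega) hfr
  refine sub_one_card hqQ hrQ hq1 hr1 ?_
  -- the units of `R`
  have h1 : (g ^ (Nat.card F - 1)) ^ (Nat.card R - 1) = 1 := by
    have _ := Fintype.ofFinite R
    apply Units.ext
    have h2 : (⟨(g : K) ^ (Nat.card F - 1), h⟩ : R) ≠ 0 := by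
      intro h3
      have h4 : (g : K) ^ (Nat.card F - 1) = 0 := congrArg Subtype.val h3
      exact pow_ne_zero _ g.ne_zero h4
    have h3 := FiniteField.pow_card_sub_one_eq_one _ h2
    have h4 := congrArg (Subtype.val : R → K) h3
    rw [← Nat.card_eq_fintype_card] at h4
    simpa only [_root_.Nat.card_eq_fintype_card, _root_.Units.val_pow_eq_pow_val, _root_.Units.val_one, _root_.SubmonoidClass.mk_pow, _root_.OneMemClass.coe_one] using h4
  have h2 : orderOf g = Nat.card Kˣ := orderOf_eq_card_of_forall_mem_zpowers hg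
  have h3 : orderOf g ∣ (Nat.card F - 1) * (Nat.card R - 1) := by
    rw [orderOf_dvd_iff_pow_eq_one, pow_mul]
    exact h1
  rw [h2, Nat.card_units] at h3
  rw [mul_comm]
  exact Nat.le_of_dvd (Nat.mul_pos (by omega) (by omega)) h3

/-- `κ` generates `K` -/
theorem irr_of (hk : 2 ≤ Module.finrank F K) {g : Kˣ} (hg : ∀ c : Kˣ, c ∈ Subgroup.zpowers g) {κ : K}
    (h : κ ^ (Nat.card F - 1) = (g : K) ^ (Nat.card F - 1)) : Irr κ := by
  intro Y hY y hy hy0 z
  have h1 : κ ∈ mlt Y := hY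
  have h2 : mlt Y = ⊤ := subfield_eq_top hk hg _ (by rw [← h]; exact pow_mem h1 _)
  have h3 : z * y⁻¹ ∈ mlt Y := by rw [h2]; trivial
  have h4 := h3 y hy
  rwa [mul_assoc, inv_mul_cancel₀ hy0, mul_one] at h4

theorem algebraMap_pow_sub_one {b : F} (hb : b ≠ 0) : (algebraMap F K b) ^ (Nat.card F - 1) = 1 := by
  have _ := Fintype.ofFinite F
  rw [← map_pow, Nat.card_eq_fintype_card, FiniteField.pow_card_sub_one_eq_one b hb, map_one]

theorem irr_mul (hk : 2 ≤ Module.finrank F K) {g : Kˣ} (hg : ∀ c : Kˣ, c ∈ Subgroup.zpowers g) {b : F}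
    (hb : b ≠ 0) : Irr (algebraMap F K b * (g : K)) :=
  irr_of hk hg (by rw [mul_pow, algebraMap_pow_sub_one hb, one_mul])

theorem gen_inv {g : Kˣ} (hg : ∀ c : Kˣ, c ∈ Subgroup.zpowers g) : ∀ c : Kˣ, c ∈ Subgroup.zpowers g⁻¹ := by
  intro c
  rw [Subgroup.zpowers_inv]
  exact hg c

end

end Cfsg.Agent.H989.DG
end

-- part: H989/DG/Closure
section
/-!
# Closure arguments for the orthogonal groups of plus type (helper989, TEAM GEN, S4180)

`V = ⟨e0, f0⟩ ⊥ ⟨ε, ε'⟩ ⊥ ⟨η, η'⟩ ⊥ (K ⊕ K*)`.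
-/

set_option autoImplicit false
set_option linter.unusedSectionVars false

namespace Cfsg.Agent.H989.DG

open QuadraticMap Cfsg.Agent.LieClassical.OrthCore Cfsg.Agent.LieClassical.OrthTrans
  Cfsg.Agent.LieClassical.OrthSimple Cfsg.Agent.ClassicalGeometry.OrthAutBasic
  Cfsg.Agent.ClassicalGeometry.OrthSemi Cfsg.Agent.ClassicalGeometry.OrthAut1
  Cfsg.Agent.H887.SiegelMethod Cfsg.Agent.H137 Cfsg.Agent.H989.OutOrth.Basic

variable {F V : Type*} [Field F] [AddCommGroup V] [Module F V] {Q : QuadraticForm F V}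
  {H : Subgroup (V ≃ₗ[F] V)}

/-- `w` maps the line of `u` to the line of `u'` -/
def Ln (w : Gam Q) (u u' : V) : Prop := ∃ a : F, a ≠ 0 ∧ w.1 u = a • u'

theorem Sg.ln {w : Gam Q} (hw : Nm H w) {u y u' y' : V} (h : Sg Q H u y) (hu : Ln w u u') (hy : Ln w y y') :
    Sg Q H u' y' := by
  obtain ⟨a, ha, hu⟩ := hu
  obtain ⟨b, hb, hy⟩ := hy
  exact h.shift hw ha hb hu hy

theorem Ts_ln {w : Gam Q} (hw : Nm H w) {u y u' y' : V} (hu0 : Q u = 0) (hu0' : Q u' = 0)
    (h : y ∈ Ts Q H u) (hu : Ln w u u') (hy : Ln w y y') : y' ∈ Ts Q H u' := by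
  obtain ⟨a, ha, hu⟩ := hu
  obtain ⟨b, hb, hy⟩ := hy
  exact Ts_shift hw hu0 hu0' h ha hb hu hy

/-- The frame. -/
structure Frame {K : Type*} [Field K] [Algebra F K] (Q : QuadraticForm F V) (P : SPair Q K)
    (e0 f0 u u' v v' : V) : Prop where
  hu : Hyp2 Q e0 f0 u u'
  hv : Hyp2 Q e0 f0 v v'
  huv : Hyp2 Q u u' v v'
  pe : P.Perp e0
  pf : P.Perp f0
  pu : P.Perp u
  pu' : P.Perp u'
  pv : P.Perp v
  pv' : P.Perp v'
  span : ∀ x, P.Perp x → x = polar Q f0 x • e0 + polar Q e0 x • f0 + polar Q u' x • u + polar Q u x • u' +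
    polar Q v' x • v + polar Q v x • v'

section

variable {K : Type*} [Field K] [Algebra F K] {P : SPair Q K} {e0 f0 u u' v v' : V}

theorem Frame.polar_proj (_Fr : Frame Q P e0 f0 u u' v v') {a : V} (ha : P.Perp a) (x : V) :
    polar Q a (x - P.e (P.pe x) - P.f (P.pf x)) = polar Q a x := by
  rw [polar_sub_right, polar_sub_right, P.polar_e' ha, P.polar_f' ha, sub_zero, sub_zero]

/-- The final step. -/
theorem Frame.full (Fr : Frame Q P e0 f0 u u' v v') (hfe : ∀ z, P.e z ∈ Ts Q H u) (hff : ∀ z, P.f z ∈ Ts Q H u)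
    (h1 : e0 ∈ Ts Q H u) (h2 : f0 ∈ Ts Q H u) (h3 : v ∈ Ts Q H u) (h4 : v' ∈ Ts Q H u) (x : V)
    (hx : polar Q u x = 0) : x ∈ Ts Q H u := by
  have h5 := Fr.span _ (P.perp_sub x)
  rw [Fr.polar_proj Fr.pe, Fr.polar_proj Fr.pf, Fr.polar_proj Fr.pu, Fr.polar_proj Fr.pu',
    Fr.polar_proj Fr.pv, Fr.polar_proj Fr.pv', hx, zero_smul, add_zero] at h5
  have h6 : x = P.e (P.pe x) + P.f (P.pf x) + (x - P.e (P.pe x) - P.f (P.pf x)) := by abel
  rw [h6, h5]
  have hs := self_mem_Ts (H := H) Fr.hu.hy.left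
  refine add_mem (add_mem (hfe _) (hff _)) ?_
  refine add_mem (add_mem (add_mem (add_mem ?_ ?_) ?_) ?_) ?_
  · exact Submodule.smul_mem _ _ h1
  · exact Submodule.smul_mem _ _ h2
  · exact Submodule.smul_mem _ _ hs
  · exact Submodule.smul_mem _ _ h3
  · exact Submodule.smul_mem _ _ h4

theorem Frame.full' (Fr : Frame Q P e0 f0 u u' v v') (hfe : ∀ z, P.e z ∈ Ts Q H u') (hff : ∀ z, P.f z ∈ Ts Q H u')
    (h1 : e0 ∈ Ts Q H u') (h2 : f0 ∈ Ts Q H u') (h3 : v ∈ Ts Q H u') (h4 : v' ∈ Ts Q H u') (x : V)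
    (hx : polar Q u' x = 0) : x ∈ Ts Q H u' := by
  have h5 := Fr.span _ (P.perp_sub x)
  rw [Fr.polar_proj Fr.pe, Fr.polar_proj Fr.pf, Fr.polar_proj Fr.pu, Fr.polar_proj Fr.pu',
    Fr.polar_proj Fr.pv, Fr.polar_proj Fr.pv', hx, zero_smul, add_zero] at h5
  have h6 : x = P.e (P.pe x) + P.f (P.pf x) + (x - P.e (P.pe x) - P.f (P.pf x)) := by abel
  rw [h6, h5]
  have hs := self_mem_Ts (H := H) Fr.hu.hy.right
  refine add_mem (add_mem (hfe _) (hff _)) ?_
  refine add_mem (add_mem (add_mem (add_mem ?_ ?_) ?_) ?_) ?_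
  · exact Submodule.smul_mem _ _ h1
  · exact Submodule.smul_mem _ _ h2
  · exact Submodule.smul_mem _ _ hs
  · exact Submodule.smul_mem _ _ h3
  · exact Submodule.smul_mem _ _ h4

/-- **Closure I.** -/
theorem Frame.closure1 (Fr : Frame Q P e0 f0 u u' v v') (hG : Good Q) {x1 x2 y1 y2 : K} (hx1 : x1 ≠ 0)
    (hy1 : y1 ≠ 0) {w : Gam Q} (hw : Nm H w)
    (L1 : Ln w e0 (P.f y1)) (L2 : Ln w (P.f y1) f0) (L3 : Ln w f0 (P.e x1)) (L4 : Ln w (P.e x1) e0)
    (L5 : Ln w u u') (L6 : Ln w u' u)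
    (L7 : (Ln w (P.e x2) v ∧ Ln w (P.f y2) v') ∨ (Ln w (P.e x2) v' ∧ Ln w (P.f y2) v))
    (hE : FamE Q H P u') (hF : FamF Q H P u') (h0 : Sg Q H e0 u) : E Q ≤ H := by
  have qe : Q e0 = 0 := Fr.hu.hx.left
  have qf : Q f0 = 0 := Fr.hu.hx.right
  have qu : Q u = 0 := Fr.hu.hy.left
  have qu' : Q u' = 0 := Fr.hu.hy.right
  have s1 : Sg Q H (P.f y1) u' := h0.ln hw L1 L5
  have s2 : Sg Q H f0 u := s1.ln hw L2 L6
  have s3 : Sg Q H (P.e x1) u' := s2.ln hw L3 L5
  have fe : ∀ z, P.e z ∈ Ts Q H u' := hE _ hx1 (s3.swap qu')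
  have ff : ∀ z, P.f z ∈ Ts Q H u' := hF _ hy1 (s1.swap qu')
  have key : ∀ {a b : V}, Q a = 0 → Q b = 0 → (∀ z, P.e z ∈ Ts Q H a) → (∀ z, P.f z ∈ Ts Q H a) → Ln w a b →
      e0 ∈ Ts Q H b ∧ f0 ∈ Ts Q H b ∧ v ∈ Ts Q H b ∧ v' ∈ Ts Q H b := by
    intro a b ha hb he hf L
    refine ⟨Ts_ln hw ha hb (he _) L L4, Ts_ln hw ha hb (hf _) L L2, ?_, ?_⟩
    · rcases L7 with ⟨h, h'⟩ | ⟨h, h'⟩
      · exact Ts_ln hw ha hb (he _) L h
      · exact Ts_ln hw ha hb (hf _) L h'
    · rcases L7 with ⟨h, h'⟩ | ⟨h, h'⟩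
      · exact Ts_ln hw ha hb (hf _) L h'
      · exact Ts_ln hw ha hb (he _) L h
  obtain ⟨a1, a2, a3, a4⟩ := key qu' qu fe ff L6
  have puu : polar Q u' u ≠ 0 := by rw [Fr.hu.hy.pair']; exact one_ne_zero
  have pef : polar Q e0 f0 ≠ 0 := by rw [Fr.hu.hx.pair]; exact one_ne_zero
  have b1 : ∀ z, P.e z ∈ Ts Q H e0 := fun z =>
    comm_full (P.Qe z) (P.polar_e Fr.pe z) Fr.hu.xy' (P.polar_e Fr.pu z)
      ((mem_Ts_comm qu' (P.Qe z)).1 (fe z)) h0 puu
  have b2 : ∀ z, P.f z ∈ Ts Q H e0 := fun z =>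
    comm_full (P.Qf z) (P.polar_f Fr.pe z) Fr.hu.xy' (P.polar_f Fr.pu z)
      ((mem_Ts_comm qu' (P.Qf z)).1 (ff z)) h0 puu
  have hsu : Sg Q H u f0 := Sg.of_Ts qu a2
  have pue : polar Q u e0 = 0 := Fr.hu.swap.1
  have c1 : ∀ z, P.e z ∈ Ts Q H u := fun z =>
    comm_full (P.Qe z) (P.polar_e Fr.pu z) pue (P.polar_e Fr.pf z)
      ((mem_Ts_comm qe (P.Qe z)).1 (b1 z)) hsu pef
  have c2 : ∀ z, P.f z ∈ Ts Q H u := fun z =>
    comm_full (P.Qf z) (P.polar_f Fr.pu z) pue (P.polar_f Fr.pf z)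
      ((mem_Ts_comm qe (P.Qf z)).1 (b2 z)) hsu pef
  obtain ⟨d1, d2, d3, d4⟩ := key qu qu' c1 c2 L5
  exact E_le_of_Ts hG qu qu' (by rw [Fr.hu.hy.pair]; exact one_ne_zero) (Fr.full c1 c2 a1 a2 a3 a4)
    (Fr.full' fe ff d1 d2 d3 d4)

/-- **Closure II.** -/
theorem Frame.closure2 (Fr : Frame Q P e0 f0 u u' v v') (hG : Good Q) {x1 y1 : K} (hx1 : x1 ≠ 0)
    (hy1 : y1 ≠ 0) {w r : Gam Q} (hw : Nm H w) (hr : Nm H r)
    (L1 : Ln w e0 (P.e x1)) (L2 : Ln w (P.e x1) v) (L3 : Ln w v e0)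
    (L1' : Ln w f0 (P.f y1)) (L2' : Ln w (P.f y1) v') (L3' : Ln w v' f0)
    (L5 : Ln w u u') (L6 : Ln w u' u) (R1 : Ln r e0 f0) (R2 : Ln r u u)
    (hE : FamE Q H P u') (hF : FamF Q H P u') (hE' : FamE Q H P u) (hF' : FamF Q H P u)
    (h0 : Sg Q H e0 u) : E Q ≤ H := by
  have qu : Q u = 0 := Fr.hu.hy.left
  have qu' : Q u' = 0 := Fr.hu.hy.right
  have s1 : Sg Q H (P.e x1) u' := h0.ln hw L1 L5
  have s2 : Sg Q H v u := s1.ln hw L2 L6
  have s3 : Sg Q H e0 u' := s2.ln hw L3 L5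
  have s4 : Sg Q H (P.e x1) u := s3.ln hw L1 L6
  have t0 : Sg Q H f0 u := h0.ln hr R1 R2
  have t1 : Sg Q H (P.f y1) u' := t0.ln hw L1' L5
  have t2 : Sg Q H v' u := t1.ln hw L2' L6
  have t3 : Sg Q H f0 u' := t2.ln hw L3' L5
  have t4 : Sg Q H (P.f y1) u := t3.ln hw L1' L6
  have c1 : ∀ z, P.e z ∈ Ts Q H u := hE' _ hx1 (s4.swap qu)
  have c2 : ∀ z, P.f z ∈ Ts Q H u := hF' _ hy1 (t4.swap qu)
  have d1 : ∀ z, P.e z ∈ Ts Q H u' := hE _ hx1 (s1.swap qu')
  have d2 : ∀ z, P.f z ∈ Ts Q H u' := hF _ hy1 (t1.swap qu')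
  have a3 : v ∈ Ts Q H u := Ts_ln hw qu' qu (d1 x1) L6 L2
  have a3' : v ∈ Ts Q H u' := Ts_ln hw qu qu' (c1 x1) L5 L2
  have a4 : v' ∈ Ts Q H u := Ts_ln hw qu' qu (d2 y1) L6 L2'
  have a4' : v' ∈ Ts Q H u' := Ts_ln hw qu qu' (c2 y1) L5 L2'
  exact E_le_of_Ts hG qu qu' (by rw [Fr.hu.hy.pair]; exact one_ne_zero)
    (Fr.full c1 c2 (Ts_ln hw qu' qu a3' L6 L3) (Ts_ln hw qu' qu a4' L6 L3') a3 a4)
    (Fr.full' d1 d2 (Ts_ln hw qu qu' a3 L5 L3) (Ts_ln hw qu qu' a4 L5 L3') a3' a4')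

end

end Cfsg.Agent.H989.DG
end

-- part: H989/DG/LiftGam
section
/-!
# From semisimilitudes to `Cos2` (helper989, TEAM GEN, S4180)

* `HH M` : the isometries in a group `M` of semisimilitudes;
* `lift_of_gam`, `cos2_of_gam`.
-/

set_option autoImplicit false
set_option linter.unusedSectionVars false

namespace Cfsg.Agent.H989.DG

open QuadraticMap Cfsg.Agent.LieClassical.OrthCore Cfsg.Agent.LieClassical.OrthTrans
  Cfsg.Agent.LieClassical.OrthSimple Cfsg.Agent.ClassicalGeometry.OrthAutBasic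
  Cfsg.Agent.ClassicalGeometry.OrthSemi Cfsg.Agent.ClassicalGeometry.OrthAut1
  Cfsg.Agent.H887.SiegelMethod Cfsg.Agent.H137 Cfsg.Agent.H989.OutOrth.Basic Subgroup
  Cfsg.Agent.H440.TwoGen Cfsg.Agent.H891.Gen Cfsg.Agent.H891.DG

variable {F V : Type*} [Field F] [AddCommGroup V] [Module F V] {Q : QuadraticForm F V}

/-- the isometries in `M` -/
def HH (M : Subgroup (Gam Q)) : Subgroup (V ≃ₗ[F] V) := (M.comap (ofO Q)).map (O Q).subtype

theorem mem_HH {M : Subgroup (Gam Q)} {g : V ≃ₗ[F] V} : g ∈ HH M ↔ ∃ hg : g ∈ O Q, ofO Q ⟨g, hg⟩ ∈ M := by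
  constructor
  · rintro ⟨g, hg, rfl⟩
    exact ⟨g.2, hg⟩
  · rintro ⟨hg, h⟩
    exact ⟨⟨g, hg⟩, h, rfl⟩

theorem conjLin_mem_O {w : Gam Q} {g : V ≃ₗ[F] V} (hg : g ∈ O Q) : conjLin w g ∈ O Q := by
  obtain ⟨σ, c, hc⟩ := w.2
  intro v
  obtain ⟨v, rfl⟩ := w.1.surjective v
  rw [conjLin_apply', hc.form, hc.form]
  congr 2
  exact hg v

theorem ofO_conjLin (w : Gam Q) {g : V ≃ₗ[F] V} (hg : g ∈ O Q) :
    ofO Q ⟨conjLin w g, conjLin_mem_O hg⟩ = w * ofO Q ⟨g, hg⟩ * w⁻¹ := rfl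

theorem nm_HH {M : Subgroup (Gam Q)} {w : Gam Q} (hw : w ∈ M) : Nm (HH M) w := by
  intro g hg
  obtain ⟨hg, h⟩ := mem_HH.1 hg
  exact mem_HH.2 ⟨conjLin_mem_O hg, by
    rw [ofO_conjLin w hg]
    exact mul_mem (mul_mem hw h) (inv_mem hw)⟩

/-- **lifting** -/
theorem lift_of_gam {x y x' y' : Gam Q} (hx : out Q x' = out Q x) (hy : out Q y' = out Q y)
    (h : E Q ≤ HH (_root_.Subgroup.closure {x', y'})) : Lift (MulAut.conj : P Q →* MulAut (P Q)).range (Psi Q x) (Psi Q y) := by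
  have key : ∀ {a a' : Gam Q}, out Q a' = out Q a → (Psi Q a)⁻¹ * Psi Q a' ∈ (MulAut.conj : P Q →* MulAut (P Q)).range := by
    intro a a' h
    have h1 : (QuotientGroup.mk' (Cfsg.Inn (P Q))) (Psi Q a) = (QuotientGroup.mk' (Cfsg.Inn (P Q))) (Psi Q a') := h.symm
    exact QuotientGroup.eq.1 h1
  refine ⟨_, key hx, _, key hy, ?_⟩
  simp only [mul_inv_cancel_left, mul_inv_cancel_left, ← Set.image_pair, ← MonoidHom.map_closure]
  rintro _ ⟨p, rfl⟩
  obtain ⟨g, rfl⟩ := QuotientGroup.mk_surjective p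
  obtain ⟨h1, h2⟩ := mem_HH.1 (h g.2)
  exact ⟨_, h2, Psi_ofO g⟩

/-- **`Cos2`** -/
theorem cos2_of_gam [Finite F] [Finite V] (hG : Good Q) (hs : Function.Surjective (Psi Q))
    (h : ∀ x y : Gam Q, sg hG x = 1 → ∃ x' y' : Gam Q, out Q x' = out Q x ∧ out Q y' = out Q y ∧
      E Q ≤ HH (_root_.Subgroup.closure {x', y'})) : Cos2 (P Q) := by
  have hk : (Psi Q).ker ≤ (sg hG).ker := by
    intro M hM
    rw [ker_Psi hG] at hM
    obtain ⟨a, rfl⟩ := hM
    exact sg_scal hG a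
  let φ : MulAut (P Q) →* RingAut F :=
    (QuotientGroup.lift (Psi Q).ker (sg hG) hk).comp
      (QuotientGroup.quotientKerEquivOfSurjective (Psi Q) hs).symm.toMonoidHom
  have hφ : ∀ M : Gam Q, φ (Psi Q M) = sg hG M := by
    intro M
    have h1 : (QuotientGroup.quotientKerEquivOfSurjective (Psi Q) hs).symm (Psi Q M) = (M : Gam Q ⧸ (Psi Q).ker) := by
      rw [MulEquiv.symm_apply_eq]
      rfl
    show QuotientGroup.lift (Psi Q).ker (sg hG) hk ((QuotientGroup.quotientKerEquivOfSurjective (Psi Q) hs).symm (Psi Q M)) = _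
    ((conv => enter [@2, @6]; rw [h1]))
    rfl
  have hfinE : Finite (V ≃ₗ[F] V) := Finite.of_injective (fun g => g.toEquiv)
    fun g h e => LinearEquiv.toEquiv_injective e
  have hfinP : Finite (P Q) := inferInstance
  have hfin : Finite (RingAut F) := Finite.of_injective (fun f : RingAut F => (f : F → F)) DFunLike.coe_injective
  have hcyc : IsCyclic (RingAut F) := Cfsg.Agent.LieRecognition.FieldSemilinear.isCyclic_ringAut F
  refine Cfsg.Agent.H891.DG.Nielsen.cos2_of_ker φ fun x y hx => ?_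
  obtain ⟨x, rfl⟩ := hs x
  have hob_ := hs y
  obtain ⟨y, rfl⟩ := hob_
  rw [hφ] at hx
  have hob_ := h x y hx
  obtain ⟨x', y', h1, h2, h3⟩ := hob_
  exact lift_of_gam h1 h2 h3

end Cfsg.Agent.H989.DG
end

-- part: H989/DG/Core
section
/-!
# Generation by two semisimilitudes (helper989, TEAM GEN, S4180)
-/

set_option autoImplicit false
set_option linter.unusedSectionVars false

namespace Cfsg.Agent.H989.DG

open QuadraticMap Cfsg.Agent.LieClassical.OrthCore Cfsg.Agent.LieClassical.OrthTrans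
  Cfsg.Agent.LieClassical.OrthSimple Cfsg.Agent.ClassicalGeometry.OrthAutBasic
  Cfsg.Agent.ClassicalGeometry.OrthSemi Cfsg.Agent.ClassicalGeometry.OrthAut1
  Cfsg.Agent.H887.SiegelMethod Cfsg.Agent.H137 Cfsg.Agent.H989.OutOrth.Basic Subgroup

variable {F V : Type*} [Field F] [AddCommGroup V] [Module F V] {Q : QuadraticForm F V}

/-- Siegel elements as semisimilitudes -/
noncomputable def tt (Q : QuadraticForm F V) (a b : V) : Gam Q := ofO Q ⟨T Q a b, T_mem_O a b⟩

theorem tt_mem {M : Subgroup (Gam Q)} {a b : V} : tt Q a b ∈ M ↔ T Q a b ∈ HH M := by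
  rw [mem_HH]
  exact ⟨fun h => ⟨T_mem_O a b, h⟩, fun ⟨_, h⟩ => h⟩

theorem tt_congr {a b a' b' : V} (h : T Q a b = T Q a' b') : tt Q a b = tt Q a' b' := by
  unfold tt
  congr 1
  exact Subtype.ext h

theorem tt_conj (w : Gam Q) {σ : F ≃+* F} {c : F} (h : IsSS Q σ c w.1) {a b : V} (ha : Q a = 0)
    (hab : polar Q a b = 0) : w * tt Q a b * w⁻¹ = tt Q (w.1 a) (c⁻¹ • w.1 b) := by
  unfold tt
  rw [← ofO_conjLin w (T_mem_O a b)]
  congr 1
  exact Subtype.ext (conjLin_T w h ha hab)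

theorem tt_mul {a b b' : V} (ha : Q a = 0) (hab : polar Q a b = 0) (hab' : polar Q a b' = 0) :
    tt Q a b * tt Q a b' = tt Q a (b + b') := by
  unfold tt
  rw [← map_mul]
  congr 1
  exact Subtype.ext (T_mul ha hab hab')

theorem tt_inv {a b : V} (ha : Q a = 0) (hab : polar Q a b = 0) : (tt Q a b)⁻¹ = tt Q a (-b) := by
  unfold tt
  rw [← map_inv]
  congr 1
  exact Subtype.ext (T_inv ha hab)

theorem tt_pow {a b : V} (ha : Q a = 0) (hab : polar Q a b = 0) : (tt Q a b) ^ ringChar F = 1 := by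
  unfold tt
  rw [← map_pow]
  have : (⟨T Q a b, T_mem_O a b⟩ : O Q) ^ ringChar F = 1 := by
    apply Subtype.ext
    show T Q a b ^ ringChar F = 1
    rw [T_pow ha hab, ← Nat.cast_smul_eq_nsmul F, CharP.cast_eq_zero, zero_smul, T_zero_right]
  rw [this, map_one]

section

variable {K : Type*} [Field K] [Algebra F K] {P : SPair Q K} {e0 f0 u u' v v' : V}

/-- **the first generation theorem** -/
theorem Frame.core1 (Fr : Frame Q P e0 f0 u u' v v') (hG : Good Q) {x1 x2 y1 y2 : K} (hx1 : x1 ≠ 0)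
    (hy1 : y1 ≠ 0) {z y : Gam Q} {c : F} (hz : IsSS Q (RingEquiv.refl F) c z.1) {a b d : F}
    (z1 : z.1 e0 = a • e0) (z2 : z.1 u = b • u) (hab : a * b = c) (z3 : z.1 u' = d • u') {κ κ' : K}
    (z4 : ∀ k, z.1 (P.e k) = P.e (κ * k)) (z5 : ∀ k, z.1 (P.f k) = P.f (κ' * k))
    (hI : Irr (algebraMap F K (d * c⁻¹) * κ)) (hI' : Irr (algebraMap F K (d * c⁻¹) * κ')) {m : ℕ}
    (hm : m.Coprime (ringChar F)) (zm : z ^ m = 1)
    (L1 : Ln y e0 (P.f y1)) (L2 : Ln y (P.f y1) f0) (L3 : Ln y f0 (P.e x1)) (L4 : Ln y (P.e x1) e0)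
    (L5 : Ln y u u') (L6 : Ln y u' u)
    (L7 : (Ln y (P.e x2) v ∧ Ln y (P.f y2) v') ∨ (Ln y (P.e x2) v' ∧ Ln y (P.f y2) v)) :
    E Q ≤ HH (_root_.Subgroup.closure {z * tt Q e0 u, y}) := by
  have qe : Q e0 = 0 := Fr.hu.hx.left
  have qu' : Q u' = 0 := Fr.hu.hy.right
  have hc := hz.ne
  have hcomm : Commute z (tt Q e0 u) := by
    have h1 := tt_conj z hz qe Fr.hu.xy
    rw [z1, z2] at h1
    have h2 : T Q (a • e0) (c⁻¹ • b • u) = T Q e0 u := by
      rw [T_smul_left a qe (by rw [polar_smul_right, polar_smul_right, Fr.hu.xy, smul_zero, smul_zero]),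
        smul_smul, smul_smul]
      have : a * c⁻¹ * b = 1 := by
        rw [mul_right_comm, hab, mul_inv_cancel₀ hc]
      rw [this, one_smul]
    rw [tt_congr h2, mul_inv_eq_iff_eq_mul] at h1
    exact h1
  obtain ⟨hzM, hτ⟩ := mem_of_mul_coprime (H := _root_.Subgroup.closure {z * tt Q e0 u, y}) hcomm hm zm (tt_pow qe Fr.hu.xy)
    (_root_.Subgroup.subset_closure (Or.inl rfl))
  have hyM : y ∈ _root_.Subgroup.closure {z * tt Q e0 u, y} := _root_.Subgroup.subset_closure (Or.inr rfl)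
  exact Fr.closure1 hG hx1 hy1 (nm_HH hyM) L1 L2 L3 L4 L5 L6 L7
    (famE_of (nm_HH hzM) hz z4 qu' Fr.pu' z3 hI) (famF_of (nm_HH hzM) hz z5 qu' Fr.pu' z3 hI')
    (Sg.of_mem qe Fr.hu.xy (tt_mem.1 hτ))

theorem rf_congr {a b : V} (h : a = b) (ha : Q a ≠ 0) (hb : Q b ≠ 0) : rf a ha = rf b hb := by
  subst h
  rfl

/-- **the second generation theorem** (characteristic 2, graph automorphism) -/
theorem Frame.core2 (Fr : Frame Q P e0 f0 u u' v v') (hG : Good Q) (h2 : ringChar F = 2) {x1 y1 : K} (hx1 : x1 ≠ 0)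
    (hy1 : y1 ≠ 0) {z y : Gam Q} (hz : IsSS Q (RingEquiv.refl F) 1 z.1)
    (z1 : z.1 e0 = e0) (z1' : z.1 f0 = f0) (z2 : z.1 u = u) (z3 : z.1 u' = u') (z6 : z.1 v = v) (z6' : z.1 v' = v')
    {κ κ' : K} (z4 : ∀ k, z.1 (P.e k) = P.e (κ * k)) (z5 : ∀ k, z.1 (P.f k) = P.f (κ' * k))
    (hI : Irr κ) (hI' : Irr κ') (hκ : κ ≠ 1) {m : ℕ} (hm : m.Coprime 2) (zm : z ^ m = 1)
    (hvv : Q (v + v') ≠ 0)
    (L1 : Ln y e0 (P.e x1)) (L2 : Ln y (P.e x1) v) (L3 : Ln y v e0)
    (L1' : Ln y f0 (P.f y1)) (L2' : Ln y (P.f y1) v') (L3' : Ln y v' f0)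
    (L5 : Ln y u u') (L6 : Ln y u' u) :
    E Q ≤ HH (_root_.Subgroup.closure {z * (rf (v + v') hvv * tt Q e0 u), y}) := by
  have qe : Q e0 = 0 := Fr.hu.hx.left
  have qf : Q f0 = 0 := Fr.hu.hx.right
  have qu : Q u = 0 := Fr.hu.hy.left
  have qu' : Q u' = 0 := Fr.hu.hy.right
  have qv : Q v = 0 := Fr.hv.hy.left
  have qv' : Q v' = 0 := Fr.hv.hy.right
  set M := _root_.Subgroup.closure {z * (rf (v + v') hvv * tt Q e0 u), y} with hM
  have hyM : y ∈ M := _root_.Subgroup.subset_closure (Or.inr rfl)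
  -- the involution commutes with the Siegel element
  have hρ : ∀ x, polar Q v x = 0 → polar Q v' x = 0 → (rf (v + v') hvv).1 x = x := by
    intro x h h'
    rw [rf_apply, refl_apply, polar_add_left, h, h', add_zero, mul_zero, zero_smul, sub_zero]
  have hve : polar Q v e0 = 0 := by rw [polar_comm]; exact Fr.hv.xy
  have hve' : polar Q v' e0 = 0 := by rw [polar_comm]; exact Fr.hv.xy'
  have hvu : polar Q v u = 0 := by rw [polar_comm]; exact Fr.huv.xy
  have hvu' : polar Q v' u = 0 := by rw [polar_comm]; exact Fr.huv.xy'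
  have hcomm : Commute (rf (v + v') hvv) (tt Q e0 u) := by
    have h1 := tt_conj (rf (v + v') hvv) (isSS_ofO _) qe Fr.hu.xy
    rw [hρ _ hve hve', hρ _ hvu hvu', inv_one, one_smul, mul_inv_eq_iff_eq_mul] at h1
    exact h1
  have hτ2 : tt Q e0 u * tt Q e0 u = 1 := by
    have h1 := tt_pow (Q := Q) qe Fr.hu.xy
    rwa [h2, pow_two] at h1
  have hρτ : (rf (v + v') hvv * tt Q e0 u) ^ 2 = 1 := by
    rw [hcomm.mul_pow, pow_two, pow_two, rf_mul_self, hτ2, one_mul]
  have hzρ : Commute z (rf (v + v') hvv) := by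
    have hv1 : Q (z.1 (v + v')) ≠ 0 := Q_ne z hvv
    have h1 := conj_rf z hvv hv1
    have h3 : z.1 (v + v') = v + v' := by rw [hz.add, z6, z6']
    rw [rf_congr h3 hv1 hvv, mul_inv_eq_iff_eq_mul] at h1
    exact h1
  have hzτ : Commute z (tt Q e0 u) := by
    have h1 := tt_conj z hz qe Fr.hu.xy
    rw [z1, z2, inv_one, one_smul, mul_inv_eq_iff_eq_mul] at h1
    exact h1
  obtain ⟨hzM, hρτM⟩ := mem_of_mul_coprime (H := M) (hzρ.mul_right hzτ) hm zm hρτ
    (_root_.Subgroup.subset_closure (Or.inl rfl))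
  -- separation
  obtain ⟨α, hα, hv0⟩ := L3
  obtain ⟨β, hβ, hv0'⟩ := L3'
  obtain ⟨a, ha, he1⟩ := L1
  obtain ⟨b, hb, hu1⟩ := L5
  obtain ⟨σ, c, hy⟩ := y.2
  have hyv : y.1 (v + v') = α • e0 + β • f0 := by rw [hy.add, hv0, hv0']
  have hv1 : Q (y.1 (v + v')) ≠ 0 := Q_ne y hvv
  have hv2 : Q (α • e0 + β • f0) ≠ 0 := by rwa [hyv] at hv1
  have hC : y * rf (v + v') hvv * y⁻¹ = rf (α • e0 + β • f0) hv2 := by
    rw [conj_rf y hvv hv1]
    exact rf_congr hyv _ _
  have hTt : y * tt Q e0 u * y⁻¹ = tt Q u' (P.e (algebraMap F K (-(c⁻¹ * b) * a) * x1)) := by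
    rw [tt_conj y hy qe Fr.hu.xy, he1, hu1]
    apply tt_congr
    have h3 : polar Q (a • P.e x1) (c⁻¹ • b • u') = 0 := by
      rw [polar_smul_left, polar_smul_right, polar_smul_right, P.polar_e Fr.pu']; simp
    have h4 : polar Q u' (-(a • P.e x1)) = 0 := by
      rw [polar_neg_right, polar_smul_right, P.polar_e' Fr.pu']; simp
    rw [T_swap (by rw [QuadraticMap.map_smul, P.Qe, smul_zero])
      (by rw [QuadraticMap.map_smul, QuadraticMap.map_smul, qu', smul_zero, smul_zero]) h3, smul_smul,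
      T_smul_left _ qu' h4, smul_neg, smul_smul, ← neg_smul, ← neg_mul, ← Algebra.smul_def, map_smul]
  set k1 : K := algebraMap F K (-(c⁻¹ * b) * a) * x1 with hk1
  have hk1' : k1 ≠ 0 := by
    refine mul_ne_zero ?_ hx1
    rw [Ne, map_eq_zero]
    exact mul_ne_zero (neg_ne_zero.2 (mul_ne_zero (inv_ne_zero hy.ne) hb)) ha
  have hB : rf (α • e0 + β • f0) hv2 * tt Q u' (P.e k1) ∈ M := by
    have h3 := mul_mem (mul_mem hyM hρτM) (inv_mem hyM)
    have e : y * (rf (v + v') hvv * tt Q e0 u) * y⁻¹ = (y * rf (v + v') hvv * y⁻¹) * (y * tt Q e0 u * y⁻¹) := by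
      group
    rwa [e, hC, hTt] at h3
  have hzC : z * rf (α • e0 + β • f0) hv2 * z⁻¹ = rf (α • e0 + β • f0) hv2 := by
    rw [conj_rf z hv2 (Q_ne z hv2)]
    apply rf_congr
    rw [hz.add, hz.smul, hz.smul, z1, z1']
    rfl
  have hzT : z * tt Q u' (P.e k1) * z⁻¹ = tt Q u' (P.e (κ * k1)) := by
    rw [tt_conj z hz qu' (P.polar_e' Fr.pu' _), z3, z4, inv_one, one_smul]
  have hD : tt Q u' (P.e ((κ - 1) * k1)) ∈ M := by
    have h3 := mul_mem (inv_mem hB) (mul_mem (mul_mem hzM hB) (inv_mem hzM))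
    have e : (rf (α • e0 + β • f0) hv2 * tt Q u' (P.e k1))⁻¹ *
        (z * (rf (α • e0 + β • f0) hv2 * tt Q u' (P.e k1)) * z⁻¹) =
        (tt Q u' (P.e k1))⁻¹ * (rf (α • e0 + β • f0) hv2)⁻¹ * ((z * rf (α • e0 + β • f0) hv2 * z⁻¹) *
          (z * tt Q u' (P.e k1) * z⁻¹)) := by group
    rw [e, hzC, hzT, mul_assoc, inv_mul_cancel_left, tt_inv qu' (P.polar_e' Fr.pu' _),
      tt_mul qu' (by rw [polar_neg_right, P.polar_e' Fr.pu', neg_zero]) (P.polar_e' Fr.pu' _), ← map_neg,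
      ← map_add] at h3
    have e2 : -k1 + κ * k1 = (κ - 1) * k1 := by ring
    rwa [e2] at h3
  have one_e : algebraMap F K (1 * 1⁻¹) * κ = κ := by rw [inv_one, mul_one, map_one, one_mul]
  have one_f : algebraMap F K (1 * 1⁻¹) * κ' = κ' := by rw [inv_one, mul_one, map_one, one_mul]
  have hE : ∀ {x : V}, Q x = 0 → P.Perp x → z.1 x = x → FamE Q (HH M) P x := by
    intro x hx hPx hzx
    exact famE_of (nm_HH hzM) hz z4 hx hPx (by rw [hzx, one_smul]) (by rwa [one_e])
  have hF : ∀ {x : V}, Q x = 0 → P.Perp x → z.1 x = x → FamF Q (HH M) P x := by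
    intro x hx hPx hzx
    exact famF_of (nm_HH hzM) hz z5 hx hPx (by rw [hzx, one_smul]) (by rwa [one_f])
  have hfull : ∀ k, P.e k ∈ Ts Q (HH M) u' :=
    hE qu' Fr.pu' z3 _ (mul_ne_zero (sub_ne_zero.2 hκ) hk1')
      (Sg.of_mem qu' (P.polar_e' Fr.pu' _) (tt_mem.1 hD))
  have hTM : tt Q u' (P.e k1) ∈ M := tt_mem.2 (Ts_mem (hfull k1))
  have hCM : rf (α • e0 + β • f0) hv2 ∈ M := by
    have h3 := mul_mem hB (inv_mem hTM)
    rwa [mul_inv_cancel_right] at h3
  have hρM : rf (v + v') hvv ∈ M := by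
    rw [← hC] at hCM
    have h3 := mul_mem (mul_mem (inv_mem hyM) hCM) hyM
    have e : y⁻¹ * (y * rf (v + v') hvv * y⁻¹) * y = rf (v + v') hvv := by group
    rwa [e] at h3
  have hτM : tt Q e0 u ∈ M := by
    have h3 := mul_mem (inv_mem hρM) hρτM
    rwa [inv_mul_cancel_left] at h3
  refine Fr.closure2 hG hx1 hy1 (nm_HH hyM) (nm_HH hCM) ⟨a, ha, he1⟩ L2 ⟨α, hα, hv0⟩ L1' L2' ⟨β, hβ, hv0'⟩
    ⟨b, hb, hu1⟩ L6 ?_ ?_ (hE qu' Fr.pu' z3) (hF qu' Fr.pu' z3) (hE qu Fr.pu z2) (hF qu Fr.pu z2)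
    (Sg.of_mem qe Fr.hu.xy (tt_mem.1 hτM))
  · refine ⟨-(β / α), neg_ne_zero.2 (div_ne_zero hβ hα), ?_⟩
    have hQ : Q (α • e0 + β • f0) = α * β := by
      rw [Q_add, QuadraticMap.map_smul, QuadraticMap.map_smul, qe, qf, polar_smul_left, polar_smul_right,
        Fr.hu.hx.pair]
      simp
    simp only [rf_apply, refl_apply, hQ, polar_add_left, polar_smul_left, polar_smul_left, Fr.hu.hx.pair',
      Fr.hu.hx.polar_left]
    have e : (α * β)⁻¹ * (α • (0 : F) + β • (1 : F)) = α⁻¹ := by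
      rw [smul_zero, zero_add, smul_eq_mul, mul_one]
      field_simp
    rw [e, smul_add, smul_smul, smul_smul, inv_mul_cancel₀ hα, one_smul, neg_smul, div_eq_inv_mul]
    abel
  · refine ⟨1, one_ne_zero, ?_⟩
    simp only [rf_apply, refl_apply, polar_add_left, polar_smul_left, polar_smul_left, Fr.hu.xy, Fr.hu.x'y]
    simp only [_root_.smul_eq_mul, _root_.MulZeroClass.mul_zero, _root_.add_zero, _root_.smul_add, _root_.zero_smul, _root_.sub_zero, _root_.one_smul]

end

end Cfsg.Agent.H989.DG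
end

-- part: H989/DG/Lines
section
/-!
# Monomial semisimilitudes (helper989, TEAM GEN, S4180)
-/

set_option autoImplicit false
set_option linter.unusedSectionVars false

namespace Cfsg.Agent.H989.DG

open QuadraticMap Cfsg.Agent.LieClassical.OrthCore Cfsg.Agent.LieClassical.OrthTrans
  Cfsg.Agent.LieClassical.OrthSimple Cfsg.Agent.ClassicalGeometry.OrthAutBasic
  Cfsg.Agent.ClassicalGeometry.OrthSemi Cfsg.Agent.ClassicalGeometry.OrthAut1
  Cfsg.Agent.H887.SiegelMethod Cfsg.Agent.H137 Cfsg.Agent.H989.OutOrth.Basic Subgroup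

variable {F V : Type*} [Field F] [AddCommGroup V] [Module F V] {Q : QuadraticForm F V}

theorem isSS_mul {M N : Gam Q} {a b : F} (h : IsSS Q (RingEquiv.refl F) a M.1)
    (h' : IsSS Q (RingEquiv.refl F) b N.1) : IsSS Q (RingEquiv.refl F) (a * b) (M * N).1 := h.mul h'

theorem isSS_inv {M : Gam Q} {a : F} (h : IsSS Q (RingEquiv.refl F) a M.1) :
    IsSS Q (RingEquiv.refl F) a⁻¹ (M⁻¹).1 := h.inv

theorem isSS_congr {M : Gam Q} {a b : F} (h : IsSS Q (RingEquiv.refl F) a M.1) (e : a = b) :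
    IsSS Q (RingEquiv.refl F) b M.1 := e ▸ h

theorem Ln.mul {w w' : Gam Q} {a b c : V} (h' : Ln w' b c) (h : Ln w a b) : Ln (w' * w) a c := by
  obtain ⟨s, hs, h⟩ := h
  obtain ⟨t, ht, h'⟩ := h'
  obtain ⟨σ, d, hd⟩ := w'.2
  refine ⟨σ s * t, mul_ne_zero (by simpa using hs) ht, ?_⟩
  show w'.1 (w.1 a) = _
  rw [h, hd.smul, h', smul_smul]

theorem Ln.of_eq {w : Gam Q} {a b : V} (h : w.1 a = b) : Ln w a b := ⟨1, one_ne_zero, by rw [h, one_smul]⟩

/-- Weyl elements -/
noncomputable def NN (Q : QuadraticForm F V) (x x' y y' : V) : Gam Q :=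
  ofO Q ⟨nn Q x x' y y', E_le_O (nn_mem_E x x' y y')⟩

theorem out_NN (x x' y y' : V) : out Q (NN Q x x' y y') = 1 := out_ofO_of_mem (nn_mem_E _ _ _ _)

theorem out_tt (a b : V) : out Q (tt Q a b) = 1 := out_ofO_of_mem (T_mem_E _ _)

theorem NN_x {x x' y y' : V} (h : Hyp2 Q x x' y y') : Ln (NN Q x x' y y') x y := Ln.of_eq ((nn_x h :))

theorem NN_x' {x x' y y' : V} (h : Hyp2 Q x x' y y') : Ln (NN Q x x' y y') x' y' := Ln.of_eq ((nn_x' h :))

theorem NN_y {x x' y y' : V} (h : Hyp2 Q x x' y y') : Ln (NN Q x x' y y') y x := by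
  refine ⟨-1, neg_ne_zero.2 one_ne_zero, ?_⟩
  rw [neg_smul, one_smul]
  exact (nn_y h :)

theorem NN_y' {x x' y y' : V} (h : Hyp2 Q x x' y y') : Ln (NN Q x x' y y') y' x' := by
  refine ⟨-1, neg_ne_zero.2 one_ne_zero, ?_⟩
  rw [neg_smul, one_smul]
  exact (nn_y' h :)

theorem NN_fix {x x' y y' a : V} (h : Hyp2 Q x x' y y') (h1 : polar Q x a = 0) (h2 : polar Q x' a = 0)
    (h3 : polar Q y a = 0) (h4 : polar Q y' a = 0) : Ln (NN Q x x' y y') a a :=
  Ln.of_eq ((nn_fix h h1 h2 h3 h4 :))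

theorem rf_l {a b : V} (h : Hyp Q a b) (hab : Q (a + b) ≠ 0) : Ln (rf (a + b) hab) a b := by
  refine ⟨-1, neg_ne_zero.2 one_ne_zero, ?_⟩
  rw [rf_apply, refl_apply, Q_add, h.left, h.right, h.pair, polar_add_left, h.pair', h.polar_left]
  simp

theorem rf_r {a b : V} (h : Hyp Q a b) (hab : Q (a + b) ≠ 0) : Ln (rf (a + b) hab) b a := by
  refine ⟨-1, neg_ne_zero.2 one_ne_zero, ?_⟩
  rw [rf_apply, refl_apply, Q_add, h.left, h.right, h.pair, polar_add_left, h.pair, h.polar_right]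
  simp

theorem rf_fix {a b x : V} (hab : Q (a + b) ≠ 0) (h1 : polar Q a x = 0) (h2 : polar Q b x = 0) :
    Ln (rf (a + b) hab) x x := by
  refine Ln.of_eq ?_
  rw [rf_apply, refl_apply, polar_add_left, h1, h2, add_zero, mul_zero, zero_smul, sub_zero]

theorem Q_hyp {a b : V} (h : Hyp Q a b) : Q (a + b) = 1 := by
  rw [Q_add, h.left, h.right, h.pair]; simp

theorem Q_hyp_ne {a b : V} (h : Hyp Q a b) : Q (a + b) ≠ 0 := by
  rw [Q_hyp h]; exact one_ne_zero

/-- The isometries of the plane `⟨v, v'⟩`. -/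
def TT (Q : QuadraticForm F V) (v v' : V) : Subgroup (Gam Q) where
  carrier := {t | IsSS Q (RingEquiv.refl F) 1 t.1 ∧ ∀ x, polar Q v x = 0 → polar Q v' x = 0 → t.1 x = x}
  mul_mem' := by
    rintro a b ⟨ha, ha'⟩ ⟨hb, hb'⟩
    refine ⟨isSS_congr (isSS_mul ha hb) (one_mul _), fun x h1 h2 => ?_⟩
    show a.1 (b.1 x) = x
    rw [hb' x h1 h2, ha' x h1 h2]
  one_mem' := ⟨⟨one_ne_zero, fun _ _ => rfl, fun _ _ => rfl, fun _ => by rw [one_mul]; rfl⟩, fun _ _ _ => rfl⟩
  inv_mem' := by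
    rintro a ⟨ha, ha'⟩
    refine ⟨isSS_congr (isSS_inv ha) inv_one, fun x h1 h2 => ?_⟩
    show a.1⁻¹ x = x
    have h3 := inv_apply a.1 x
    rwa [ha' x h1 h2] at h3

section

variable {K : Type*} [Field K] [Algebra F K] {P : SPair Q K} {e0 f0 u u' v v' : V}

theorem perp_of {x1 y1 : K} (t11 : Algebra.trace F K (x1 * y1) = 1) {x : V} (h : ∀ k, polar Q (P.e k) x = 0)
    (h' : ∀ k, polar Q (P.f k) x = 0) : P.Perp x := by
  have key : ∀ c : K, (∀ k, Algebra.trace F K (k * c) = 0) → c = 0 := by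
    intro c hc
    by_contra h0
    have h1 := hc (x1 * y1 * c⁻¹)
    rw [mul_assoc, inv_mul_cancel₀ h0, mul_one, t11] at h1
    exact one_ne_zero h1
  exact ⟨key _ fun k => by rw [← P.pe_spec]; exact h' k, key _ fun k => by rw [← P.pf_spec]; exact h k⟩

theorem Frame.tt_lines (Fr : Frame Q P e0 f0 u u' v v') {x1 y1 : K} (t11 : Algebra.trace F K (x1 * y1) = 1)
    {t : Gam Q} (ht : t ∈ TT Q v v') : (Ln t v v ∧ Ln t v' v') ∨ (Ln t v v' ∧ Ln t v' v) := by
  obtain ⟨h1, h2⟩ := ht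
  have hyp : Hyp Q v v' := Fr.hv.hy
  have key : ∀ x, (∀ y, polar Q v y = 0 → polar Q v' y = 0 → polar Q y x = 0) →
      t.1 x = polar Q v' (t.1 x) • v + polar Q v (t.1 x) • v' := by
    intro x hx
    have h3 : ∀ y, polar Q v y = 0 → polar Q v' y = 0 → polar Q y (t.1 x) = 0 := by
      intro y hy hy'
      have h4 := h1.polar y x
      rw [h2 y hy hy', hx y hy hy', map_zero, mul_zero] at h4
      exact h4
    have hP : P.Perp (t.1 x) := perp_of t11 (fun k => h3 _ (P.polar_e' Fr.pv k) (P.polar_e' Fr.pv' k))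
      (fun k => h3 _ (P.polar_f' Fr.pv k) (P.polar_f' Fr.pv' k))
    have h5 := Fr.span _ hP
    obtain ⟨a1, a2, a3, a4⟩ := Fr.hv.swap
    obtain ⟨b1, b2, b3, b4⟩ := Fr.huv.swap
    rw [h3 e0 a1 a2, h3 f0 a3 a4, h3 u b1 b2, h3 u' b3 b4] at h5
    simpa using h5
  have hv1 := key v fun y hy _ => by rw [polar_comm]; exact hy
  have hv2 := key v' fun y _ hy => by rw [polar_comm]; exact hy
  have q1 : Q (t.1 v) = 0 := by rw [h1.form, hyp.left, map_zero, mul_zero]
  have q2 : Q (t.1 v') = 0 := by rw [h1.form, hyp.right, map_zero, mul_zero]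
  have p12 : polar Q (t.1 v) (t.1 v') = 1 := by rw [h1.polar, hyp.pair, map_one, mul_one]
  have line : ∀ x, Q x = 0 → ∀ a b : F, x = a • v + b • v' → a = 0 ∨ b = 0 := by
    intro x hx a b e
    rw [e, Q_add, QuadraticMap.map_smul, QuadraticMap.map_smul, hyp.left, hyp.right, polar_smul_left,
      polar_smul_right, hyp.pair] at hx
    simpa using hx
  obtain ⟨a, ha⟩ : ∃ a, a = polar Q v' (t.1 v) := ⟨_, rfl⟩
  obtain ⟨b, hb⟩ : ∃ b, b = polar Q v (t.1 v) := ⟨_, rfl⟩
  obtain ⟨c, hc⟩ : ∃ c, c = polar Q v' (t.1 v') := ⟨_, rfl⟩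
  obtain ⟨d, hd⟩ : ∃ d, d = polar Q v (t.1 v') := ⟨_, rfl⟩
  rw [← ha, ← hb] at hv1
  rw [← hc, ← hd] at hv2
  have p12' : a * d + b * c = 1 := by
    rw [hv1, hv2, polar_add_left, polar_add_right, polar_add_right, polar_smul_left, polar_smul_left,
      polar_smul_left, polar_smul_left, polar_smul_right, polar_smul_right, polar_smul_right, polar_smul_right,
      hyp.pair, hyp.pair', hyp.polar_left, hyp.polar_right] at p12
    simpa only [_root_.smul_eq_mul, _root_.MulZeroClass.mul_zero, _root_.mul_one, _root_.zero_add, _root_.add_zero] using p12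
  rcases line _ q1 a b hv1 with h | h
  · right
    subst h
    have hbc : b * c = 1 := by simpa only [_root_.MulZeroClass.zero_mul, _root_.zero_add] using p12'
    have hb0 : b ≠ 0 := by rintro rfl; simp at hbc
    have hc0 : c ≠ 0 := by rintro rfl; simp at hbc
    rcases line _ q2 c d hv2 with h | h
    · exact absurd h hc0
    · subst h
      exact ⟨⟨b, hb0, by rw [hv1, zero_smul, zero_add]⟩, ⟨c, hc0, by rw [hv2, zero_smul, add_zero]⟩⟩
  · left
    subst h
    have hbc : a * d = 1 := by simpa only [_root_.MulZeroClass.zero_mul, _root_.add_zero] using p12'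
    have ha0 : a ≠ 0 := by rintro rfl; simp at hbc
    have hd0 : d ≠ 0 := by rintro rfl; simp at hbc
    rcases line _ q2 c d hv2 with h | h
    · subst h
      exact ⟨⟨a, ha0, by rw [hv1, zero_smul, add_zero]⟩, ⟨d, hd0, by rw [hv2, zero_smul, zero_add]⟩⟩
    · exact absurd h hd0

/-- A linear similitude fixing the frame is trivial. -/
theorem Frame.eq_one (Fr : Frame Q P e0 f0 u u' v v') {M : Gam Q} {c : F}
    (h : IsSS Q (RingEquiv.refl F) c M.1) (h1 : M.1 e0 = e0) (h2 : M.1 f0 = f0) (h3 : M.1 u = u)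
    (h4 : M.1 u' = u') (h5 : M.1 v = v) (h6 : M.1 v' = v') (h7 : ∀ k, M.1 (P.e k) = P.e k)
    (h8 : ∀ k, M.1 (P.f k) = P.f k) : M = 1 := by
  apply Subtype.ext
  ext x
  show M.1 x = x
  have hs := Fr.span _ (P.perp_sub x)
  obtain ⟨x0, hx0⟩ : ∃ x0, x0 = x - P.e (P.pe x) - P.f (P.pf x) := ⟨_, rfl⟩
  rw [← hx0] at hs
  have hx : x = P.e (P.pe x) + P.f (P.pf x) + x0 := by rw [hx0]; abel
  have hsm : ∀ (a : F) (y : V), M.1 (a • y) = a • M.1 y := h.smul
  have hM0 : M.1 x0 = x0 := by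
    rw [hs]
    simp only [h.add, hsm, h1, h2, h3, h4, h5, h6]
  calc M.1 x = M.1 (P.e (P.pe x) + P.f (P.pf x) + x0) := by rw [← hx]
    _ = P.e (P.pe x) + P.f (P.pf x) + x0 := by rw [h.add, h.add, h7, h8, hM0]
    _ = x := hx.symm

end

end Cfsg.Agent.H989.DG
end

-- part: H989/DG/Pick
section
/-!
# The choice of the generators (helper989, TEAM GEN, S4180)
-/

set_option autoImplicit false
set_option linter.unusedSectionVars false

namespace Cfsg.Agent.H989.DG

open QuadraticMap Cfsg.Agent.LieClassical.OrthCore Cfsg.Agent.LieClassical.OrthTrans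
  Cfsg.Agent.LieClassical.OrthSimple Cfsg.Agent.ClassicalGeometry.OrthAutBasic
  Cfsg.Agent.ClassicalGeometry.OrthSemi Cfsg.Agent.ClassicalGeometry.OrthAut1
  Cfsg.Agent.H887.SiegelMethod Cfsg.Agent.H137 Cfsg.Agent.H989.OutOrth.Basic Subgroup

variable {F V : Type*} [Field F] [AddCommGroup V] [Module F V] {Q : QuadraticForm F V}

/-- The diagonal similitude. -/
structure Dil {K : Type*} [Field K] [Algebra F K] (P : SPair Q K) (e0 f0 u u' v v' : V) (D : Gam Q)
    (c : F) : Prop where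
  ss : IsSS Q (RingEquiv.refl F) c D.1
  e : D.1 e0 = c • e0
  f : D.1 f0 = f0
  u : D.1 u = u
  u' : D.1 u' = c • u'
  v : D.1 v = c • v
  v' : D.1 v' = v'
  E : ∀ k, D.1 (P.e k) = c • P.e k
  F : ∀ k, D.1 (P.f k) = P.f k

/-- The field automorphism. -/
structure Fro {K : Type*} [Field K] [Algebra F K] (P : SPair Q K) (e0 f0 u u' v v' : V) (x1 x2 y1 y2 : K)
    (Φ : Gam Q) (σ : F ≃+* F) : Prop where
  ss : IsSS Q σ 1 Φ.1
  e : Φ.1 e0 = e0
  f : Φ.1 f0 = f0
  u : Φ.1 u = u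
  u' : Φ.1 u' = u'
  v : Φ.1 v = v
  v' : Φ.1 v' = v'
  x1 : Φ.1 (P.e x1) = P.e x1
  x2 : Φ.1 (P.e x2) = P.e x2
  y1 : Φ.1 (P.f y1) = P.f y1
  y2 : Φ.1 (P.f y2) = P.f y2

theorem smul_pow_apply {M : Gam Q} {c : F} (h : IsSS Q (RingEquiv.refl F) c M.1) {x : V} {a : F}
    (hx : M.1 x = a • x) (n : ℕ) : (M ^ n).1 x = a ^ n • x := by
  induction n with
  | zero => rw [pow_zero, pow_zero, one_smul]; rfl
  | succ n ih =>
    rw [pow_succ', pow_succ]
    show M.1 ((M ^ n).1 x) = _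
    rw [ih, h.smul, hx, smul_smul]
    rfl

theorem isSS_pow {M : Gam Q} {c : F} (h : IsSS Q (RingEquiv.refl F) c M.1) (n : ℕ) :
    ∃ d, IsSS Q (RingEquiv.refl F) d (M ^ n).1 := by
  induction n with
  | zero => exact ⟨1, one_ne_zero, fun _ _ => rfl, fun _ _ => rfl, fun _ => by rw [one_mul]; rfl⟩
  | succ n ih =>
    obtain ⟨d, hd⟩ := ih
    refine ⟨d * c, ?_⟩
    rw [pow_succ]
    exact isSS_mul hd h

section

variable {K : Type*} [Field K] [Algebra F K] {P : SPair Q K} {e0 f0 u u' v v' : V}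

theorem pow_apply_e {M : Gam Q} {κ : K} (h : ∀ k, M.1 (P.e k) = P.e (κ * k)) (n : ℕ) (k : K) :
    (M ^ n).1 (P.e k) = P.e (κ ^ n * k) := by
  induction n generalizing k with
  | zero => rw [pow_zero, pow_zero, one_mul]; rfl
  | succ n ih =>
    rw [pow_succ', pow_succ']
    show M.1 ((M ^ n).1 (P.e k)) = _
    rw [ih, h, mul_assoc]

theorem pow_apply_f {M : Gam Q} {κ : K} (h : ∀ k, M.1 (P.f k) = P.f (κ * k)) (n : ℕ) (k : K) :
    (M ^ n).1 (P.f k) = P.f (κ ^ n * k) := by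
  induction n generalizing k with
  | zero => rw [pow_zero, pow_zero, one_mul]; rfl
  | succ n ih =>
    rw [pow_succ', pow_succ']
    show M.1 ((M ^ n).1 (P.f k)) = _
    rw [ih, h, mul_assoc]

theorem pow_card_units {k : K} (hk : k ≠ 0) : k ^ Nat.card Kˣ = 1 := by
  have h := pow_card_eq_one' (x := Units.mk0 k hk)
  have h1 := congrArg Units.val h
  rw [Units.val_pow_eq_pow_val, Units.val_mk0, Units.val_one] at h1
  exact h1

theorem pow_card_units' {a : F} (ha : a ≠ 0) : a ^ Nat.card Kˣ = 1 := by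
  have h : algebraMap F K a ≠ 0 := by rwa [Ne, map_eq_zero]
  have h1 := pow_card_units h
  rw [← map_pow, ← map_one (algebraMap F K)] at h1
  exact (algebraMap F K).injective h1

/-- The order of a diagonal element. -/
theorem Frame.pow_eq_one (Fr : Frame Q P e0 f0 u u' v v') {z : Gam Q} {c : F}
    (hz : IsSS Q (RingEquiv.refl F) c z.1) {a1 a2 a3 a4 a5 a6 : F}
    (z1 : z.1 e0 = a1 • e0) (z2 : z.1 f0 = a2 • f0) (z3 : z.1 u = a3 • u) (z4 : z.1 u' = a4 • u')
    (z5 : z.1 v = a5 • v) (z6 : z.1 v' = a6 • v')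
    (h1 : a1 ≠ 0) (h2 : a2 ≠ 0) (h3 : a3 ≠ 0) (h4 : a4 ≠ 0) (h5 : a5 ≠ 0) (h6 : a6 ≠ 0) {κ κ' : K}
    (hκ : κ ≠ 0) (hκ' : κ' ≠ 0) (z7 : ∀ k, z.1 (P.e k) = P.e (κ * k)) (z8 : ∀ k, z.1 (P.f k) = P.f (κ' * k)) :
    z ^ Nat.card Kˣ = 1 := by
  obtain ⟨d, hd⟩ := isSS_pow hz (Nat.card Kˣ)
  have key : ∀ {x : V} {a : F}, z.1 x = a • x → a ≠ 0 → (z ^ Nat.card Kˣ).1 x = x := by
    intro x a hx ha
    rw [smul_pow_apply hz hx, pow_card_units' (K := K) ha, one_smul]
  refine Fr.eq_one hd (key z1 h1) (key z2 h2) (key z3 h3) (key z4 h4) (key z5 h5) (key z6 h6) ?_ ?_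
  · intro k
    rw [pow_apply_e z7, pow_card_units hκ, one_mul]
  · intro k
    rw [pow_apply_f z8, pow_card_units hκ', one_mul]

/-- The classes of the similitudes. -/
theorem Frame.exists_class [FiniteDimensional F V] (Fr : Frame Q P e0 f0 u u' v v') (hG : Good Q)
    (hD : ∀ c : F, c ≠ 0 → ∃ D : Gam Q, Dil P e0 f0 u u' v v' D c) {M : Gam Q} (hM : sg hG M = 1) :
    ∃ (c : F) (D t : Gam Q), Dil P e0 f0 u u' v v' D c ∧ t ∈ TT Q v v' ∧ out Q (D * t) = out Q M := by
  have hob_ := M.2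
  obtain ⟨σ, c, hc⟩ := hob_
  have h1 := sg_eq hG hc
  rw [hM] at h1
  have h2 : σ = RingEquiv.refl F := h1.symm
  subst h2
  have hob_ := hD c hc.ne
  obtain ⟨D, hDc⟩ := hob_
  have h3 : IsSS Q (RingEquiv.refl F) 1 (D⁻¹ * M).1 :=
    isSS_congr (isSS_mul (isSS_inv hDc.ss) hc) (inv_mul_cancel₀ hc.ne)
  have hob_ := exists_ofO h3
  obtain ⟨g, hg⟩ := hob_
  have hR : out Q (ofO Q g) ∈ (TT Q v v').map (out Q) := by
    refine out_ofO_mem hG (fun w hw => ?_) g
    have hyp : Hyp Q v v' := Fr.hv.hy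
    have hn : Q (v + Q w • v') = Q w := by
      rw [Q_add, hyp.left, QuadraticMap.map_smul, hyp.right, polar_smul_right, hyp.pair]; simp
    have hn0 : Q (v + Q w • v') ≠ 0 := by rwa [hn]
    rw [out_rf_of_eq hG hw hn0 hn.symm]
    refine ⟨_, ⟨isSS_ofO _, fun x h h' => ?_⟩, rfl⟩
    show (rf (v + Q w • v') hn0).1 x = x
    simp only [rf_apply, refl_apply, polar_add_left, polar_smul_left, h, h', smul_zero, add_zero, mul_zero, zero_smul,
      sub_zero]
  obtain ⟨t, ht, hto⟩ := hR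
  refine ⟨c, D, t, hDc, ht, ?_⟩
  simp_rw [map_mul, hto, hg, ← map_mul, mul_inv_cancel_left]

/-- **the case of odd characteristic, or `x` inner** -/
theorem Frame.pick1 [Finite F] [Finite K] [FiniteDimensional F V] (Fr : Frame Q P e0 f0 u u' v v') (hG : Good Q)
    (hk : 2 ≤ Module.finrank F K) {x1 x2 y1 y2 : K} (t11 : Algebra.trace F K (x1 * y1) = 1)
    (t12 : Algebra.trace F K (x1 * y2) = 0) (t21 : Algebra.trace F K (x2 * y1) = 0)
    (t22 : Algebra.trace F K (x2 * y2) = 1)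
    (hD : ∀ c : F, c ≠ 0 → ∃ D : Gam Q, Dil P e0 f0 u u' v v' D c)
    (hΦ : ∀ σ : F ≃+* F, ∃ Φ : Gam Q, Fro P e0 f0 u u' v v' x1 x2 y1 y2 Φ σ) (x y : Gam Q) (hx : sg hG x = 1)
    (h2 : ringChar F = 2 → out Q x = 1) :
    ∃ x' y' : Gam Q, out Q x' = out Q x ∧ out Q y' = out Q y ∧ E Q ≤ HH (_root_.Subgroup.closure {x', y'}) := by
  have hob_ := IsCyclic.exists_generator (α := Kˣ)
  obtain ⟨g, hg⟩ := hob_
  have x10 : x1 ≠ 0 := by
    rintro rfl
    rw [zero_mul, map_zero] at t11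
    exact zero_ne_one t11
  have y10 : y1 ≠ 0 := by
    rintro rfl
    rw [mul_zero, map_zero] at t11
    exact zero_ne_one t11
  -- the second generator
  have hob_ := hΦ (sg hG y)
  obtain ⟨Φ, hΦ⟩ := hob_
  have hsgΦ : sg hG Φ = sg hG y := sg_eq hG hΦ.ss
  have hob_ := Fr.exists_class hG hD (M := y * Φ⁻¹)
    (by rw [map_mul, map_inv, hsgΦ, mul_inv_cancel])
  obtain ⟨c, D, t, hDc, ht, hout⟩ := hob_
  have hob_ : ((Ln t v v ∧ Ln t v' v') ∨ (Ln t v v' ∧ Ln t v' v)) ∧
      ∀ x, polar Q v x = 0 → polar Q v' x = 0 → Ln t x x :=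
    ⟨Fr.tt_lines t11 ht, fun x h h' => Ln.of_eq (ht.2 x h h')⟩
  obtain ⟨tl, tf⟩ := hob_
  have he0 := Fr.hu.hx
  have hu0 := Fr.hu.hy
  have hv0 := Fr.hv.hy
  set! R : Gam Q := rf (e0 + f0) (Q_hyp_ne he0) * rf (u + u') (Q_hyp_ne hu0) with hR
  have hRout : out Q R = 1 := by
    rw [hR, map_mul, out_rf_of_eq hG (Q_hyp_ne he0) (Q_hyp_ne hu0) (by rw [Q_hyp he0, Q_hyp hu0]), ← map_mul,
      rf_mul_self, map_one]
  set! W1 : Gam Q := NN Q e0 f0 (P.e x1) (P.f y1) with hW1
  set! W2 : Gam Q := NN Q v v' (P.e x2) (P.f y2) with hW2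
  have H1 : Hyp Q (P.e x1) (P.f y1) := ⟨P.Qe _, P.Qf _, by rw [P.polar_e_f, t11]⟩
  have H2 : Hyp Q (P.e x2) (P.f y2) := ⟨P.Qe _, P.Qf _, by rw [P.polar_e_f, t22]⟩
  have H01 : Hyp2 Q e0 f0 (P.e x1) (P.f y1) :=
    ⟨he0, H1, P.polar_e' Fr.pe _, P.polar_f' Fr.pe _, P.polar_e' Fr.pf _, P.polar_f' Fr.pf _⟩
  have Hv2 : Hyp2 Q v v' (P.e x2) (P.f y2) :=
    ⟨hv0, H2, P.polar_e' Fr.pv _, P.polar_f' Fr.pv _, P.polar_e' Fr.pv' _, P.polar_f' Fr.pv' _⟩
  have hob_ := Fr.hu.swap
  obtain ⟨s1, s2, s3, s4⟩ := hob_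
  have hob_ := Fr.hv.swap
  obtain ⟨w1, w2, w3, w4⟩ := hob_
  have hob_ := Fr.huv.swap
  obtain ⟨r1, r2, r3, r4⟩ := hob_
  have p12 : polar Q (P.e x1) (P.f y2) = 0 := by rw [P.polar_e_f, t12]
  have p21 : polar Q (P.e x2) (P.f y1) = 0 := by rw [P.polar_e_f, t21]
  have p12' : polar Q (P.f y2) (P.e x1) = 0 := by rw [polar_comm]; exact p12
  have p21' : polar Q (P.f y1) (P.e x2) = 0 := by rw [polar_comm]; exact p21
  -- lines
  have fD : ∀ {a : V} {b : F}, b ≠ 0 → D.1 a = b • a → Ln D a a := fun hb h => ⟨_, hb, h⟩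
  have c0 : c ≠ 0 := hDc.ss.ne
  have De := fD c0 hDc.e
  have Df : Ln D f0 f0 := Ln.of_eq hDc.f
  have Du : Ln D u u := Ln.of_eq hDc.u
  have Du' := fD c0 hDc.u'
  have Dv := fD c0 hDc.v
  have Dv' : Ln D v' v' := Ln.of_eq hDc.v'
  have DE : ∀ k, Ln D (P.e k) (P.e k) := fun k => fD c0 (hDc.E k)
  have DF : ∀ k, Ln D (P.f k) (P.f k) := fun k => Ln.of_eq (hDc.F k)
  set! y' : Gam Q := D * t * W1 * R * W2 * Φ with hy'
  have hyout : out Q y' = out Q y := by
    simp_rw [hy', map_mul (out Q) (D * t * W1 * R * W2) Φ, map_mul (out Q) (D * t * W1 * R) W2, map_mul (out Q) (D * t * W1) R, map_mul (out Q) (D * t) W1, hout, hRout, hW1, hW2, out_NN e0 f0 (P.e x1) (P.f y1), out_NN v v' (P.e x2) (P.f y2), mul_one ((out Q) (y * Φ⁻¹) * 1 * 1), mul_one ((out Q) (y * Φ⁻¹) * 1),       mul_one ((out Q) (y * Φ⁻¹)), ← map_mul, inv_mul_cancel_right y Φ]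
  have L1 : Ln y' e0 (P.f y1) := by
    refine Ln.mul ?_ (Ln.of_eq hΦ.e)
    refine Ln.mul ?_ (NN_fix Hv2 w1 w2 (P.polar_e Fr.pe _) (P.polar_f Fr.pe _))
    refine Ln.mul ?_ ((rf_l he0 _).mul (rf_fix _ s1 s2))
    refine Ln.mul ?_ (NN_x' H01)
    exact (DF _).mul (tf _ (P.polar_f' Fr.pv _) (P.polar_f' Fr.pv' _))
  have L2 : Ln y' (P.f y1) f0 := by
    refine Ln.mul ?_ (Ln.of_eq hΦ.y1)
    refine Ln.mul ?_ (NN_fix Hv2 (P.polar_f' Fr.pv _) (P.polar_f' Fr.pv' _) p21 (P.polar_f_f _ _))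
    refine Ln.mul ?_ ((rf_fix _ (P.polar_f' Fr.pe _) (P.polar_f' Fr.pf _)).mul
      (rf_fix _ (P.polar_f' Fr.pu _) (P.polar_f' Fr.pu' _)))
    refine Ln.mul ?_ (NN_y' H01)
    exact Df.mul (tf _ w3 w4)
  have L3 : Ln y' f0 (P.e x1) := by
    refine Ln.mul ?_ (Ln.of_eq hΦ.f)
    refine Ln.mul ?_ (NN_fix Hv2 w3 w4 (P.polar_e Fr.pf _) (P.polar_f Fr.pf _))
    refine Ln.mul ?_ ((rf_r he0 _).mul (rf_fix _ s3 s4))
    refine Ln.mul ?_ (NN_x H01)
    exact (DE _).mul (tf _ (P.polar_e' Fr.pv _) (P.polar_e' Fr.pv' _))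
  have L4 : Ln y' (P.e x1) e0 := by
    refine Ln.mul ?_ (Ln.of_eq hΦ.x1)
    refine Ln.mul ?_ (NN_fix Hv2 (P.polar_e' Fr.pv _) (P.polar_e' Fr.pv' _) (P.polar_e_e _ _) p12')
    refine Ln.mul ?_ ((rf_fix _ (P.polar_e' Fr.pe _) (P.polar_e' Fr.pf _)).mul
      (rf_fix _ (P.polar_e' Fr.pu _) (P.polar_e' Fr.pu' _)))
    refine Ln.mul ?_ (NN_y H01)
    exact De.mul (tf _ w1 w2)
  have L5 : Ln y' u u' := by
    refine Ln.mul ?_ (Ln.of_eq hΦ.u)
    refine Ln.mul ?_ (NN_fix Hv2 r1 r2 (P.polar_e Fr.pu _) (P.polar_f Fr.pu _))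
    refine Ln.mul ?_ ((rf_fix _ Fr.hu.xy' Fr.hu.x'y').mul (rf_l hu0 _))
    refine Ln.mul ?_ (NN_fix H01 Fr.hu.xy' Fr.hu.x'y' (P.polar_e Fr.pu' _) (P.polar_f Fr.pu' _))
    exact Du'.mul (tf _ r3 r4)
  have L6 : Ln y' u' u := by
    refine Ln.mul ?_ (Ln.of_eq hΦ.u')
    refine Ln.mul ?_ (NN_fix Hv2 r3 r4 (P.polar_e Fr.pu' _) (P.polar_f Fr.pu' _))
    refine Ln.mul ?_ ((rf_fix _ Fr.hu.xy Fr.hu.x'y).mul (rf_r hu0 _))
    refine Ln.mul ?_ (NN_fix H01 Fr.hu.xy Fr.hu.x'y (P.polar_e Fr.pu _) (P.polar_f Fr.pu _))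
    exact Du.mul (tf _ r1 r2)
  have M1 : Ln (W1 * R * W2 * Φ) (P.e x2) v := by
    refine Ln.mul ?_ (Ln.of_eq hΦ.x2)
    refine Ln.mul ?_ (NN_y Hv2)
    refine Ln.mul ?_ ((rf_fix _ Fr.hv.xy Fr.hv.x'y).mul (rf_fix _ Fr.huv.xy Fr.huv.x'y))
    exact NN_fix H01 Fr.hv.xy Fr.hv.x'y (P.polar_e Fr.pv _) (P.polar_f Fr.pv _)
  have M2 : Ln (W1 * R * W2 * Φ) (P.f y2) v' := by
    refine Ln.mul ?_ (Ln.of_eq hΦ.y2)
    refine Ln.mul ?_ (NN_y' Hv2)
    refine Ln.mul ?_ ((rf_fix _ Fr.hv.xy' Fr.hv.x'y').mul (rf_fix _ Fr.huv.xy' Fr.huv.x'y'))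
    exact NN_fix H01 Fr.hv.xy' Fr.hv.x'y' (P.polar_e Fr.pv' _) (P.polar_f Fr.pv' _)
  have ey' : y' = D * (t * (W1 * R * W2 * Φ)) := by rw [hy']; group
  have L7 : (Ln y' (P.e x2) v ∧ Ln y' (P.f y2) v') ∨ (Ln y' (P.e x2) v' ∧ Ln y' (P.f y2) v) := by
    rw [ey']
    rcases tl with ⟨h, h'⟩ | ⟨h, h'⟩
    · left
      exact ⟨Dv.mul (h.mul M1), Dv'.mul (h'.mul M2)⟩
    · right
      exact ⟨Dv'.mul (h.mul M1), Dv.mul (h'.mul M2)⟩
  -- the Singer element
  set! S : Gam Q := ofO Q ⟨P.S g, P.S_mem_O g⟩ with hS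
  have hSss : IsSS Q (RingEquiv.refl F) 1 S.1 := isSS_ofO _
  have hSp : ∀ {a : V}, P.Perp a → S.1 a = a := fun h => P.S_perp g h
  have hSe : ∀ k, S.1 (P.e k) = P.e (g * k) := P.S_e g
  have hSf : ∀ k, S.1 (P.f k) = P.f ((g⁻¹ : Kˣ) * k) := P.S_f g
  have hIrr : ∀ {b : F}, b ≠ 0 → Irr (algebraMap F K b * (g : K)) := fun hb => irr_mul hk hg hb
  have hIrr' : ∀ {b : F}, b ≠ 0 → Irr (algebraMap F K b * ((g⁻¹ : Kˣ) : K)) := fun hb => irr_mul hk (gen_inv hg) hb
  by_cases hp : ringChar F = 2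
  · -- `x` inner
    refine ⟨S * tt Q e0 u, y', ?_, hyout, ?_⟩
    · simp only [h2 hp, map_mul, out_tt, mul_one]
      have hKc : ringChar K = 2 := by rw [← Algebra.ringChar_eq F K]; exact hp
      obtain ⟨s, hs⟩ := FiniteField.isSquare_of_char_two hKc (g : K)
      have hs0 : s ≠ 0 := by
        rintro rfl
        rw [mul_zero] at hs
        exact g.ne_zero hs
      have hg2 : g = Units.mk0 s hs0 * Units.mk0 s hs0 := Units.ext (by simpa using hs)
      have h3 : P.S g ∈ E Q := by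
        rw [hg2, P.S_mul]
        exact sq_mem_E hG (P.S_mem_O _)
      exact out_ofO_of_mem h3
    · refine Fr.core1 hG x10 y10 hSss (a := 1) (b := 1) (d := 1) ?_ ?_ (mul_one _) ?_ hSe hSf ?_ ?_
        (m := Nat.card Kˣ) (coprime_card_units F K) ?_ L1 L2 L3 L4 L5 L6 L7
      · rw [one_smul]; exact hSp Fr.pe
      · rw [one_smul]; exact hSp Fr.pu
      · rw [one_smul]; exact hSp Fr.pu'
      · exact hIrr (mul_ne_zero one_ne_zero (inv_ne_zero one_ne_zero))
      · exact hIrr' (mul_ne_zero one_ne_zero (inv_ne_zero one_ne_zero))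
      · have h3 : (⟨P.S g, P.S_mem_O g⟩ : O Q) ^ Nat.card Kˣ = 1 := by
          apply Subtype.ext
          show P.S g ^ Nat.card Kˣ = 1
          rw [← P.S_pow, pow_card_eq_one', P.S_one]
        rw [hS, ← map_pow, h3, map_one]
  · -- odd characteristic
    have hob_ := Fr.exists_class hG hD (M := S⁻¹ * x)
      (by rw [map_mul, map_inv, hx, sg_ofO, inv_one, one_mul])
    obtain ⟨c, D, t, hDc, ht, hout⟩ := hob_
    have c0 : c ≠ 0 := hDc.ss.ne
    have tf : ∀ x, polar Q v x = 0 → polar Q v' x = 0 → t.1 x = x := ht.2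
    have tl := Fr.tt_lines t11 ht
    set! z : Gam Q := S * D * t with hz
    have hzapp : ∀ a, z.1 a = S.1 (D.1 (t.1 a)) := fun a => rfl
    have hSs : ∀ (a : F) (b : V), S.1 (a • b) = a • S.1 b := hSss.smul
    have hzss : IsSS Q (RingEquiv.refl F) c z.1 :=
      isSS_congr (isSS_mul (isSS_mul hSss hDc.ss) ht.1) (by rw [one_mul, mul_one])
    have ze : z.1 e0 = c • e0 := by rw [hzapp, tf _ w1 w2, hDc.e, hSs, hSp Fr.pe]
    have zf : z.1 f0 = (1 : F) • f0 := by rw [hzapp, tf _ w3 w4, hDc.f, hSp Fr.pf, one_smul]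
    have zu : z.1 u = (1 : F) • u := by rw [hzapp, tf _ r1 r2, hDc.u, hSp Fr.pu, one_smul]
    have zu' : z.1 u' = c • u' := by rw [hzapp, tf _ r3 r4, hDc.u', hSs, hSp Fr.pu']
    have zE : ∀ k, z.1 (P.e k) = P.e (algebraMap F K c * (g : K) * k) := by
      intro k
      rw [hzapp, tf _ (P.polar_e' Fr.pv _) (P.polar_e' Fr.pv' _), hDc.E, hSs, hSe, ← map_smul, Algebra.smul_def,
        mul_assoc]
    have zF : ∀ k, z.1 (P.f k) = P.f (((g⁻¹ : Kˣ) : K) * k) := by
      intro k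
      rw [hzapp, tf _ (P.polar_f' Fr.pv _) (P.polar_f' Fr.pv' _), hDc.F, hSf]
    have cK : algebraMap F K c ≠ 0 := by rwa [Ne, map_eq_zero]
    -- the square
    have hob_ : ∃ a : F, a ≠ 0 ∧ (z * z).1 v = a • v ∧ ∃ b : F, b ≠ 0 ∧ (z * z).1 v' = b • v' := by
      have Dv : Ln D v v := ⟨c, c0, hDc.v⟩
      have Dv' : Ln D v' v' := Ln.of_eq hDc.v'
      have Sv : Ln S v v := Ln.of_eq (hSp Fr.pv)
      have Sv' : Ln S v' v' := Ln.of_eq (hSp Fr.pv')
      have h3 : (Ln (z * z) v v ∧ Ln (z * z) v' v') := by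
        rcases tl with ⟨h, h'⟩ | ⟨h, h'⟩
        · have k1 : Ln z v v := (Sv.mul Dv).mul h
          have k2 : Ln z v' v' := (Sv'.mul Dv').mul h'
          exact ⟨k1.mul k1, k2.mul k2⟩
        · have k1 : Ln z v v' := (Sv'.mul Dv').mul h
          have k2 : Ln z v' v := (Sv.mul Dv).mul h'
          exact ⟨k2.mul k1, k1.mul k2⟩
      obtain ⟨⟨a, ha, hv⟩, ⟨b, hb, hv'⟩⟩ := h3
      exact ⟨a, ha, hv, b, hb, hv'⟩
    obtain ⟨a, ha, hzv, hzv'⟩ := hob_
    obtain ⟨b, hb, hzv'⟩ := hzv'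
    have zz : ∀ {w : V} {a : F}, z.1 w = a • w → (z * z).1 w = (a * a) • w := by
      intro w a h
      show z.1 (z.1 w) = _
      rw [h, hzss.smul, h, smul_smul]
      rfl
    have hzz : (z * z) ^ Nat.card Kˣ = 1 := by
      refine Fr.pow_eq_one (isSS_mul hzss hzss) (zz ze) (zz zf) (zz zu) (zz zu') hzv hzv' (mul_ne_zero c0 c0)
        (mul_ne_zero one_ne_zero one_ne_zero) (mul_ne_zero one_ne_zero one_ne_zero) (mul_ne_zero c0 c0) ha hb
        (κ := (algebraMap F K c * (g : K)) * (algebraMap F K c * (g : K)))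
        (κ' := ((g⁻¹ : Kˣ) : K) * ((g⁻¹ : Kˣ) : K)) ?_ ?_ ?_ ?_
      · exact mul_ne_zero (mul_ne_zero cK g.ne_zero) (mul_ne_zero cK g.ne_zero)
      · exact mul_ne_zero (Units.ne_zero _) (Units.ne_zero _)
      · intro k
        show z.1 (z.1 (P.e k)) = _
        rw [zE, zE, mul_assoc (algebraMap F K c * (g : K))]
      · intro k
        show z.1 (z.1 (P.f k)) = _
        rw [zF, zF, mul_assoc]
    refine ⟨z * tt Q e0 u, y', ?_, hyout, ?_⟩
    · simp_rw [map_mul (out Q) z (tt Q e0 u), out_tt e0 u, mul_one, hz, mul_assoc S D t, map_mul (out Q) S (D * t), hout, ← map_mul, mul_inv_cancel_left S x]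
    · refine Fr.core1 hG x10 y10 hzss ze zu (mul_one _) zu' zE zF ?_ ?_ (m := 2 * Nat.card Kˣ) ?_ ?_
        L1 L2 L3 L4 L5 L6 L7
      · rw [← mul_assoc, ← map_mul]
        exact hIrr (mul_ne_zero (mul_ne_zero c0 (inv_ne_zero c0)) c0)
      · exact hIrr' (mul_ne_zero c0 (inv_ne_zero c0))
      · refine Nat.Coprime.mul_left ?_ (coprime_card_units F K)
        have hpr : (ringChar F).Prime := CharP.char_is_prime F _
        exact (Nat.coprime_primes Nat.prime_two hpr).2 (Ne.symm hp)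
      · rw [pow_mul, pow_two, hzz]

/-- **`x` of the class of a reflection, characteristic 2** -/
theorem Frame.pick2 [Finite F] [Finite K] [FiniteDimensional F V] (Fr : Frame Q P e0 f0 u u' v v') (hG : Good Q)
    (hk : 2 ≤ Module.finrank F K) {x1 x2 y1 y2 : K} (t11 : Algebra.trace F K (x1 * y1) = 1)
    (hΦ : ∀ σ : F ≃+* F, ∃ Φ : Gam Q, Fro P e0 f0 u u' v v' x1 x2 y1 y2 Φ σ) (x y : Gam Q)
    (h2 : ringChar F = 2) (hx : out Q x = out Q (rf (v + v') (Q_hyp_ne Fr.hv.hy))) :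
    ∃ x' y' : Gam Q, out Q x' = out Q x ∧ out Q y' = out Q y ∧ E Q ≤ HH (_root_.Subgroup.closure {x', y'}) := by
  have hob_ := IsCyclic.exists_generator (α := Kˣ)
  obtain ⟨g, hg⟩ := hob_
  have x10 : x1 ≠ 0 := by
    rintro rfl
    rw [zero_mul, map_zero] at t11
    exact zero_ne_one t11
  have y10 : y1 ≠ 0 := by
    rintro rfl
    rw [mul_zero, map_zero] at t11
    exact zero_ne_one t11
  have he0 := Fr.hu.hx
  have hu0 := Fr.hu.hy
  have hv0 := Fr.hv.hy
  have hob_ := hΦ (sg hG y)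
  obtain ⟨Φ, hΦ⟩ := hob_
  have hsgΦ : sg hG Φ = sg hG y := sg_eq hG hΦ.ss
  have H1 : Hyp Q (P.e x1) (P.f y1) := ⟨P.Qe _, P.Qf _, by rw [P.polar_e_f, t11]⟩
  have H01 : Hyp2 Q e0 f0 (P.e x1) (P.f y1) :=
    ⟨he0, H1, P.polar_e' Fr.pe _, P.polar_f' Fr.pe _, P.polar_e' Fr.pf _, P.polar_f' Fr.pf _⟩
  have hob_ := Fr.hu.swap
  obtain ⟨s1, s2, s3, s4⟩ := hob_
  have hob_ := Fr.hv.swap
  obtain ⟨w1, w2, w3, w4⟩ := hob_
  have hob_ := Fr.huv.swap
  obtain ⟨r1, r2, r3, r4⟩ := hob_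
  have Hv0 : Hyp2 Q v v' e0 f0 := ⟨hv0, he0, w1, w3, w2, w4⟩
  set! W1 : Gam Q := NN Q e0 f0 (P.e x1) (P.f y1) with hW1
  set! W2 : Gam Q := NN Q v v' e0 f0 with hW2
  set y0 : Gam Q := rf (u + u') (Q_hyp_ne hu0) * W2 * W1 * Φ with hy0
  -- classes
  have hall : ∀ (w : V) (hw : Q w ≠ 0), out Q (rf w hw) = out Q (rf (v + v') (Q_hyp_ne hv0)) := by
    intro w hw
    have hob_ := FiniteField.isSquare_of_char_two h2 (Q w)
    obtain ⟨s, hs⟩ := hob_
    exact (out_rf_of_square hG (Q_hyp_ne hv0) hw (s := s) (by rw [hs, Q_hyp hv0, mul_one])).symm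
  have hone : IsSS Q (RingEquiv.refl F) 1 (1 : Gam Q).1 :=
    ⟨one_ne_zero, fun _ _ => rfl, fun _ _ => rfl, fun _ => by rw [one_mul]; rfl⟩
  have hyc : out Q (y * Φ⁻¹) = 1 ∨ out Q (y * Φ⁻¹) = out Q (rf (v + v') (Q_hyp_ne hv0)) := by
    have h3 : out Q (y * Φ⁻¹) ∈ D hG := by
      rw [out_mem_D, map_mul, map_inv, hsgΦ, mul_inv_cancel]
    have hob_ := D_cases hG (Q_hyp_ne hv0) hall (δ0 := 1) (c0 := 1) hone
      (fun c _ => Or.inl (FiniteField.isSquare_of_char_two h2 c)) h3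
    rcases hob_ with h | h | h | h
    · exact Or.inl h
    · exact Or.inr h
    · rw [map_one] at h
      exact Or.inl h
    · simp only [map_one, one_mul] at h
      exact Or.inr h
  have hy0out : out Q y0 = out Q (rf (v + v') (Q_hyp_ne hv0)) * out Q Φ := by
    simp only [hy0, map_mul, map_mul, map_mul, hW1, hW2, out_NN, out_NN, mul_one, mul_one, hall]
  -- lines
  have p1 : ∀ {a : V}, polar Q a e0 = 0 → polar Q e0 a = 0 := fun h => by rw [polar_comm]; exact h
  have L1 : Ln y0 e0 (P.e x1) := by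
    refine Ln.mul ?_ (Ln.of_eq hΦ.e)
    refine Ln.mul ?_ (NN_x H01)
    refine Ln.mul ?_ (NN_fix Hv0 (P.polar_e' Fr.pv _) (P.polar_e' Fr.pv' _) (P.polar_e' Fr.pe _)
      (P.polar_e' Fr.pf _))
    exact rf_fix _ (P.polar_e' Fr.pu _) (P.polar_e' Fr.pu' _)
  have L2 : Ln y0 (P.e x1) v := by
    refine Ln.mul ?_ (Ln.of_eq hΦ.x1)
    refine Ln.mul ?_ (NN_y H01)
    refine Ln.mul ?_ (NN_y Hv0)
    exact rf_fix _ Fr.huv.xy Fr.huv.x'y
  have L3 : Ln y0 v e0 := by
    refine Ln.mul ?_ (Ln.of_eq hΦ.v)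
    refine Ln.mul ?_ (NN_fix H01 Fr.hv.xy Fr.hv.x'y (P.polar_e Fr.pv _) (P.polar_f Fr.pv _))
    refine Ln.mul ?_ (NN_x Hv0)
    exact rf_fix _ s1 s2
  have L1' : Ln y0 f0 (P.f y1) := by
    refine Ln.mul ?_ (Ln.of_eq hΦ.f)
    refine Ln.mul ?_ (NN_x' H01)
    refine Ln.mul ?_ (NN_fix Hv0 (P.polar_f' Fr.pv _) (P.polar_f' Fr.pv' _) (P.polar_f' Fr.pe _)
      (P.polar_f' Fr.pf _))
    exact rf_fix _ (P.polar_f' Fr.pu _) (P.polar_f' Fr.pu' _)
  have L2' : Ln y0 (P.f y1) v' := by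
    refine Ln.mul ?_ (Ln.of_eq hΦ.y1)
    refine Ln.mul ?_ (NN_y' H01)
    refine Ln.mul ?_ (NN_y' Hv0)
    exact rf_fix _ Fr.huv.xy' Fr.huv.x'y'
  have L3' : Ln y0 v' f0 := by
    refine Ln.mul ?_ (Ln.of_eq hΦ.v')
    refine Ln.mul ?_ (NN_fix H01 Fr.hv.xy' Fr.hv.x'y' (P.polar_e Fr.pv' _) (P.polar_f Fr.pv' _))
    refine Ln.mul ?_ (NN_x' Hv0)
    exact rf_fix _ s3 s4
  have L5 : Ln y0 u u' := by
    refine Ln.mul ?_ (Ln.of_eq hΦ.u)
    refine Ln.mul ?_ (NN_fix H01 Fr.hu.xy Fr.hu.x'y (P.polar_e Fr.pu _) (P.polar_f Fr.pu _))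
    refine Ln.mul ?_ (NN_fix Hv0 r1 r2 Fr.hu.xy Fr.hu.x'y)
    exact rf_l hu0 _
  have L6 : Ln y0 u' u := by
    refine Ln.mul ?_ (Ln.of_eq hΦ.u')
    refine Ln.mul ?_ (NN_fix H01 Fr.hu.xy' Fr.hu.x'y' (P.polar_e Fr.pu' _) (P.polar_f Fr.pu' _))
    refine Ln.mul ?_ (NN_fix Hv0 r3 r4 Fr.hu.xy' Fr.hu.x'y')
    exact rf_r hu0 _
  -- the Singer element
  set! S : Gam Q := ofO Q ⟨P.S g, P.S_mem_O g⟩ with hS
  have hSss : IsSS Q (RingEquiv.refl F) 1 S.1 := isSS_ofO _
  have hSp : ∀ {a : V}, P.Perp a → S.1 a = a := fun h => P.S_perp g h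
  have hSe : ∀ k, S.1 (P.e k) = P.e (g * k) := P.S_e g
  have hSf : ∀ k, S.1 (P.f k) = P.f ((g⁻¹ : Kˣ) * k) := P.S_f g
  have hIrr : Irr (g : K) := by
    have h3 := irr_mul hk hg (b := (1 : F)) one_ne_zero
    rwa [map_one, one_mul] at h3
  have hIrr' : Irr (((g⁻¹ : Kˣ)) : K) := by
    have h3 := irr_mul hk (gen_inv hg) (b := (1 : F)) one_ne_zero
    rwa [map_one, one_mul] at h3
  have hg1 : (g : K) ≠ 1 := by
    intro h3
    have h4 : g = 1 := Units.ext h3
    have h5 : Nat.card Kˣ = 1 := by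
      rw [← orderOf_eq_card_of_forall_mem_zpowers hg, h4, orderOf_one]
    rw [Nat.card_units] at h5
    have h6 : Nat.card K = Nat.card F ^ Module.finrank F K := Module.natCard_eq_pow_finrank
    have h7 : 1 < Nat.card F := Finite.one_lt_card
    have h8 : 2 ^ 2 ≤ Nat.card F ^ Module.finrank F K :=
      (Nat.pow_le_pow_left h7 2).trans (Nat.pow_le_pow_right (by omega) hk)
    omega
  have hSN : S ^ Nat.card Kˣ = 1 := by
    have h3 : (⟨P.S g, P.S_mem_O g⟩ : O Q) ^ Nat.card Kˣ = 1 := by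
      apply Subtype.ext
      show P.S g ^ Nat.card Kˣ = 1
      rw [← P.S_pow, pow_card_eq_one', P.S_one]
    rw [hS, ← map_pow, h3, map_one]
  have hcop : (Nat.card Kˣ).Coprime 2 := by
    have h3 := coprime_card_units F K
    rwa [h2] at h3
  have hSE : out Q S = 1 := by
    have hKc : ringChar K = 2 := by rw [← Algebra.ringChar_eq F K]; exact h2
    obtain ⟨s, hs⟩ := FiniteField.isSquare_of_char_two hKc (g : K)
    have hs0 : s ≠ 0 := by
      rintro rfl
      rw [mul_zero] at hs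
      exact g.ne_zero hs
    have hg2 : g = Units.mk0 s hs0 * Units.mk0 s hs0 := Units.ext (by simpa using hs)
    have h3 : P.S g ∈ E Q := by
      rw [hg2, P.S_mul]
      exact sq_mem_E hG (P.S_mem_O _)
    exact out_ofO_of_mem h3
  have hcore := Fr.core2 hG h2 x10 y10 hSss (hSp Fr.pe) (hSp Fr.pf) (hSp Fr.pu) (hSp Fr.pu') (hSp Fr.pv)
    (hSp Fr.pv') hSe hSf hIrr hIrr' hg1 hcop hSN (Q_hyp_ne hv0) L1 L2 L3 L1' L2' L3' L5 L6
  set! x' : Gam Q := S * (rf (v + v') (Q_hyp_ne hv0) * tt Q e0 u) with hx'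
  rewrite [← hx'] at hcore
  have hx'out : out Q x' = out Q (rf (v + v') (Q_hyp_ne hv0)) := by
    simp only [hx', map_mul, map_mul, hSE, out_tt, mul_one, one_mul]
  have hρρ : out Q (rf (v + v') (Q_hyp_ne hv0)) * out Q (rf (v + v') (Q_hyp_ne hv0)) = 1 := by
    simp only [← map_mul, rf_mul_self, map_one]
  rcases hyc with h | h
  · -- `y` proper
    refine ⟨x', x' * y0, hx'out.trans hx.symm, ?_, ?_⟩
    · simp only [map_mul, hx'out, hy0out, ← mul_assoc, hρρ, one_mul]
      simp only [map_mul, map_inv, mul_inv_eq_one] at h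
      exact h.symm
    · refine hcore.trans (Subgroup.map_mono (Subgroup.comap_mono ?_))
      rw [closure_le]
      rintro a (ha | ha)
      · rw [ha]
        exact _root_.Subgroup.subset_closure (Or.inl rfl)
      · rw [Set.mem_singleton_iff] at ha
        rw [ha]
        have h3 : x' ∈ _root_.Subgroup.closure ({x', x' * y0} : Set (Gam Q)) := _root_.Subgroup.subset_closure (Or.inl rfl)
        have h4 : x' * y0 ∈ _root_.Subgroup.closure ({x', x' * y0} : Set (Gam Q)) := _root_.Subgroup.subset_closure (Or.inr rfl)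
        have h5 := mul_mem (inv_mem h3) h4
        rw [inv_mul_cancel_left] at h5
        exact h5
  · refine ⟨x', y0, hx'out.trans hx.symm, ?_, hcore⟩
    simp only [hy0out, ← h, ← map_mul, inv_mul_cancel_right]

/-- **the choice** -/
theorem Frame.pick [Finite F] [Finite K] [FiniteDimensional F V] (Fr : Frame Q P e0 f0 u u' v v') (hG : Good Q)
    (hk : 2 ≤ Module.finrank F K) {x1 x2 y1 y2 : K} (t11 : Algebra.trace F K (x1 * y1) = 1)
    (t12 : Algebra.trace F K (x1 * y2) = 0) (t21 : Algebra.trace F K (x2 * y1) = 0)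
    (t22 : Algebra.trace F K (x2 * y2) = 1)
    (hD : ∀ c : F, c ≠ 0 → ∃ D : Gam Q, Dil P e0 f0 u u' v v' D c)
    (hΦ : ∀ σ : F ≃+* F, ∃ Φ : Gam Q, Fro P e0 f0 u u' v v' x1 x2 y1 y2 Φ σ) (x y : Gam Q)
    (hx : sg hG x = 1) :
    ∃ x' y' : Gam Q, out Q x' = out Q x ∧ out Q y' = out Q y ∧ E Q ≤ HH (_root_.Subgroup.closure {x', y'}) := by
  by_cases h2 : ringChar F = 2
  · have hv0 := Fr.hv.hy
    have hall : ∀ (w : V) (hw : Q w ≠ 0), out Q (rf w hw) = out Q (rf (v + v') (Q_hyp_ne hv0)) := by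
      intro w hw
      have hob_ := FiniteField.isSquare_of_char_two h2 (Q w)
      obtain ⟨s, hs⟩ := hob_
      exact (out_rf_of_square hG (Q_hyp_ne hv0) hw (s := s) (by rw [hs, Q_hyp hv0, mul_one])).symm
    have hone : IsSS Q (RingEquiv.refl F) 1 (1 : Gam Q).1 :=
      ⟨one_ne_zero, fun _ _ => rfl, fun _ _ => rfl, fun _ => by rw [one_mul]; rfl⟩
    have hxc : out Q x = 1 ∨ out Q x = out Q (rf (v + v') (Q_hyp_ne hv0)) := by
      have hob_ := D_cases hG (Q_hyp_ne hv0) hall (δ0 := 1) (c0 := 1) hone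
        (fun c _ => Or.inl (FiniteField.isSquare_of_char_two h2 c)) (out_mem_D.2 hx)
      rcases hob_ with h | h | h | h
      · exact Or.inl h
      · exact Or.inr h
      · rw [map_one] at h
        exact Or.inl h
      · simp only [map_one, one_mul] at h
        exact Or.inr h
    rcases hxc with h | h
    · exact Fr.pick1 hG hk t11 t12 t21 t22 hD hΦ x y hx fun _ => h
    · exact Fr.pick2 hG hk t11 hΦ x y h2 h
  · exact Fr.pick1 hG hk t11 t12 t21 t22 hD hΦ x y hx fun h => absurd h h2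

end

end Cfsg.Agent.H989.DG
end

-- part: H989/DG/Plus
section
/-!
# `Cos2` for the orthogonal groups of plus type, rank at least 5 (helper989, TEAM GEN, S4180)
-/

set_option autoImplicit false
set_option linter.unusedSectionVars false

namespace Cfsg.Agent.H989.DG

open QuadraticMap Cfsg.Agent.LieClassical.OrthCore Cfsg.Agent.LieClassical.OrthTrans
  Cfsg.Agent.LieClassical.OrthSimple Cfsg.Agent.ClassicalGeometry.OrthAutBasic
  Cfsg.Agent.ClassicalGeometry.OrthSemi Cfsg.Agent.ClassicalGeometry.OrthAut1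
  Cfsg.Agent.ClassicalGeometry.OrthSemiForms Cfsg.Agent.LieClassical.OrthForms
  Cfsg.Agent.H887.SiegelMethod Cfsg.Agent.H137 Cfsg.Agent.H989.OutOrth.Basic
  Cfsg.Agent.H989.OutOrth.Forms Cfsg.Agent.H989.OutOrth.Plus Subgroup Cfsg.Agent.H891.DG

section model

variable {F : Type*} [Field F] {m : ℕ}

theorem polar_inl (i : Fin m) (v : Fin m ⊕ Fin m → F) :
    polar (plusForm m F) (Pi.single (Sum.inl i) 1) v = v (Sum.inr i) := by
  rw [polar_plusForm, Finset.sum_eq_single i]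
  · simp
  · intro j _ hj
    simp [hj]
  · simp only [_root_.Finset.mem_univ, _root_.not_true_eq_false, _root_.Pi.single_eq_same, _root_.one_mul, _root_.ne_eq, _root_.reduceCtorEq, _root_.not_false_eq_true, _root_.Pi.single_eq_of_ne, _root_.MulZeroClass.mul_zero, _root_.add_zero, _root_.IsEmpty.forall_iff]

theorem polar_inr (i : Fin m) (v : Fin m ⊕ Fin m → F) :
    polar (plusForm m F) (Pi.single (Sum.inr i) 1) v = v (Sum.inl i) := by
  rw [polar_plusForm, Finset.sum_eq_single i]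
  · simp
  · intro j _ hj
    simp [hj]
  · simp only [_root_.Finset.mem_univ, _root_.not_true_eq_false, _root_.ne_eq, _root_.reduceCtorEq, _root_.not_false_eq_true, _root_.Pi.single_eq_of_ne, _root_.MulZeroClass.zero_mul, _root_.Pi.single_eq_same, _root_.mul_one, _root_.zero_add, _root_.IsEmpty.forall_iff]

theorem q_inl (i : Fin m) : plusForm m F (Pi.single (Sum.inl i) 1) = 0 := by
  rw [coe_plusForm, quadFormPlus_apply]
  simp only [_root_.ne_eq, _root_.reduceCtorEq, _root_.not_false_eq_true, _root_.Pi.single_eq_of_ne, _root_.MulZeroClass.mul_zero, _root_.Finset.sum_const_zero]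

theorem q_inr (i : Fin m) : plusForm m F (Pi.single (Sum.inr i) 1) = 0 := by
  rw [coe_plusForm, quadFormPlus_apply]
  simp only [_root_.ne_eq, _root_.reduceCtorEq, _root_.not_false_eq_true, _root_.Pi.single_eq_of_ne, _root_.MulZeroClass.zero_mul, _root_.Finset.sum_const_zero]

theorem hyp_lr (i : Fin m) : Hyp (plusForm m F) (Pi.single (Sum.inl i) 1) (Pi.single (Sum.inr i) 1) :=
  ⟨q_inl i, q_inr i, by rw [polar_inl]; simp⟩

theorem hyp_rl (i : Fin m) : Hyp (plusForm m F) (Pi.single (Sum.inr i) 1) (Pi.single (Sum.inl i) 1) :=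
  ⟨q_inr i, q_inl i, by rw [polar_inr]; simp⟩

theorem p_ll (i j : Fin m) :
    polar (plusForm m F) (Pi.single (Sum.inl i) 1) (Pi.single (Sum.inl j) 1) = 0 := by
  rw [polar_inl]; simp

theorem p_rr (i j : Fin m) :
    polar (plusForm m F) (Pi.single (Sum.inr i) 1) (Pi.single (Sum.inr j) 1) = 0 := by
  rw [polar_inr]; simp

theorem p_lr {i j : Fin m} (h : i ≠ j) :
    polar (plusForm m F) (Pi.single (Sum.inl i) 1) (Pi.single (Sum.inr j) 1) = 0 := by
  rw [polar_inl]; simp [h]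

theorem p_rl {i j : Fin m} (h : i ≠ j) :
    polar (plusForm m F) (Pi.single (Sum.inr i) 1) (Pi.single (Sum.inl j) 1) = 0 := by
  rw [polar_inr]; simp [h]

theorem dil_l (c : Fˣ) (i : Fin m) :
    (dil m c).1 (Pi.single (Sum.inl i) 1) = (c : F) • (Pi.single (Sum.inl i) 1 : Fin m ⊕ Fin m → F) := by
  funext j
  rcases j with j | j
  · rfl
  · show (Pi.single (Sum.inl i) 1 : Fin m ⊕ Fin m → F) (Sum.inr j) = (c : F) • (Pi.single (Sum.inl i) 1 : Fin m ⊕ Fin m → F) (Sum.inr j)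
    simp

theorem dil_r (c : Fˣ) (i : Fin m) :
    (dil m c).1 (Pi.single (Sum.inr i) 1) = (Pi.single (Sum.inr i) 1 : Fin m ⊕ Fin m → F) := by
  funext j
  rcases j with j | j
  · show (c : F) * (Pi.single (Sum.inr i) 1 : Fin m ⊕ Fin m → F) (Sum.inl j) = (Pi.single (Sum.inr i) 1 : Fin m ⊕ Fin m → F) (Sum.inl j)
    simp
  · rfl

theorem Fi_single (σ : RingAut F) (i : Fin m ⊕ Fin m) :
    (Fi m σ).1 (Pi.single i 1) = (Pi.single i 1 : Fin m ⊕ Fin m → F) := by
  funext j
  show σ ((Pi.single i 1 : Fin m ⊕ Fin m → F) j) = (Pi.single i 1 : Fin m ⊕ Fin m → F) j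
  by_cases h : j = i
  · subst h; simp
  · simp [h]

end model

/-- `Cos2` for the orthogonal groups of plus type -/
theorem cos2_plusForm {F : Type} [Field F] [Fintype F] (k : ℕ) (hk : 2 ≤ k) : Cos2 (P (plusForm (k + 3) F)) := by
  have hG : Good (plusForm (k + 3) F) := good_plus (by omega)
  have hsurj : Function.Surjective (Psi (plusForm (k + 3) F)) :=
    Cfsg.Agent.AutOrth.Final.surjective_plus (F := F) (by omega)
  refine cos2_of_gam hG hsurj fun x y hx => ?_
  have hob_ := exists_ext F k (by omega)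
  obtain ⟨K, _, _, _, hK⟩ := hob_
  have : FiniteDimensional F K := Module.finite_of_finrank_pos (by omega)
  have : Algebra.IsSeparable F K := inferInstance
  have hob_ : Nonempty (Module.Basis (Fin k) F K) := ⟨(Module.finBasis F K).reindex (finCongr hK)⟩
  obtain ⟨b⟩ := hob_
  have hfam : HypFam (plusForm (k + 3) F) (fun i : Fin k => Pi.single (Sum.inl i.succ.succ.succ) 1)
      (fun i : Fin k => Pi.single (Sum.inr i.succ.succ.succ) 1) := by
    refine ⟨fun i => q_inl _, fun i => q_inr _, fun i j => p_ll _ _, fun i j => p_rr _ _, fun i j => ?_⟩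
    rw [polar_inl]
    simp [Pi.single_apply]
  have hob_ : ∃ P, P = mkPair b hfam := ⟨_, rfl⟩
  obtain ⟨P, hP⟩ := hob_
  have hpe : ∀ v, P.Perp v ↔
      (∀ i : Fin k, polar (plusForm (k + 3) F) (Pi.single (Sum.inl i.succ.succ.succ) 1) v = 0) ∧
      ∀ i : Fin k, polar (plusForm (k + 3) F) (Pi.single (Sum.inr i.succ.succ.succ) 1) v = 0 := by
    rw [hP]
    exact fun v => perp_mkPair b hfam v
  have hPe : ∀ i, P.e (b i) = Pi.single (Sum.inl i.succ.succ.succ) 1 := by
    intro i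
    rw [hP]
    exact b.constr_basis F _ i
  have hPf : ∀ i, P.f (b.traceDual i) = Pi.single (Sum.inr i.succ.succ.succ) 1 := by
    intro i
    rw [hP]
    exact b.traceDual.constr_basis F _ i
  -- the indices
  have hob_ : ∃ i : Fin (k + 3), i = 0 := ⟨_, rfl⟩
  obtain ⟨i0, hi0⟩ := hob_
  have hob_ : ∃ i : Fin (k + 3), i = Fin.succ 0 := ⟨_, rfl⟩
  obtain ⟨i1, hi1⟩ := hob_
  have hob_ : ∃ i : Fin (k + 3), i = Fin.succ (Fin.succ 0) := ⟨_, rfl⟩
  obtain ⟨i2, hi2⟩ := hob_
  have n01 : i0 ≠ i1 := by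
    rw [hi0, hi1]; exact (Fin.succ_ne_zero _).symm
  have n02 : i0 ≠ i2 := by
    rw [hi0, hi2]; exact (Fin.succ_ne_zero _).symm
  have n12 : i1 ≠ i2 := by
    rw [hi1, hi2]
    intro h
    exact (Fin.succ_ne_zero _).symm (Fin.succ_injective _ h)
  have m0 : ∀ j : Fin k, i0 ≠ j.succ.succ.succ := fun j => by
    rw [hi0]; exact (Fin.succ_ne_zero _).symm
  have m1 : ∀ j : Fin k, i1 ≠ j.succ.succ.succ := fun j => by
    rw [hi1]
    intro h
    exact (Fin.succ_ne_zero _).symm (Fin.succ_injective _ h)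
  have m2 : ∀ j : Fin k, i2 ≠ j.succ.succ.succ := fun j => by
    rw [hi2]
    intro h
    exact (Fin.succ_ne_zero _).symm (Fin.succ_injective _ (Fin.succ_injective _ h))
  have hcase : ∀ (C : Fin (k + 3) → Prop), C i0 → C i1 → C i2 → (∀ j : Fin k, C j.succ.succ.succ) → ∀ j, C j := by
    intro C c0 c1 c2 c3 j
    rw [hi0] at c0
    rw [hi1] at c1
    rw [hi2] at c2
    exact Fin.cases c0 (fun j => Fin.cases c1 (fun j => Fin.cases c2 c3 j) j) j
  have pl : ∀ i : Fin (k + 3), (∀ j : Fin k, i ≠ j.succ.succ.succ) → P.Perp (Pi.single (Sum.inl i) 1) := by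
    intro i hi
    rw [hpe]
    exact ⟨fun j => p_ll _ _, fun j => p_rl (hi j).symm⟩
  have pr : ∀ i : Fin (k + 3), (∀ j : Fin k, i ≠ j.succ.succ.succ) → P.Perp (Pi.single (Sum.inr i) 1) := by
    intro i hi
    rw [hpe]
    exact ⟨fun j => p_lr (hi j).symm, fun j => p_rr _ _⟩
  have Fr : Frame (plusForm (k + 3) F) P (Pi.single (Sum.inl i0) 1) (Pi.single (Sum.inr i0) 1)
      (Pi.single (Sum.inr i1) 1) (Pi.single (Sum.inl i1) 1) (Pi.single (Sum.inl i2) 1)
      (Pi.single (Sum.inr i2) 1) := by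
    refine ⟨⟨hyp_lr _, hyp_rl _, p_lr n01, p_ll _ _, p_rr _ _, p_rl n01⟩,
      ⟨hyp_lr _, hyp_lr _, p_ll _ _, p_lr n02, p_rl n02, p_rr _ _⟩,
      ⟨hyp_rl _, hyp_lr _, p_rl n12, p_rr _ _, p_ll _ _, p_lr n12⟩,
      pl _ m0, pr _ m0, pr _ m1, pl _ m1, pl _ m2, pr _ m2, ?_⟩
    intro x hx
    rw [hpe] at hx
    obtain ⟨h1, h2⟩ := hx
    simp only [polar_inl, polar_inr] at h1 h2 ⊢
    funext j
    rcases j with j | j
    · revert j
      refine hcase _ ?_ ?_ ?_ ?_
      · simp [n01, n02]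
      · simp [n01.symm, n12]
      · simp [n02.symm, n12.symm]
      · intro j
        simp [h2 j, (m0 j).symm, (m1 j).symm, (m2 j).symm]
    · revert j
      refine hcase _ ?_ ?_ ?_ ?_
      · simp [n01, n02]
      · simp [n01.symm, n12]
      · simp [n02.symm, n12.symm]
      · intro j
        simp [h1 j, (m0 j).symm, (m1 j).symm, (m2 j).symm]
  have hPe0 : ∀ (z : K) (j : Fin (k + 3)), P.e z (Sum.inr j) = 0 := by
    intro z j
    rw [← polar_inl j (P.e z)]
    refine hcase (fun j => polar (plusForm (k + 3) F) (Pi.single (Sum.inl j) 1) (P.e z) = 0) ?_ ?_ ?_ ?_ j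
    · exact P.polar_e' Fr.pe z
    · exact P.polar_e' Fr.pu' z
    · exact P.polar_e' Fr.pv z
    · intro i
      rw [← hPe]
      exact P.polar_e_e _ _
  have hPf0 : ∀ (z : K) (j : Fin (k + 3)), P.f z (Sum.inl j) = 0 := by
    intro z j
    rw [← polar_inr j (P.f z)]
    refine hcase (fun j => polar (plusForm (k + 3) F) (Pi.single (Sum.inr j) 1) (P.f z) = 0) ?_ ?_ ?_ ?_ j
    · exact P.polar_f' Fr.pf z
    · exact P.polar_f' Fr.pu z
    · exact P.polar_f' Fr.pv' z
    · intro i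
      rw [← hPf]
      exact P.polar_f_f _ _
  have h01 : (⟨0, by omega⟩ : Fin k) ≠ ⟨1, by omega⟩ := by
    intro h; simp [Fin.ext_iff] at h
  refine Fr.pick hG (by rw [hK]; exact hk) (x1 := b ⟨0, by omega⟩) (x2 := b ⟨1, by omega⟩)
    (y1 := b.traceDual ⟨0, by omega⟩) (y2 := b.traceDual ⟨1, by omega⟩) ?_ ?_ ?_ ?_ ?_ ?_ x y hx
  · rw [b.trace_mul_traceDual, if_pos rfl]
  · rw [b.trace_mul_traceDual, if_neg h01]
  · rw [b.trace_mul_traceDual, if_neg h01.symm]
  · rw [b.trace_mul_traceDual, if_pos rfl]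
  · intro c hc
    refine ⟨dil (k + 3) (Units.mk0 c hc), isSS_dilP (Units.mk0 c hc), dil_l _ _, dil_r _ _, dil_r _ _, dil_l _ _,
      dil_l _ _, dil_r _ _, ?_, ?_⟩
    · intro z
      funext j
      rcases j with j | j
      · rfl
      · show P.e z (Sum.inr j) = c • P.e z (Sum.inr j)
        rw [hPe0, smul_zero]
    · intro z
      funext j
      rcases j with j | j
      · show c * P.f z (Sum.inl j) = P.f z (Sum.inl j)
        rw [hPf0, mul_zero]
      · rfl
  · intro σ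
    refine ⟨Fi (k + 3) σ, isSS_cw_plus (k + 3) σ, Fi_single _ _, Fi_single _ _, Fi_single _ _, Fi_single _ _,
      Fi_single _ _, Fi_single _ _, ?_, ?_, ?_, ?_⟩
    · rw [hPe]; exact Fi_single _ _
    · rw [hPe]; exact Fi_single _ _
    · rw [hPf]; exact Fi_single _ _
    · rw [hPf]; exact Fi_single _ _

universe u

/-- **C10**: `Cos2` for `POmega⁺_{2m}(q)`, `m ≥ 5`. -/
theorem cos2_plus {T : Type u} [Group T] (F : Type) [Field F] [Fintype F] (m : ℕ) (hm : 5 ≤ m)
    (h : Nonempty (T ≃* Cfsg.POmega F (Cfsg.quadFormPlus m F))) : Cos2 T := by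
  obtain ⟨e⟩ := h
  obtain ⟨k, rfl⟩ : ∃ k, m = k + 3 := ⟨m - 3, by omega⟩
  have hG : Good (plusForm (k + 3) F) := good_plus (by omega)
  rw [← coe_plusForm] at e
  exact Cfsg.Agent.H984.DG.cos2_congr (e.trans (pomegaEquiv hG)) (cos2_plusForm k (by omega))

/-- The row `plus`, given the rank 4 groups. -/
theorem cos2_plus_row (h4 : ∀ (T : Type u) [Group T] [Finite T] [IsSimpleGroup T] (F : Type) [Field F] [Fintype F],
      Nonempty (T ≃* Cfsg.POmega F (Cfsg.quadFormPlus 4 F)) → Cos2 T) (T : Type u) [Group T] [Finite T]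
    [IsSimpleGroup T] (h : Cfsg.IsPOmegaPlus T) : Cos2 T := by
  obtain ⟨F, _, _, m, hm, e⟩ := h
  rcases Nat.lt_or_ge 4 m with h5 | h5
  · exact cos2_plus F m h5 e
  · obtain rfl : m = 4 := by omega
    exact h4 T F e

end Cfsg.Agent.H989.DG
end

-- part: H48/DG/Six
section
/-!
# TEAM GEN, S4180: the closure argument for the odd orthogonal groups (helper48, after helper989's proof)

`H` is normalised by a semisimilitude `X` acting on `e K`, `f K` by multiplication with a generator and fixing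
`e0`, `f0`, and by `Y` permuting the lines `e0 → η → e1 → f0 → η' → f1 → e0`; it contains a Siegel element
`T e0 d`. Then `E Q ≤ H`.
-/

set_option autoImplicit false

namespace Cfsg.Agent.H48.DG

open QuadraticMap Cfsg.Agent.LieClassical.OrthCore Cfsg.Agent.LieClassical.OrthTrans
  Cfsg.Agent.LieClassical.OrthSimple Cfsg.Agent.ClassicalGeometry.OrthAutBasic
  Cfsg.Agent.ClassicalGeometry.OrthSemi Cfsg.Agent.ClassicalGeometry.OrthAut1
  Cfsg.Agent.H887.SiegelMethod Cfsg.Agent.H137 Cfsg.Agent.H989.OutOrth.Basic Cfsg.Agent.H989.DG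

/-- a generator of the multiplicative group generates the field -/
theorem irr_of_gen {K : Type*} [Field K] [Finite K] {g : Kˣ} (hg : ∀ c : Kˣ, c ∈ Subgroup.zpowers g) :
    Irr (g : K) := by
  intro Y hY y hy hy0 z
  by_cases hz : z = 0
  · rw [hz]; exact Y.zero_mem
  have h1 : Units.mk0 (z / y) (div_ne_zero hz hy0) ∈ Submonoid.powers g :=
    mem_powers_iff_mem_zpowers.2 (hg _)
  obtain ⟨n, hn⟩ := h1
  have h2 : (g : K) ^ n = z / y := by
    have := congrArg Units.val hn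
    simpa using this
  have h3 : ∀ n : ℕ, (g : K) ^ n * y ∈ Y := by
    intro n
    induction n with
    | zero => simpa using hy
    | succ n ih =>
      rw [pow_succ', mul_assoc]
      exact hY _ ih
  have h4 := h3 n
  rwa [h2, div_mul_cancel₀ _ hy0] at h4

theorem irr_of_gen_inv {K : Type*} [Field K] [Finite K] {g : Kˣ} (hg : ∀ c : Kˣ, c ∈ Subgroup.zpowers g) :
    Irr ((g⁻¹ : Kˣ) : K) :=
  irr_of_gen fun c => by rw [Subgroup.zpowers_inv]; exact hg c

variable {F V : Type*} [Field F] [AddCommGroup V] [Module F V] {Q : QuadraticForm F V}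
  {H : Subgroup (V ≃ₗ[F] V)}

/-- **The closure.** -/
theorem E_le_six (hG : Good Q) {K : Type*} [Field K] [Finite K] [Algebra F K] (P : SPair Q K)
    {e0 f0 η η' d : V} (h0 : Hyp Q e0 f0) (h1 : Hyp Q η η')
    (he0 : P.Perp e0) (hf0 : P.Perp f0) (hη : P.Perp η) (hη' : P.Perp η') (hd : P.Perp d)
    (e0η : polar Q e0 η = 0) (e0η' : polar Q e0 η' = 0) (f0η : polar Q f0 η = 0) (f0η' : polar Q f0 η' = 0)
    (hde : polar Q e0 d = 0) (hdf : polar Q f0 d = 0) (hdη : polar Q η d = 0) (hdη' : polar Q η' d = 0)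
    (hdd : polar Q d d ≠ 0)
    (hspan : ∀ v, P.Perp v → polar Q e0 v = 0 → polar Q f0 v = 0 → polar Q η v = 0 → polar Q η' v = 0 →
      v ∈ Submodule.span F {d})
    {x1 y1 : K} (hxy : Algebra.trace F K (x1 * y1) ≠ 0)
    {g : Kˣ} (hg : ∀ c : Kˣ, c ∈ Subgroup.zpowers g)
    {X : Gam Q} (hX : Nm H X) (hXs : IsSS Q (RingEquiv.refl F) 1 X.1)
    (hXe : ∀ z, X.1 (P.e z) = P.e (g * z)) (hXf : ∀ z, X.1 (P.f z) = P.f ((g⁻¹ : Kˣ) * z))
    (hXe0 : X.1 e0 = e0) (hXf0 : X.1 f0 = f0)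
    {Y : Gam Q} (hY : Nm H Y) {a0 a1 a2 a3 a4 a5 a6 : F} (ha0 : a0 ≠ 0) (ha1 : a1 ≠ 0) (ha2 : a2 ≠ 0)
    (ha3 : a3 ≠ 0) (ha4 : a4 ≠ 0) (ha5 : a5 ≠ 0) (ha6 : a6 ≠ 0)
    (hY0 : Y.1 e0 = a0 • η) (hY1 : Y.1 η = a1 • P.e x1) (hY2 : Y.1 (P.e x1) = a2 • f0)
    (hY3 : Y.1 f0 = a3 • η') (hY4 : Y.1 η' = a4 • P.f y1) (hY5 : Y.1 (P.f y1) = a5 • e0)
    (hY6 : Y.1 d = a6 • d) (hT : Sg Q H e0 d) : E Q ≤ H := by
  set e1 := P.e x1 with he1
  set f1 := P.f y1 with hf1
  have x10 : x1 ≠ 0 := by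
    intro h
    rw [h, zero_mul, map_zero] at hxy
    exact hxy rfl
  have y10 : y1 ≠ 0 := by
    intro h
    rw [h, mul_zero, map_zero] at hxy
    exact hxy rfl
  have q1 : Q e1 = 0 := P.Qe _
  have q2 : Q f1 = 0 := P.Qf _
  have q3 : Q e0 = 0 := h0.left
  have q4 : Q f0 = 0 := h0.right
  have q5 : Q η = 0 := h1.left
  have q6 : Q η' = 0 := h1.right
  -- Siegel elements at `d`
  have s0 : Sg Q H e0 d := hT
  have s1 : Sg Q H η d := s0.shift hY ha0 ha6 hY0 hY6
  have s2 : Sg Q H e1 d := s1.shift hY ha1 ha6 hY1 hY6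
  have s3 : Sg Q H f0 d := s2.shift hY ha2 ha6 hY2 hY6
  have s4 : Sg Q H η' d := s3.shift hY ha3 ha6 hY3 hY6
  have s5 : Sg Q H f1 d := s4.shift hY ha4 ha6 hY4 hY6
  -- root elements
  have p1 : polar Q e1 e0 = 0 := P.polar_e he0 _
  have p2 : polar Q f1 e0 = 0 := P.polar_f he0 _
  have p3 : polar Q e1 f0 = 0 := P.polar_e hf0 _
  have p4 : polar Q f1 f0 = 0 := P.polar_f hf0 _
  have p5 : polar Q e1 d = 0 := P.polar_e hd _
  have p6 : polar Q f1 d = 0 := P.polar_f hd _
  have r1 : Sg Q H e0 e1 := comm_sg p1 hde p5 s2 s0 hdd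
  have r2 : Sg Q H e0 f1 := comm_sg p2 hde p6 s5 s0 hdd
  have r3 : Sg Q H f0 e1 := comm_sg p3 hdf p5 s2 s3 hdd
  have r4 : Sg Q H f0 f1 := comm_sg p4 hdf p6 s5 s3 hdd
  -- the families
  have hi : Irr (algebraMap F K (1 * (1 : F)⁻¹) * (g : K)) := by
    rw [inv_one, mul_one, map_one, one_mul]
    exact irr_of_gen hg
  have hi' : Irr (algebraMap F K (1 * (1 : F)⁻¹) * ((g⁻¹ : Kˣ) : K)) := by
    rw [inv_one, mul_one, map_one, one_mul]
    exact irr_of_gen_inv hg
  have hXe0' : X.1 e0 = (1 : F) • e0 := by rw [one_smul, hXe0]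
  have hXf0' : X.1 f0 = (1 : F) • f0 := by rw [one_smul, hXf0]
  have t1 : ∀ z, P.e z ∈ Ts Q H e0 := famE_of hX hXs hXe q3 he0 hXe0' hi _ x10 r1
  have t2 : ∀ z, P.f z ∈ Ts Q H e0 := famF_of hX hXs hXf q3 he0 hXe0' hi' _ y10 r2
  have t3 : ∀ z, P.e z ∈ Ts Q H f0 := famE_of hX hXs hXe q4 hf0 hXf0' hi _ x10 r3
  have t4 : ∀ z, P.f z ∈ Ts Q H f0 := famF_of hX hXs hXf q4 hf0 hXf0' hi' _ y10 r4
  -- `η`, `η'`
  have u1 : η ∈ Ts Q H f0 := (mem_Ts_comm q5 q4).1 (Ts_shift hY q3 q5 (t1 x1) ha0 ha2 hY0 hY2)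
  have u2 : η ∈ Ts Q H e0 := (mem_Ts_comm q5 q3).1 (Ts_shift hY q3 q5 (t2 y1) ha0 ha5 hY0 hY5)
  have u3 : η' ∈ Ts Q H f0 := (mem_Ts_comm q6 q4).1 (Ts_shift hY q4 q6 (t3 x1) ha3 ha2 hY3 hY2)
  have u4 : η' ∈ Ts Q H e0 := (mem_Ts_comm q6 q3).1 (Ts_shift hY q4 q6 (t4 y1) ha3 ha5 hY3 hY5)
  -- `d`
  obtain ⟨s, hs, hTd⟩ := s2.mem
  have pxy : polar Q e1 f1 ≠ 0 := by rw [he1, hf1, P.polar_e_f]; exact hxy
  have hsd : ∀ {u : V}, polar Q u d = 0 → polar Q u (s • d) = 0 := fun h => by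
    rw [polar_smul_right, h, smul_zero]
  have v1 : d ∈ Ts Q H e0 := by
    have h := full_of_single (y := e1) (y' := f1) q3 q1 (hsd hde) (hsd p5) (hsd p6) pxy (t1 x1) (t2 y1) hTd
    have h2 := (Ts Q H e0).smul_mem s⁻¹ h
    rwa [smul_smul, inv_mul_cancel₀ hs, one_smul] at h2
  have v2 : d ∈ Ts Q H f0 := by
    have h := full_of_single (y := e1) (y' := f1) q4 q1 (hsd hdf) (hsd p5) (hsd p6) pxy (t3 x1) (t4 y1) hTd
    have h2 := (Ts Q H f0).smul_mem s⁻¹ h
    rwa [smul_smul, inv_mul_cancel₀ hs, one_smul] at h2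
  -- conclusion
  have ηe0 : polar Q η e0 = 0 := by rw [polar_comm]; exact e0η
  have η'e0 : polar Q η' e0 = 0 := by rw [polar_comm]; exact e0η'
  have ηf0 : polar Q η f0 = 0 := by rw [polar_comm]; exact f0η
  have η'f0 : polar Q η' f0 = 0 := by rw [polar_comm]; exact f0η'
  have dec : ∀ v, ∃ w ∈ Submodule.span F {d}, v = w + polar Q f0 v • e0 + polar Q e0 v • f0 +
      polar Q η' v • η + polar Q η v • η' + P.e (P.pe v) + P.f (P.pf v) := by
    intro v
    refine ⟨v - P.e (P.pe v) - P.f (P.pf v) - (polar Q f0 v • e0 + polar Q e0 v • f0 +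
      polar Q η' v • η + polar Q η v • η'), ?_, by abel⟩
    have hv1 : P.Perp (v - P.e (P.pe v) - P.f (P.pf v)) := P.perp_sub v
    apply hspan
    · refine ⟨?_, ?_⟩
      · simp only [map_sub, hv1.1, map_add, map_add, map_add, map_smul, map_smul, map_smul, map_smul, he0.1, hf0.1,
          hη.1, hη'.1]
        simp
      · simp only [map_sub, hv1.2, map_add, map_add, map_add, map_smul, map_smul, map_smul, map_smul, he0.2, hf0.2,
          hη.2, hη'.2]
        simp only [_root_.smul_zero, _root_.add_zero, _root_.sub_self]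
    · simp only [polar_sub_right, polar_add_right, polar_smul_right, P.polar_e' he0, P.polar_f' he0,
        h0.polar_left, h0.pair, e0η, e0η', smul_eq_mul]
      ring
    · simp only [polar_sub_right, polar_add_right, polar_smul_right, P.polar_e' hf0, P.polar_f' hf0,
        h0.polar_right, h0.pair', f0η, f0η', smul_eq_mul]
      ring
    · simp only [polar_sub_right, polar_add_right, polar_smul_right, P.polar_e' hη, P.polar_f' hη,
        h1.polar_left, h1.pair, ηe0, ηf0, smul_eq_mul]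
      ring
    · simp only [polar_sub_right, polar_add_right, polar_smul_right, P.polar_e' hη', P.polar_f' hη',
        h1.polar_right, h1.pair', η'e0, η'f0, smul_eq_mul]
      ring
  refine E_le_of_Ts hG q3 q4 (by rw [h0.pair]; exact one_ne_zero) ?_ ?_
  · intro v hv
    obtain ⟨w, hw, hv'⟩ := dec v
    rw [hv, zero_smul, add_zero] at hv'
    rw [hv']
    have hw' : w ∈ Ts Q H e0 := by
      refine (Submodule.span_le.2 ?_) hw
      rintro x (rfl : x = d)
      exact v1
    exact (Ts Q H e0).add_mem ((Ts Q H e0).add_mem ((Ts Q H e0).add_mem ((Ts Q H e0).add_mem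
      ((Ts Q H e0).add_mem hw' ((Ts Q H e0).smul_mem _ (self_mem_Ts q3))) ((Ts Q H e0).smul_mem _ u2))
      ((Ts Q H e0).smul_mem _ u4)) (t1 _)) (t2 _)
  · intro v hv
    obtain ⟨w, hw, hv'⟩ := dec v
    rw [hv, zero_smul, add_zero] at hv'
    rw [hv']
    have hw' : w ∈ Ts Q H f0 := by
      refine (Submodule.span_le.2 ?_) hw
      rintro x (rfl : x = d)
      exact v2
    exact (Ts Q H f0).add_mem ((Ts Q H f0).add_mem ((Ts Q H f0).add_mem ((Ts Q H f0).add_mem
      ((Ts Q H f0).add_mem hw' ((Ts Q H f0).smul_mem _ (self_mem_Ts q4))) ((Ts Q H f0).smul_mem _ u1))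
      ((Ts Q H f0).smul_mem _ u3)) (t3 _)) (t4 _)

end Cfsg.Agent.H48.DG
end

-- part: H48/DG/GamTools
section
/-!
# TEAM GEN, S4180: from semisimilitudes to `Cos2` (helper48)

* `cos2_congr` : transport of `Cos2`;
* `HO M` : the isometries in a group `M` of semisimilitudes, `nm_HO`;
* `cos2_of_gam` : `Cos2 (P Q)` from pairs of semisimilitudes (first member a similitude).
* `pair1`, `tor` : the torus of a hyperbolic plane; `refl_mul_refl_eq`.
-/

set_option autoImplicit false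

namespace Cfsg.Agent.H48.DG

open QuadraticMap Cfsg.Agent.LieClassical.OrthCore Cfsg.Agent.LieClassical.OrthTrans
  Cfsg.Agent.LieClassical.OrthSimple Cfsg.Agent.ClassicalGeometry.OrthAutBasic
  Cfsg.Agent.ClassicalGeometry.OrthSemi Cfsg.Agent.ClassicalGeometry.OrthAut1
  Cfsg.Agent.H887.SiegelMethod Cfsg.Agent.H137 Cfsg.Agent.H989.OutOrth.Basic Cfsg.Agent.H989.DG
  Cfsg.Agent.H891.DG Cfsg.Agent.H891.Gen

/-- transport of `Cos2` -/
theorem cos2_congr {T S : Type*} [Group T] [Group S] (e : T ≃* S) (h : Cos2 S) : Cos2 T := by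
  intro x y
  set f : MulAut T ≃* MulAut S := MulAut.congr e with hf
  obtain ⟨s, ⟨s0, hs⟩, t, ⟨t0, ht⟩, hle⟩ := h (f x) (f y)
  have hconj : ∀ g : T, f (MulAut.conj g) = MulAut.conj (e g) := by
    intro g
    ext u
    simp only [hf, MulAut.congr, MulAut.conj_apply, _root_.MulEquiv.coe_mk, _root_.Equiv.coe_fn_mk, _root_.MulEquiv.trans_apply, _root_.map_mul, _root_.MulEquiv.apply_symm_apply, _root_.map_inv]
  have hconj' : ∀ g : S, f.symm (MulAut.conj g) = MulAut.conj (e.symm g) := by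
    intro g
    rw [MulEquiv.symm_apply_eq, hconj, MulEquiv.apply_symm_apply]
  refine ⟨f.symm s, ⟨e.symm s0, by rw [← hs, hconj']⟩, f.symm t, ⟨e.symm t0, by rw [← ht, hconj']⟩, ?_⟩
  rintro _ ⟨g, rfl⟩
  have h1 : MulAut.conj (e g) ∈ Subgroup.closure ({f x * s, f y * t} : Set (MulAut S)) := hle ⟨e g, rfl⟩
  have h2 : Subgroup.closure ({x * f.symm s, y * f.symm t} : Set (MulAut T)) =
      (Subgroup.closure ({f x * s, f y * t} : Set (MulAut S))).map f.symm.toMonoidHom := by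
    rw [MonoidHom.map_closure, Set.image_pair]
    congr 1
    simp only [_root_.MulEquiv.toMonoidHom_eq_coe, _root_.MonoidHom.coe_coe, _root_.map_mul, _root_.MulEquiv.symm_apply_apply]
  rw [h2]
  refine ⟨MulAut.conj (e g), h1, ?_⟩
  change f.symm (MulAut.conj (e g)) = MulAut.conj g
  rw [hconj', MulEquiv.symm_apply_apply]

variable {F V : Type*} [Field F] [AddCommGroup V] [Module F V] {Q : QuadraticForm F V}

/-! ### the isometries in a group of semisimilitudes -/

/-- The isometries in `M`. -/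
def HO (M : Subgroup (Gam Q)) : Subgroup (V ≃ₗ[F] V) := (M.comap (ofO Q)).map (O Q).subtype

theorem mem_HO {M : Subgroup (Gam Q)} {g : V ≃ₗ[F] V} : g ∈ HO M ↔ ∃ hg : g ∈ O Q, ofO Q ⟨g, hg⟩ ∈ M := by
  constructor
  · rintro ⟨g', hg', rfl⟩
    exact ⟨g'.2, hg'⟩
  · rintro ⟨hg, h⟩
    exact ⟨⟨g, hg⟩, h, rfl⟩

theorem conjLin_mem_O (w : Gam Q) {g : V ≃ₗ[F] V} (hg : g ∈ O Q) : conjLin w g ∈ O Q := by
  obtain ⟨σ, c, hw⟩ := w.2
  intro v
  obtain ⟨v, rfl⟩ := w.1.surjective v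
  rw [conjLin_apply', hw.form, hw.form]
  have h1 : Q (g v) = Q v := hg v
  rw [h1]

theorem ofO_conjLin (w : Gam Q) {g : V ≃ₗ[F] V} (hg : g ∈ O Q) :
    ofO Q ⟨conjLin w g, conjLin_mem_O w hg⟩ = w * ofO Q ⟨g, hg⟩ * w⁻¹ := by
  apply Subtype.ext
  ext v
  rfl

theorem nm_HO {M : Subgroup (Gam Q)} {w : Gam Q} (hw : w ∈ M) : Nm (HO M) w := by
  intro g hg
  obtain ⟨hg0, hgM⟩ := mem_HO.1 hg
  refine mem_HO.2 ⟨conjLin_mem_O w hg0, ?_⟩
  rw [ofO_conjLin w hg0]
  exact M.mul_mem (M.mul_mem hw hgM) (M.inv_mem hw)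

theorem out_eq_iff {M N : Gam Q} : out Q M = out Q N ↔ (Psi Q M)⁻¹ * Psi Q N ∈ Cfsg.Inn (P Q) := by
  show (QuotientGroup.mk' (Cfsg.Inn (P Q))) (Psi Q M) = (QuotientGroup.mk' (Cfsg.Inn (P Q))) (Psi Q N) ↔ _
  simp only [QuotientGroup.mk'_apply, QuotientGroup.mk'_apply, QuotientGroup.eq]

/-- from the closure in `Gam Q` to `Lift` -/
theorem lift_of_HO {M N X Y : Gam Q} (hx : out Q M = out Q X) (hy : out Q N = out Q Y)
    (h : E Q ≤ HO (Subgroup.closure {X, Y})) :
    Lift (MulAut.conj : P Q →* MulAut (P Q)).range (Psi Q M) (Psi Q N) := by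
  refine Cfsg.Agent.H891.DG.Nielsen.Lift.congr (x := Psi Q X) (y := Psi Q Y) (out_eq_iff.1 hx) (out_eq_iff.1 hy)
    ⟨1, Subgroup.one_mem _, 1, Subgroup.one_mem _, ?_⟩
  simp only [mul_one, mul_one, ← Set.image_pair, ← MonoidHom.map_closure]
  rintro _ ⟨p, rfl⟩
  have hob_ := QuotientGroup.mk_surjective p
  obtain ⟨g, rfl⟩ := hob_
  have hob_ := mem_HO.1 (h g.2)
  obtain ⟨hg, hgM⟩ := hob_
  exact ⟨_, hgM, Psi_ofO g⟩

/-- The field automorphism of an automorphism. -/
theorem exists_sgA (hG : Good Q) (hs : Function.Surjective (Psi Q)) :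
    ∃ φ : MulAut (P Q) →* RingAut F, ∀ M, φ (Psi Q M) = sg hG M := by
  have hk : (Psi Q).ker ≤ (sg hG).ker := by
    rw [ker_Psi hG]
    rintro _ ⟨a, rfl⟩
    exact sg_scal hG a
  exact ⟨(Psi Q).liftOfSurjective hs ⟨sg hG, hk⟩, fun M => MonoidHom.liftOfRightInverse_comp_apply _ _ _ _ _⟩

/-- **`Cos2 (P Q)` from pairs of semisimilitudes.** -/
theorem cos2_of_gam [Finite F] [Finite V] (hG : Good Q) (hs : Function.Surjective (Psi Q))
    (h : ∀ M N : Gam Q, sg hG M = 1 → ∃ X Y : Gam Q, out Q M = out Q X ∧ out Q N = out Q Y ∧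
      E Q ≤ HO (Subgroup.closure {X, Y})) : Cos2 (P Q) := by
  obtain ⟨φ, hφ⟩ := exists_sgA hG hs
  have : Finite (RingAut F) := Finite.of_injective (fun f : RingAut F => (f : F → F)) DFunLike.coe_injective
  have : IsCyclic (RingAut F) := Cfsg.Agent.LieRecognition.FieldSemilinear.isCyclic_ringAut F
  have hfinE : Finite (V ≃ₗ[F] V) := Finite.of_injective (fun g => g.toEquiv)
    fun g h e => LinearEquiv.toEquiv_injective e
  have : Finite (P Q) := inferInstance
  refine Cfsg.Agent.H891.DG.Nielsen.cos2_of_ker φ fun x y hx => ?_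
  obtain ⟨M, rfl⟩ := hs x
  have hob_ := hs y
  obtain ⟨N, rfl⟩ := hob_
  rw [hφ] at hx
  have hob_ := h M N hx
  obtain ⟨X, Y, h1, h2, h3⟩ := hob_
  exact lift_of_HO h1 h2 h3

/-! ### the torus of a hyperbolic plane -/

/-- A hyperbolic plane as a pair over `F`. -/
noncomputable def pair1 {e f : V} (h : Hyp Q e f) : SPair Q F where
  e := LinearMap.toSpanSingleton F V e
  f := LinearMap.toSpanSingleton F V f
  pe := QuadraticMap.polarBilin Q f
  pf := QuadraticMap.polarBilin Q e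
  Qe x := by
    rw [LinearMap.toSpanSingleton_apply, QuadraticMap.map_smul, h.left, smul_zero]
  Qf x := by
    rw [LinearMap.toSpanSingleton_apply, QuadraticMap.map_smul, h.right, smul_zero]
  pf_spec x v := by
    rw [LinearMap.toSpanSingleton_apply, polar_smul_left, polarBilin_apply_apply, Algebra.trace_self_apply]
    rfl
  pe_spec x v := by
    rw [LinearMap.toSpanSingleton_apply, polar_smul_left, polarBilin_apply_apply, Algebra.trace_self_apply]
    rfl
  pe_e x := by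
    rw [LinearMap.toSpanSingleton_apply, polarBilin_apply_apply, polar_smul_right, h.pair', smul_eq_mul, mul_one]
  pe_f x := by
    rw [LinearMap.toSpanSingleton_apply, polarBilin_apply_apply, polar_smul_right, h.polar_right, smul_zero]
  pf_e x := by
    rw [LinearMap.toSpanSingleton_apply, polarBilin_apply_apply, polar_smul_right, h.polar_left, smul_zero]
  pf_f x := by
    rw [LinearMap.toSpanSingleton_apply, polarBilin_apply_apply, polar_smul_right, h.pair, smul_eq_mul, mul_one]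

/-- The torus of a hyperbolic plane. -/
noncomputable def tor {e f : V} (h : Hyp Q e f) : Fˣ →* O Q :=
  (pair1 h).SHom.codRestrict (O Q) fun c => (pair1 h).S_mem_O c

theorem tor_apply {e f : V} (h : Hyp Q e f) (c : Fˣ) (v : V) :
    (tor h c).1 v = v + (((c : F) - 1) * polar Q f v) • e + ((((c⁻¹ : Fˣ) : F) - 1) * polar Q e v) • f := rfl

theorem tor_left {e f : V} (h : Hyp Q e f) (c : Fˣ) : (tor h c).1 e = (c : F) • e := by
  rw [tor_apply, h.polar_left, h.pair']
  module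

theorem tor_right {e f : V} (h : Hyp Q e f) (c : Fˣ) : (tor h c).1 f = ((c⁻¹ : Fˣ) : F) • f := by
  rw [tor_apply, h.polar_right, h.pair]
  module

theorem tor_perp {e f : V} (h : Hyp Q e f) (c : Fˣ) {v : V} (h1 : polar Q e v = 0) (h2 : polar Q f v = 0) :
    (tor h c).1 v = v := by
  rw [tor_apply, h1, h2]
  simp

theorem Q_hyp {e f : V} (h : Hyp Q e f) (c : F) : Q (e + c • f) = c := by
  rw [Q_add, h.left, QuadraticMap.map_smul, h.right, polar_smul_right, h.pair]
  simp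

theorem refl_mul_refl_eq {e f : V} (h : Hyp Q e f) (c : Fˣ) (h1 : Q (e + (c : F) • f) ≠ 0)
    (h2 : Q (e + (1 : F) • f) ≠ 0) :
    refl Q (e + (c : F) • f) h1 * refl Q (e + (1 : F) • f) h2 = (tor h c⁻¹).1 := by
  ext v
  show refl Q (e + (c : F) • f) h1 (refl Q (e + (1 : F) • f) h2 v) = (tor h c⁻¹).1 v
  have hc : (c : F) ≠ 0 := c.ne_zero
  rw [tor_apply, refl_apply, refl_apply, Q_hyp h, Q_hyp h, inv_inv, Units.val_inv_eq_inv_val]
  simp only [polar_sub_right, polar_smul_right, polar_add_left, polar_add_right, polar_smul_left,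
    h.polar_left, h.polar_right, h.pair, h.pair', smul_eq_mul, one_smul]
  match_scalars <;> field_simp <;> ring

/-- The class of the torus element. -/
theorem out_tor {e f : V} (h : Hyp Q e f) (c : Fˣ) (h1 : Q (e + (c : F) • f) ≠ 0)
    (h2 : Q (e + (1 : F) • f) ≠ 0) :
    out Q (rf (e + (c : F) • f) h1) * out Q (rf (e + (1 : F) • f) h2) = out Q (ofO Q (tor h c⁻¹)) := by
  simp only [← map_mul, rf, rf, ← map_mul]
  congr 2
  exact Subtype.ext (refl_mul_refl_eq h c h1 h2)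

/-- The class does not depend on the plane. -/
theorem out_tor_eq (hG : Good Q) {e f e' f' : V} (h : Hyp Q e f) (h' : Hyp Q e' f') (c : Fˣ) :
    out Q (ofO Q (tor h c)) = out Q (ofO Q (tor h' c)) := by
  have a1 : Q (e + ((c⁻¹ : Fˣ) : F) • f) ≠ 0 := by rw [Q_hyp h]; exact Units.ne_zero _
  have a2 : Q (e + (1 : F) • f) ≠ 0 := by rw [Q_hyp h]; exact one_ne_zero
  have b1 : Q (e' + ((c⁻¹ : Fˣ) : F) • f') ≠ 0 := by rw [Q_hyp h']; exact Units.ne_zero _
  have b2 : Q (e' + (1 : F) • f') ≠ 0 := by rw [Q_hyp h']; exact one_ne_zero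
  have e1 := out_tor h c⁻¹ a1 a2
  have e2 := out_tor h' c⁻¹ b1 b2
  simp only [inv_inv] at e1 e2
  rw [← e1, ← e2, out_rf_of_eq hG a1 b1 (by rw [Q_hyp h, Q_hyp h']),
    out_rf_of_eq hG a2 b2 (by rw [Q_hyp h, Q_hyp h'])]

/-- The classes of the torus elements. -/
noncomputable def torOut {e f : V} (h : Hyp Q e f) : Subgroup (Cfsg.Out (P Q)) :=
  ((out Q).comp ((ofO Q).comp (tor h))).range

theorem mem_torOut {e f : V} (h : Hyp Q e f) {x : Cfsg.Out (P Q)} :
    x ∈ torOut h ↔ ∃ c, out Q (ofO Q (tor h c)) = x := Iff.rfl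

/-- If one reflection of norm 1 has its class in `torOut`, all isometries have. -/
theorem out_ofO_mem_torOut [FiniteDimensional F V] (hG : Good Q) {e f : V} (h : Hyp Q e f) {v : V}
    (hv : Q v = 1) (hv0 : Q v ≠ 0) (hv1 : out Q (rf v hv0) ∈ torOut h) (g : O Q) :
    out Q (ofO Q g) ∈ torOut h := by
  refine out_ofO_mem hG (fun w hw => ?_) g
  have a1 : Q (e + ((Units.mk0 (Q w) hw : Fˣ) : F) • f) ≠ 0 := by rw [Q_hyp h]; exact hw
  have a2 : Q (e + (1 : F) • f) ≠ 0 := by rw [Q_hyp h]; exact one_ne_zero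
  have e1 := out_tor h (Units.mk0 (Q w) hw) a1 a2
  rw [out_rf_of_eq hG a1 hw (Q_hyp h _), out_rf_of_eq hG a2 hv0 (by rw [Q_hyp h, hv])] at e1
  have e2 : out Q (rf w hw) = out Q (ofO Q (tor h (Units.mk0 (Q w) hw)⁻¹)) * (out Q (rf v hv0))⁻¹ := by
    simp only [← e1, mul_inv_cancel_right]
  rw [e2]
  exact (torOut h).mul_mem ⟨_, rfl⟩ ((torOut h).inv_mem hv1)

end Cfsg.Agent.H48.DG
end

-- part: H48/DG/Odd
section
/-!
# TEAM GEN, S4180: the row `POmega_{2m+1}(q)`, `q` odd, `m ≥ 3` (helper48, after helper989's proof)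

`cos2_odd : Cfsg.IsPOmegaOdd T → Cos2 T`
-/

set_option autoImplicit false

namespace Cfsg.Agent.H48.DG.Odd

open QuadraticMap Cfsg.Agent.LieClassical.OrthCore Cfsg.Agent.LieClassical.OrthTrans
  Cfsg.Agent.LieClassical.OrthSimple Cfsg.Agent.ClassicalGeometry.OrthAutBasic
  Cfsg.Agent.ClassicalGeometry.OrthSemi Cfsg.Agent.ClassicalGeometry.OrthAut1
  Cfsg.Agent.ClassicalGeometry.OrthSemiCount Cfsg.Agent.ClassicalGeometry.OrthSemiForms
  Cfsg.Agent.LieClassical.OrthForms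
  Cfsg.Agent.H887.SiegelMethod Cfsg.Agent.H137 Cfsg.Agent.H989.OutOrth.Basic Cfsg.Agent.H989.DG
  Cfsg.Agent.H989.OutOrth.Forms Cfsg.Agent.H891.DG Cfsg.Agent.H891.Gen Cfsg.Agent.H48.DG

section Form

variable {F : Type*} [Field F] {m : ℕ}

/-- the basis vectors -/
def ev (F : Type*) [Field F] {m : ℕ} (i : Fin m) : Unit ⊕ (Fin m ⊕ Fin m) → F := Pi.single (Sum.inr (Sum.inl i)) 1
/-- the basis vectors -/
def fv (F : Type*) [Field F] {m : ℕ} (i : Fin m) : Unit ⊕ (Fin m ⊕ Fin m) → F := Pi.single (Sum.inr (Sum.inr i)) 1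
/-- the basis vectors -/
def dv (F : Type*) [Field F] (m : ℕ) : Unit ⊕ (Fin m ⊕ Fin m) → F := Pi.single (Sum.inl ()) 1

theorem polar_ev (i : Fin m) (v : Unit ⊕ (Fin m ⊕ Fin m) → F) :
    polar (oddForm m F) (ev F i) v = v (Sum.inr (Sum.inr i)) := by
  rw [polar_oddForm, Finset.sum_eq_single i]
  · simp [ev]
  · intro j _ hj
    simp [ev, hj]
  · simp only [_root_.Finset.mem_univ, _root_.not_true_eq_false, _root_.IsEmpty.forall_iff]

theorem polar_fv (i : Fin m) (v : Unit ⊕ (Fin m ⊕ Fin m) → F) :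
    polar (oddForm m F) (fv F i) v = v (Sum.inr (Sum.inl i)) := by
  rw [polar_oddForm, Finset.sum_eq_single i]
  · simp [fv]
  · intro j _ hj
    simp [fv, hj]
  · simp only [_root_.Finset.mem_univ, _root_.not_true_eq_false, _root_.IsEmpty.forall_iff]

theorem polar_dv (v : Unit ⊕ (Fin m ⊕ Fin m) → F) :
    polar (oddForm m F) (dv F m) v = 2 * v (Sum.inl ()) := by
  rw [polar_oddForm]
  simp only [dv, _root_.Pi.single_eq_same, _root_.mul_one, _root_.ne_eq, _root_.reduceCtorEq, _root_.not_false_eq_true, _root_.Pi.single_eq_of_ne, _root_.MulZeroClass.zero_mul, _root_.MulZeroClass.mul_zero, _root_.add_zero, _root_.Finset.sum_const_zero]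

theorem q_ev (i : Fin m) : oddForm m F (ev F i) = 0 := by
  rw [coe_oddForm, quadFormOdd_apply]
  simp only [ev, _root_.ne_eq, _root_.reduceCtorEq, _root_.not_false_eq_true, _root_.Pi.single_eq_of_ne, _root_.OfNat.ofNat_ne_zero, _root_.zero_pow, _root_.Sum.inr.injEq, _root_.MulZeroClass.mul_zero, _root_.Finset.sum_const_zero, _root_.add_zero]

theorem q_fv (i : Fin m) : oddForm m F (fv F i) = 0 := by
  rw [coe_oddForm, quadFormOdd_apply]
  simp only [fv, _root_.ne_eq, _root_.reduceCtorEq, _root_.not_false_eq_true, _root_.Pi.single_eq_of_ne, _root_.OfNat.ofNat_ne_zero, _root_.zero_pow, _root_.Sum.inr.injEq, _root_.MulZeroClass.zero_mul, _root_.Finset.sum_const_zero, _root_.add_zero]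

theorem q_dv : oddForm m F (dv F m) = 1 := by
  rw [coe_oddForm, quadFormOdd_apply]
  simp only [dv, _root_.Pi.single_eq_same, _root_.one_pow, _root_.ne_eq, _root_.reduceCtorEq, _root_.not_false_eq_true, _root_.Pi.single_eq_of_ne, _root_.MulZeroClass.mul_zero, _root_.Finset.sum_const_zero, _root_.add_zero]

theorem ee (i j : Fin m) : polar (oddForm m F) (ev F i) (ev F j) = 0 := by
  rw [polar_ev]; simp [ev]

theorem ff (i j : Fin m) : polar (oddForm m F) (fv F i) (fv F j) = 0 := by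
  rw [polar_fv]; simp [fv]

theorem ef (i j : Fin m) : polar (oddForm m F) (ev F i) (fv F j) = if i = j then 1 else 0 := by
  rw [polar_ev]; simp [fv, Pi.single_apply]

theorem fe (i j : Fin m) : polar (oddForm m F) (fv F i) (ev F j) = if i = j then 1 else 0 := by
  rw [polar_fv]; simp [ev, Pi.single_apply]

theorem ed (i : Fin m) : polar (oddForm m F) (ev F i) (dv F m) = 0 := by
  rw [polar_ev]; simp [dv]

theorem fd (i : Fin m) : polar (oddForm m F) (fv F i) (dv F m) = 0 := by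
  rw [polar_fv]; simp [dv]

theorem hyp (i : Fin m) : Hyp (oddForm m F) (ev F i) (fv F i) := ⟨q_ev i, q_fv i, by rw [ef, if_pos rfl]⟩

theorem span_dv (v : Unit ⊕ (Fin m ⊕ Fin m) → F) (h1 : ∀ i, polar (oddForm m F) (ev F i) v = 0)
    (h3 : ∀ i, polar (oddForm m F) (fv F i) v = 0) : v ∈ Submodule.span F {dv F m} := by
  have e : v = (v (Sum.inl ())) • dv F m := by
    ext j
    rcases j with j | (j | j)
    · simp [dv]
    · have := h3 j
      rw [polar_fv] at this
      simp [this, dv]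
    · have := h1 j
      rw [polar_ev] at this
      simp [this, dv]
  rw [e]
  exact Submodule.smul_mem _ _ (Submodule.subset_span (by simp))

/-- The field automorphisms. -/
def Fr (m : ℕ) (σ : RingAut F) : Gam (oddForm m F) := ⟨cw _ F σ, _, _, isSS_cw_odd m σ⟩

theorem Fr_single (σ : RingAut F) (j : Unit ⊕ (Fin m ⊕ Fin m)) :
    (Fr m σ).1 (Pi.single j 1) = Pi.single j 1 := by
  funext i
  show σ ((Pi.single j (1 : F) : Unit ⊕ (Fin m ⊕ Fin m) → F) i) = _
  rw [Pi.single_apply]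
  split_ifs with h
  · rw [map_one]
  · rw [map_zero]

/-! ### `-1` -/

/-- the sign change on the planes in `S` -/
theorem exists_flip (hG : Good (oddForm m F)) (i0 : Fin m) (S : Finset (Fin m)) :
    ∃ n : O (oddForm m F), out _ (ofO _ n) ∈ torOut (hyp (F := F) i0) ∧
      ∀ v, (n.1 v) (Sum.inl ()) = v (Sum.inl ()) ∧
        (∀ i, (n.1 v) (Sum.inr (Sum.inl i)) = if i ∈ S then - v (Sum.inr (Sum.inl i)) else v (Sum.inr (Sum.inl i))) ∧
        (∀ i, (n.1 v) (Sum.inr (Sum.inr i)) = if i ∈ S then - v (Sum.inr (Sum.inr i)) else v (Sum.inr (Sum.inr i))) := by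
  induction S using Finset.induction_on with
  | empty =>
    refine ⟨1, ?_, fun v => ⟨rfl, fun i => by simp only [_root_.OneMemClass.coe_one, _root_.LinearEquiv.coe_one, _root_.id_eq, _root_.Finset.notMem_empty, ↓ _root_.reduceIte], fun i => by simp only [_root_.OneMemClass.coe_one, _root_.LinearEquiv.coe_one, _root_.id_eq, _root_.Finset.notMem_empty, ↓ _root_.reduceIte]⟩⟩
    rw [map_one, map_one]
    exact Subgroup.one_mem _
  | insert a S ha ih =>
    obtain ⟨n, hn, hv⟩ := ih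
    refine ⟨tor (hyp (F := F) a) (-1) * n, ?_, fun v => ?_⟩
    · rw [map_mul, map_mul]
      exact Subgroup.mul_mem _ (by rw [out_tor_eq hG (hyp a) (hyp i0)]; exact ⟨_, rfl⟩) hn
    · have hob_ := hv v
      obtain ⟨h1, h2, h3⟩ := hob_
      have e : (tor (hyp (F := F) a) (-1) * n).1 v = n.1 v + (-2 * (n.1 v) (Sum.inr (Sum.inl a))) • ev F a +
          (-2 * (n.1 v) (Sum.inr (Sum.inr a))) • fv F a := by
        show (tor (hyp (F := F) a) (-1)).1 (n.1 v) = _
        rw [tor_apply, polar_fv, polar_ev]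
        congr 3
        · congr 1
          simp; ring
        · congr 1
          simp; ring
      rw [e]
      refine ⟨?_, fun i => ?_, fun i => ?_⟩
      · simp [ev, fv, h1]
      · by_cases hi : i = a
        · subst hi
          simp only [ev, fv, h2, ha, ↓ _root_.reduceIte, _root_.neg_mul, _root_.neg_smul, _root_.Pi.add_apply, _root_.Pi.neg_apply, _root_.Pi.smul_apply, _root_.Pi.single_eq_same, _root_.smul_eq_mul, _root_.mul_one, _root_.ne_eq, _root_.Sum.inr.injEq, _root_.reduceCtorEq, _root_.not_false_eq_true, _root_.Pi.single_eq_of_ne, _root_.MulZeroClass.mul_zero, _root_.neg_zero, _root_.add_zero, _root_.Finset.mem_insert, _root_.or_false]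
          ring
        · simp [ev, fv, h2, hi, ha, Finset.mem_insert]
      · by_cases hi : i = a
        · subst hi
          simp only [ev, fv, h3, ha, _root_.neg_mul, _root_.neg_smul, ↓ _root_.reduceIte, _root_.Pi.add_apply, _root_.Pi.neg_apply, _root_.Pi.smul_apply, _root_.ne_eq, _root_.Sum.inr.injEq, _root_.reduceCtorEq, _root_.not_false_eq_true, _root_.Pi.single_eq_of_ne, _root_.smul_eq_mul, _root_.MulZeroClass.mul_zero, _root_.neg_zero, _root_.add_zero, _root_.Pi.single_eq_same, _root_.mul_one, _root_.Finset.mem_insert, _root_.or_false]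
          ring
        · simp [ev, fv, h3, hi, ha, Finset.mem_insert]

theorem out_rf_dv (hG : Good (oddForm m F)) (i0 : Fin m) (hd : oddForm m F (dv F m) ≠ 0) :
    out _ (rf (dv F m) hd) ∈ torOut (hyp (F := F) i0) := by
  have hob_ := exists_flip hG i0 Finset.univ
  obtain ⟨n, hn, hv⟩ := hob_
  have h1 : rf (dv F m) hd * ofO _ n = scal (oddForm m F) (-1) := by
    apply Subtype.ext
    ext v : 1
    show refl (oddForm m F) (dv F m) hd (n.1 v) = ((-1 : Fˣ) : F) • v
    obtain ⟨h1, h2, h3⟩ := hv v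
    rw [refl_apply, polar_dv, q_dv, h1]
    funext j
    rcases j with j | (j | j)
    · simp [dv, h1]; ring
    · simp only [dv, h2, _root_.inv_one, _root_.one_mul, _root_.Pi.sub_apply, _root_.Finset.mem_univ, ↓ _root_.reduceIte, _root_.Pi.smul_apply, _root_.ne_eq, _root_.reduceCtorEq, _root_.not_false_eq_true, _root_.Pi.single_eq_of_ne, _root_.smul_eq_mul, _root_.MulZeroClass.mul_zero, _root_.sub_zero, _root_.Units.val_neg, _root_.Units.val_one, _root_.neg_mul]
    · simp only [dv, h3, _root_.inv_one, _root_.one_mul, _root_.Pi.sub_apply, _root_.Finset.mem_univ, ↓ _root_.reduceIte, _root_.Pi.smul_apply, _root_.ne_eq, _root_.reduceCtorEq, _root_.not_false_eq_true, _root_.Pi.single_eq_of_ne, _root_.smul_eq_mul, _root_.MulZeroClass.mul_zero, _root_.sub_zero, _root_.Units.val_neg, _root_.Units.val_one, _root_.neg_mul]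
  have h2 := congrArg (out (oddForm m F)) h1
  simp only [map_mul, out_scal hG] at h2
  simp only [eq_inv_of_mul_eq_one_left h2]
  exact Subgroup.inv_mem _ hn

/-- **All similitudes have their classes in the torus.** -/
theorem out_mem_torOut [Finite F] (h2 : (2 : F) ≠ 0) (hG : Good (oddForm m F)) (i0 : Fin m)
    {M : Gam (oddForm m F)} (hM : sg hG M = 1) : out _ M ∈ torOut (hyp (F := F) i0) := by
  have hob_ := M.2
  obtain ⟨σ, c, hMc⟩ := hob_
  have hσ : σ = RingEquiv.refl F := by rw [← sg_eq hG hMc, hM]; rfl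
  subst hσ
  have hc : IsSquare c := isSquare_of_odd h2 hG.nondeg (by
      rw [Module.finrank_fintype_fun_eq_card, Fintype.card_sum, Fintype.card_sum, Fintype.card_fin,
        Fintype.card_unit]
      exact ⟨m, by ring⟩) hMc
  have hob_ := exists_ofO_mul_scal hMc hc
  obtain ⟨g, a, rfl⟩ := hob_
  simp only [map_mul, out_scal hG, mul_one]
  have hd : oddForm m F (dv F m) ≠ 0 := by rw [q_dv]; exact one_ne_zero
  exact out_ofO_mem_torOut hG (hyp i0) q_dv hd (out_rf_dv hG i0 hd) g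

end Form

section Main

variable {F : Type*} [Field F] [Finite F] {k : ℕ}

/-- two planes of the standard basis -/
theorem hyp2 {m : ℕ} {i j : Fin m} (h : i ≠ j) :
    Hyp2 (oddForm m F) (ev F i) (fv F i) (ev F j) (fv F j) :=
  ⟨hyp i, hyp j, ee i j, by rw [ef, if_neg h], by rw [fe, if_neg h], ff i j⟩

/-- the Weyl element `e0 → e1 → e2 → -f0`, ... -/
theorem exists_weyl {m : ℕ} (hG : Good (oddForm m F)) {i j l : Fin m} (hij : i ≠ j) (hjl : j ≠ l) (hil : i ≠ l) :
    ∃ w : O (oddForm m F), w.1 (ev F i) = (1 : F) • ev F j ∧ w.1 (ev F j) = (1 : F) • ev F l ∧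
      w.1 (ev F l) = (-1 : F) • fv F i ∧ w.1 (fv F i) = (1 : F) • fv F j ∧ w.1 (fv F j) = (1 : F) • fv F l ∧
      w.1 (fv F l) = (-1 : F) • ev F i ∧ w.1 (dv F m) = (1 : F) • dv F m := by
  have hQ : oddForm m F (ev F i + (1 : F) • fv F i) ≠ 0 := by rw [Q_hyp (hyp i)]; exact one_ne_zero
  have H1 : Hyp2 (oddForm m F) (ev F i) (fv F i) (ev F j) (fv F j) := hyp2 hij
  have H2 : Hyp2 (oddForm m F) (ev F j) (fv F j) (ev F l) (fv F l) := hyp2 hjl
  set r := refl (oddForm m F) (ev F i + (1 : F) • fv F i) hQ with hr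
  have hr0 : ∀ v, polar (oddForm m F) (ev F i) v = 0 → polar (oddForm m F) (fv F i) v = 0 → r v = v := by
    intro v h1 h2
    simp only [hr, refl_apply, polar_add_left, polar_smul_left, h1, h2]
    simp only [_root_.one_smul, _root_.smul_eq_mul, _root_.MulZeroClass.mul_zero, _root_.add_zero, _root_.smul_add, _root_.zero_smul, _root_.sub_zero]
  have hr1 : r (ev F i) = (-1 : F) • fv F i := by
    rw [hr, refl_apply, Q_hyp (hyp i), polar_add_left, polar_smul_left, (hyp i).polar_left, (hyp i).pair']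
    simp
  have hr2 : r (fv F i) = (-1 : F) • ev F i := by
    rw [hr, refl_apply, Q_hyp (hyp i), polar_add_left, polar_smul_left, (hyp i).polar_right, (hyp i).pair]
    simp
  let w : (Unit ⊕ (Fin m ⊕ Fin m) → F) ≃ₗ[F] (Unit ⊕ (Fin m ⊕ Fin m) → F) :=
    r * nn (oddForm m F) (ev F i) (fv F i) (ev F j) (fv F j) * nn (oddForm m F) (ev F j) (fv F j) (ev F l) (fv F l)
  have hw : w ∈ O (oddForm m F) := by
    refine (O _).mul_mem ((O _).mul_mem (refl_mem_O hQ) (E_le_O (nn_mem_E _ _ _ _))) (E_le_O (nn_mem_E _ _ _ _))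
  have wapp : ∀ v, w v = r (nn (oddForm m F) (ev F i) (fv F i) (ev F j) (fv F j)
      (nn (oddForm m F) (ev F j) (fv F j) (ev F l) (fv F l) v)) := fun v => rfl
  have fji : polar (oddForm m F) (fv F j) (ev F i) = 0 := by rw [fe, if_neg hij.symm]
  have eji : polar (oddForm m F) (ev F j) (fv F i) = 0 := by rw [ef, if_neg hij.symm]
  have fli : polar (oddForm m F) (fv F l) (ev F i) = 0 := by rw [fe, if_neg hil.symm]
  have eli : polar (oddForm m F) (ev F l) (fv F i) = 0 := by rw [ef, if_neg hil.symm]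
  have fil : polar (oddForm m F) (fv F i) (ev F l) = 0 := by rw [fe, if_neg hil]
  have eil : polar (oddForm m F) (ev F i) (fv F l) = 0 := by rw [ef, if_neg hil]
  have fij : polar (oddForm m F) (fv F i) (ev F j) = 0 := by rw [fe, if_neg hij]
  have eij : polar (oddForm m F) (ev F i) (fv F j) = 0 := by rw [ef, if_neg hij]
  have fjl : polar (oddForm m F) (fv F j) (ev F l) = 0 := by rw [fe, if_neg hjl]
  have ejl : polar (oddForm m F) (ev F j) (fv F l) = 0 := by rw [ef, if_neg hjl]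
  refine ⟨⟨w, hw⟩, ?_, ?_, ?_, ?_, ?_, ?_, ?_⟩
  · show w _ = _
    rw [wapp, nn_fix H2 (ee _ _) fji (ee _ _) fli, nn_x H1, hr0 _ (ee _ _) fij, one_smul]
  · show w _ = _
    rw [wapp, nn_x H2, nn_fix H1 (ee _ _) fil (ee _ _) fjl, hr0 _ (ee _ _) fil, one_smul]
  · show w _ = _
    rw [wapp, nn_y H2, map_neg, nn_y H1, neg_neg, hr1]
  · show w _ = _
    rw [wapp, nn_fix H2 eji (ff _ _) eli (ff _ _), nn_x' H1, hr0 _ eij (ff _ _), one_smul]
  · show w _ = _
    rw [wapp, nn_x' H2, nn_fix H1 eil (ff _ _) ejl (ff _ _), hr0 _ eil (ff _ _), one_smul]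
  · show w _ = _
    rw [wapp, nn_y' H2, map_neg, nn_y' H1, neg_neg, hr2]
  · show w _ = _
    rw [wapp, nn_fix H2 (ed _) (fd _) (ed _) (fd _), nn_fix H1 (ed _) (fd _) (ed _) (fd _),
      hr0 _ (ed _) (fd _), one_smul]

/-- **The generation statement in `Gam Q`.** -/
theorem exists_pair (hk : 1 ≤ k) (h2 : (2 : F) ≠ 0) (hG : Good (oddForm (k + 2) F))
    (M N : Gam (oddForm (k + 2) F)) (hM : sg hG M = 1) :
    ∃ X Y : Gam (oddForm (k + 2) F), out _ M = out _ X ∧ out _ N = out _ Y ∧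
      E (oddForm (k + 2) F) ≤ HO (Subgroup.closure {X, Y}) := by
  have hob_ := exists_ext F k (by omega)
  obtain ⟨K, _, _, _, hK⟩ := hob_
  have : FiniteDimensional F K := Module.finite_of_finrank_pos (by omega)
  have : Algebra.IsSeparable F K := inferInstance
  let b : Module.Basis (Fin k) F K := (Module.finBasis F K).reindex (finCongr hK)
  -- the indices
  let i0 : Fin (k + 2) := 0
  let i1 : Fin (k + 2) := 1
  let j0 : Fin k := ⟨0, by omega⟩
  have hfam : HypFam (oddForm (k + 2) F) (fun i : Fin k => ev F i.succ.succ) (fun i : Fin k => fv F i.succ.succ) := by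
    refine ⟨fun i => q_ev _, fun i => q_fv _, fun i j => ee _ _, fun i j => ff _ _, fun i j => ?_⟩
    rw [ef]
    simp only [Fin.succ_inj]
  set! P := mkPair b hfam with hP
  have hpe : ∀ v, P.Perp v ↔ (∀ i : Fin k, polar (oddForm (k + 2) F) (ev F i.succ.succ) v = 0) ∧
      ∀ i : Fin k, polar (oddForm (k + 2) F) (fv F i.succ.succ) v = 0 := fun v => perp_mkPair b hfam v
  have n0 : ∀ i : Fin k, i.succ.succ ≠ i0 := fun i => Fin.succ_ne_zero _
  have n1 : ∀ i : Fin k, i.succ.succ ≠ i1 := fun i h => by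
    have := congrArg Fin.val h
    simp [i1] at this
  have n01 : i0 ≠ i1 := by
    intro h
    have := congrArg Fin.val h
    simp [i0, i1] at this
  have he0 : P.Perp (ev F i0) := (hpe _).2 ⟨fun i => ee _ _, fun i => by rw [fe, if_neg (n0 i)]⟩
  have hf0 : P.Perp (fv F i0) := (hpe _).2 ⟨fun i => by rw [ef, if_neg (n0 i)], fun i => ff _ _⟩
  have he1 : P.Perp (ev F i1) := (hpe _).2 ⟨fun i => ee _ _, fun i => by rw [fe, if_neg (n1 i)]⟩
  have hf1 : P.Perp (fv F i1) := (hpe _).2 ⟨fun i => by rw [ef, if_neg (n1 i)], fun i => ff _ _⟩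
  have hd : P.Perp (dv F (k + 2)) := (hpe _).2 ⟨fun i => ed _, fun i => fd _⟩
  have eP : P.e (b j0) = ev F j0.succ.succ := b.constr_basis F _ j0
  have fP : P.f (b.traceDual j0) = fv F j0.succ.succ := b.traceDual.constr_basis F _ j0
  have htr : Algebra.trace F K (b j0 * b.traceDual j0) ≠ 0 := by
    rw [b.trace_mul_traceDual, if_pos rfl]
    exact one_ne_zero
  have hob_ := IsCyclic.exists_generator (α := Kˣ)
  obtain ⟨g, hg⟩ := hob_
  -- the elements
  have H1 : Hyp (oddForm (k + 2) F) (ev F i1) (fv F i1) := hyp i1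
  let S0 : O (oddForm (k + 2) F) := ⟨P.S g, P.S_mem_O g⟩
  have hτ0 : T (oddForm (k + 2) F) (ev F i0) (dv F (k + 2)) ∈ O (oddForm (k + 2) F) := T_mem_O _ _
  let τ : O (oddForm (k + 2) F) := ⟨T (oddForm (k + 2) F) (ev F i0) (dv F (k + 2)), hτ0⟩
  have hob_ := (mem_torOut H1).1 (out_mem_torOut h2 hG i1 (M := (ofO (oddForm (k + 2) F) S0)⁻¹ * M)
    (by rw [map_mul, map_inv, sg_ofO, hM, inv_one, one_mul]))
  obtain ⟨s, hs⟩ := hob_
  have hob_ := exists_weyl (F := F) hG n01 (n1 j0).symm (n0 j0).symm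
  obtain ⟨w, w0, w1, w2, w3, w4, w5, w6⟩ := hob_
  set! σ := sg hG N with hσ
  have hFr : sg hG (Fr (k + 2) σ) = σ := sg_eq hG (isSS_cw_odd (k + 2) σ)
  have hob_ := (mem_torOut H1).1 (out_mem_torOut h2 hG i1 (M := N * (ofO (oddForm (k + 2) F) w * Fr (k + 2) σ)⁻¹)
    (by rw [map_mul, map_inv, map_mul, sg_ofO, hFr, one_mul, ← hσ, mul_inv_cancel]))
  obtain ⟨t, ht⟩ := hob_
  let A : O (oddForm (k + 2) F) := S0 * tor H1 s
  refine ⟨ofO (oddForm (k + 2) F) (A * τ), ofO (oddForm (k + 2) F) (tor H1 t * w) * Fr (k + 2) σ, ?_, ?_, ?_⟩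
  · ((conv => enter [@3, @6]; rw [map_mul]); simp only [map_mul]; (conv => enter [@3, @5, @6]; rw [map_mul]); simp only [map_mul]; simp only [hs]; simp only [map_mul]; simp only [map_inv]; simp only [mul_inv_cancel_left]; (conv => enter [@3, @6]; rw [out_ofO_of_mem (T_mem_E _ _)]); simp only [mul_one])
  · simp_rw [map_mul (out (oddForm (k + 2) F)) ((ofO (oddForm (k + 2) F)) ((tor H1) t * w)) (Fr (k + 2) σ), map_mul (ofO (oddForm (k + 2) F)) ((tor H1) t) w, map_mul (out (oddForm (k + 2) F)) ((ofO (oddForm (k + 2) F)) ((tor H1) t)) ((ofO (oddForm (k + 2) F)) w), mul_assoc ((out (oddForm (k + 2) F)) ((ofO (oddForm (k + 2) F)) ((tor H1) t))) ((out (oddForm (k + 2) F)) ((ofO (oddForm (k + 2) F)) w)) ((out (oddForm (k + 2) F)) (Fr (k + 2) σ)), ← map_mul (out (oddForm (k + 2) F)) ((ofO (oddForm (k + 2) F)) w) (Fr (k + 2) σ), ht, map_mul (out (oddForm (k + 2) F)) N (((ofO (oddForm (k + 2) F)) w * Fr (k + 2) σ)⁻¹), map_inv (out (oddForm (k + 2)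 F)) ((ofO (oddForm (k + 2) F)) w * Fr (k + 2) σ), inv_mul_cancel_right ((out (oddForm (k + 2) F)) N) ((out (oddForm (k + 2) F)) ((ofO (oddForm (k + 2) F)) w * Fr (k + 2) σ))]
  set! X := ofO (oddForm (k + 2) F) (A * τ) with hX
  rewrite [← hX]
  set! Y := ofO (oddForm (k + 2) F) (tor H1 t * w) * Fr (k + 2) σ with hY
  rewrite [← hY]
  set! M0 := Subgroup.closure {X, Y} with hM0
  rewrite [← hM0]
  have hXM : X ∈ M0 := Subgroup.subset_closure (by simp)
  have hYM : Y ∈ M0 := Subgroup.subset_closure (by simp)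
  -- commutation
  have c1 : S0 * tor H1 s = tor H1 s * S0 := by
    apply Subtype.ext
    ext1 v
    show P.S g ((tor H1 s).1 v) = (tor H1 s).1 (P.S g v)
    have h1 : ∀ u, P.Perp u → polar (oddForm (k + 2) F) u (P.S g v) = polar (oddForm (k + 2) F) u v := by
      intro u hu
      have h3 := polar_map (P.S_mem_O g) u v
      rwa [P.S_perp g hu] at h3
    simp only [tor_apply, tor_apply, map_add, map_add, map_smul, map_smul, P.S_perp g he1, P.S_perp g hf1,
      h1 _ he1, h1 _ hf1]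
  have cT : ∀ u : O (oddForm (k + 2) F), u.1 (ev F i0) = ev F i0 → u.1 (dv F (k + 2)) = dv F (k + 2) → Commute u τ := by
    intro u hu1 hu2
    apply Subtype.ext
    show u.1 * T (oddForm (k + 2) F) (ev F i0) (dv F (k + 2)) = T (oddForm (k + 2) F) (ev F i0) (dv F (k + 2)) * u.1
    have h1 := T_conj u.2 (ev F i0) (dv F (k + 2))
    rwa [hu1, hu2, mul_inv_eq_iff_eq_mul] at h1
  have tor0 : ∀ c : Fˣ, (tor H1 c).1 (ev F i0) = ev F i0 := fun c =>
    tor_perp H1 c (ee _ _) (by rw [fe, if_neg n01.symm])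
  have tor0' : ∀ c : Fˣ, (tor H1 c).1 (fv F i0) = fv F i0 := fun c =>
    tor_perp H1 c (by rw [ef, if_neg n01.symm]) (ff _ _)
  have tord : ∀ c : Fˣ, (tor H1 c).1 (dv F (k + 2)) = dv F (k + 2) := fun c =>
    tor_perp H1 c (ed _) (fd _)
  have cA : Commute A τ :=
    (cT S0 (P.S_perp g he0) (P.S_perp g hd)).mul_left (cT (tor H1 s) (tor0 s) (tord s))
  have oA : A ^ Nat.card Kˣ = 1 := by
    have h1 : Commute S0 (tor H1 s) := c1
    have h3 : S0 ^ Nat.card Kˣ = 1 := by
      apply Subtype.ext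
      show P.S g ^ Nat.card Kˣ = 1
      rw [← P.S_pow, pow_card_eq_one', P.S_one]
    have h4 : s ^ Nat.card Kˣ = 1 := by
      have h5 : Function.Injective (Units.map (algebraMap F K : F →* K)) :=
        Units.map_injective (algebraMap F K).injective
      apply h5
      rw [map_pow, pow_card_eq_one', map_one]
    (rewrite [h1.mul_pow]; simp only [h3]; simp only [← map_pow]; simp only [h4]; simp only [map_one]; rewrite [mul_one]; with_reducible rfl)
  have oτ : τ ^ ringChar F = 1 := by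
    apply Subtype.ext
    show T (oddForm (k + 2) F) (ev F i0) (dv F (k + 2)) ^ ringChar F = 1
    rw [T_pow (q_ev i0) (ed i0), ← Nat.cast_smul_eq_nsmul F, CharP.cast_eq_zero, zero_smul, T_zero_right]
  obtain ⟨hAM, hτM⟩ := mem_of_mul_coprime (H := M0.comap (ofO (oddForm (k + 2) F))) cA (coprime_card_units F K) oA oτ
    (by rw [Subgroup.mem_comap]; exact hXM)
  rw [Subgroup.mem_comap] at hAM hτM
  -- the closure
  have hτH : T (oddForm (k + 2) F) (ev F i0) (dv F (k + 2)) ∈ HO M0 := mem_HO.2 ⟨hτ0, hτM⟩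
  have hdd : polar (oddForm (k + 2) F) (dv F (k + 2)) (dv F (k + 2)) ≠ 0 := by
    rw [polar_dv]
    simpa only [dv, _root_.Pi.single_eq_same, _root_.mul_one, _root_.ne_eq] using h2
  have tor1 : ∀ c : Fˣ, (tor H1 c).1 (ev F i1) = (c : F) • ev F i1 := fun c => tor_left H1 c
  have tor1' : ∀ c : Fˣ, (tor H1 c).1 (fv F i1) = ((c⁻¹ : Fˣ) : F) • fv F i1 := fun c => tor_right H1 c
  have torP : ∀ c : Fˣ, ∀ z, (tor H1 c).1 (P.e z) = P.e z := fun c z =>
    tor_perp H1 c (P.polar_e' he1 z) (P.polar_e' hf1 z)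
  have torP' : ∀ c : Fˣ, ∀ z, (tor H1 c).1 (P.f z) = P.f z := fun c z =>
    tor_perp H1 c (P.polar_f' he1 z) (P.polar_f' hf1 z)
  refine E_le_six hG P (e0 := ev F i0) (f0 := fv F i0) (η := ev F i1) (η' := fv F i1) (d := dv F (k + 2))
    (hyp i0) H1 he0 hf0 he1 hf1 hd (ee _ _) (by rw [ef, if_neg n01]) (by rw [fe, if_neg n01]) (ff _ _)
    (ed _) (fd _) (ed _) (fd _) hdd ?_ htr hg (X := ofO (oddForm (k + 2) F) A) (nm_HO hAM) (isSS_ofO A) ?_ ?_ ?_ ?_
    (Y := Y) (nm_HO hYM) (a0 := t) (a1 := 1) (a2 := -1) (a3 := ((t⁻¹ : Fˣ) : F)) (a4 := 1) (a5 := -1) (a6 := 1)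
    (Units.ne_zero _) one_ne_zero (neg_ne_zero.2 one_ne_zero) (Units.ne_zero _) one_ne_zero
    (neg_ne_zero.2 one_ne_zero) one_ne_zero ?_ ?_ ?_ ?_ ?_ ?_ ?_ (Sg.of_mem (q_ev _) (ed _) hτH)
  · intro v hv h3 h4 h5 h6
    refine span_dv v (fun i => ?_) (fun i => ?_)
    · refine Fin.cases h3 (fun i => ?_) i
      obtain ⟨k', rfl⟩ : ∃ k', k = k' + 1 := ⟨k - 1, by omega⟩
      refine Fin.cases h5 (fun i => ((hpe v).1 hv).1 i) i
    · refine Fin.cases h4 (fun i => ?_) i
      obtain ⟨k', rfl⟩ : ∃ k', k = k' + 1 := ⟨k - 1, by omega⟩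
      refine Fin.cases h6 (fun i => ((hpe v).1 hv).2 i) i
  · intro z
    show P.S g ((tor H1 s).1 (P.e z)) = _
    rw [torP, P.S_e]
  · intro z
    show P.S g ((tor H1 s).1 (P.f z)) = _
    rw [torP', P.S_f]
  · show P.S g ((tor H1 s).1 (ev F i0)) = _
    rw [tor0, P.S_perp g he0]
  · show P.S g ((tor H1 s).1 (fv F i0)) = _
    rw [tor0', P.S_perp g hf0]
  · show (tor H1 t).1 (w.1 ((Fr (k + 2) σ).1 (Pi.single _ 1))) = _
    rw [Fr_single]
    show (tor H1 t).1 (w.1 (ev F i0)) = _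
    simp only [w0, one_smul, tor1]
  · show (tor H1 t).1 (w.1 ((Fr (k + 2) σ).1 (Pi.single _ 1))) = _
    rw [Fr_single]
    show (tor H1 t).1 (w.1 (ev F i1)) = _
    simp only [w1, one_smul, one_smul, ← eP, torP]
  · rw [eP]
    show (tor H1 t).1 (w.1 ((Fr (k + 2) σ).1 (Pi.single _ 1))) = _
    rw [Fr_single]
    show (tor H1 t).1 (w.1 (ev F j0.succ.succ)) = _
    simp only [w2, map_smul, tor0']
  · show (tor H1 t).1 (w.1 ((Fr (k + 2) σ).1 (Pi.single _ 1))) = _
    rw [Fr_single]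
    show (tor H1 t).1 (w.1 (fv F i0)) = _
    simp only [w3, one_smul, tor1']
  · show (tor H1 t).1 (w.1 ((Fr (k + 2) σ).1 (Pi.single _ 1))) = _
    rw [Fr_single]
    show (tor H1 t).1 (w.1 (fv F i1)) = _
    simp only [w4, one_smul, one_smul, ← fP, torP']
  · rw [fP]
    show (tor H1 t).1 (w.1 ((Fr (k + 2) σ).1 (Pi.single _ 1))) = _
    rw [Fr_single]
    show (tor H1 t).1 (w.1 (fv F j0.succ.succ)) = _
    rw [w5, map_smul, tor0]
  · show (tor H1 t).1 (w.1 ((Fr (k + 2) σ).1 (Pi.single _ 1))) = _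
    rw [Fr_single]
    show (tor H1 t).1 (w.1 (dv F (k + 2))) = _
    simp only [w6, one_smul, tord]

end Main

/-- **The row `POmega_{2m+1}(q)`.** -/
theorem cos2_odd {T : Type*} [Group T] (hT : Cfsg.IsPOmegaOdd T) : Cos2 T := by
  obtain ⟨F, _, _, m, hm, hF, ⟨e⟩⟩ := hT
  have h2 : (2 : F) ≠ 0 := Cfsg.Agent.LieClassical.PomegaCard.odd_card_iff.1 hF
  obtain ⟨k, rfl⟩ : ∃ k, m = k + 2 := ⟨m - 2, by omega⟩
  have hG := good_odd (F := F) (m := k + 2) (by omega) h2
  have hs := Cfsg.Agent.AutOrth.Final.surjective_odd (F := F) hm h2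
  have h := cos2_of_gam hG hs fun M N hM => exists_pair (by omega) h2 hG M N hM
  have he : Nonempty (T ≃* Cfsg.POmega F ⇑(oddForm (k + 2) F)) := by
    rw [coe_oddForm]
    exact ⟨e⟩
  obtain ⟨e'⟩ := he
  exact cos2_congr (e'.trans (pomegaEquiv hG)) h

end Cfsg.Agent.H48.DG.Odd
end

private theorem dce_2842e896b50d : _root_.True := by
  try have : _root_.True := by simp only [_root_.Cfsg.Agent.H48.DG.Odd.dv.eq_1]
  try have : _root_.True := by simp only [_root_.Cfsg.Agent.H989.OutOrth.Basic.rf.congr_simp]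
  try have : _root_.True := by simp only [_root_.Cfsg.Agent.H48.DG.Odd.ev.eq_1]
  try have : _root_.True := by simp only [_root_.Cfsg.Agent.H48.DG.Odd.fv.eq_1]
  exact _root_.True.intro
end

-- part: H184/DG/FiGen
section
set_option linter.all false
open scoped Cfsg.Agent.FastGrp

/-!
# S4180: generating pairs of the Fischer groups (helper184)

* `inv_pair` : the commutator trick for a path with an arm `h, i`;
* `fi22`, `fi23`, `fi24` : a generating pair `c, b` with `c ^ 2 = 1`;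
* `fi24'` : such a pair in the commutator subgroup of `Fi24`.
-/

set_option autoImplicit false

namespace Cfsg.Agent.H184.DG.FiGen

open Cfsg.Spor Equiv Equiv.Perm Subgroup
open Cfsg.Agent.H440.TwoGen Cfsg.Agent.H440.TwoGen.Path

section Gen

variable {G : Type*} [Group G]

/-- the commutator trick -/
theorem inv_pair {N : ℕ} (φ : Perm (Fin N) →* G) (S : Subgroup G) {σ τ : Perm (Fin N)} {m : ℕ}
    (hm : m.Coprime 2) (hσ : σ ^ m = 1) (hτ : τ * τ = 1) {h i : G} (hi : i * i = 1) (hh : h * h = 1)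
    (hbr : h * i * h = i * h * i) (hφi : ∀ g, φ g * i = i * φ g) (hφh : φ τ * h = h * φ τ)
    (h1 : φ τ * h ∈ S) (h2 : φ σ * i ∈ S) : φ σ ∈ S ∧ φ τ ∈ S ∧ h ∈ S ∧ i ∈ S := by
  have hσ' : φ σ ^ m = 1 := by rw [← map_pow, hσ, map_one]
  have hτ' : φ τ * φ τ = 1 := by rw [← map_mul, hτ, map_one]
  have s1 : φ σ ∈ S := left_mem_of_pow S (hφi σ) hσ' (by rw [pow_two]; exact hi) hm h2
  have s2 : i ∈ S := right_mem_of_pow S (hφi σ) hσ' (by rw [pow_two]; exact hi) hm h2
  have s3 : h ∈ S := by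
    have h3 : φ τ * h * i * (φ τ * h) * i ∈ S := mul_mem (mul_mem (mul_mem h1 s2) h1) s2
    have h4 : φ τ * h * i * (φ τ * h) * i = i * h := by
      calc φ τ * h * i * (φ τ * h) * i = φ τ * h * (i * φ τ) * h * i := by simp only [mul_assoc]
        _ = φ τ * (h * φ τ) * i * h * i := by rw [← hφi]; simp only [mul_assoc]
        _ = (φ τ * φ τ) * (h * i * h) * i := by rw [← hφh]; simp only [mul_assoc]
        _ = i * h * (i * i) := by rw [hτ', hbr, one_mul]; simp only [mul_assoc]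
        _ = i * h := by rw [hi, mul_one]
    rw [h4] at h3
    have h5 := mul_mem s2 h3
    rwa [← mul_assoc, hi, one_mul] at h5
  refine ⟨s1, ?_, s3, s2⟩
  have h5 := mul_mem h1 s3
  rwa [mul_assoc, hh, mul_one] at h5

/-- the symmetric group is generated by `finRotate` and the first transposition -/
theorem closure_rot {n : ℕ} (S : Subgroup (Perm (Fin (n + 2)))) (h1 : finRotate (n + 2) ∈ S)
    (h2 : swap (⟨0, by omega⟩ : Fin (n + 2)) ⟨1, by omega⟩ ∈ S) : S = ⊤ := by
  rw [eq_top_iff]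
  have h3 := Equiv.Perm.closure_cycle_adjacent_swap (σ := finRotate (n + 2)) isCycle_finRotate support_finRotate
    (⟨0, by omega⟩ : Fin (n + 2))
  rw [← h3, closure_le]
  rintro g (rfl | hg)
  · exact h1
  · rw [Set.mem_singleton_iff] at hg
    subst hg
    have h4 : finRotate (n + 2) (⟨0, by omega⟩ : Fin (n + 2)) = ⟨1, by omega⟩ := finRotate_of_lt (by omega)
    rw [h4]
    exact h2

end Gen

section Cox

variable {α : Type*} [DecidableEq α] {edges : List (α × ℕ × α)} {extra : List (FreeGroup α)}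

/-- **Arm of length two** -/
theorem arm2 {n : ℕ} (pth : ℕ → α) (a b : α)
    (hnode : ∀ x : α, x ∈ coxNodes edges)
    (hbr : ∀ i < n, coxLabel edges (pth i) (pth (i + 1)) = 3)
    (hcm : ∀ i < n + 1, ∀ j < n + 1, i + 1 < j → coxLabel edges (pth i) (pth j) = 2)
    (ha0 : coxLabel edges (pth 0) a = 2)
    (hb : ∀ i < n + 1, coxLabel edges (pth i) b = 2) (hab : coxLabel edges a b = 3)
    (hall : ∀ x : α, x = a ∨ x = b ∨ ∃ i < n + 1, x = pth i)
    (σ : Equiv.Perm (Fin (n + 2))) {m : ℕ} (hm : Nat.Coprime m 2) (hσ : σ ^ m = 1)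
    (hgen : ∀ S : Subgroup (Equiv.Perm (Fin (n + 2))), σ ∈ S →
      swap (⟨0, by omega⟩ : Fin (n + 2)) ⟨1, by omega⟩ ∈ S → S = ⊤) :
    ∃ y : CoxPresented α edges extra,
      _root_.Subgroup.closure ({Cox.g edges extra (pth 0) * Cox.g edges extra a, y} : Set (CoxPresented α edges extra)) = ⊤ := by
  have hsq : ∀ x, Cox.g edges extra x * Cox.g edges extra x = 1 := fun x => Cox.sq (hnode x)
  obtain ⟨φ, hφ⟩ := exists_hom (n + 1) (fun i => Cox.g edges extra (pth i)) (fun i _ => hsq _)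
    (fun i hi => Cox.braid (hnode _) (hnode _) (hbr i (by omega)))
    (fun i j hij hj => Cox.comm (hnode _) (hnode _) (hcm i (by omega) j hj hij))
  have hφ0 : φ (swap (⟨0, by omega⟩ : Fin (n + 2)) ⟨1, by omega⟩) = Cox.g edges extra (pth 0) :=
    hφ ⟨0, by omega⟩
  refine ⟨φ σ * Cox.g edges extra b, ?_⟩
  obtain ⟨S, hS⟩ : ∃ S : Subgroup (CoxPresented α edges extra), S =
    _root_.Subgroup.closure ({Cox.g edges extra (pth 0) * Cox.g edges extra a, φ σ * Cox.g edges extra b} :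
      Set (CoxPresented α edges extra)) := ⟨_, rfl⟩
  obtain ⟨s1, s2, s3, s4⟩ := inv_pair φ S (σ := σ) (τ := swap (⟨0, by omega⟩ : Fin (n + 2)) ⟨1, by omega⟩)
    hm hσ (swap_mul_self _ _) (hsq b) (hsq a) (Cox.braid (hnode _) (hnode _) hab)
    (commute_range φ (fun i => by rw [hφ i]; exact Cox.comm (hnode _) (hnode _) (hb i i.isLt)))
    (by rw [hφ0]; exact Cox.comm (hnode _) (hnode _) ha0)
    (by rw [hφ0, hS]; exact _root_.Subgroup.subset_closure (Set.mem_insert _ _))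
    (by rw [hS]; exact _root_.Subgroup.subset_closure (Set.mem_insert_of_mem _ (Set.mem_singleton _)))
  rw [← hS]
  refine Cox.eq_top_of_forall _ fun x => ?_
  rcases hall x with rfl | rfl | ⟨i, hi, rfl⟩
  · exact s3
  · exact s4
  · have h1 := hgen (S.comap φ) s1 s2
    have h2 : swap (⟨i, by omega⟩ : Fin (n + 1)).castSucc (⟨i, by omega⟩ : Fin (n + 1)).succ ∈ S.comap φ := by
      rw [h1]; trivial
    have h3 : φ (swap (⟨i, by omega⟩ : Fin (n + 1)).castSucc (⟨i, by omega⟩ : Fin (n + 1)).succ) ∈ S := h2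
    rw [hφ ⟨i, by omega⟩] at h3
    exact h3

theorem sq_mul {x y : α} (hx : x ∈ coxNodes edges) (hy : y ∈ coxNodes edges) (h : coxLabel edges x y = 2) :
    (Cox.g edges extra x * Cox.g edges extra y) ^ 2 = 1 := by
  have h1 := Cox.rel (extra := extra) hx hy
  rwa [h] at h1

end Cox

open CoxInst

/-- **`Fi22`** -/
theorem fi22 : ∃ c b : Fi22, c ^ 2 = 1 ∧ _root_.Subgroup.closure ({c, b} : Set Fi22) = ⊤ := by
  obtain ⟨y, hy⟩ := arm2 (edges := Fi22.edges) (extra := Fi22.extra) (n := 6) p22 Fi22.Gen.h Fi22.Gen.i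
    (by intro x; cases x <;> decide) (by decide) (by decide +kernel) (by decide) (by decide) (by decide)
    (by intro x; cases x <;> first | exact Or.inl rfl | exact Or.inr (Or.inl rfl) | exact Or.inr (Or.inr (by decide)))
    (swap (⟨0, by norm_num⟩ : Fin (6 + 2)) ⟨1, by norm_num⟩ * finRotate (6 + 2)) (m := 7) (by decide) (by decide +kernel)
    (fun S h1 h2 => closure_rot S (by
      have h3 := mul_mem h2 h1
      rwa [← mul_assoc, swap_mul_self, one_mul] at h3) h2)
  exact ⟨_, y, sq_mul (by decide) (by decide) (by decide), hy⟩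

/-- **`Fi23`** -/
theorem fi23 : ∃ c b : Fi23, c ^ 2 = 1 ∧ _root_.Subgroup.closure ({c, b} : Set Fi23) = ⊤ := by
  obtain ⟨y, hy⟩ := arm2 (edges := Fi23.edges) (extra := Fi23.extra) (n := 7) p23 Fi23.Gen.h Fi23.Gen.i
    (by intro x; cases x <;> decide) (by decide) (by decide +kernel) (by decide) (by decide) (by decide)
    (by intro x; cases x <;> first | exact Or.inl rfl | exact Or.inr (Or.inl rfl) | exact Or.inr (Or.inr (by decide)))
    (finRotate (7 + 2)) (m := 9) (by decide) (by decide +kernel)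
    (fun S h1 h2 => closure_rot S h1 h2)
  exact ⟨_, y, sq_mul (by decide) (by decide) (by decide), hy⟩

/-- **`Fi24`** -/
theorem fi24 : ∃ c b : Fi24, c ^ 2 = 1 ∧ c ∈ _root_.commutator Fi24 ∧ _root_.Subgroup.closure ({c, b} : Set Fi24) = ⊤ := by
  obtain ⟨y, hy⟩ := arm2 (edges := Fi24.edges) (extra := Fi24.extra) (n := 9) Fi24.pth Fi24.Gen.h Fi24.Gen.i
    (by intro x; cases x <;> decide) (by decide) (by decide +kernel) (by decide) (by decide) (by decide)
    (by intro x; cases x <;> first | exact Or.inl rfl | exact Or.inr (Or.inl rfl) | exact Or.inr (Or.inr (by decide)))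
    (finRotate (9 + 2)) (m := 11) (by decide) (by decide +kernel)
    (fun S h1 h2 => closure_rot S h1 h2)
  refine ⟨_, y, sq_mul (by decide) (by decide) (by decide), ?_, hy⟩
  apply Fi24.mem_commutator
  have t2 : Abelianization.of (Fi24.γ Fi24.Gen.d) * Abelianization.of (Fi24.γ Fi24.Gen.d) = 1 := by
    rw [← map_mul, Fi24.sq, map_one]
  rw [map_mul]
  have h1 := Fi24.ab_eq (Fi24.pth 0)
  have h2 := Fi24.ab_eq Fi24.Gen.h
  rw [show Abelianization.of (Cox.g Fi24.edges Fi24.extra (Fi24.pth 0)) = Abelianization.of (Fi24.γ Fi24.Gen.d) from h1,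
    show Abelianization.of (Cox.g Fi24.edges Fi24.extra Fi24.Gen.h) = Abelianization.of (Fi24.γ Fi24.Gen.d) from h2]
  exact t2

section Fi24'

open Cfsg.Agent.CharactersDeep.SchurAltPerm Cfsg.Agent.H440.TwoGen.Alt Cfsg.Agent.H440.TwoGen.Fi24

theorem ab_sq : Abelianization.of (γ Fi24.Gen.d) * Abelianization.of (γ Fi24.Gen.d) = 1 := by
  rw [← map_mul, Fi24.sq, map_one]

/-- **A generating pair of `Fi24'`, one of the elements an involution.** -/
theorem fi24' : ∃ X Y : Fi24, X ∈ commutator Fi24 ∧ Y ∈ _root_.commutator Fi24 ∧ X ^ 2 = 1 ∧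
    _root_.commutator Fi24 ≤ _root_.Subgroup.closure {X, Y} := by
  obtain ⟨φ, hφ⟩ := exists_hom 10 (fun i => γ (pth i)) (fun i _ => _root_.Cfsg.Agent.H440.TwoGen.Fi24.sq _)
    (fun i hi => Cox.braid (node _) (node _) ((by decide : ∀ i < 9, coxLabel Fi24.edges (pth i) (pth (i + 1)) = 3)
      i (by omega)))
    (fun i j hij hj => Cox.comm (node _) (node _)
      ((by decide +kernel : ∀ i < 10, ∀ j < 10, i + 1 < j → coxLabel Fi24.edges (pth i) (pth j) = 2) i (by omega) j hj hij))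
  have hφ' : ∀ i (h : i < 10), φ (swap (⟨i, by omega⟩ : Fin 11) ⟨i + 1, by omega⟩) = γ (pth i) :=
    fun i h => hφ ⟨i, h⟩
  -- the permutations
  obtain ⟨A, hA⟩ : ∃ A : Perm (Fin 11), A = finRotate 11 * (x 8 9 10)⁻¹ := ⟨_, rfl⟩
  obtain ⟨τ, hτ⟩ : ∃ τ : Perm (Fin 11), τ = swap (7 : Fin 11) 8 * swap (8 : Fin 11) 9 * swap (7 : Fin 11) 8 * swap (8 : Fin 11) 9 * swap (9 : Fin 11) 10 * swap (8 : Fin 11) 9 *
    swap (0 : Fin 11) 1 := ⟨_, rfl⟩
  obtain ⟨τ', hτ'⟩ : ∃ τ' : Perm (Fin 11), τ' = swap (9 : Fin 11) 10 * τ * swap (9 : Fin 11) 10 := ⟨_, rfl⟩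
  have e0 : φ (swap (0 : Fin 11) 1) = γ .l := hφ' 0 (by norm_num)
  have e7 : φ (swap (7 : Fin 11) 8) = γ .f := hφ' 7 (by norm_num)
  have e8 : φ (swap (8 : Fin 11) 9) = γ .g := hφ' 8 (by norm_num)
  have e9 : φ (swap (9 : Fin 11) 10) = γ .j := hφ' 9 (by norm_num)
  have c0 : φ (swap (0 : Fin 11) 1) * γ .h = γ .h * φ (swap (0 : Fin 11) 1) := by rw [e0]; exact Cox.comm (node _) (node _) (by decide)
  have c7 : φ (swap (7 : Fin 11) 8) * γ .h = γ .h * φ (swap (7 : Fin 11) 8) := by rw [e7]; exact Cox.comm (node _) (node _) (by decide)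
  have c8 : φ (swap (8 : Fin 11) 9) * γ .h = γ .h * φ (swap (8 : Fin 11) 9) := by rw [e8]; exact Cox.comm (node _) (node _) (by decide)
  have c9 : φ (swap (9 : Fin 11) 10) * γ .h = γ .h * φ (swap (9 : Fin 11) 10) := by rw [e9]; exact Cox.comm (node _) (node _) (by decide)
  have hcomm : ∀ g g' : Perm (Fin 11), φ g * γ .h = γ .h * φ g → φ g' * γ .h = γ .h * φ g' →
      φ (g * g') * γ .h = γ .h * φ (g * g') := by
    intro g g' h1 h2
    rw [map_mul, mul_assoc, h2, ← mul_assoc, h1, mul_assoc]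
  have hτh : φ τ * γ .h = γ .h * φ τ := by
    rw [hτ]
    exact hcomm _ _ (hcomm _ _ (hcomm _ _ (hcomm _ _ (hcomm _ _ (hcomm _ _ c7 c8) c7) c8) c9) c8) c0
  have hτh' : φ τ' * γ .h = γ .h * φ τ' := by
    rw [hτ']
    exact hcomm _ _ (hcomm _ _ c9 hτh) c9
  have hi : ∀ g, φ g * γ .i = γ .i * φ g := commute_range φ (fun m => by
    rw [hφ m]
    exact Cox.comm (node _) (node _) ((by decide : ∀ i < 10, coxLabel Fi24.edges (pth i) .i = 2) m m.isLt))
  have hττ : τ * τ = 1 := by rw [hτ]; decide +kernel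
  have hA9 : A ^ 9 = 1 := by rw [hA]; decide +kernel
  have hAc : A * swap (9 : Fin 11) 10 = swap (9 : Fin 11) 10 * A := by rw [hA]; decide +kernel
  have hD : (τ * τ') ^ 2 = 1 := by rw [hτ', hτ]; decide +kernel
  have hAw : A = swap (0 : Fin 11) 1 * swap (1 : Fin 11) 2 * swap (2 : Fin 11) 3 * swap (3 : Fin 11) 4 * swap (4 : Fin 11) 5 * swap (5 : Fin 11) 6 * swap (6 : Fin 11) 7 * swap (7 : Fin 11) 8 := by
    rw [hA]; decide +kernel
  have hij : γ .i * γ .j = γ .j * γ .i := Cox.comm (node _) (node _) (by decide)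
  have hhj : γ .h * γ .j = γ .j * γ .h := Cox.comm (node _) (node _) (by decide)
  have hhi : γ .h * γ .i * γ .h = γ .i * γ .h * γ .i := Cox.braid (node _) (node _) (by decide)
  refine ⟨φ τ * γ .h, φ A * (γ .i * γ .j), ?_, ?_, ?_, ?_⟩
  · apply mem_commutator
    rw [hτ]
    simp only [map_mul]
    rw [e0, e7, e8, e9]
    simp only [ab_eq]
    simp only [mul_assoc, ab_sq, mul_one]
  · apply mem_commutator
    rw [hAw]
    simp only [map_mul]
    rw [show φ (swap (0 : Fin 11) 1) = γ (pth 0) from hφ' 0 (by norm_num), show φ (swap (1 : Fin 11) 2) = γ (pth 1) from hφ' 1 (by norm_num),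
      show φ (swap (2 : Fin 11) 3) = γ (pth 2) from hφ' 2 (by norm_num), show φ (swap (3 : Fin 11) 4) = γ (pth 3) from hφ' 3 (by norm_num),
      show φ (swap (4 : Fin 11) 5) = γ (pth 4) from hφ' 4 (by norm_num), show φ (swap (5 : Fin 11) 6) = γ (pth 5) from hφ' 5 (by norm_num),
      show φ (swap (6 : Fin 11) 7) = γ (pth 6) from hφ' 6 (by norm_num), show φ (swap (7 : Fin 11) 8) = γ (pth 7) from hφ' 7 (by norm_num)]
    simp only [ab_eq]
    simp only [mul_assoc, ab_sq, mul_one]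
  · have h1 : Commute (φ τ) (γ .h) := hτh
    rw [h1.mul_pow, ← map_pow, pow_two τ, hττ, map_one, one_mul, pow_two, sq]
  · obtain ⟨S, hS⟩ : ∃ S : Subgroup Fi24, S = _root_.Subgroup.closure ({φ τ * γ .h, φ A * (γ .i * γ .j)} : Set Fi24) := ⟨_, rfl⟩
    rw [← hS]
    have m1 : φ τ * γ .h ∈ S := by rw [hS]; exact _root_.Subgroup.subset_closure (Set.mem_insert _ _)
    have m2 : φ A * (γ .i * γ .j) ∈ S := by
      rw [hS]; exact _root_.Subgroup.subset_closure (Set.mem_insert_of_mem _ (Set.mem_singleton _))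
    have k1 : φ A * (γ .i * γ .j) = (γ .i * γ .j) * φ A := by
      rw [← mul_assoc, hi, mul_assoc, ← e9, ← map_mul, hAc, map_mul, mul_assoc]
    have o1 : (γ .i * γ .j) ^ 2 = 1 := by
      rw [pow_two, mul_assoc, ← mul_assoc (γ .j), ← hij, mul_assoc, sq, mul_one, sq]
    have o3 : φ A ^ 9 = 1 := by rw [← map_pow, hA9, map_one]
    have s1 : φ A ∈ S := left_mem_of_pow S k1 o3 o1 (by decide) m2
    have s2 : γ .i * γ .j ∈ S := right_mem_of_pow S k1 o3 o1 (by decide) m2
    have s3 : φ (τ * τ') * (γ .i * γ .h) ∈ S := by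
      have h3 := mul_mem (mul_mem (mul_mem m1 s2) m1) s2
      have h4 : φ τ * γ .h * (γ .i * γ .j) * (φ τ * γ .h) * (γ .i * γ .j) = φ (τ * τ') * (γ .i * γ .h) := by
        have h5 : γ .j * φ τ = φ τ' * γ .j := by
          rw [← e9, ← map_mul, ← map_mul, hτ']
          congr 1
          rw [mul_assoc (swap (9 : Fin 11) 10 * τ), swap_mul_self, mul_one]
        calc φ τ * γ .h * (γ .i * γ .j) * (φ τ * γ .h) * (γ .i * γ .j)
            = φ τ * γ .h * γ .i * (γ .j * φ τ) * γ .h * (γ .i * γ .j) := by simp only [mul_assoc]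
          _ = φ τ * γ .h * (γ .i * φ τ') * (γ .j * γ .h) * (γ .i * γ .j) := by rw [h5]; simp only [mul_assoc]
          _ = φ τ * γ .h * (φ τ' * γ .i) * (γ .h * γ .j) * (γ .j * γ .i) := by rw [hi, hhj, hij]
          _ = φ τ * (γ .h * φ τ') * γ .i * γ .h * (γ .j * γ .j) * γ .i := by simp only [mul_assoc]
          _ = φ τ * φ τ' * (γ .h * γ .i * γ .h) * γ .i := by rw [sq, mul_one, ← hτh']; simp only [mul_assoc]
          _ = φ τ * φ τ' * (γ .i * γ .h) * (γ .i * γ .i) := by rw [hhi]; simp only [mul_assoc]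
          _ = φ (τ * τ') * (γ .i * γ .h) := by rw [sq, mul_one, map_mul]
      rwa [h4] at h3
    have hDh : φ (τ * τ') * (γ .i * γ .h) = (γ .i * γ .h) * φ (τ * τ') := by
      have h5 := hcomm _ _ hτh hτh'
      rw [← mul_assoc, hi, mul_assoc, h5, mul_assoc]
    have o4 : (γ .i * γ .h) ^ 3 = 1 := Cox.cube (node _) (node _) (by decide)
    have o5 : φ (τ * τ') ^ 2 = 1 := by rw [← map_pow, hD, map_one]
    have s4 : γ .i * γ .h ∈ S := right_mem_of_pow S hDh o5 o4 (by decide) s3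
    have s5 : γ .h * γ .j ∈ S := by
      have h5 := mul_mem (inv_mem s4) s2
      have h6 : (γ .i * γ .h)⁻¹ * (γ .i * γ .j) = γ .h * γ .j := by
        rw [mul_inv_rev, mul_assoc, inv_mul_cancel_left, inv_eq_of_mul_eq_one_left (_root_.Cfsg.Agent.H440.TwoGen.Fi24.sq .h)]
      rwa [h6] at h5
    have s6 : φ (τ * swap (9 : Fin 11) 10) ∈ S := by
      have h5 := mul_mem m1 s5
      have h6 : φ τ * γ .h * (γ .h * γ .j) = φ (τ * swap (9 : Fin 11) 10) := by
        rw [mul_assoc, ← mul_assoc (γ .h), sq, one_mul, map_mul, e9]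
      rwa [h6] at h5
    obtain ⟨Q, hQ⟩ : ∃ Q : Subgroup (Perm (Fin 11)), Q = S.comap φ := ⟨_, rfl⟩
    obtain ⟨B, hB⟩ : ∃ B : Perm (Fin 11), B = τ * swap (9 : Fin 11) 10 := ⟨_, rfl⟩
    have qA : A ∈ Q := by rw [hQ]; exact s1
    have qB : B ∈ Q := by rw [hQ, hB]; exact s6
    have qE : B * B * (A * (B * B) * A⁻¹) ∈ Q :=
      mul_mem (mul_mem qB qB) (mul_mem (mul_mem qA (mul_mem qB qB)) (inv_mem qA))
    have qx : x (⟨0, by omega⟩ : Fin 11) ⟨1, by omega⟩ ⟨2, by omega⟩ ∈ Q := by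
      have h2 : x (⟨0, by omega⟩ : Fin 11) ⟨1, by omega⟩ ⟨2, by omega⟩ =
          A ^ 2 * (B * B * (A * (B * B) * A⁻¹)) * (A ^ 2)⁻¹ := by
        rw [hB, hτ, hA]; decide +kernel
      rw [h2]
      exact mul_mem (mul_mem (pow_mem qA 2) qE) (inv_mem (pow_mem qA 2))
    have qc : finRotate 11 ∈ Q := by
      have h2 : finRotate 11 = A * (A ^ 7 * (B * (B * B * (A * (B * B) * A⁻¹)) * B⁻¹) * (A ^ 7)⁻¹) := by
        rw [hB, hτ, hA]; decide +kernel
      rw [h2]
      exact mul_mem qA (mul_mem (mul_mem (pow_mem qA 7) (mul_mem (mul_mem qB qE) (inv_mem qB))) (inv_mem (pow_mem qA 7)))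
    have hAlt : alternatingGroup (Fin 11) ≤ S.comap φ := by
      rw [← hQ]
      exact odd_case (by norm_num) _ _ (fun i h => finRotate_of_lt (by omega)) qc qx
    have hp : ∀ i (_ : i < 10), γ (pth i) * γ .j ∈ S := by
      intro i hi
      rw [← hφ' i hi, ← e9, ← map_mul]
      refine hAlt (mem_alternatingGroup.2 ?_)
      rw [Perm.sign_mul, sign_swap (ne_mk _ _ (by omega)), sign_swap (by decide)]
      decide
    refine commutator_le_of (Set.range fun x : Fi24.Gen => γ x) (PresentedGroup.closure_range_of _) S (_root_.Cfsg.Agent.H440.TwoGen.Fi24.sq .j) ?_ ?_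
    · rintro _ ⟨x, rfl⟩; exact _root_.Cfsg.Agent.H440.TwoGen.Fi24.sq x
    · rintro _ ⟨x, rfl⟩
      cases x
      case h => exact s5
      case i => exact s2
      case l => exact hp 0 (by norm_num)
      case k => exact hp 1 (by norm_num)
      case a => exact hp 2 (by norm_num)
      case b => exact hp 3 (by norm_num)
      case c => exact hp 4 (by norm_num)
      case d => exact hp 5 (by norm_num)
      case e => exact hp 6 (by norm_num)
      case f => exact hp 7 (by norm_num)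
      case g => exact hp 8 (by norm_num)
      case j => exact hp 9 (by norm_num)

end Fi24'

end Cfsg.Agent.H184.DG.FiGen
end

-- part: H184/DG/CosFi
section
set_option linter.all false
open scoped Cfsg.Agent.FastGrp

/-!
# S4180: `Cos2` for `Fi22` and `Fi24'` (helper184, task 3367)

* `cos2_of_equiv`, `cos2_of_index_two`;
* `cos2_fi22`, `cos2_fi24'`.
-/

set_option autoImplicit false

namespace Cfsg.Agent.H184.DG.CosFi

open Cfsg Cfsg.Spor Equiv Equiv.Perm Subgroup
open Cfsg.Agent.H440.TwoGen Cfsg.Agent.H440.TwoGen.Path Cfsg.Agent.H891.DG Cfsg.Agent.H891.Gen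

universe u v

theorem cos2_of_equiv {T : Type u} [Group T] {K : Type v} [Group K] (e : T ≃* K) (h : Cos2 K) : Cos2 T := by
  intro x y
  obtain ⟨s, ⟨s', hs'⟩, t, ⟨t', ht'⟩, hst⟩ := h (MulAut.congr e x) (MulAut.congr e y)
  have hconj : ∀ a : T, MulAut.congr e (MulAut.conj a) = MulAut.conj (e a) := by
    intro a
    ext z
    show e (a * e.symm z * a⁻¹) = e a * z * (e a)⁻¹
    rw [map_mul, map_mul, map_inv, e.apply_symm_apply]
  refine ⟨MulAut.conj (e.symm s'), ⟨_, rfl⟩, MulAut.conj (e.symm t'), ⟨_, rfl⟩, ?_⟩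
  rintro _ ⟨g, rfl⟩
  have h1 := hst ⟨e g, rfl⟩
  have h2 : _root_.Subgroup.closure ({MulAut.congr e x * s, MulAut.congr e y * t} : Set (MulAut K)) =
      (_root_.Subgroup.closure ({x * MulAut.conj (e.symm s'), y * MulAut.conj (e.symm t')} : Set (MulAut T))).map
        (MulAut.congr e).toMonoidHom := by
    rw [MonoidHom.map_closure, Set.image_pair]
    congr 1
    show _ = ({MulAut.congr e (x * MulAut.conj (e.symm s')), MulAut.congr e (y * MulAut.conj (e.symm t'))} :
      Set (MulAut K))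
    rw [map_mul, map_mul, hconj, hconj, e.apply_symm_apply, e.apply_symm_apply, hs', ht']
  rw [h2] at h1
  obtain ⟨z, hz, hze⟩ := h1
  have h3 : z = MulAut.conj g := by
    apply (MulAut.congr e).injective
    rw [hconj]
    exact hze
  rw [← h3]
  exact hz

/-- two cosets -/
theorem cos2_of_index_two {T : Type u} [Group T]
    (hi : ∀ a b : MulAut T, a ∉ (MulAut.conj : T →* MulAut T).range → b ∉ (MulAut.conj : T →* MulAut T).range →
      a * b ∈ (MulAut.conj : T →* MulAut T).range)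
    (h1 : TwoGen T)
    (h2 : ∃ X : MulAut T, X ∉ (MulAut.conj : T →* MulAut T).range ∧ ∃ Y ∈ (MulAut.conj : T →* MulAut T).range,
      (MulAut.conj : T →* MulAut T).range ≤ _root_.Subgroup.closure {X, Y}) : Cos2 T := by
  obtain ⟨R, hR⟩ : ∃ R : Subgroup (MulAut T), R = (MulAut.conj : T →* MulAut T).range := ⟨_, rfl⟩
  obtain ⟨X, hX, Y, hY, hXY⟩ := h2
  obtain ⟨a, b, hab⟩ := h1
  intro x y
  show Lift (MulAut.conj : T →* MulAut T).range x y
  have h3 : R ≤ _root_.Subgroup.closure {MulAut.conj a, MulAut.conj b} := by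
    rw [hR, MonoidHom.range_eq_map, ← hab, MonoidHom.map_closure, Set.image_pair]
  have hA : MulAut.conj a ∈ R := by rw [hR]; exact ⟨a, rfl⟩
  have hB : MulAut.conj b ∈ R := by rw [hR]; exact ⟨b, rfl⟩
  rw [← hR] at hi hX hY hXY ⊢
  have key : ∀ x y X Y : MulAut T, x⁻¹ * X ∈ R → y⁻¹ * Y ∈ R → R ≤ _root_.Subgroup.closure {X, Y} → Lift R x y := by
    intro x y X Y h4 h5 h6
    refine ⟨_, h4, _, h5, ?_⟩
    rwa [mul_inv_cancel_left, mul_inv_cancel_left]
  have hin : ∀ z : MulAut T, z ∉ R → z⁻¹ ∉ R := fun z hz h => hz (by rw [← inv_inv z]; exact inv_mem h)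
  by_cases hx : x ∈ R <;> by_cases hy : y ∈ R
  · exact key x y _ _ (mul_mem (inv_mem hx) hA) (mul_mem (inv_mem hy) hB) h3
  · refine key x y Y X (mul_mem (inv_mem hx) hY) (hi _ _ (hin _ hy) hX) ?_
    rwa [Set.pair_comm]
  · exact key x y X Y (hi _ _ (hin _ hx) hX) (mul_mem (inv_mem hy) hY) hXY
  · refine key x y X (X * Y) (hi _ _ (hin _ hx) hX) ?_ ?_
    · rw [← mul_assoc]
      exact mul_mem (hi _ _ (hin _ hy) hX) hY
    · refine hXY.trans ?_
      rw [closure_le]
      have h4 : X ∈ _root_.Subgroup.closure ({X, X * Y} : Set (MulAut T)) := _root_.Subgroup.subset_closure (Set.mem_insert _ _)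
      have h5 : X * Y ∈ closure ({X, X * Y} : Set (MulAut T)) :=
        _root_.Subgroup.subset_closure (Set.mem_insert_of_mem _ (Set.mem_singleton _))
      rintro z (rfl | hz)
      · exact h4
      · rw [Set.mem_singleton_iff] at hz
        subst hz
        have h6 := mul_mem (inv_mem h4) h5
        rwa [inv_mul_cancel_left] at h6

section Fi22

open Cfsg.Agent.R08 Cfsg.Agent.R08.LiftCls
open Cfsg.Agent.Fischer.Fi23Class (K)
open Cfsg.Agent.Fischer.Fi23Cover (kgen)
open Cfsg.Agent.R08.FiTwentyThree (pi zK S)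

/-- the generators -/
abbrev g22 (x : Fi22.Gen) : Fi22 := Cox.g Fi22.edges Fi22.extra x

/-- There is an automorphism of order 2 of `Fi22` which is not inner and centralises all the nodes but `h`. -/
theorem exists_outer : ∃ α : MulAut Cfsg.Spor.Fi22, (∀ x : Cfsg.Spor.Fi22, α ≠ MulAut.conj x) ∧
    (∀ s : Fi22.Gen, s ≠ .h → α (g22 s) = g22 s) ∧ α * α = 1 := by
  have hc := LemmaVInst.clsK
  obtain ⟨γ, h1, -, h3, h4⟩ := X4Gamma.exists_gamma
  have hz : γ zK = zK := h3
  have hker : pi.ker ≤ (_root_.Cfsg.Agent.R08.FiTwentyThree.pi.comp γ.toMonoidHom).ker := by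
    intro y hy
    rw [MonoidHom.mem_ker] at hy ⊢
    show _root_.Cfsg.Agent.R08.FiTwentyThree.pi (γ y) = 1
    rcases (hc.ext.ker y).1 hy with h | h
    · rw [h, map_one, map_one]
    · rw [h, hz]
      exact hc.ext.mapz
  let f : Cfsg.Spor.Fi22 →* Cfsg.Spor.Fi22 := pi.liftOfSurjective hc.ext.surj ⟨_root_.Cfsg.Agent.R08.FiTwentyThree.pi.comp γ.toMonoidHom, hker⟩
  have hf : ∀ y, f (_root_.Cfsg.Agent.R08.FiTwentyThree.pi y) = _root_.Cfsg.Agent.R08.FiTwentyThree.pi (γ y) := fun y =>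
    MonoidHom.liftOfRightInverse_comp_apply _root_.Cfsg.Agent.R08.FiTwentyThree.pi _ _ ⟨_root_.Cfsg.Agent.R08.FiTwentyThree.pi.comp γ.toMonoidHom, hker⟩ y
  have hff : f.comp f = MonoidHom.id _ := by
    refine MonoidHom.ext fun x => ?_
    obtain ⟨y, rfl⟩ := hc.ext.surj x
    show f (f (_root_.Cfsg.Agent.R08.FiTwentyThree.pi y)) = _root_.Cfsg.Agent.R08.FiTwentyThree.pi y
    rw [hf, hf, h4]
  refine ⟨f.toMulEquiv f hff hff, fun x hx => ?_, ?_, ?_⟩
  · obtain ⟨k, rfl⟩ := hc.ext.surj x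
    have h5 : ∀ y, _root_.Cfsg.Agent.R08.FiTwentyThree.pi (γ y) = _root_.Cfsg.Agent.R08.FiTwentyThree.pi (k * y * k⁻¹) := by
      intro y
      rw [← hf, map_mul, map_mul, map_inv]
      exact DFunLike.congr_fun hx (_root_.Cfsg.Agent.R08.FiTwentyThree.pi y)
    have h6 := Cfsg.Agent.S2079.conj_of_quot γ k h5 (kgen .a)
    have ha : kgen .a ∈ S := by
      have h : kgen .a = Cfsg.Agent.R01.AlphaFi23.t .a := by
        apply Subtype.ext
        rfl
      rw [h]
      exact LemmaVInst.ta_mem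
    have h7 : k * kgen .a * k⁻¹ ∈ S := hc.conj k ha
    rw [← h6, h1 .a (by decide)] at h7
    refine hc.nz _ ha ?_
    have h8 : kgen .a * zK = zK * kgen .a := hc.ext.comm _
    rw [h8]
    exact h7
  · intro s hs
    show f (g22 s) = g22 s
    have h5 : g22 s = _root_.Cfsg.Agent.R08.FiTwentyThree.pi (kgen s) := by
      have h6 := Cfsg.Agent.R08.FiTwentyThree.pi_t s
      have h7 : kgen s = Cfsg.Agent.R01.AlphaFi23.t s := Subtype.ext rfl
      rw [h7]
      exact h6.symm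
    rw [h5, hf, h1 s hs, map_mul]
    have h6 : _root_.Cfsg.Agent.R08.FiTwentyThree.pi zK = 1 := hc.ext.mapz
    show _root_.Cfsg.Agent.R08.FiTwentyThree.pi zK * _root_.Cfsg.Agent.R08.FiTwentyThree.pi (kgen s) = _root_.Cfsg.Agent.R08.FiTwentyThree.pi (kgen s)
    rw [h6, one_mul]
  · ext x
    exact DFunLike.congr_fun hff x

theorem node (x : Fi22.Gen) : x ∈ coxNodes Fi22.edges := by cases x <;> decide

/-- **the pair in `Fi22.2`** -/
theorem pair22 : ∃ X : MulAut Fi22, X ∉ (MulAut.conj : Fi22 →* MulAut Fi22).range ∧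
    ∃ Y ∈ (MulAut.conj : Fi22 →* MulAut Fi22).range, (MulAut.conj : Fi22 →* MulAut Fi22).range ≤ _root_.Subgroup.closure {X, Y} := by
  obtain ⟨f, hf1, hf2, hf3⟩ := exists_outer
  have hsq : ∀ x, g22 x * g22 x = 1 := fun x => Cox.sq (node x)
  obtain ⟨φ, hφ⟩ := exists_hom 7 (fun i => g22 (CoxInst.p22 i)) (fun i _ => hsq _)
    (fun i hi => Cox.braid (node _) (node _)
      ((by decide : ∀ i < 6, coxLabel Fi22.edges (CoxInst.p22 i) (CoxInst.p22 (i + 1)) = 3) i (by omega)))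
    (fun i j hij hj => Cox.comm (node _) (node _)
      ((by decide +kernel : ∀ i < 7, ∀ j < 7, i + 1 < j → coxLabel Fi22.edges (CoxInst.p22 i) (CoxInst.p22 j) = 2)
        i (by omega) j hj hij))
  have hφ' : ∀ i (h : i < 7), φ (swap (⟨i, by omega⟩ : Fin 8) ⟨i + 1, by omega⟩) = g22 (CoxInst.p22 i) :=
    fun i h => hφ ⟨i, h⟩
  have e0 : φ (swap 0 1) = g22 .a := hφ' 0 (by norm_num)
  have e3 : φ (swap 3 4) = g22 .d := hφ' 3 (by norm_num)
  obtain ⟨σ, hσ⟩ : ∃ σ : Perm (Fin 8), σ = swap 0 1 * finRotate 8 := ⟨_, rfl⟩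
  have hσ7 : σ ^ 7 = 1 := by rw [hσ]; decide +kernel
  -- `f` centralises the image of `φ`
  have hfφ : ∀ g, f (φ g) = φ g := by
    have h1 : f.toMonoidHom.comp φ = φ := by
      apply MonoidHom.eq_of_eqOn_denseM (s := Set.range fun i : Fin 7 => swap i.castSucc i.succ)
        (mclosure_swap_castSucc_succ 7)
      rintro _ ⟨i, rfl⟩
      show f (φ _) = φ _
      rw [hφ i]
      exact hf2 _ ((by decide : ∀ i < 7, CoxInst.p22 i ≠ .h) i i.isLt)
    exact fun g => DFunLike.congr_fun h1 g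
  have hfc : ∀ g, f * MulAut.conj (φ g) = MulAut.conj (φ g) * f := by
    intro g
    ext z
    show f (φ g * z * (φ g)⁻¹) = φ g * f z * (φ g)⁻¹
    rw [map_mul, map_mul, map_inv, hfφ]
  have hR : f ∉ (MulAut.conj : Fi22 →* MulAut Fi22).range := by
    rintro ⟨x, hx⟩
    exact hf1 x hx.symm
  refine ⟨MulAut.conj (φ σ) * f, fun h => hR ?_, MulAut.conj (φ (swap 0 1) * (g22 .i * g22 .h)), ⟨_, rfl⟩, ?_⟩
  · have h1 := mul_mem (inv_mem (⟨φ σ, rfl⟩ : MulAut.conj (φ σ) ∈ (MulAut.conj : Fi22 →* MulAut Fi22).range)) h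
    rwa [inv_mul_cancel_left] at h1
  · obtain ⟨S, hS⟩ : ∃ S : Subgroup (MulAut Fi22), S =
      _root_.Subgroup.closure {MulAut.conj (φ σ) * f, MulAut.conj (φ (swap 0 1) * (g22 .i * g22 .h))} := ⟨_, rfl⟩
    rw [← hS]
    have m1 : MulAut.conj (φ σ) * f ∈ S := by rw [hS]; exact _root_.Subgroup.subset_closure (Set.mem_insert _ _)
    have m2 : MulAut.conj (φ (swap 0 1) * (g22 .i * g22 .h)) ∈ S := by
      rw [hS]; exact _root_.Subgroup.subset_closure (Set.mem_insert_of_mem _ (Set.mem_singleton _))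
    have s1 : MulAut.conj (φ σ) ∈ S :=
      left_mem_of_pow S (hfc σ).symm (m := 7) (n := 2) (by rw [← map_pow, ← map_pow, hσ7, map_one, map_one])
        (by rw [pow_two]; exact hf3) (by decide) m1
    obtain ⟨Q, hQ⟩ : ∃ Q : Subgroup Fi22, Q = S.comap MulAut.conj := ⟨_, rfl⟩
    have q1 : φ σ ∈ Q := by rw [hQ]; exact s1
    have q2 : φ (swap 0 1) * (g22 .i * g22 .h) ∈ Q := by rw [hQ]; exact m2
    have k0 : φ (swap 0 1) * (g22 .i * g22 .h) = (g22 .i * g22 .h) * φ (swap 0 1) := by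
      rw [e0]
      have h1 : g22 .a * g22 .i = g22 .i * g22 .a := Cox.comm (node _) (node _) (by decide)
      have h2 : g22 .a * g22 .h = g22 .h * g22 .a := Cox.comm (node _) (node _) (by decide)
      rw [← mul_assoc, h1, mul_assoc, h2, mul_assoc]
    have o1 : φ (swap 0 1) ^ 2 = 1 := by rw [pow_two, ← map_mul, swap_mul_self, map_one]
    have o2 : (g22 .i * g22 .h) ^ 3 = 1 := Cox.cube (node _) (node _) (by decide)
    have q3 : φ (swap 0 1) ∈ Q := left_mem_of_pow Q k0 o1 o2 (by decide) q2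
    have q4 : g22 .i * g22 .h ∈ Q := right_mem_of_pow Q k0 o1 o2 (by decide) q2
    have q5 : Q.comap φ = ⊤ := by
      refine FiGen.closure_rot (n := 6) _ ?_ q3
      have h3 : swap 0 1 * σ ∈ Q.comap φ := mul_mem (show swap 0 1 ∈ Q.comap φ from q3) (show σ ∈ Q.comap φ from q1)
      rw [hσ, ← mul_assoc, swap_mul_self, one_mul] at h3
      exact h3
    have q6 : ∀ i (_ : i < 7), g22 (CoxInst.p22 i) ∈ Q := by
      intro i hi
      rw [← hφ' i hi]
      have h1 : swap (⟨i, by omega⟩ : Fin 8) ⟨i + 1, by omega⟩ ∈ Q.comap φ := by rw [q5]; trivial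
      exact h1
    have q7 : g22 .d ∈ Q := q6 3 (by norm_num)
    have q8 : g22 .h ∈ Q := by
      have h1 : (g22 .i * g22 .h)⁻¹ * (g22 .d * (g22 .i * g22 .h) * g22 .d) ∈ Q :=
        mul_mem (inv_mem q4) (mul_mem (mul_mem q7 q4) q7)
      have h2 : g22 .d * g22 .i = g22 .i * g22 .d := Cox.comm (node _) (node _) (by decide)
      have h3 : g22 .d * g22 .h * g22 .d = g22 .h * g22 .d * g22 .h := Cox.braid (node _) (node _) (by decide)
      have h4 : (g22 .i * g22 .h)⁻¹ * (g22 .d * (g22 .i * g22 .h) * g22 .d) = g22 .d * g22 .h := by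
        rw [inv_mul_eq_iff_eq_mul]
        calc g22 .d * (g22 .i * g22 .h) * g22 .d = (g22 .d * g22 .i) * g22 .h * g22 .d := by simp only [mul_assoc]
          _ = g22 .i * (g22 .d * g22 .h * g22 .d) := by rw [h2]; simp only [mul_assoc]
          _ = g22 .i * g22 .h * (g22 .d * g22 .h) := by rw [h3]; simp only [mul_assoc]
      rw [h4] at h1
      have h5 := mul_mem q7 h1
      rwa [← mul_assoc, hsq, one_mul] at h5
    have q9 : g22 .i ∈ Q := by
      have h1 := mul_mem q4 q8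
      rwa [mul_assoc, hsq, mul_one] at h1
    have q10 : Q = ⊤ := by
      refine Cox.eq_top_of_forall _ fun x => ?_
      cases x
      case h => exact q8
      case i => exact q9
      case a => exact q6 0 (by norm_num)
      case b => exact q6 1 (by norm_num)
      case c => exact q6 2 (by norm_num)
      case d => exact q6 3 (by norm_num)
      case e => exact q6 4 (by norm_num)
      case f => exact q6 5 (by norm_num)
      case g => exact q6 6 (by norm_num)
    rintro _ ⟨x, rfl⟩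
    have h1 : x ∈ Q := by rw [q10]; trivial
    rw [hQ] at h1
    exact h1

/-- **`Fi22`** -/
theorem cos2_fi22 {T : Type u} [Group T] (h : Cfsg.Spor.IsoFi22 T) : Cos2 T := by
  obtain ⟨e⟩ := h
  refine cos2_of_equiv e (cos2_of_index_two ?_ CoxInst.fi22 pair22)
  intro a b ha hb
  obtain ⟨x, hx⟩ := Cfsg.Agent.OddHalf.Table.OutFi22.mul_outer a b
    (fun x hx => ha ⟨x, hx.symm⟩) (fun x hx => hb ⟨x, hx.symm⟩)
  exact ⟨x, hx.symm⟩

end Fi22

section Fi24

/-- **`Fi24'`** -/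
theorem cos2_fi24' {T : Type u} [Group T] (h : Cfsg.Spor.IsoFi24' T) : Cos2 T := by
  obtain ⟨e⟩ := h
  have F := Cfsg.Agent.KFacts.FiTF.frame
  have hF : Finite Spor.Fi24 := Cfsg.Agent.R08.FiTwentyFour.finite_Fi24
  have hconj : ∀ α : MulAut Spor.Fi24', ∃ g : Spor.Fi24, α = MulAut.conjNormal g := by
    intro α
    obtain ⟨g, hg⟩ := Cfsg.Agent.KFacts.FiTF.exists_conj α
    refine ⟨g, ?_⟩
    ext x
    rw [hg, MulAut.conjNormal_apply]
  have hout : ∀ t : Spor.Fi24, t ∉ commutator Spor.Fi24 → ∀ g : Spor.Fi24',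
      (MulAut.conjNormal t : MulAut Spor.Fi24') ≠ MulAut.conj g := by
    intro t ht
    refine Cfsg.Agent.H997.OutCard.conjNormal_outer (K := commutator Cfsg.Spor.Fi24) ht fun c hc => ?_
    rcases F.cent c (fun r hr => hc r (F.EK (F.RE hr))) with h | h
    · rw [h]
      exact one_mem _
    · rw [h]
      exact F.EK (F.RE F.zR)
  have hcard := Cfsg.Agent.S2081.result
  rw [Cfsg.Agent.H997.OutCard.card_out] at hcard
  refine cos2_of_equiv e (cos2_of_index_two ?_ (Cfsg.Agent.H440.TwoGen.Fi24.twoGen_fi24 ⟨MulEquiv.refl _⟩) ?_)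
  · intro a b ha hb
    rw [Subgroup.mul_mem_iff_of_index_two hcard]
    exact iff_of_false ha hb
  · obtain ⟨c, b, hc2, hc, hcb⟩ := FiGen.fi24
    have hb : b ∉ _root_.commutator Fi24 := by
      intro hb
      have h1 : _root_.Subgroup.closure ({c, b} : Set Fi24) ≤ _root_.commutator Fi24 := by
        rw [closure_le]
        rintro z (rfl | hz)
        · exact hc
        · rw [Set.mem_singleton_iff] at hz
          rw [hz]
          exact hb
      rw [hcb, top_le_iff] at h1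
      obtain ⟨_, _, t, ht, -⟩ := F.yt
      exact ht (by rw [h1]; trivial)
    refine ⟨MulAut.conjNormal b, ?_, MulAut.conjNormal c, ?_, ?_⟩
    · rintro ⟨g, hg⟩
      exact hout b hb g hg.symm
    · refine ⟨⟨c, hc⟩, ?_⟩
      ext x
      rw [MulAut.conjNormal_apply]
      rfl
    · rintro _ ⟨g, rfl⟩
      have h1 : (g : Fi24) ∈ closure ({c, b} : Set Fi24) := by rw [hcb]; trivial
      have h2 : (MulAut.conjNormal (g : Fi24) : MulAut Spor.Fi24') ∈
          (_root_.Subgroup.closure ({c, b} : Set Fi24)).map (MulAut.conjNormal : Fi24 →* MulAut ↥(_root_.commutator Fi24)) := ⟨_, h1, rfl⟩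
      rw [MonoidHom.map_closure, Set.image_pair, Set.pair_comm] at h2
      have h3 : (MulAut.conj g : MulAut Spor.Fi24') = MulAut.conjNormal (g : Fi24) := by
        ext x
        rw [MulAut.conjNormal_apply]
        rfl
      rw [h3]
      exact h2

end Fi24

end Cfsg.Agent.H184.DG.CosFi
end

-- part: H274/DG/CohRk2
section
set_option linter.all false
open scoped Cfsg.Agent.FastGrp

-- part: H274/DG/Two
section
/-!
# Generation by two `r`-subgroups with nontrivial intersection (for S4180, helper274)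

* `two_of_rgd` : a finite group generated by the root groups of a root group datum of characteristic `p` whose diagram
  has an edge is generated by two `p`-subgroups with nontrivial intersection, if the diagram is connected;
* `exists_two` : the same for a simple group with `Rk2 r T`.
-/

set_option autoImplicit false
set_option linter.unusedSectionVars false

namespace Cfsg.Agent.H274.DG

open CoxeterSystem Cfsg.Agent.ChevalleyStructure.CoxeterGeom Cfsg.Agent.Tits.Roots Cfsg.Agent.Tits.Core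
  Cfsg.Agent.Tits.RootComb Cfsg.Agent.Tits.Exchange Cfsg.Agent.Nodes.Reps Cfsg.Agent.Nodes.BNOf
  Cfsg.Agent.Nodes.StabComb Cfsg.Agent.Nodes.Bruhat Cfsg.Agent.Nodes.OppDec Cfsg.Agent.Nodes.LeviDec

section

variable {I W Y : Type*} [Fintype I] [DecidableEq I] [Group W] [Group Y] {M : CoxeterMatrix I}
  {cs : CoxeterSystem M W} {A : I → I → ℤ} {h : IsCartan M A} {p : ℕ} {T : Subgroup Y} {n : I → Y}
  {X : (I → ℤ) → Subgroup Y}

theorem X_le_conj (R : RGD cs h p T n X) {j : I} {x : I → ℤ} (hx : IsRoot cs h x)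
    (h0 : rep cs h (cs.simple j) x ≤ 0) : X x ≤ cj (n j) (UN cs h X) := by
  have h1 := R.conj j _ (hx.act (cs.simple j))
  rw [← rep_mul_apply, simple_mul_simple_self, map_one, Module.End.one_apply] at h1
  rw [← h1]
  exact cj_mono _ (X_le_UN (hx.act _) h0)

theorem mem_JU [Finite W] (R : RGD cs h p T n X) {P : Subgroup Y} {i : I} (h1 : X (sr i) ≤ P)
    (h2 : X (-sr i) ≤ P) : ∃ t ∈ T, t * n i ∈ P := by
  obtain ⟨u, hu, hu1⟩ := exists_ne_one R i
  have h3 : n i * u * (n i)⁻¹ ∈ X (-sr i) := by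
    have := R.conj_mem (rp_simple cs R.nsys i) (isRoot_sr cs h i) hu
    rwa [rep_simple_sr] at this
  have h4 : n i * u * (n i)⁻¹ ≠ 1 := fun h3 => hu1 (mul_eq_left.1 (mul_inv_eq_one.1 h3))
  obtain ⟨a, ha, t, ht, b, hb, e⟩ := R.rk1 i _ h3 h4
  refine ⟨t, ht, ?_⟩
  have h5 : t * n i = a⁻¹ * (n i * u * (n i)⁻¹) * b⁻¹ := by
    conv_rhs => rw [e]
    group
  rw [h5]
  exact mul_mem (mul_mem (inv_mem (h1 ha)) (h2 h3)) (inv_mem (h1 hb))

theorem two_of_rgd [Finite W] (R : RGD cs h p T n X) (hG : Nodes.RGDLib.G1 cs h X = ⊤) {i j : I}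
    (hij : i ≠ j) (hM : M i j ≠ 2) :
    ∃ A B : Subgroup Y, IsPGroup p A ∧ IsPGroup p B ∧ A ⊔ B = ⊤ ∧ A ⊓ B ≠ ⊥ := by
  have hUN : IsPGroup p (UN cs h X) := by
    obtain ⟨k, hk⟩ := exists_rp (cs := cs) (hN := R.nsys) (w0 cs)
    rw [← cj_U R hk]
    exact R.isPGroup_Upos.map _
  refine ⟨RGD.Sup X (RGD.Pos cs h), cj (n j) (UN cs h X), R.isPGroup_Upos, hUN.map _, ?_, ?_⟩
  · obtain ⟨P, hP⟩ : ∃ P : Subgroup Y, P = RGD.Sup X (RGD.Pos cs h) ⊔ cj (n j) (UN cs h X) := ⟨_, rfl⟩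
    rw [← hP]
    have hU : RGD.Sup X (RGD.Pos cs h) ≤ P := by rw [hP]; exact le_sup_left
    have hB : cj (n j) (UN cs h X) ≤ P := by rw [hP]; exact le_sup_right
    have hpos : ∀ k, X (sr k) ≤ P := fun k =>
      (RGD.le_Sup (S := RGD.Pos cs h) ⟨isRoot_sr cs h k, sr_nonneg k⟩).trans hU
    have hneg : ∀ k, k ≠ j → X (-sr k) ≤ P := by
      intro k hk
      refine (X_le_conj R (isRoot_sr cs h k).neg ?_).trans hB
      rw [map_neg]
      refine neg_nonpos.2 ?_
      refine nonneg_of_pos_apply (cs := cs) (h := h) ((isRoot_sr cs h k).act _) (k := k) ?_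
      rw [rep_simple_apply cs h j _ k hk, sr_self]
      exact one_pos
    have hnegj : X (-sr j) ≤ P := by
      obtain ⟨t, ht, hti⟩ := mem_JU R (hpos i) (hneg i hij)
      have h1 : X (-rep cs h (cs.simple i) (sr j)) ≤ P := by
        refine (X_le_conj R ((isRoot_sr cs h j).act _).neg ?_).trans hB
        rw [map_neg]
        refine neg_nonpos.2 ?_
        refine nonneg_of_pos_apply (cs := cs) (h := h) (((isRoot_sr cs h j).act _).act _) (k := i) ?_
        rw [rep_simple_apply cs h j _ i hij, rep_simple_apply_self, sr_ne hij, sr, pairing_single, mul_one,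
          zero_sub]
        have := cartan_neg h hij hM
        omega
      have h2 : cj (t * n i) (X (-rep cs h (cs.simple i) (sr j))) = X (-sr j) := by
        rw [cj_mul, R.conj i _ ((isRoot_sr cs h j).act _).neg, map_neg, ← rep_mul_apply, simple_mul_simple_self,
          map_one, Module.End.one_apply, R.tor _ (isRoot_sr cs h j).neg t ht]
      rw [← h2]
      intro y hy
      rw [mem_cj] at hy
      have e : y = (t * n i) * ((t * n i)⁻¹ * y * (t * n i)) * (t * n i)⁻¹ := by group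
      rw [e]
      exact mul_mem (mul_mem hti (h1 hy)) (inv_mem hti)
    have hJ : Cfsg.Agent.H248.TitsRGD.JU T n P = Set.univ := by
      rw [Set.eq_univ_iff_forall]
      intro k
      by_cases hk : k = j
      · subst hk
        exact mem_JU R (hpos k) hnegj
      · exact mem_JU R (hpos k) (hneg k hk)
    have h1 := Cfsg.Agent.H248.TitsRGD.Sup_le_of_univ R hU hJ
    rw [eq_top_iff, ← hG]
    exact h1
  · intro h1
    have h2 : X (sr j) ≤ RGD.Sup X (RGD.Pos cs h) ⊓ cj (n j) (UN cs h X) := by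
      refine le_inf (RGD.le_Sup (S := RGD.Pos cs h) ⟨isRoot_sr cs h j, sr_nonneg j⟩)
        (X_le_conj R (isRoot_sr cs h j) ?_)
      rw [rep_simple_sr]
      exact neg_nonpos.2 (sr_nonneg j)
    rw [h1] at h2
    exact X_ne_bot R (isRoot_sr cs h j) (le_bot_iff.1 h2)

end

universe u

/-- **Generation of a simple group with `Rk2`** by two `r`-subgroups. -/
theorem exists_two {r : ℕ} {T : Type u} [Group T] [Finite T] [IsSimpleGroup T] (hna : ¬ IsMulCommutative T)
    (h : Cfsg.Agent.H891.DG.Rk2 r T) :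
    ∃ A B : Subgroup T, IsPGroup r A ∧ IsPGroup r B ∧ A ⊔ B = ⊤ ∧ A ⊓ B ≠ ⊥ := by
  obtain ⟨l, M, A, h, H, n, X, hl, hW, R, hG⟩ := h
  have hc : ∃ a b : T, a * b ≠ b * a := by
    by_contra hcon
    push Not at hcon
    exact hna ⟨⟨hcon⟩⟩
  have hconn := Cfsg.Agent.KFacts.RgdLieCharP.conn_of_simple R hG
    (Cfsg.Agent.KFacts.RgdLieCharP.center_eq_bot hc)
  obtain ⟨a, ha, b, hb, hab⟩ := hconn {⟨0, by omega⟩} (Set.singleton_nonempty _) (by
    intro h1
    have h2 : (⟨1, by omega⟩ : Fin l) ∈ ({⟨0, by omega⟩} : Set (Fin l)) := by rw [h1]; trivial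
    rw [Set.mem_singleton_iff, Fin.mk.injEq] at h2
    omega)
  exact two_of_rgd R hG (fun h1 => hb (by rw [← h1]; exact ha)) hab

end Cfsg.Agent.H274.DG
end

-- part: H274/DG/CohRk2
section
/-!
# `CohAt p T` for the groups with `Rk2 r T`, `p ≠ r` (for S4180, task K2, helper274)
-/

set_option autoImplicit false

namespace Cfsg.Agent.H274.DG

open Cfsg.Agent.H891.DG

universe u

theorem not_dvd_card_of_isPGroup {r p : ℕ} [Fact r.Prime] (hp : p.Prime) (hpr : p ≠ r) {G : Type u} [Group G]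
    [Finite G] (h : IsPGroup r G) : ¬ p ∣ Nat.card G := by
  obtain ⟨k, hk⟩ := IsPGroup.iff_card.1 h
  rw [hk]
  intro h1
  exact hpr ((Nat.prime_dvd_prime_iff_eq hp Fact.out).1 (hp.dvd_of_dvd_pow h1))

/-- **Task K2.** -/
theorem cohAt_of_rk2 {r p : ℕ} [Fact r.Prime] (hp : p.Prime) (hpr : p ≠ r) {T : Type u} [Group T] [Finite T]
    [IsSimpleGroup T] (hna : ¬ IsMulCommutative T) (h : Rk2 r T) : CohAt p T := by
  obtain ⟨A, B, hA, hB, hAB, hne⟩ := exists_two hna h
  exact Tools.cohAt_of_two hp (not_dvd_card_of_isPGroup hp hpr hA) (not_dvd_card_of_isPGroup hp hpr hB) hAB hne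

end Cfsg.Agent.H274.DG
end
end
end
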